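import Mathlib

set_option autoImplicit false

/-! An offender bound for elementary abelian `2`-groups with a dihedral obstruction removed. -/

namespace Cfsg.Agent.H25

section PL

variable {W : Type*} [Group W]

/-- The fixed points of a group of automorphisms. -/
def fixSub (AA : Subgroup (MulAut W)) : Subgroup W where
  carrier := {w | ∀ a ∈ AA, a w = w}
  mul_mem' := fun ha hb a h => by rw [map_mul, ha a h, hb a h]
  one_mem' := fun a _ => map_one a
  inv_mem' := fun ha a h => by rw [map_inv, ha a h]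

theorem mem_fixSub {AA : Subgroup (MulAut W)} {w : W} : w ∈ fixSub AA ↔ ∀ a ∈ AA, a w = w := Iff.rfl

theorem comm_of_exp_two (he : ∀ x : W, x * x = 1) (x y : W) : x * y = y * x := by
  have h1 := he (x * y)
  have h2 := he x
  have h3 := he y
  calc x * y = x * (x * y * (x * y)) * y := by rw [h1, mul_one]
    _ = (x * x) * y * x * (y * y) := by group
    _ = y * x := by rw [h2, h3, one_mul, mul_one]

/-- The four-group generated by two elements. -/
def kleinSub (he : ∀ x : W, x * x = 1) (m n : W) : Subgroup W where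
  carrier := {1, m, n, m * n}
  mul_mem' := by
    intro x y hx hy
    have hmm : ∀ z, m * (m * z) = z := fun z => by rw [← mul_assoc, he m, one_mul]
    have hnn : ∀ z, n * (n * z) = z := fun z => by rw [← mul_assoc, he n, one_mul]
    have hnm : n * m = m * n := comm_of_exp_two he n m
    have hnm' : ∀ z, n * (m * z) = m * (n * z) := fun z => by rw [← mul_assoc, hnm, mul_assoc]
    simp only [Set.mem_insert_iff, Set.mem_singleton_iff] at hx hy ⊢
    rcases hx with rfl | rfl | rfl | rfl <;> rcases hy with rfl | rfl | rfl | rfl <;>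
      simp [mul_assoc, hmm, hnm, hnm', he]
  one_mem' := by simp
  inv_mem' := by
    intro x hx
    have : x⁻¹ = x := inv_eq_of_mul_eq_one_left (he x)
    rwa [this]

theorem mem_kleinSub {he : ∀ x : W, x * x = 1} {m n x : W} :
    x ∈ kleinSub he m n ↔ x = 1 ∨ x = m ∨ x = n ∨ x = m * n := Iff.rfl

theorem card_kleinSub {he : ∀ x : W, x * x = 1} {m n : W} (hm : m ≠ 1) (hn : n ≠ 1) (hmn : m ≠ n) :
    Nat.card (kleinSub he m n) = 4 := by
  classical
  have h1 : ((kleinSub he m n : Subgroup W) : Set W) = (({1, m, n, m * n} : Finset W) : Set W) := by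
    ext x
    simp [mem_kleinSub]
  have h2 : Nat.card (kleinSub he m n) = Nat.card ((kleinSub he m n : Subgroup W) : Set W) := rfl
  rw [h2, h1, Nat.card_coe_set_eq, Set.ncard_coe_finset]
  have h3 : (1 : W) ≠ m := hm.symm
  have h4 : (1 : W) ≠ n := hn.symm
  have h5 : (1 : W) ≠ m * n := by
    intro h
    have hnm : m = n := by
      have := he n
      calc m = m * (n * n) := by rw [this, mul_one]
        _ = (m * n) * n := by group
        _ = n := by rw [← h, one_mul]
    exact hmn hnm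
  have h6 : m ≠ m * n := fun h => hn (by simpa using h)
  have h7 : n ≠ m * n := fun h => hm (by simpa using h)
  rw [Finset.card_insert_of_notMem (by simp [h3, h4, h5]), Finset.card_insert_of_notMem (by simp [hmn, h6]),
    Finset.card_insert_of_notMem (by simp [h7]), Finset.card_singleton]

variable [Finite W]

/-- An automorphism of odd order fixes whatever a power prime to its order fixes. -/
theorem fix_of_pow_fix {c : MulAut W} {k : ℕ} (hk : k.Coprime (orderOf c)) {x : W} (h : (c ^ k) x = x) : c x = x := by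
  obtain ⟨t, ht⟩ := exists_pow_eq_self_of_coprime hk
  have h1 : ∀ j : ℕ, ((c ^ k) ^ j) x = x := by
    intro j
    induction j with
    | zero => rfl
    | succ j ih => rw [pow_succ, MulAut.mul_apply, h, ih]
  have h2 := h1 t
  rwa [ht] at h2

theorem fix_of_sq_fix {c : MulAut W} (hodd : Odd (orderOf c)) {x : W} (h : c (c x) = x) : c x = x := by
  refine fix_of_pow_fix (k := 2) ?_ ?_
  · exact Nat.coprime_two_left.mpr hodd
  · rw [sq, MulAut.mul_apply]
    exact h

/-- The step with the dihedral configuration. -/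
theorem pstep (he : ∀ x : W, x * x = 1) {U : Subgroup W} {a c : MulAut W}
    (haU : ∀ u ∈ U, a u ∈ U) (hcU : ∀ u ∈ U, c u ∈ U) (ha2 : a * a = 1) (hac : a * c * a⁻¹ = c⁻¹)
    (hodd : Odd (orderOf c)) (hne : ∃ u ∈ U, c u ≠ u)
    (hS : ∀ K : Subgroup W, Nat.card K = 4 → (∀ x ∈ K, a x ∈ K) → (∀ x ∈ K, c x ∈ K) →
      (∀ x ∈ K, c (c (c x)) = x) → (∃ x ∈ K, c x ≠ x) → False)
    (Y : Subgroup W) (hYU : Y ≤ U) (hYa : ∀ y ∈ Y, a y = y) :
    4 * Nat.card Y ≤ Nat.card U := by
  classical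
  have hcomm := comm_of_exp_two he
  have hinv : ∀ x : W, x⁻¹ = x := fun x => inv_eq_of_mul_eq_one_left (he x)
  have ha2' : ∀ x, a (a x) = x := fun x => by
    have := congrArg (fun φ : MulAut W => φ x) ha2
    simpa using this
  have hac' : ∀ x, a (c x) = c⁻¹ (a x) := fun x => by
    have h1 : a * c = c⁻¹ * a := by rw [← hac]; group
    have := congrArg (fun φ : MulAut W => φ x) h1
    simpa using this
  let δ : ↥U →* W :=
    { toFun := fun u => a u * u
      map_one' := by simp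
      map_mul' := by
        intro x y
        simp only [Subgroup.coe_mul, map_mul]
        calc a x * a y * (x * y) = a x * (a y * x) * y := by group
          _ = a x * (x * a y) * y := by rw [hcomm (a y) x]
          _ = a x * x * (a y * y) := by group }
  have hδ : ∀ u : U, δ u = a u * u := fun _ => rfl
  by_contra hcon
  push Not at hcon
  have hker : Nat.card Y ≤ Nat.card δ.ker := by
    have hle : Y.subgroupOf U ≤ δ.ker := by
      intro y hy
      rw [MonoidHom.mem_ker, hδ, hYa _ (Subgroup.mem_subgroupOf.mp hy)]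
      exact he _
    have h1 := Subgroup.card_le_of_le hle
    rwa [Nat.card_congr (Subgroup.subgroupOfEquivOfLe hYU).toEquiv] at h1
  have hU : Nat.card δ.ker * Nat.card δ.range = Nat.card U := by
    have h1 := δ.ker.card_mul_index
    rwa [Subgroup.index_ker] at h1
  have hkpos : 0 < Nat.card δ.ker := Nat.card_pos
  have hD : Nat.card δ.range < 4 := by
    by_contra hD
    push Not at hD
    have h1 : 4 * Nat.card δ.ker ≤ Nat.card U := by
      rw [← hU, mul_comm]
      exact Nat.mul_le_mul_left _ hD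
    have h2 := Nat.mul_le_mul_left 4 hker
    omega
  -- at most one nontrivial commutator
  obtain ⟨m, hmU, hma, hm⟩ : ∃ m ∈ U, a m = m ∧ ∀ u ∈ U, a u * u = 1 ∨ a u * u = m := by
    by_cases hex : ∃ u ∈ U, a u * u ≠ 1
    · obtain ⟨u₀, hu₀, hu₀1⟩ := hex
      refine ⟨a u₀ * u₀, U.mul_mem (haU _ hu₀) hu₀, ?_, ?_⟩
      · rw [map_mul, ha2', hcomm]
      · intro u hu
        by_contra hcon2
        push Not at hcon2
        have hle : kleinSub he (a u₀ * u₀) (a u * u) ≤ δ.range := by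
          intro x hx
          rcases mem_kleinSub.mp hx with rfl | rfl | rfl | rfl
          · exact Subgroup.one_mem _
          · exact ⟨⟨u₀, hu₀⟩, rfl⟩
          · exact ⟨⟨u, hu⟩, rfl⟩
          · exact Subgroup.mul_mem _ ⟨⟨u₀, hu₀⟩, rfl⟩ ⟨⟨u, hu⟩, rfl⟩
        have h4 := card_kleinSub (he := he) hu₀1 hcon2.1 (Ne.symm hcon2.2)
        have h5 := Subgroup.card_le_of_le hle
        omega
    · push Not at hex
      exact ⟨1, U.one_mem, map_one a, fun u hu => Or.inl (hex u hu)⟩
  -- the formula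
  have hform : ∀ u ∈ U, c (c u) * u = (a u * u) * c (a (c u) * c u) := by
    intro u hu
    rw [map_mul, hac']
    have h1 : c (c⁻¹ (a u)) = a u := by simp
    rw [h1]
    calc c (c u) * u = (a u * a u) * (u * c (c u)) := by rw [he, one_mul, hcomm]
      _ = (a u * u) * (a u * c (c u)) := by
        calc (a u * a u) * (u * c (c u)) = a u * (a u * u) * c (c u) := by group
          _ = a u * (u * a u) * c (c u) := by rw [hcomm (a u) u]
          _ = _ := by group
  have hform2 : ∀ u ∈ U, c (c u) * u = 1 ∨ c (c u) * u = m ∨ c (c u) * u = c m ∨ c (c u) * u = m * c m := by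
    intro u hu
    rw [hform u hu]
    rcases hm u hu with h1 | h1 <;> rcases hm _ (hcU u hu) with h2 | h2 <;> rw [h1, h2] <;> simp
  obtain ⟨u₁, hu₁, hu₁c⟩ := hne
  by_cases hcm : c m = m
  · -- `c⁴` acts trivially
    apply hu₁c
    refine fix_of_pow_fix (k := 4) (Nat.Coprime.pow_left 2 (Nat.coprime_two_left.mpr hodd)) ?_
    have hz : ∀ u ∈ U, c (c (c (c u))) = u := by
      intro u hu
      have hcz : ∀ z : W, (z = 1 ∨ z = m ∨ z = m ∨ z = m * m) → c (c z) = z := by
        rintro z (rfl | rfl | rfl | rfl)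
        · simp
        · rw [hcm, hcm]
        · rw [hcm, hcm]
        · rw [he]; simp
      have h1 := hform2 u hu
      rw [hcm] at h1
      have h2 := hcz _ h1
      have h3 : c (c u) = (c (c u) * u) * u := by rw [mul_assoc, he, mul_one]
      have h5 : c (c (c (c u))) = c (c ((c (c u) * u) * u)) := by rw [← h3]
      rw [h5, map_mul, map_mul, h2]
      rw [mul_assoc, hcomm u, ← mul_assoc, he, one_mul]
    show (c ^ 4) u₁ = u₁
    have e : c ^ 4 = c * (c * (c * c)) := by simp only [pow_succ, pow_zero, one_mul, mul_assoc]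
    rw [e]
    exact hz u₁ hu₁
  · -- a four-group
    have hm1 : m ≠ 1 := by
      rintro rfl
      exact hcm (map_one c)
    have hn1 : c m ≠ 1 := by
      intro h
      apply hm1
      have : c m = c 1 := by rw [h, map_one]
      exact c.injective this
    have hmn : m ≠ c m := Ne.symm hcm
    have hKc : ∀ x ∈ kleinSub he m (c m), c x ∈ kleinSub he m (c m) := by
      have hw : c (c m) ∈ kleinSub he m (c m) := by
        have h1 := hform2 m hmU
        have h2 : c (c m) = (c (c m) * m) * m := by rw [mul_assoc, he, mul_one]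
        rw [h2]
        refine Subgroup.mul_mem _ ?_ (mem_kleinSub.mpr (Or.inr (Or.inl rfl)))
        exact mem_kleinSub.mpr h1
      intro x hx
      rcases mem_kleinSub.mp hx with rfl | rfl | rfl | rfl
      · rw [map_one]
        exact Subgroup.one_mem _
      · exact mem_kleinSub.mpr (Or.inr (Or.inr (Or.inl rfl)))
      · exact hw
      · rw [map_mul]
        exact Subgroup.mul_mem _ (mem_kleinSub.mpr (Or.inr (Or.inr (Or.inl rfl)))) hw
    have hKf : Finite (kleinSub he m (c m)) := inferInstance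
    have hKinv : ∀ x ∈ kleinSub he m (c m), c⁻¹ x ∈ kleinSub he m (c m) := by
      intro x hx
      have hinj : Function.Injective (fun y : kleinSub he m (c m) => (⟨c y, hKc y y.2⟩ : kleinSub he m (c m))) := by
        intro y₁ y₂ h
        apply Subtype.ext
        exact c.injective (congrArg Subtype.val h)
      obtain ⟨y, hy⟩ := (Finite.injective_iff_surjective.mp hinj) ⟨x, hx⟩
      have h1 : c y = x := congrArg Subtype.val hy
      rw [← h1]
      simpa using y.2
    have hKa : ∀ x ∈ kleinSub he m (c m), a x ∈ kleinSub he m (c m) := by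
      have h1 : a (c m) ∈ kleinSub he m (c m) := by
        rw [hac', hma]
        exact hKinv _ (mem_kleinSub.mpr (Or.inr (Or.inl rfl)))
      intro x hx
      rcases mem_kleinSub.mp hx with rfl | rfl | rfl | rfl
      · rw [map_one]
        exact Subgroup.one_mem _
      · rw [hma]
        exact mem_kleinSub.mpr (Or.inr (Or.inl rfl))
      · exact h1
      · rw [map_mul, hma]
        exact Subgroup.mul_mem _ (mem_kleinSub.mpr (Or.inr (Or.inl rfl))) h1
    have hw1 : c (c m) ≠ 1 := by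
      intro h
      apply hn1
      have : c (c m) = c 1 := by rw [h, map_one]
      exact c.injective this
    have hw2 : c (c m) ≠ c m := fun h => hcm (c.injective h)
    have hw : c (c m) = m ∨ c (c m) = m * c m := by
      rcases mem_kleinSub.mp (hKc _ (mem_kleinSub.mpr (Or.inr (Or.inr (Or.inl rfl))) : c m ∈ kleinSub he m (c m))) with h | h | h | h
      · exact absurd h hw1
      · exact Or.inl h
      · exact absurd h hw2
      · exact Or.inr h
    rcases hw with hw | hw
    · exact hcm (fix_of_sq_fix hodd hw)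
    · refine hS _ (card_kleinSub hm1 hn1 hmn) hKa hKc ?_ ⟨m, mem_kleinSub.mpr (Or.inr (Or.inl rfl)), hcm⟩
      have hw' : c (m * c m) = m := by
        rw [map_mul, hw, ← mul_assoc, hcomm (c m) m, mul_assoc, he, mul_one]
      intro x hx
      rcases mem_kleinSub.mp hx with rfl | rfl | rfl | rfl
      · simp
      · rw [hw, hw']
      · rw [hw, hw']
      · rw [hw', hw]

/-- A nontrivial automorphism of odd order commuting with a group of involutions moves a common fixed point. -/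
theorem moved_fix (he : ∀ x : W, x * x = 1) {H : Subgroup (MulAut W)} (hH2 : ∀ e ∈ H, e * e = 1) {c : MulAut W}
    (hcH : ∀ e ∈ H, e * c = c * e) (hodd : Odd (orderOf c)) (hc1 : c ≠ 1) : ∃ u ∈ fixSub H, c u ≠ u := by
  classical
  have hcomm := comm_of_exp_two he
  let γ : W →* W :=
    { toFun := fun w => c w * w
      map_one' := by simp
      map_mul' := by
        intro x y
        simp only [map_mul]
        calc c x * c y * (x * y) = c x * (c y * x) * y := by group
          _ = c x * (x * c y) * y := by rw [hcomm (c y) x]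
          _ = c x * x * (c y * y) := by group }
  have hγ : ∀ w, γ w = c w * w := fun _ => rfl
  have hγ1 : ∀ w, γ w = 1 ↔ c w = w := by
    intro w
    rw [hγ]
    constructor
    · intro h
      calc c w = c w * (w * w) := by rw [he, mul_one]
        _ = (c w * w) * w := by group
        _ = w := by rw [h, one_mul]
    · intro h
      rw [h, he]
  obtain ⟨w₀, hw₀⟩ : ∃ w₀, c w₀ ≠ w₀ := by
    by_contra hcon
    push Not at hcon
    exact hc1 (MulEquiv.ext hcon)
  have hcγ : ∀ e ∈ H, ∀ w, e (γ w) = γ (e w) := by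
    intro e he' w
    have h1 := congrArg (fun φ : MulAut W => φ w) (hcH e he')
    have h2 : e (c w) = c (e w) := h1
    rw [hγ, hγ, map_mul, h2]
  have hmem : ∀ e ∈ H, ∀ m ∈ γ.range, e m ∈ γ.range := by
    rintro e he' _ ⟨w, rfl⟩
    exact ⟨e w, (hcγ e he' w).symm⟩
  letI act : MulAction ↥H ↥γ.range :=
    { smul := fun e m => ⟨e.1 m.1, hmem e.1 e.2 m.1 m.2⟩
      one_smul := fun m => Subtype.ext rfl
      mul_smul := fun e₁ e₂ m => Subtype.ext rfl }
  have hsmul : ∀ (e : ↥H) (m : ↥γ.range), ((e • m : ↥γ.range) : W) = e.1 m.1 := fun _ _ => rfl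
  have hHp : IsPGroup 2 ↥H := fun e => ⟨1, Subtype.ext (by simpa [sq] using hH2 e.1 e.2)⟩
  have h2 : 2 ∣ Nat.card ↥γ.range := by
    have hne1 : (⟨γ w₀, ⟨w₀, rfl⟩⟩ : ↥γ.range) ≠ 1 := by
      intro h
      exact hw₀ ((hγ1 w₀).mp (congrArg Subtype.val h))
    have hord : orderOf (⟨γ w₀, ⟨w₀, rfl⟩⟩ : ↥γ.range) = 2 := by
      haveI : Fact (Nat.Prime 2) := ⟨Nat.prime_two⟩
      refine orderOf_eq_prime ?_ hne1
      exact Subtype.ext (by simpa [sq] using he (γ w₀))
    rw [← hord]
    exact orderOf_dvd_natCard _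
  have h1fix : (1 : ↥γ.range) ∈ MulAction.fixedPoints ↥H ↥γ.range := fun e => Subtype.ext (map_one e.1)
  haveI : Fact (Nat.Prime 2) := ⟨Nat.prime_two⟩
  obtain ⟨b, hb, hne⟩ := hHp.exists_fixed_point_of_prime_dvd_card_of_fixed_point ↥γ.range h2 h1fix
  obtain ⟨b, w, rfl⟩ := b
  refine ⟨γ w, fun e he' => ?_, fun hc => ?_⟩
  · exact congrArg Subtype.val (hb ⟨e, he'⟩)
  · apply hne
    apply Subtype.ext
    have h3 : c (c w) = w := by
      have h4 : c (c w) * c w = c w * w := by
        have := hc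
        rw [hγ, map_mul] at this
        exact this
      rw [hcomm (c w) w] at h4
      exact mul_right_cancel h4
    have h5 := fix_of_sq_fix hodd h3
    exact ((hγ1 w).mpr h5).symm

theorem card_le_two_mul_cover {G : Type*} [Group G] [Finite G] {A B : Subgroup G} {a : G} (h : ∀ g ∈ A, g ∈ B ∨ a * g ∈ B) :
    Nat.card A ≤ 2 * Nat.card B := by
  classical
  let φ : A → B × Bool := fun g =>
    if h1 : (g : G) ∈ B then (⟨g, h1⟩, false) else (⟨a * g, (h g g.2).resolve_left h1⟩, true)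
  have hφ : Function.Injective φ := by
    intro x y hxy
    by_cases hx : (x : G) ∈ B <;> by_cases hy : (y : G) ∈ B <;> simp [φ, hx, hy] at hxy
    · exact hxy
    · exact hxy
  have := Nat.card_le_card_of_injective φ hφ
  rw [Nat.card_prod] at this
  simpa [mul_comm] using this

/-- The offender bound. -/
theorem plemma (he : ∀ x : W, x * x = 1) (RR BB : Subgroup (MulAut W)) (hRab : ∀ c ∈ RR, ∀ d ∈ RR, c * d = d * c)
    (hRodd : ∀ c ∈ RR, Odd (orderOf c))
    (hS : ∀ a ∈ BB, ∀ c ∈ RR, ∀ K : Subgroup W, Nat.card K = 4 → (∀ x ∈ K, a x ∈ K) → (∀ x ∈ K, c x ∈ K) →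
      a * c * a⁻¹ = c⁻¹ → (∀ x ∈ K, c (c (c x)) = x) → (∃ x ∈ K, c x ≠ x) → False) :
    ∀ (n : ℕ) (AA : Subgroup (MulAut W)), Nat.card AA = n → AA ≤ BB → (∀ a ∈ AA, a * a = 1) →
      (∀ a ∈ AA, ∀ c ∈ RR, a * c * a⁻¹ ∈ RR) → (∀ a ∈ AA, (∀ c ∈ RR, a * c = c * a) → a = 1) →
      Nat.card AA ^ 2 * Nat.card (fixSub AA) ≤ Nat.card W := by
  classical
  intro n
  induction n using Nat.strong_induction_on with
  | _ n IH =>
  intro AA hn hAB hA2 hAR hAC
  have hAcomm : ∀ a ∈ AA, ∀ b ∈ AA, a * b = b * a := by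
    intro a ha b hb
    have h1 := hA2 _ (AA.mul_mem ha hb)
    have h2 := hA2 a ha
    have h3 := hA2 b hb
    calc a * b = a * ((a * b) * (a * b)) * b := by rw [h1, mul_one]
      _ = (a * a) * b * a * (b * b) := by group
      _ = b * a := by rw [h2, h3, one_mul, mul_one]
  by_cases hbot : AA = ⊥
  · subst hbot
    have h1 : Nat.card (⊥ : Subgroup (MulAut W)) = 1 := Subgroup.card_bot
    rw [h1, one_pow, one_mul]
    exact Subgroup.card_le_card_group _
  obtain ⟨a₀, ha₀, ha₀1⟩ := AA.bot_or_exists_ne_one.resolve_left hbot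
  have hinv : ∀ a ∈ AA, a⁻¹ = a := fun a ha => inv_eq_of_mul_eq_one_left (hA2 a ha)
  have hinva₀ := hinv a₀ ha₀
  -- the inverted part
  let R₁ : Subgroup (MulAut W) :=
    { carrier := {c | c ∈ RR ∧ a₀ * c * a₀⁻¹ = c⁻¹}
      mul_mem' := by
        rintro c d ⟨hc, hc'⟩ ⟨hd, hd'⟩
        refine ⟨RR.mul_mem hc hd, ?_⟩
        calc a₀ * (c * d) * a₀⁻¹ = (a₀ * c * a₀⁻¹) * (a₀ * d * a₀⁻¹) := by group
          _ = c⁻¹ * d⁻¹ := by rw [hc', hd']
          _ = (d * c)⁻¹ := by group
          _ = (c * d)⁻¹ := by rw [hRab d hd c hc]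
      one_mem' := ⟨RR.one_mem, by simp⟩
      inv_mem' := by
        rintro c ⟨hc, hc'⟩
        refine ⟨RR.inv_mem hc, ?_⟩
        calc a₀ * c⁻¹ * a₀⁻¹ = (a₀ * c * a₀⁻¹)⁻¹ := by group
          _ = c⁻¹⁻¹ := by rw [hc'] }
  have hR₁ : ∀ c, c ∈ R₁ ↔ c ∈ RR ∧ a₀ * c * a₀⁻¹ = c⁻¹ := fun _ => Iff.rfl
  have hR₁ne : R₁ ≠ ⊥ := by
    have hex : ∃ c₁ ∈ RR, a₀ * c₁ ≠ c₁ * a₀ := by
      by_contra hcon
      push Not at hcon
      exact ha₀1 (hAC a₀ ha₀ hcon)
    obtain ⟨c₁, hc₁, hne⟩ := hex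
    intro hb
    have hm : c₁⁻¹ * (a₀ * c₁ * a₀⁻¹) ∈ R₁ := by
      refine ⟨RR.mul_mem (RR.inv_mem hc₁) (hAR a₀ ha₀ c₁ hc₁), ?_⟩
      rw [hinva₀]
      have h2 := hA2 a₀ ha₀
      calc a₀ * (c₁⁻¹ * (a₀ * c₁ * a₀)) * a₀ = a₀ * c₁⁻¹ * a₀ * c₁ * (a₀ * a₀) := by group
        _ = a₀ * c₁⁻¹ * a₀ * c₁ := by rw [h2, mul_one]
        _ = (c₁⁻¹ * (a₀ * c₁ * a₀))⁻¹ := by simp [mul_inv_rev, hinva₀, mul_assoc]
    rw [hb, Subgroup.mem_bot] at hm
    apply hne
    have h1 : a₀ * c₁ * a₀⁻¹ = c₁ := by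
      have := inv_mul_eq_one.mp hm
      exact this.symm
    calc a₀ * c₁ = (a₀ * c₁ * a₀⁻¹) * a₀ := by group
      _ = c₁ * a₀ := by rw [h1]
  -- a minimal invariant subgroup
  have hfin : Set.Finite {D : Subgroup (MulAut W) | D ≠ ⊥ ∧ D ≤ R₁ ∧ ∀ e ∈ AA, ∀ d ∈ D, e * d * e⁻¹ ∈ D} := Set.toFinite _
  have hR₁inv : ∀ e ∈ AA, ∀ d ∈ R₁, e * d * e⁻¹ ∈ R₁ := by
    rintro e he' d ⟨hd, hd'⟩
    refine ⟨hAR e he' d hd, ?_⟩
    have hc : a₀ * e = e * a₀ := hAcomm a₀ ha₀ e he'
    have hc' : e⁻¹ * a₀⁻¹ = a₀⁻¹ * e⁻¹ := by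
      rw [← mul_inv_rev, ← mul_inv_rev, hc]
    calc a₀ * (e * d * e⁻¹) * a₀⁻¹ = (a₀ * e) * d * (e⁻¹ * a₀⁻¹) := by group
      _ = (e * a₀) * d * (a₀⁻¹ * e⁻¹) := by rw [hc, hc']
      _ = e * (a₀ * d * a₀⁻¹) * e⁻¹ := by group
      _ = e * d⁻¹ * e⁻¹ := by rw [hd']
      _ = (e * d * e⁻¹)⁻¹ := by group
  obtain ⟨R₂, hR₂⟩ := hfin.exists_minimal ⟨R₁, hR₁ne, le_rfl, hR₁inv⟩
  obtain ⟨⟨hR₂ne, hR₂R₁, hR₂inv⟩, hmin⟩ := hR₂
  have hdich : ∀ e ∈ AA, (∀ d ∈ R₂, e * d * e⁻¹ = d) ∨ (∀ d ∈ R₂, e * d * e⁻¹ = d⁻¹) := by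
    intro e he'
    let De : Subgroup (MulAut W) :=
      { carrier := {d | d ∈ R₂ ∧ e * d * e⁻¹ = d}
        mul_mem' := by
          rintro x y ⟨hx, hx'⟩ ⟨hy, hy'⟩
          refine ⟨R₂.mul_mem hx hy, ?_⟩
          calc e * (x * y) * e⁻¹ = (e * x * e⁻¹) * (e * y * e⁻¹) := by group
            _ = x * y := by rw [hx', hy']
        one_mem' := ⟨R₂.one_mem, by simp⟩
        inv_mem' := by
          rintro x ⟨hx, hx'⟩
          refine ⟨R₂.inv_mem hx, ?_⟩
          calc e * x⁻¹ * e⁻¹ = (e * x * e⁻¹)⁻¹ := by group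
            _ = x⁻¹ := by rw [hx'] }
    have hDe : ∀ d, d ∈ De ↔ d ∈ R₂ ∧ e * d * e⁻¹ = d := fun _ => Iff.rfl
    by_cases hDb : De = ⊥
    · right
      intro d hd
      have hdR : d ∈ RR := (hR₂R₁ hd).1
      have hd2 : e * d * e⁻¹ ∈ R₂ := hR₂inv e he' d hd
      have hm : d * (e * d * e⁻¹) ∈ De := by
        refine ⟨R₂.mul_mem hd hd2, ?_⟩
        rw [hinv e he']
        have h2 := hA2 e he'
        calc e * (d * (e * d * e)) * e = (e * d * e) * d * (e * e) := by group
          _ = (e * d * e) * d := by rw [h2, mul_one]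
          _ = d * (e * d * e) := by
            have := hRab _ (hAR e he' d hdR) d hdR
            rwa [hinv e he'] at this
      rw [hDb, Subgroup.mem_bot] at hm
      exact eq_inv_of_mul_eq_one_right hm
    · left
      have hDinv : ∀ f ∈ AA, ∀ d ∈ De, f * d * f⁻¹ ∈ De := by
        rintro f hf d ⟨hd, hd'⟩
        refine ⟨hR₂inv f hf d hd, ?_⟩
        have hc : e * f = f * e := hAcomm e he' f hf
        have hc' : f⁻¹ * e⁻¹ = e⁻¹ * f⁻¹ := by
          rw [← mul_inv_rev, ← mul_inv_rev, hc]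
        calc e * (f * d * f⁻¹) * e⁻¹ = (e * f) * d * (f⁻¹ * e⁻¹) := by group
          _ = (f * e) * d * (e⁻¹ * f⁻¹) := by rw [hc, hc']
          _ = f * (e * d * e⁻¹) * f⁻¹ := by group
          _ = f * d * f⁻¹ := by rw [hd']
      have hle : De ≤ R₂ := fun d hd => hd.1
      have h1 := hmin ⟨hDb, hle.trans hR₂R₁, hDinv⟩ hle
      intro d hd
      exact (h1 hd).2
  obtain ⟨c, hcR₂, hc1⟩ := R₂.bot_or_exists_ne_one.resolve_left hR₂ne
  have hcR₁ := hR₂R₁ hcR₂
  have hcR : c ∈ RR := hcR₁.1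
  have hcinv : a₀ * c * a₀⁻¹ = c⁻¹ := hcR₁.2
  have hcodd := hRodd c hcR
  let H : Subgroup (MulAut W) := AA ⊓ Subgroup.centralizer ({c} : Set (MulAut W))
  have hH : ∀ e, e ∈ H ↔ e ∈ AA ∧ e * c = c * e := by
    intro e
    show e ∈ AA ⊓ Subgroup.centralizer ({c} : Set (MulAut W)) ↔ _
    rw [Subgroup.mem_inf, Subgroup.mem_centralizer_singleton_iff]
  have hHA : H ≤ AA := inf_le_left
  have ha₀H : a₀ ∉ H := by
    intro h
    have h1 := ((hH a₀).mp h).2
    have h2 : c⁻¹ = c := by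
      rw [← hcinv, h1]
      group
    apply hc1
    have h3 : c ^ 2 = 1 := by
      rw [sq]
      exact mul_eq_one_iff_eq_inv.mpr h2.symm
    have h4 := orderOf_dvd_of_pow_eq_one h3
    rcases (Nat.dvd_prime Nat.prime_two).mp h4 with h5 | h5
    · exact orderOf_eq_one_iff.mp h5
    · rw [h5] at hcodd
      exact absurd hcodd (by decide)
  have hcover : ∀ e ∈ AA, e ∈ H ∨ a₀ * e ∈ H := by
    intro e he'
    rcases hdich e he' with h | h
    · left
      refine (hH e).mpr ⟨he', ?_⟩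
      have h1 := h c hcR₂
      calc e * c = (e * c * e⁻¹) * e := by group
        _ = c * e := by rw [h1]
    · right
      refine (hH _).mpr ⟨AA.mul_mem ha₀ he', ?_⟩
      have h1 := h c hcR₂
      have h2 : a₀ * c⁻¹ * a₀⁻¹ = c := by
        calc a₀ * c⁻¹ * a₀⁻¹ = (a₀ * c * a₀⁻¹)⁻¹ := by group
          _ = c := by rw [hcinv, inv_inv]
      calc a₀ * e * c = a₀ * (e * c * e⁻¹) * e := by group
        _ = a₀ * c⁻¹ * e := by rw [h1]
        _ = (a₀ * c⁻¹ * a₀⁻¹) * (a₀ * e) := by group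
        _ = c * (a₀ * e) := by rw [h2]
  have hcard2 : Nat.card AA ≤ 2 * Nat.card H := card_le_two_mul_cover hcover
  have hcardlt : Nat.card H < n := by
    rw [← hn]
    refine lt_of_le_of_ne (Subgroup.card_le_of_le hHA) fun h => ha₀H ?_
    have := Subgroup.eq_of_le_of_card_ge hHA h.ge
    rw [this]
    exact ha₀
  have hIH := IH _ hcardlt H rfl (hHA.trans hAB) (fun a ha => hA2 a (hHA ha)) (fun a ha => hAR a (hHA ha))
    (fun a ha => hAC a (hHA ha))
  -- the fixed points of `H`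
  obtain ⟨u₀, hu₀, hu₀c⟩ := moved_fix he (H := H) (fun e h => hA2 e (hHA h)) (c := c)
    (fun e h => ((hH e).mp h).2) hcodd hc1
  have happly : ∀ (x y : MulAut W) (w : W), x * y = y * x → x (y w) = y (x w) := by
    intro x y w h
    have := congrArg (fun φ : MulAut W => φ w) h
    exact this
  have haU : ∀ u ∈ fixSub H, a₀ u ∈ fixSub H := by
    intro u hu e hh
    rw [happly e a₀ u (hAcomm e (hHA hh) a₀ ha₀), hu e hh]
  have hcU : ∀ u ∈ fixSub H, c u ∈ fixSub H := by
    intro u hu e hh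
    rw [happly e c u ((hH e).mp hh).2, hu e hh]
  have hY : fixSub AA ≤ fixSub H := fun u hu e hh => hu e (hHA hh)
  have h4 := pstep he (U := fixSub H) haU hcU (hA2 a₀ ha₀) hcinv hcodd ⟨u₀, hu₀, hu₀c⟩
    (fun K hK h1 h2 h3 h5 => hS a₀ (hAB ha₀) c hcR K hK h1 h2 hcinv h3 h5) (fixSub AA) hY (fun y hy => hy a₀ ha₀)
  calc Nat.card AA ^ 2 * Nat.card (fixSub AA) ≤ (2 * Nat.card H) ^ 2 * Nat.card (fixSub AA) :=
        Nat.mul_le_mul_right _ (Nat.pow_le_pow_left hcard2 2)
    _ = Nat.card H ^ 2 * (4 * Nat.card (fixSub AA)) := by ring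
    _ ≤ Nat.card H ^ 2 * Nat.card (fixSub H) := Nat.mul_le_mul_left _ h4
    _ ≤ Nat.card W := hIH

end PL

end Cfsg.Agent.H25
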