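import Cfsg.Agent.Lib.H09.S4Sect
import Cfsg.Agent.Lib.H25.PLem

set_option autoImplicit false

/-! A section isomorphic to `S₄` from a four-group with an `S₃`-action, allowing lifts that are not involutions. -/

namespace Cfsg.Agent.H25

open Cfsg Cfsg.Agent.H09
open scoped Pointwise

section

variable {Y : Type*} [Group Y] [Finite Y]

theorem s4_hom_relaxed (W E : Subgroup Y) [hWn : W.Normal]
    (hinf : W ⊓ E = ⊥) (hsup : W ⊔ E = ⊤) (hW4 : Nat.card W = 4)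
    {u τ : Y} (huE : u ∈ E) (hτE : τ ∈ E) (hu2 : ∀ x ∈ W, (u * u) * x * (u * u)⁻¹ = x)
    (hu : ∃ x ∈ W, u * x * u⁻¹ ≠ x) (hτ : ∃ x ∈ W, τ * x * τ⁻¹ ≠ x)
    (hτ3 : ∀ x ∈ W, τ ^ 3 * x * (τ ^ 3)⁻¹ = x) :
    ∃ ψ : Y →* Equiv.Perm (Fin 4), Function.Surjective ψ := by
  classical
  have hc : Subgroup.IsComplement' W E := by
    refine Subgroup.isComplement'_of_disjoint_and_mul_eq_univ (disjoint_iff.2 hinf) ?_
    have h1 : ((W : Set Y) * (E : Set Y)) = ((W ⊔ E : Subgroup Y) : Set Y) :=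
      (Subgroup.normal_mul W E).symm
    rw [h1, hsup]
    rfl
  have hidx : E.index = 4 := by rw [hc.index_eq_card, hW4]
  let θ := MulAction.toPermHom Y (Y ⧸ E)
  have hcardq : Nat.card (Y ⧸ E) = 4 := hidx
  let e : (Y ⧸ E) ≃ Fin 4 := Finite.equivFinOfCardEq hcardq
  let ψ : Y →* Equiv.Perm (Fin 4) := (Equiv.permCongrHom e).toMonoidHom.comp θ
  have hk : ψ.ker = E.normalCore := by
    rw [Subgroup.normalCore_eq_ker]
    ext y
    rw [MonoidHom.mem_ker, MonoidHom.mem_ker]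
    show (Equiv.permCongrHom e) (θ y) = 1 ↔ _
    rw [map_eq_one_iff _ (Equiv.permCongrHom e).injective]
  have hkn : ψ.ker.Normal := MonoidHom.normal_ker _
  have hkE : ψ.ker ≤ E := by
    rw [hk]
    exact Subgroup.normalCore_le E
  -- the action on `W`
  let ρ : E →* MulAut W := (MulAut.conjNormal (H := W)).comp E.subtype
  have hρ : ∀ (z : E) (x : W), ((ρ z) x : Y) = (z : Y) * x * (z : Y)⁻¹ := fun z x => rfl
  have hLE : ∀ k ∈ ψ.ker, ∀ x ∈ W, k * x * k⁻¹ = x := by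
    intro k hk' x hx
    have h1 : k * x * k⁻¹ * x⁻¹ ∈ ψ.ker := by
      have h2 := hkn.conj_mem k⁻¹ (ψ.ker.inv_mem hk') x
      have e1 : x * k⁻¹ * x⁻¹ = k⁻¹ * (k * x * k⁻¹ * x⁻¹) := by group
      rw [e1] at h2
      have h3 := ψ.ker.mul_mem hk' h2
      simpa using h3
    have h2 : k * x * k⁻¹ * x⁻¹ ∈ W := W.mul_mem (hWn.conj_mem x hx k) (W.inv_mem hx)
    have h3 : k * x * k⁻¹ * x⁻¹ ∈ W ⊓ E := ⟨h2, hkE h1⟩
    rw [hinf, Subgroup.mem_bot] at h3
    exact mul_inv_eq_one.1 h3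
  have hρu : (ρ ⟨u, huE⟩) ^ 2 = 1 := by
    ext x
    show (((ρ ⟨u, huE⟩) ^ 2) x : Y) = x
    rw [sq, MulAut.mul_apply, hρ, hρ]
    show u * (u * (x : Y) * u⁻¹) * u⁻¹ = x
    have h1 := hu2 x x.2
    calc u * (u * (x : Y) * u⁻¹) * u⁻¹ = (u * u) * x * (u * u)⁻¹ := by group
      _ = x := h1
  have hρu1 : ρ ⟨u, huE⟩ ≠ 1 := by
    intro h
    obtain ⟨x, hx, hne⟩ := hu
    apply hne
    have := congrArg (fun φ : MulAut W => ((φ ⟨x, hx⟩ : W) : Y)) h
    simpa [hρ] using this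
  have hρτ : (ρ ⟨τ, hτE⟩) ^ 3 = 1 := by
    have e1 : (ρ ⟨τ, hτE⟩) ^ 3 = ρ ⟨τ ^ 3, E.pow_mem hτE 3⟩ := by
      rw [← map_pow]
      rfl
    rw [e1]
    ext x
    show (ρ ⟨τ ^ 3, E.pow_mem hτE 3⟩ x : Y) = x
    rw [hρ]
    exact hτ3 x x.2
  have hρτ1 : ρ ⟨τ, hτE⟩ ≠ 1 := by
    intro h
    obtain ⟨x, hx, hne⟩ := hτ
    apply hne
    have := congrArg (fun φ : MulAut W => ((φ ⟨x, hx⟩ : W) : Y)) h
    simpa [hρ] using this
  have h6 : 6 ∣ Nat.card ρ.range := by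
    have h2 : 2 ∣ Nat.card ρ.range := by
      have : orderOf (⟨ρ ⟨u, huE⟩, ⟨_, rfl⟩⟩ : ρ.range) = 2 := by
        haveI : Fact (Nat.Prime 2) := ⟨Nat.prime_two⟩
        refine orderOf_eq_prime ?_ ?_
        · exact Subtype.ext hρu
        · intro h
          exact hρu1 (congrArg Subtype.val h)
      rw [← this]
      exact orderOf_dvd_natCard _
    have h3 : 3 ∣ Nat.card ρ.range := by
      have : orderOf (⟨ρ ⟨τ, hτE⟩, ⟨_, rfl⟩⟩ : ρ.range) = 3 := by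
        haveI : Fact (Nat.Prime 3) := ⟨Nat.prime_three⟩
        refine orderOf_eq_prime ?_ ?_
        · exact Subtype.ext hρτ
        · intro h
          exact hρτ1 (congrArg Subtype.val h)
      rw [← this]
      exact orderOf_dvd_natCard _
    exact Nat.Coprime.mul_dvd_of_dvd_of_dvd (by norm_num) h2 h3
  have hn6 : 6 ≤ Nat.card ρ.range := Nat.le_of_dvd Nat.card_pos h6
  -- counting
  have hE1 : Nat.card ρ.ker * Nat.card ρ.range = Nat.card E := by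
    have h1 := ρ.ker.card_mul_index
    rwa [Subgroup.index_ker] at h1
  have hkL : Nat.card ψ.ker ≤ Nat.card ρ.ker := by
    have h1 : (ψ.ker).subgroupOf E ≤ ρ.ker := by
      intro k hk'
      rw [Subgroup.mem_subgroupOf] at hk'
      rw [MonoidHom.mem_ker]
      ext x
      show (ρ k x : Y) = x
      rw [hρ]
      exact hLE _ hk' x x.2
    have h2 := Subgroup.card_le_of_le h1
    rwa [Nat.card_congr (Subgroup.subgroupOfEquivOfLe hkE).toEquiv] at h2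
  have hY : Nat.card W * Nat.card E = Nat.card Y := hc.card_mul_card
  have hY2 : Nat.card ψ.ker * Nat.card ψ.range = Nat.card Y := by
    have h1 := ψ.ker.card_mul_index
    rwa [Subgroup.index_ker] at h1
  have hkpos : 0 < Nat.card ψ.ker := Nat.card_pos
  have hrange : 24 ≤ Nat.card ψ.range := by
    by_contra hlt
    push Not at hlt
    have h1 : Nat.card ψ.ker * Nat.card ψ.range < Nat.card ψ.ker * 24 :=
      Nat.mul_lt_mul_of_pos_left hlt hkpos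
    have h2 : Nat.card ψ.ker * 24 ≤ Nat.card Y := by
      rw [← hY, hW4, ← hE1]
      calc Nat.card ψ.ker * 24 ≤ Nat.card ρ.ker * 24 := Nat.mul_le_mul_right _ hkL
        _ = 4 * (Nat.card ρ.ker * 6) := by ring
        _ ≤ 4 * (Nat.card ρ.ker * Nat.card ρ.range) :=
          Nat.mul_le_mul_left _ (Nat.mul_le_mul_left _ hn6)
    omega
  have hcard : Nat.card (Equiv.Perm (Fin 4)) = 24 := by
    rw [Nat.card_eq_fintype_card, Fintype.card_perm]; rfl
  refine ⟨ψ, MonoidHom.range_eq_top.1 ?_⟩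
  refine Subgroup.eq_top_of_le_card _ ?_
  rw [hcard]
  exact hrange

end

section

/-- An automorphism of order dividing three of a four-group with a nontrivial fixed point is trivial. -/
theorem klein_fix {W : Type*} [Group W] [Finite W] (h4 : Nat.card W = 4) (he : ∀ x : W, x * x = 1) {c : MulAut W}
    (hc3 : c ^ 3 = 1) {x : W} (hx : c x = x) (hx1 : x ≠ 1) : c = 1 := by
  classical
  refine MulEquiv.ext fun v => ?_
  show c v = v
  by_contra hv
  have hv1 : v ≠ 1 := by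
    rintro rfl
    exact hv (map_one c)
  have hxv : x ≠ v := by
    rintro rfl
    exact hv hx
  have hK : kleinSub he x v = ⊤ :=
    Subgroup.eq_top_of_card_eq _ ((card_kleinSub hx1 hv1 hxv).trans h4.symm)
  have hmem : c v ∈ kleinSub he x v := by rw [hK]; trivial
  have h3 : c (c (c v)) = v := by
    have := congrArg (fun φ : MulAut W => φ v) hc3
    simpa [pow_succ] using this
  rcases mem_kleinSub.mp hmem with h | h | h | h
  · apply hv1
    have : c v = c 1 := by rw [h, map_one]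
    exact c.injective this
  · apply hxv
    have : c x = c v := by rw [hx, h]
    exact (c.injective this)
  · exact hv h
  · -- `c² v = v`
    have h5 : c (c v) = v := by
      rw [h, map_mul, hx, h, ← mul_assoc, he, one_mul]
    rw [h5] at h3
    exact hv h3

variable {G : Type*} [Group G] [Finite G]

/-- The core of the construction, for `W` and `K` normal. -/
theorem s4_core {W K : Subgroup G} [hWn : W.Normal] [hKn : K.Normal] (hW4 : Nat.card W = 4) (hW2 : ∀ x ∈ W, x * x = 1)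
    {a f : G} (hfK : f ∈ K) (hK : ∀ k ∈ K, ∃ i : ℤ, ∀ x ∈ W, k * x * k⁻¹ = f ^ i * x * (f ^ i)⁻¹)
    (ha2 : ∀ x ∈ W, (a * a) * x * (a * a)⁻¹ = x) (hf3 : ∀ x ∈ W, f ^ 3 * x * (f ^ 3)⁻¹ = x)
    (hinv : ∀ x ∈ W, (a * f * a⁻¹) * x * (a * f * a⁻¹)⁻¹ = f⁻¹ * x * f) (hne : ∃ x ∈ W, f * x * f⁻¹ ≠ x) :
    Involves (Equiv.Perm (Fin 4)) G := by
  classical
  haveI : Fact (Nat.Prime 3) := ⟨Nat.prime_three⟩
  -- the action
  let ρ : G →* MulAut W := MulAut.conjNormal (H := W)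
  have hρ : ∀ (z : G) (x : W), ((ρ z) x : G) = z * x * z⁻¹ := fun z x => rfl
  have hρeq : ∀ {g : G} {φ : MulAut W}, (∀ x : W, g * (x : G) * g⁻¹ = ((φ x : W) : G)) → ρ g = φ := by
    intro g φ h
    ext x
    rw [hρ]
    exact h x
  obtain ⟨τ, hτ⟩ : ∃ τ, τ = ρ f := ⟨_, rfl⟩
  obtain ⟨α, hα⟩ : ∃ α, α = ρ a := ⟨_, rfl⟩
  have hτ3 : τ ^ 3 = 1 := by
    rw [hτ, ← map_pow]
    exact hρeq fun x => by simpa using hf3 x x.2
  have hα2 : α * α = 1 := by
    rw [hα, ← map_mul]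
    exact hρeq fun x => by simpa using ha2 x x.2
  have hατ : α * τ * α⁻¹ = τ⁻¹ := by
    rw [hα, hτ, ← map_inv, ← map_inv, ← map_mul, ← map_mul]
    exact hρeq fun x => by
      have h1 := hinv x x.2
      have h2 : ((ρ f⁻¹ x : W) : G) = f⁻¹ * x * f := by rw [hρ]; simp
      rw [h2]
      exact h1
  have hτ1 : τ ≠ 1 := by
    obtain ⟨x, hx, hx'⟩ := hne
    intro h
    apply hx'
    have h1 := congrArg (fun φ : MulAut W => ((φ ⟨x, hx⟩ : W) : G)) h
    rw [hτ] at h1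
    simpa [hρ] using h1
  have hKρ : ∀ k ∈ K, ∃ i : ℤ, ρ k = τ ^ i := by
    intro k hk
    obtain ⟨i, hi⟩ := hK k hk
    refine ⟨i, ?_⟩
    rw [hτ, ← map_zpow]
    ext x
    rw [hρ, hρ]
    exact hi x x.2
  -- a `3`-element
  obtain ⟨j, m, hm, hjm⟩ := Nat.exists_eq_pow_mul_and_not_dvd (orderOf_pos f).ne' 3 (by norm_num)
  obtain ⟨y, hy⟩ : ∃ y, y = f ^ m := ⟨_, rfl⟩
  have hy3 : y ^ 3 ^ j = 1 := by
    rw [hy, ← pow_mul, mul_comm, ← hjm, pow_orderOf_eq_one]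
  have hco : m.Coprime 3 := ((Nat.Prime.coprime_iff_not_dvd Nat.prime_three).mpr hm).symm
  have hρy : (ρ y) ^ 3 = 1 := by
    rw [hy, map_pow, ← hτ, ← pow_mul, mul_comm, pow_mul, hτ3, one_pow]
  have hρy1 : ρ y ≠ 1 := by
    intro h
    apply hτ1
    rw [hy, map_pow, ← hτ] at h
    have h1 : orderOf τ ∣ m := orderOf_dvd_of_pow_eq_one h
    have h2 : orderOf τ ∣ 3 := orderOf_dvd_of_pow_eq_one hτ3
    exact orderOf_eq_one_iff.mp (Nat.eq_one_of_dvd_coprimes hco h1 h2)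
  have hyK : y ∈ K := by
    rw [hy]
    exact K.pow_mem hfK m
  -- the Sylow subgroup
  have hzp : IsPGroup 3 (Subgroup.zpowers (⟨y, hyK⟩ : K)) := by
    rintro ⟨z, i, rfl⟩
    refine ⟨j, Subtype.ext (Subtype.ext ?_)⟩
    show ((y : G) ^ i) ^ 3 ^ j = 1
    rw [← zpow_natCast, ← zpow_mul, mul_comm, zpow_mul, zpow_natCast, hy3, one_zpow]
  obtain ⟨Q, hQ⟩ := hzp.exists_le_sylow
  obtain ⟨Ph, hPh⟩ : ∃ Ph : Subgroup G, Ph = (Q : Subgroup K).map K.subtype := ⟨_, rfl⟩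
  have hPh3 : IsPGroup 3 Ph := by
    rw [hPh]
    exact Q.isPGroup'.map _
  have hyPh : y ∈ Ph := by
    rw [hPh]
    exact ⟨⟨y, hyK⟩, hQ (Subgroup.mem_zpowers _), rfl⟩
  have hfr : Subgroup.normalizer (Ph : Set G) ⊔ K = ⊤ := by
    rw [hPh]
    exact Sylow.normalizer_sup_eq_top Q
  obtain ⟨E, hE⟩ : ∃ E : Subgroup G, E = Subgroup.normalizer (Ph : Set G) := ⟨_, rfl⟩
  have haE : a ∈ ((E ⊔ K : Subgroup G) : Set G) := by
    rw [hE, hfr]
    trivial
  rw [Subgroup.mul_normal] at haE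
  obtain ⟨t, ht, k, hk, hatk⟩ := Set.mem_mul.mp haE
  have htE : t ∈ E := ht
  have hyE : y ∈ E := by
    rw [hE]
    exact Subgroup.le_normalizer hyPh
  obtain ⟨i, hi⟩ := hKρ k hk
  have ht' : ρ t = α * (τ ^ i)⁻¹ := by
    have e : t = a * k⁻¹ := by rw [← hatk]; group
    rw [e, map_mul, map_inv, hi, hα]
  have hαz : α * (τ ^ i)⁻¹ * α⁻¹ = τ ^ i := by
    have e1 : ∀ n : ℤ, α * τ ^ n * α⁻¹ = (τ⁻¹) ^ n := by
      intro n
      rw [← hατ, conj_zpow]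
    calc α * (τ ^ i)⁻¹ * α⁻¹ = (α * τ ^ i * α⁻¹)⁻¹ := by group
      _ = ((τ⁻¹) ^ i)⁻¹ := by rw [e1]
      _ = τ ^ i := by simp
  have ht2 : ρ t * ρ t = 1 := by
    rw [ht']
    calc α * (τ ^ i)⁻¹ * (α * (τ ^ i)⁻¹) = (α * (τ ^ i)⁻¹ * α⁻¹) * (α * α) * (τ ^ i)⁻¹ := by group
      _ = 1 := by rw [hαz, hα2]; group
  have ht1 : ρ t ≠ 1 := by
    rw [ht']
    intro h
    have h1 : α = τ ^ i := by
      rwa [mul_inv_eq_one] at h
    have h2 : (τ ^ i) ^ 2 = 1 := by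
      rw [← h1, sq, hα2]
    have h3 : τ ^ i = 1 := by
      have h4 : (τ ^ i) ^ 3 = 1 := by
        rw [← zpow_natCast, ← zpow_mul, mul_comm, zpow_mul, zpow_natCast, hτ3, one_zpow]
      have h5 := orderOf_dvd_of_pow_eq_one h2
      have h6 := orderOf_dvd_of_pow_eq_one h4
      exact orderOf_eq_one_iff.mp (Nat.eq_one_of_dvd_coprimes (by norm_num : Nat.Coprime 2 3) h5 h6)
    rw [h3] at h1
    rw [h1] at hατ
    have h7 : τ = τ⁻¹ := by simpa using hατ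
    have h8 : τ ^ 2 = 1 := by
      rw [sq]
      exact mul_eq_one_iff_eq_inv.mpr h7
    have h9 := orderOf_dvd_of_pow_eq_one h8
    have h10 := orderOf_dvd_of_pow_eq_one hτ3
    exact hτ1 (orderOf_eq_one_iff.mp (Nat.eq_one_of_dvd_coprimes (by norm_num : Nat.Coprime 2 3) h9 h10))
  -- complement
  have hWe : ∀ x : W, x * x = 1 := fun x => Subtype.ext (hW2 x x.2)
  have hinf : W ⊓ E = ⊥ := by
    rw [eq_bot_iff]
    rintro x ⟨hxW, hxE⟩
    rw [Subgroup.mem_bot]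
    by_contra hx1
    have hxE' : x ∈ Subgroup.normalizer (Ph : Set G) := by
      rw [← hE]
      exact hxE
    have hc1 : x * y * x⁻¹ * y⁻¹ ∈ Ph := by
      refine Ph.mul_mem ?_ (Ph.inv_mem hyPh)
      exact (Subgroup.mem_normalizer_iff.mp hxE' y).mp hyPh
    have hc2 : x * y * x⁻¹ * y⁻¹ ∈ W := by
      have h1 := hWn.conj_mem x⁻¹ (W.inv_mem hxW) y
      have e : x * y * x⁻¹ * y⁻¹ = x * (y * x⁻¹ * y⁻¹) := by group
      rw [e]
      exact W.mul_mem hxW h1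
    have hc3 : x * y * x⁻¹ * y⁻¹ = 1 := by
      obtain ⟨n, hn⟩ := hPh3 ⟨_, hc1⟩
      have h1 : (x * y * x⁻¹ * y⁻¹) ^ 3 ^ n = 1 := congrArg Subtype.val hn
      have h2 : (x * y * x⁻¹ * y⁻¹) ^ 2 = 1 := by
        rw [sq]
        exact hW2 _ hc2
      have h3 := orderOf_dvd_of_pow_eq_one h1
      have h4 := orderOf_dvd_of_pow_eq_one h2
      exact orderOf_eq_one_iff.mp (Nat.eq_one_of_dvd_coprimes (Nat.Coprime.pow_left n (by norm_num)) h3 h4)
    have hxy : ρ y ⟨x, hxW⟩ = ⟨x, hxW⟩ := by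
      apply Subtype.ext
      rw [hρ]
      show y * x * y⁻¹ = x
      have h1 : x * y = y * x := by
        have := mul_inv_eq_one.mp hc3
        exact mul_inv_eq_iff_eq_mul.mp this
      rw [← h1]
      group
    have hx1' : (⟨x, hxW⟩ : W) ≠ 1 := fun h => hx1 (congrArg Subtype.val h)
    exact hρy1 (klein_fix hW4 hWe hρy hxy hx1')
  -- the section
  obtain ⟨H, hH⟩ : ∃ H : Subgroup G, H = W ⊔ E := ⟨_, rfl⟩
  have hWH : W ≤ H := by rw [hH]; exact le_sup_left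
  have hEH : E ≤ H := by rw [hH]; exact le_sup_right
  haveI hWn' : (W.subgroupOf H).Normal := Subgroup.normal_subgroupOf
  have hinf' : W.subgroupOf H ⊓ E.subgroupOf H = ⊥ := by
    rw [eq_bot_iff]
    intro x hx
    rw [Subgroup.mem_bot]
    have h1 : (x : G) ∈ W ⊓ E := ⟨Subgroup.mem_subgroupOf.mp hx.1, Subgroup.mem_subgroupOf.mp hx.2⟩
    rw [hinf, Subgroup.mem_bot] at h1
    exact Subtype.ext h1
  have hsup' : W.subgroupOf H ⊔ E.subgroupOf H = ⊤ := by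
    rw [← Subgroup.subgroupOf_sup hWH hEH, ← hH]
    exact Subgroup.subgroupOf_self _
  have hcard : Nat.card (W.subgroupOf H) = 4 := by
    rw [Nat.card_congr (Subgroup.subgroupOfEquivOfLe hWH).toEquiv, hW4]
  have hmoved : ∀ z : G, ρ z ≠ 1 → ∃ x ∈ W, z * x * z⁻¹ ≠ x := by
    intro z hz
    by_contra hcon
    push Not at hcon
    apply hz
    ext x
    rw [hρ]
    exact hcon x x.2
  have hstep : ∀ z : G, ρ z ≠ 1 → (hzH : z ∈ H) → ∃ x ∈ W.subgroupOf H, (⟨z, hzH⟩ : H) * x * (⟨z, hzH⟩ : H)⁻¹ ≠ x := by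
    intro z hz hzH
    obtain ⟨x, hx, hx'⟩ := hmoved z hz
    refine ⟨⟨x, hWH hx⟩, Subgroup.mem_subgroupOf.mpr hx, fun h => hx' ?_⟩
    exact congrArg Subtype.val h
  obtain ⟨ψ, hψ⟩ := s4_hom_relaxed (W.subgroupOf H) (E.subgroupOf H) hinf' hsup' hcard
    (u := ⟨t, hEH htE⟩) (τ := ⟨y, hEH hyE⟩) (Subgroup.mem_subgroupOf.mpr htE) (Subgroup.mem_subgroupOf.mpr hyE)
    (by
      intro x hx
      apply Subtype.ext
      have h1 := congrArg (fun φ : MulAut W => ((φ ⟨(x : G), Subgroup.mem_subgroupOf.mp hx⟩ : W) : G)) ht2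
      have h2 : t * (t * (x : G) * t⁻¹) * t⁻¹ = x := by simpa [hρ] using h1
      show (t * t) * (x : G) * (t * t)⁻¹ = x
      calc (t * t) * (x : G) * (t * t)⁻¹ = t * (t * (x : G) * t⁻¹) * t⁻¹ := by group
        _ = x := h2)
    (hstep t ht1 _) (hstep y hρy1 _)
    (by
      intro x hx
      apply Subtype.ext
      have hρy' : ρ (y ^ 3) = 1 := by rw [map_pow]; exact hρy
      have h1 := congrArg (fun φ : MulAut W => ((φ ⟨(x : G), Subgroup.mem_subgroupOf.mp hx⟩ : W) : G)) hρy'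
      have h2 : y ^ 3 * (x : G) * (y ^ 3)⁻¹ = x := h1
      exact h2)
  exact involves_of_surjective H ψ hψ

/-- The intermediate step, for `W` normal. -/
theorem s4_normal {W : Subgroup G} [hWn : W.Normal] (hW4 : Nat.card W = 4) (hW2 : ∀ x ∈ W, x * x = 1)
    {a f : G} (ha2 : ∀ x ∈ W, (a * a) * x * (a * a)⁻¹ = x) (hf3 : ∀ x ∈ W, f ^ 3 * x * (f ^ 3)⁻¹ = x)
    (hinv : ∀ x ∈ W, (a * f * a⁻¹) * x * (a * f * a⁻¹)⁻¹ = f⁻¹ * x * f) (hne : ∃ x ∈ W, f * x * f⁻¹ ≠ x) :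
    Involves (Equiv.Perm (Fin 4)) G := by
  classical
  let ρ : G →* MulAut W := MulAut.conjNormal (H := W)
  have hρ : ∀ (z : G) (x : W), ((ρ z) x : G) = z * x * z⁻¹ := fun z x => rfl
  have hατ : ρ a * ρ f * (ρ a)⁻¹ = (ρ f)⁻¹ := by
    rw [← map_inv, ← map_inv, ← map_mul, ← map_mul]
    ext x
    rw [hρ, hρ]
    have h1 := hinv x x.2
    simpa using h1
  obtain ⟨R, hR⟩ : ∃ R : Subgroup (MulAut W), R = Subgroup.zpowers (ρ f) := ⟨_, rfl⟩
  obtain ⟨K, hK⟩ : ∃ K : Subgroup G, K = R.comap ρ := ⟨_, rfl⟩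
  have hKmem : ∀ k, k ∈ K ↔ ∃ i : ℤ, ρ k = (ρ f) ^ i := by
    intro k
    rw [hK, Subgroup.mem_comap, hR, Subgroup.mem_zpowers_iff]
    exact ⟨fun ⟨i, h⟩ => ⟨i, h.symm⟩, fun ⟨i, h⟩ => ⟨i, h.symm⟩⟩
  have hfK : f ∈ K := (hKmem f).mpr ⟨1, by simp⟩
  have hnorm : ∀ g : G, (∀ n : ℤ, ∃ n' : ℤ, ρ g * (ρ f) ^ n * (ρ g)⁻¹ = (ρ f) ^ n') → ∀ k ∈ K, g * k * g⁻¹ ∈ K := by
    intro g h k hk
    obtain ⟨i, hi⟩ := (hKmem k).mp hk
    obtain ⟨n', hn'⟩ := h i
    refine (hKmem _).mpr ⟨n', ?_⟩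
    rw [map_mul, map_mul, map_inv, hi, hn']
  have haN : a ∈ Subgroup.normalizer (K : Set G) := by
    refine mem_normalizer_of_conj_le (hnorm a fun n => ⟨-n, ?_⟩)
    rw [← conj_zpow, hατ, inv_zpow, zpow_neg]
  have hfN : f ∈ Subgroup.normalizer (K : Set G) := Subgroup.le_normalizer hfK
  have hWK : W ≤ K := by
    intro w hw
    refine (hKmem w).mpr ⟨0, ?_⟩
    rw [zpow_zero]
    ext x
    rw [hρ]
    have hc : ∀ y ∈ W, y * y = 1 := hW2
    have hcomm : ∀ x y : W, x * y = y * x := comm_of_exp_two fun x => Subtype.ext (hW2 x x.2)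
    have h1 := congrArg Subtype.val (hcomm ⟨w, hw⟩ x)
    have h2 : w * (x : G) = x * w := h1
    show w * (x : G) * w⁻¹ = x
    rw [h2]
    group
  obtain ⟨Gn, hGn⟩ : ∃ Gn : Subgroup G, Gn = Subgroup.normalizer (K : Set G) := ⟨_, rfl⟩
  have hKG : K ≤ Gn := by rw [hGn]; exact Subgroup.le_normalizer
  have hWG : W ≤ Gn := hWK.trans hKG
  have haG : a ∈ Gn := by rw [hGn]; exact haN
  have hfG : f ∈ Gn := by rw [hGn]; exact hfN
  haveI hW' : (W.subgroupOf Gn).Normal := Subgroup.normal_subgroupOf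
  haveI hK' : (K.subgroupOf Gn).Normal := by
    refine ⟨fun x hx g => ?_⟩
    rw [Subgroup.mem_subgroupOf] at hx ⊢
    have hg : (g : G) ∈ Subgroup.normalizer (K : Set G) := by rw [← hGn]; exact g.2
    exact (Subgroup.mem_normalizer_iff.mp hg x).mp hx
  have hcard : Nat.card (W.subgroupOf Gn) = 4 := by
    rw [Nat.card_congr (Subgroup.subgroupOfEquivOfLe hWG).toEquiv, hW4]
  have h1 : Involves (Equiv.Perm (Fin 4)) Gn := by
    refine s4_core (W := W.subgroupOf Gn) (K := K.subgroupOf Gn) hcard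
      (fun x hx => Subtype.ext (hW2 _ (Subgroup.mem_subgroupOf.mp hx))) (a := ⟨a, haG⟩) (f := ⟨f, hfG⟩)
      (Subgroup.mem_subgroupOf.mpr hfK) ?_
      (fun x hx => Subtype.ext (ha2 _ (Subgroup.mem_subgroupOf.mp hx)))
      (fun x hx => Subtype.ext (hf3 _ (Subgroup.mem_subgroupOf.mp hx)))
      (fun x hx => Subtype.ext (hinv _ (Subgroup.mem_subgroupOf.mp hx))) ?_
    · intro k hk
      obtain ⟨i, hi⟩ := (hKmem _).mp (Subgroup.mem_subgroupOf.mp hk)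
      refine ⟨i, fun x hx => Subtype.ext ?_⟩
      have h2 := congrArg (fun φ : MulAut W => ((φ ⟨(x : G), Subgroup.mem_subgroupOf.mp hx⟩ : W) : G)) hi
      have h3 : ρ (f ^ i) = (ρ f) ^ i := map_zpow _ _ _
      rw [← h3] at h2
      exact h2
    · obtain ⟨x, hx, hx'⟩ := hne
      refine ⟨⟨x, hWG hx⟩, Subgroup.mem_subgroupOf.mpr hx, fun h => hx' ?_⟩
      exact congrArg Subtype.val h
  exact Involves.trans' h1 (involves_subgroup Gn)

/-- A four-group in a finite group with an `S₃`-action on it gives a section `S₄`. -/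
theorem involves_s4_of_section {W : Subgroup G} (hW4 : Nat.card W = 4) (hW2 : ∀ x ∈ W, x * x = 1)
    {a f : G} (haW : ∀ x ∈ W, a * x * a⁻¹ ∈ W) (hfW : ∀ x ∈ W, f * x * f⁻¹ ∈ W)
    (ha2 : ∀ x ∈ W, (a * a) * x * (a * a)⁻¹ = x) (hf3 : ∀ x ∈ W, f ^ 3 * x * (f ^ 3)⁻¹ = x)
    (hinv : ∀ x ∈ W, (a * f * a⁻¹) * x * (a * f * a⁻¹)⁻¹ = f⁻¹ * x * f) (hne : ∃ x ∈ W, f * x * f⁻¹ ≠ x) :
    Involves (Equiv.Perm (Fin 4)) G := by
  obtain ⟨Gn, hGn⟩ : ∃ Gn : Subgroup G, Gn = Subgroup.normalizer (W : Set G) := ⟨_, rfl⟩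
  have hWG : W ≤ Gn := by rw [hGn]; exact Subgroup.le_normalizer
  have haG : a ∈ Gn := by rw [hGn]; exact mem_normalizer_of_conj_le haW
  have hfG : f ∈ Gn := by rw [hGn]; exact mem_normalizer_of_conj_le hfW
  haveI hW' : (W.subgroupOf Gn).Normal := by
    refine ⟨fun x hx g => ?_⟩
    rw [Subgroup.mem_subgroupOf] at hx ⊢
    have hg : (g : G) ∈ Subgroup.normalizer (W : Set G) := by rw [← hGn]; exact g.2
    exact (Subgroup.mem_normalizer_iff.mp hg x).mp hx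
  have hcard : Nat.card (W.subgroupOf Gn) = 4 := by
    rw [Nat.card_congr (Subgroup.subgroupOfEquivOfLe hWG).toEquiv, hW4]
  have h1 : Involves (Equiv.Perm (Fin 4)) Gn := by
    refine s4_normal (W := W.subgroupOf Gn) hcard
      (fun x hx => Subtype.ext (hW2 _ (Subgroup.mem_subgroupOf.mp hx))) (a := ⟨a, haG⟩) (f := ⟨f, hfG⟩)
      (fun x hx => Subtype.ext (ha2 _ (Subgroup.mem_subgroupOf.mp hx)))
      (fun x hx => Subtype.ext (hf3 _ (Subgroup.mem_subgroupOf.mp hx)))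
      (fun x hx => Subtype.ext (hinv _ (Subgroup.mem_subgroupOf.mp hx))) ?_
    obtain ⟨x, hx, hx'⟩ := hne
    refine ⟨⟨x, hWG hx⟩, Subgroup.mem_subgroupOf.mpr hx, fun h => hx' ?_⟩
    exact congrArg Subtype.val h
  exact Involves.trans' h1 (involves_subgroup Gn)

end

end Cfsg.Agent.H25
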