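import Mathlib
import Cfsg.Prelude.Def_PLocal
import Cfsg.Agent.Lib.H03.Basic
import Cfsg.Agent.Lib.H14.Nilp
import Cfsg.Agent.Lib.H13.Basic
import Cfsg.Agent.Lib.H14.ZJInst

set_option autoImplicit false

/-! Thompson replacement for abelian subgroups of largest order. -/

namespace Cfsg.Agent.H25

open Cfsg
open Cfsg.Agent.H03

section

variable {P : Type*} [Group P] [Finite P] {p : ℕ}

/-- Thompson replacement for abelian subgroups of largest order. -/
theorem ab_replacement [Fact p.Prime] (hP : IsPGroup p P)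
    {V A : Subgroup P} (hVn : V.Normal) (hV : IsMulCommutative V)
    (hA : A ∈ maxAbelianSubgroups P)
    (hnorm : ¬ V ≤ Subgroup.normalizer (A : Set P)) :
    ∃ A' ∈ maxAbelianSubgroups P, A' ≤ Subgroup.normalizer (A : Set P) ∧
      Nat.card ↥(A ⊓ V) < Nat.card ↥(A' ⊓ V) := by
  classical
  haveI : Group.IsNilpotent P := hP.isNilpotent
  obtain ⟨x, hxV, hxN, hxc⟩ := Cfsg.Agent.H14.exists_commutator_mem hVn hnorm
  have hxcV : ∀ g, x * g * x⁻¹ * g⁻¹ ∈ V := fun g => (Subgroup.mem_inf.mp (hxc g)).1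
  have hxcN : ∀ g, x * g * x⁻¹ * g⁻¹ ∈ Subgroup.normalizer (A : Set P) :=
    fun g => (Subgroup.mem_inf.mp (hxc g)).2
  set Ax := A.map (MulAut.conj x).toMonoidHom with hAx
  set C := A ⊓ Ax with hC
  set D := Subgroup.closure {y : P | ∃ a ∈ A, y = x * a * x⁻¹ * a⁻¹} with hD
  have hDV : D ≤ V := by
    rw [hD, Subgroup.closure_le]
    rintro y ⟨a, _, rfl⟩
    exact hxcV a
  have hDN : D ≤ Subgroup.normalizer (A : Set P) := by
    rw [hD, Subgroup.closure_le]
    rintro y ⟨a, _, rfl⟩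
    exact hxcN a
  have hAcomm : ∀ a ∈ A, ∀ b ∈ A, a * b = b * a :=
    fun a ha b hb => mul_comm_of_isMulCommutative hA.1 ha hb
  have hCA : C ≤ A := inf_le_left
  have hCab : ∀ a ∈ C, ∀ b ∈ C, a * b = b * a := fun a ha b hb => hAcomm a (hCA ha) b (hCA hb)
  have hDab : ∀ a ∈ D, ∀ b ∈ D, a * b = b * a := fun a ha b hb =>
    mul_comm_of_isMulCommutative hV (hDV ha) (hDV hb)
  have hCD : ∀ c ∈ C, ∀ d ∈ D, c * d = d * c := by
    intro c hc d hd
    obtain ⟨hc1, hc2⟩ := Subgroup.mem_inf.mp hc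
    obtain ⟨b, hb, rfl⟩ := hc2
    have hle : D ≤ Subgroup.centralizer ({(MulAut.conj x).toMonoidHom b} : Set P) := by
      rw [hD, Subgroup.closure_le]
      rintro y ⟨a, ha, rfl⟩
      change _ ∈ Subgroup.centralizer _
      rw [Subgroup.mem_centralizer_iff]
      intro z hz
      rw [Set.mem_singleton_iff] at hz
      subst hz
      change (x * b * x⁻¹) * (x * a * x⁻¹ * a⁻¹) = (x * a * x⁻¹ * a⁻¹) * (x * b * x⁻¹)
      have h1 : (x * b * x⁻¹) * a⁻¹ = a⁻¹ * (x * b * x⁻¹) := by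
        have := hAcomm _ hc1 _ (inv_mem ha)
        exact this
      calc (x * b * x⁻¹) * (x * a * x⁻¹ * a⁻¹) = x * (b * a) * x⁻¹ * a⁻¹ := by group
        _ = x * (a * b) * x⁻¹ * a⁻¹ := by rw [hAcomm b hb a ha]
        _ = x * a * x⁻¹ * ((x * b * x⁻¹) * a⁻¹) := by group
        _ = x * a * x⁻¹ * (a⁻¹ * (x * b * x⁻¹)) := by rw [h1]
        _ = (x * a * x⁻¹ * a⁻¹) * (x * b * x⁻¹) := by group
    have := Subgroup.mem_centralizer_iff.mp (hle hd) _ rfl
    exact this
  set M := C ⊔ D with hM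
  have hMab : IsMulCommutative M := isMulCommutative_sup hCab hDab hCD
  have hcM : ∀ a ∈ A, x * a * x⁻¹ * a⁻¹ ∈ M := fun a ha =>
    (le_sup_right : D ≤ M) (Subgroup.subset_closure ⟨a, ha, rfl⟩)
  -- comparison of orders
  set C' := A ⊓ A.map (MulAut.conj x⁻¹).toMonoidHom with hC'
  have hC'C : Nat.card C' = Nat.card C := by
    have h1 : C'.map (MulAut.conj x).toMonoidHom = C := by
      rw [hC', Cfsg.Agent.H13.map_conj_inf, Cfsg.Agent.H13.map_conj_map_conj_inv, inf_comm]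
    rw [← h1]
    exact (Cfsg.Agent.H13.card_map_conj x C').symm
  have hC'A : C' ≤ A := inf_le_left
  have hCM : C ≤ M := le_sup_left
  have hinj : Function.Injective
      (fun t : (↥A) ⧸ (C'.subgroupOf A) =>
        (QuotientGroup.mk ⟨x * (t.out : P) * x⁻¹ * (t.out : P)⁻¹, hcM _ t.out.2⟩ :
          (↥M) ⧸ (C.subgroupOf M))) := by
    intro t₁ t₂ h
    rw [QuotientGroup.eq, Subgroup.mem_subgroupOf] at h
    simp only [Subgroup.coe_mul, InvMemClass.coe_inv] at h
    set a := t₁.out with ha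
    set b := t₂.out with hb
    set c := (x * (a : P) * x⁻¹ * (a : P)⁻¹)⁻¹ * (x * (b : P) * x⁻¹ * (b : P)⁻¹) with hc
    have hcA : c ∈ A := hCA h
    have key : x * ((a : P)⁻¹ * (b : P)) * x⁻¹ = (a : P)⁻¹ * c * b := by
      rw [hc]; group
    have hmem : (a : P)⁻¹ * (b : P) ∈ C' := by
      refine Subgroup.mem_inf.mpr ⟨mul_mem (inv_mem a.2) b.2, ?_⟩
      rw [Cfsg.Agent.H13.mem_map_conj, inv_inv, key]
      exact mul_mem (mul_mem (inv_mem a.2) hcA) b.2
    have h1 : (QuotientGroup.mk a : (↥A) ⧸ (C'.subgroupOf A)) = QuotientGroup.mk b := by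
      rw [QuotientGroup.eq, Subgroup.mem_subgroupOf]
      exact hmem
    rw [ha, hb, QuotientGroup.out_eq', QuotientGroup.out_eq'] at h1
    exact h1
  have hcard1 : Nat.card ((↥A) ⧸ (C'.subgroupOf A)) ≤ Nat.card ((↥M) ⧸ (C.subgroupOf M)) :=
    Nat.card_le_card_of_injective _ hinj
  have hAM : Nat.card A ≤ Nat.card M := by
    have e1 : Nat.card (C'.subgroupOf A) * (C'.subgroupOf A).index = Nat.card A :=
      Subgroup.card_mul_index _
    have e2 : Nat.card (C.subgroupOf M) * (C.subgroupOf M).index = Nat.card M :=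
      Subgroup.card_mul_index _
    have e3 : Nat.card (C'.subgroupOf A) = Nat.card C' :=
      Nat.card_congr (Subgroup.subgroupOfEquivOfLe hC'A).toEquiv
    have e4 : Nat.card (C.subgroupOf M) = Nat.card C :=
      Nat.card_congr (Subgroup.subgroupOfEquivOfLe hCM).toEquiv
    rw [← e1, ← e2, e3, e4, hC'C]
    exact Nat.mul_le_mul_left _ hcard1
  have hMmax : M ∈ maxAbelianSubgroups P :=
    ⟨hMab, fun B hB => (hA.2 B hB).trans hAM⟩
  refine ⟨M, hMmax, ?_, ?_⟩
  · refine sup_le (hCA.trans Subgroup.le_normalizer) hDN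
  · have hle : A ⊓ V ≤ M ⊓ V := by
      intro a ha
      obtain ⟨ha1, ha2⟩ := Subgroup.mem_inf.mp ha
      refine Subgroup.mem_inf.mpr ⟨hCM (Subgroup.mem_inf.mpr ⟨ha1, ?_⟩), ha2⟩
      rw [Cfsg.Agent.H13.mem_map_conj]
      have : x⁻¹ * a * x = a := by
        have h2 : x * a = a * x := mul_comm_of_isMulCommutative hV hxV ha2
        calc x⁻¹ * a * x = x⁻¹ * (a * x) := by group
          _ = x⁻¹ * (x * a) := by rw [h2]
          _ = a := by group
      rwa [this]
    by_contra hlt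
    have heq : A ⊓ V = M ⊓ V := Subgroup.eq_of_le_of_card_ge hle (not_lt.mp hlt)
    apply hxN
    apply Cfsg.Agent.H13.mem_normalizer_of_map_conj_le
    rintro _ ⟨a, ha, rfl⟩
    change x * a * x⁻¹ ∈ A
    have h3 : x * a * x⁻¹ * a⁻¹ ∈ M ⊓ V := Subgroup.mem_inf.mpr ⟨hcM a ha, hxcV a⟩
    rw [← heq] at h3
    have h4 := mul_mem (Subgroup.mem_inf.mp h3).1 ha
    simpa using h4

/-- A largest abelian subgroup contains each abelian subgroup centralizing it. -/
theorem le_of_ab_of_commute {A B : Subgroup P} (hA : A ∈ maxAbelianSubgroups P)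
    (hB : IsMulCommutative B) (hc : ∀ a ∈ A, ∀ b ∈ B, a * b = b * a) : B ≤ A := by
  have h1 : IsMulCommutative (A ⊔ B : Subgroup P) :=
    isMulCommutative_sup (fun a ha a' ha' => mul_comm_of_isMulCommutative hA.1 ha ha')
      (fun a ha a' ha' => mul_comm_of_isMulCommutative hB ha ha') hc
  have h2 : Nat.card A ≥ Nat.card (A ⊔ B : Subgroup P) := hA.2 _ h1
  have h3 : A = A ⊔ B := Subgroup.eq_of_le_of_card_ge le_sup_left h2
  rw [h3]
  exact le_sup_right

/-- If some abelian subgroup of largest order does not centralize the normal abelian subgroup `V`, some such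
subgroup does not centralize `V` and is normalized by `V`. -/
theorem exists_ab_offender [Fact p.Prime] (hP : IsPGroup p P)
    {V A : Subgroup P} (hVn : V.Normal) (hV : IsMulCommutative V)
    (hA : A ∈ maxAbelianSubgroups P)
    (hc : ¬ A ≤ Subgroup.centralizer (V : Set P)) :
    ∃ A' ∈ maxAbelianSubgroups P, ¬ A' ≤ Subgroup.centralizer (V : Set P) ∧
      V ≤ Subgroup.normalizer (A' : Set P) := by
  classical
  let F := {A : Subgroup P // A ∈ maxAbelianSubgroups P ∧
    ¬ A ≤ Subgroup.centralizer (V : Set P)}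
  have hne : Nonempty F := ⟨⟨A, hA, hc⟩⟩
  obtain ⟨⟨A', hA', hc'⟩, hmax⟩ := Finite.exists_max (fun A : F => Nat.card ↥((A : Subgroup P) ⊓ V))
  refine ⟨A', hA', hc', ?_⟩
  by_contra hnorm
  obtain ⟨A'', hA'', hN, hlt⟩ := ab_replacement hP hVn hV hA' hnorm
  by_cases hc'' : A'' ≤ Subgroup.centralizer (V : Set P)
  · apply hnorm
    have : V ≤ A'' := le_of_ab_of_commute hA'' hV fun a ha b hb =>
      (Subgroup.mem_centralizer_iff.mp (hc'' ha) b hb).symm
    exact this.trans hN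
  · have := hmax ⟨A'', hA'', hc''⟩
    simp only at this
    omega

end

section

variable {L : Type*} [Group L] [Finite L] {p : ℕ} [Fact p.Prime]

open Cfsg.Agent.H14

/-- Members of the family are the images of the abelian subgroups of largest order. -/
theorem mx_iff_max {T : Subgroup L} (A₀ : Subgroup T) :
    A₀.map T.subtype ∈ (abFam L).mx T ↔ A₀ ∈ maxAbelianSubgroups T := by
  constructor
  · rintro ⟨-, h1, h2⟩
    refine ⟨(isMulCommutative_iff_map A₀).mpr h1, fun B hB => ?_⟩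
    have := h2 (B.map T.subtype) (Subgroup.map_subtype_le B) ((isMulCommutative_iff_map B).mp hB)
    rwa [card_map_subtype, card_map_subtype] at this
  · rintro ⟨h1, h2⟩
    refine ⟨Subgroup.map_subtype_le A₀, (isMulCommutative_iff_map A₀).mp h1, fun B hB hF => ?_⟩
    have hBeq : (B.subgroupOf T).map T.subtype = B := by
      rw [Subgroup.subgroupOf_map_subtype]
      exact inf_eq_left.mpr hB
    have h3 := h2 (B.subgroupOf T) ((isMulCommutative_iff_map _).mpr (by rw [hBeq]; exact hF))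
    rw [card_map_subtype]
    rw [← card_map_subtype (B.subgroupOf T), hBeq] at h3
    exact h3

/-- The offender, inside `L`. -/
theorem exists_offender {T V A : Subgroup L} (hT : IsPGroup p T) (hVT : V ≤ T)
    (hVn : ∀ t ∈ T, ∀ v ∈ V, t * v * t⁻¹ ∈ V) (hVab : ∀ a ∈ V, ∀ b ∈ V, a * b = b * a)
    (hA : A ∈ (abFam L).mx T) (hc : ¬ A ≤ Subgroup.centralizer (V : Set L)) :
    ∃ A' ∈ (abFam L).mx T, ¬ A' ≤ Subgroup.centralizer (V : Set L) ∧ ∀ v ∈ V, ∀ a ∈ A', v * a * v⁻¹ ∈ A' := by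
  classical
  obtain ⟨V₀, hV₀⟩ : ∃ V₀, V₀ = V.subgroupOf T := ⟨_, rfl⟩
  obtain ⟨A₀, hA₀⟩ : ∃ A₀, A₀ = A.subgroupOf T := ⟨_, rfl⟩
  have hV₀m : V₀.map T.subtype = V := by
    rw [hV₀, Subgroup.subgroupOf_map_subtype]
    exact inf_eq_left.mpr hVT
  have hA₀m : A₀.map T.subtype = A := by
    rw [hA₀, Subgroup.subgroupOf_map_subtype]
    exact inf_eq_left.mpr hA.1
  have hV₀n : V₀.Normal := by
    rw [hV₀]
    refine ⟨fun x hx g => ?_⟩
    rw [Subgroup.mem_subgroupOf] at hx ⊢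
    exact hVn g g.2 x hx
  have hV₀ab : IsMulCommutative V₀ := by
    rw [isMulCommutative_iff_map, hV₀m]
    exact hVab
  have hA₀max : A₀ ∈ maxAbelianSubgroups T := by
    rw [← mx_iff_max, hA₀m]
    exact hA
  have hA₀c : ¬ A₀ ≤ Subgroup.centralizer (V₀ : Set T) := by
    intro h
    apply hc
    intro a ha
    rw [Subgroup.mem_centralizer_iff]
    intro v hv
    have haT := hA.1 ha
    have hvT := hVT hv
    have h1 := h (show (⟨a, haT⟩ : T) ∈ A₀ by rw [hA₀]; exact Subgroup.mem_subgroupOf.mpr ha)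
    have h2 := Subgroup.mem_centralizer_iff.mp h1 ⟨v, hvT⟩ (by rw [hV₀]; exact Subgroup.mem_subgroupOf.mpr hv)
    exact congrArg Subtype.val h2
  obtain ⟨A'₀, hA'₀, hc', hN⟩ := exists_ab_offender hT hV₀n hV₀ab hA₀max hA₀c
  refine ⟨A'₀.map T.subtype, (mx_iff_max _).mpr hA'₀, ?_, ?_⟩
  · intro h
    apply hc'
    intro a ha
    rw [Subgroup.mem_centralizer_iff]
    intro v hv
    have h1 := h (⟨a, ha, rfl⟩ : (a : L) ∈ A'₀.map T.subtype)
    have h2 := Subgroup.mem_centralizer_iff.mp h1 (v : L) (by rw [← hV₀m]; exact ⟨v, hv, rfl⟩)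
    exact Subtype.ext h2
  · rintro v hv _ ⟨a, ha, rfl⟩
    rw [← hV₀m] at hv
    obtain ⟨v₀, hv₀, rfl⟩ := hv
    have h1 := (Subgroup.mem_normalizer_iff.mp (hN hv₀) a).mp ha
    exact ⟨_, h1, rfl⟩

end

end Cfsg.Agent.H25
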