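import Cfsg.Agent.Lib.H25.AxGT
import Cfsg.Agent.Lib.H25.S4Sec
import Cfsg.Agent.Lib.H25.ThRep
import Cfsg.Agent.Lib.H18.Prod

set_option autoImplicit false

/-! Thompson's normal `p`-complement theorem: the local group theory. -/

namespace Cfsg.Agent.H25

open Cfsg H13 H14 H03
open Cfsg.Agent.H09 (Involves.trans')

open scoped commutatorElement Pointwise

section GpTh

variable {G : Type*} [Group G] [Finite G] {p : ℕ} [Fact p.Prime]

/-- The structure of a minimal situation. -/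
theorem struct_of_frob (P : Sylow p G) {Q : Subgroup G} [hQnn : Q.Normal] (hQdef : Q = Cfsg.pCore p G)
    (hquot : FrobCond p (G ⧸ Q)) (hcQ : Subgroup.centralizer (Q : Set G) ≤ Q)
    (hmin : ∀ G₁ : Subgroup G, G₁ ≠ ⊤ → (P : Subgroup G) ≤ G₁ → FC p G₁) (hnot : ¬ FrobCond p G) :
    ∃ X : Subgroup G, X.Normal ∧ Q ≤ X ∧ (∀ a ∈ X, ∀ b ∈ X, a * b * a⁻¹ * b⁻¹ ∈ Q) ∧
      (∃ m : ℕ, m.Coprime p ∧ ∀ x ∈ X, x ^ m ∈ Q) ∧ X ⊔ (P : Subgroup G) = ⊤ ∧ (∃ k, X.index = p ^ k) ∧
      ∀ X₁ : Subgroup G, Q ≤ X₁ → X₁ ≤ X → (P : Subgroup G) ≤ NN X₁ → X₁ = Q ∨ X₁ = X := by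
  classical
  have hp : p.Prime := Fact.out
  have hQn : Q.Normal := hQnn
  have hQp : IsPGroup p Q := hQdef ▸ Cfsg.Agent.H01.pCore_isPGroup p
  have hQP : Q ≤ (P : Subgroup G) := hQdef ▸ Cfsg.Agent.H01.pCore_le_sylow p P
  have hNQ : NN Q = ⊤ := Subgroup.normalizer_eq_top_iff.mpr hQn
  let π := QuotientGroup.mk' Q
  have hπs : Function.Surjective π := QuotientGroup.mk'_surjective Q
  have hπ1 : ∀ x : G, π x = 1 ↔ x ∈ Q := fun x => QuotientGroup.eq_one_iff x
  have hkerπ : (⊥ : Subgroup (G ⧸ Q)).comap π = Q := by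
    ext x
    rw [Subgroup.mem_comap, Subgroup.mem_bot]
    exact hπ1 x
  have hQcomap : ∀ K : Subgroup (G ⧸ Q), Q ≤ K.comap π := by
    intro K x hx
    rw [Subgroup.mem_comap, (hπ1 x).mpr hx]
    exact K.one_mem
  let Pb : Sylow p (G ⧸ Q) := P.mapSurjective hπs
  have hPb : (Pb : Subgroup (G ⧸ Q)) = (P : Subgroup G).map π := Sylow.coe_mapSurjective hπs P
  -- the normal complement
  obtain ⟨Nb, hNbn, hNbc, k, hk⟩ := npc_iff.mp (hasNormalPComplement_of_frobCond hquot)
  let X : Subgroup G := Nb.comap π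
  have hXn : X.Normal := hNbn.comap π
  have hQX : Q ≤ X := hQcomap Nb
  have hXidx : X.index = p ^ k := by
    rw [← hk]
    exact Subgroup.index_comap_of_surjective Nb hπs
  have hXm : ∀ x ∈ X, x ^ Nat.card Nb ∈ Q := by
    intro x hx
    rw [← hπ1, map_pow]
    have := pow_card_eq_one' (G := Nb) (x := ⟨π x, hx⟩)
    exact congrArg Subtype.val this
  have hXP : X ⊔ (P : Subgroup G) = ⊤ := by
    have h1 : (X ⊔ (P : Subgroup G)).index ∣ p ^ k := by
      rw [← hXidx]
      exact Subgroup.index_dvd_of_le le_sup_left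
    have h2 : (X ⊔ (P : Subgroup G)).index ∣ (P : Subgroup G).index :=
      Subgroup.index_dvd_of_le le_sup_right
    obtain ⟨j, -, hj⟩ := (Nat.dvd_prime_pow hp).mp h1
    rcases j with _ | j
    · rw [pow_zero] at hj
      exact Subgroup.index_eq_one.mp hj
    · exfalso
      apply P.not_dvd_index
      refine dvd_trans ?_ h2
      rw [hj]
      exact dvd_pow_self p (by omega)
  have hXpel : ∀ x ∈ X, ∀ j : ℕ, x ^ p ^ j = 1 → x ∈ Q := by
    intro x hx j hj
    rw [← hπ1]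
    have h1 : π x ∈ Nb := hx
    exact eq_one_of_mem_coprime h1 hNbc (by rw [← map_pow, hj, map_one])
  -- irreducibility
  have hirr : ∀ X₁ : Subgroup G, Q ≤ X₁ → X₁ ≤ X → (P : Subgroup G) ≤ NN X₁ → X₁ = Q ∨ X₁ = X := by
    intro X₁ hQX₁ hX₁X hPX₁
    by_cases hEq : X₁ = X
    · exact Or.inr hEq
    left
    let G₁ : Subgroup G := (P : Subgroup G) ⊔ X₁
    have hG₁ : G₁ ≠ ⊤ := by
      intro htop
      apply hEq
      apply le_antisymm hX₁X
      intro x hx
      have h1 : x ∈ (G₁ : Set G) := by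
        rw [htop]
        trivial
      rw [Subgroup.coe_mul_of_left_le_normalizer_right _ _ hPX₁] at h1
      obtain ⟨u, hu, x₁, hx₁, rfl⟩ := Set.mem_mul.mp h1
      have hu' : u ∈ X := by
        have h2 := X.mul_mem hx (X.inv_mem (hX₁X hx₁))
        simpa using h2
      have hu'' : u ∈ Q := by
        obtain ⟨j, hj⟩ := P.isPGroup' ⟨u, hu⟩
        exact hXpel u hu' j (congrArg Subtype.val hj)
      exact X₁.mul_mem (hQX₁ hu'') hx₁
    have hPG₁ : (P : Subgroup G) ≤ G₁ := le_sup_left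
    have hG₁fc : FC p G₁ := hmin G₁ hG₁ hPG₁
    apply le_antisymm _ hQX₁
    intro x hx
    obtain ⟨a, ha⟩ := exists_pprime_part (p := p) x
    have h1 : x ^ p ^ a ∈ X₁ := X₁.pow_mem hx _
    have h2 : x ^ p ^ a ∈ Subgroup.centralizer (Q : Set G) :=
      hG₁fc Q hQp (hQX₁.trans le_sup_right) _ (Subgroup.mem_sup_right h1)
        (hNQ.ge (Subgroup.mem_top _)) ha
    have h3 : x ^ p ^ a ∈ Q := hcQ h2
    obtain ⟨j, hj⟩ := hQp ⟨_, h3⟩
    have h4 : x ^ p ^ a = 1 := eq_one_of_coprime_order (congrArg Subtype.val hj) ha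
    exact hXpel x (hX₁X hx) a h4
  have hXneQ : X ≠ Q := by
    intro h
    apply hnot
    have h1 : X ≤ (P : Subgroup G) := by rw [h]; exact hQP
    have h2 : (P : Subgroup G) = ⊤ := by
      rw [← hXP, sup_eq_right.mpr h1]
    intro T _ g _ hgc
    have hg : g = 1 := by
      obtain ⟨j, hj⟩ := P.isPGroup' ⟨g, by rw [h2]; trivial⟩
      exact eq_one_of_coprime_order (congrArg Subtype.val hj) hgc
    rw [hg]
    exact Subgroup.one_mem _
  have hNbne : Nb ≠ ⊥ := by
    rintro rfl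
    apply hXneQ
    exact hkerπ
  -- the complement is abelian
  have hNbab := abelian_of_irreducible Pb hNbn hNbc hNbne (by
    intro K hKN hPbK
    have hcom : NN (K.comap π) = (NN K).comap π := (Subgroup.comap_normalizer_eq_of_surjective K hπs).symm
    have h1 : (P : Subgroup G) ≤ NN (K.comap π) := by
      rw [hcom]
      intro u hu
      rw [Subgroup.mem_comap]
      apply hPbK
      rw [hPb]
      exact ⟨u, hu, rfl⟩
    rcases hirr (K.comap π) (hQcomap K) (Subgroup.comap_mono hKN) h1 with h | h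
    · left
      apply Subgroup.comap_injective hπs
      exact h.trans hkerπ.symm
    · right
      exact Subgroup.comap_injective hπs h)
  have hXQ : ∀ a ∈ X, ∀ b ∈ X, a * b * a⁻¹ * b⁻¹ ∈ Q := by
    intro a ha b hb
    rw [← hπ1]
    have h1 := hNbab (π a) ha (π b) hb
    simp only [map_mul, map_inv]
    rw [h1]
    group
  exact ⟨X, hXn, hQX, hXQ, ⟨Nat.card Nb, hNbc, hXm⟩, hXP, ⟨k, hXidx⟩, hirr⟩

theorem centralizer_normal {V : Subgroup G} (hV : V.Normal) : (Subgroup.centralizer (V : Set G)).Normal := by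
  refine ⟨fun x hx g => ?_⟩
  rw [Subgroup.mem_centralizer_iff] at hx ⊢
  intro v hv
  have h1 := hx _ (hV.conj_mem v hv g⁻¹)
  rw [inv_inv] at h1
  calc v * (g * x * g⁻¹) = g * ((g⁻¹ * v * g) * x) * g⁻¹ := by group
    _ = g * (x * (g⁻¹ * v * g)) * g⁻¹ := by rw [h1]
    _ = (g * x * g⁻¹) * v := by group

/-- The normal closure of the centre of a Sylow subgroup. -/
def zClosure (P : Subgroup G) : Subgroup G := Subgroup.normalClosure ((P ⊓ Subgroup.centralizer (P : Set G) : Subgroup G) : Set G)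

theorem zClosure_normal (P : Subgroup G) : (zClosure P).Normal := Subgroup.normalClosure_normal

theorem center_le_zClosure (P : Subgroup G) : P ⊓ Subgroup.centralizer (P : Set G) ≤ zClosure P := Subgroup.le_normalClosure

/-- An element centralizes the closure when each conjugate of it centralizes the centre. -/
theorem mem_centralizer_zClosure {P : Subgroup G} {t : G} (h : ∀ g : G, ∀ z ∈ P ⊓ Subgroup.centralizer (P : Set G), (g⁻¹ * t * g) * z = z * (g⁻¹ * t * g)) :
    t ∈ Subgroup.centralizer (zClosure P : Set G) := by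
  rw [Subgroup.mem_centralizer_iff]
  have hle : zClosure P ≤ Subgroup.centralizer ({t} : Set G) := by
    rw [zClosure, Subgroup.normalClosure, Subgroup.closure_le]
    intro u hu
    obtain ⟨z, hz, hzu⟩ := Group.mem_conjugatesOfSet_iff.mp hu
    obtain ⟨g, rfl⟩ := isConj_iff.mp hzu
    show g * z * g⁻¹ ∈ Subgroup.centralizer ({t} : Set G)
    rw [Subgroup.mem_centralizer_singleton_iff]
    have h1 := h g z hz
    calc g * z * g⁻¹ * t = g * (z * (g⁻¹ * t * g)) * g⁻¹ := by group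
      _ = g * ((g⁻¹ * t * g) * z) * g⁻¹ := by rw [h1]
      _ = t * (g * z * g⁻¹) := by group
  intro v hv
  exact (Subgroup.mem_centralizer_singleton_iff.mp (hle hv))

/-- A normal subgroup which is a `p`-group modulo the centralizer of the closure centralizes the closure. -/
theorem lc_lemma (P : Sylow p G) {T₀ : Subgroup G} (hT₀n : T₀.Normal)
    (hT₀ : ∀ x ∈ T₀, ∃ a : ℕ, x ^ p ^ a ∈ Subgroup.centralizer (zClosure (P : Subgroup G) : Set G)) :
    T₀ ≤ Subgroup.centralizer (zClosure (P : Subgroup G) : Set G) := by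
  classical
  obtain ⟨V, hV⟩ : ∃ V, V = zClosure (P : Subgroup G) := ⟨_, rfl⟩
  rw [← hV] at hT₀ ⊢
  have hVn : V.Normal := hV ▸ zClosure_normal _
  haveI hCn : (Subgroup.centralizer (V : Set G)).Normal := centralizer_normal hVn
  obtain ⟨C, hC⟩ : ∃ C, C = Subgroup.centralizer (V : Set G) := ⟨_, rfl⟩
  rw [← hC] at hT₀ ⊢
  haveI : C.Normal := hC ▸ hCn
  have hπs : Function.Surjective (QuotientGroup.mk' C) := QuotientGroup.mk'_surjective C
  have hπ1 : ∀ x : G, QuotientGroup.mk' C x = 1 ↔ x ∈ C := fun x => QuotientGroup.eq_one_iff x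
  have hpg : IsPGroup p (T₀.map (QuotientGroup.mk' C)) := by
    rintro ⟨_, t, ht, rfl⟩
    obtain ⟨a, ha⟩ := hT₀ t ht
    refine ⟨a, Subtype.ext ?_⟩
    show (QuotientGroup.mk' C t) ^ p ^ a = 1
    rw [← map_pow, hπ1]
    exact ha
  have hle : T₀.map (QuotientGroup.mk' C) ≤ ((P.mapSurjective hπs : Sylow p (G ⧸ C)) : Subgroup (G ⧸ C)) :=
    (H01.le_pCore (hT₀n.map _ hπs) hpg).trans (H01.pCore_le_sylow p _)
  rw [Sylow.coe_mapSurjective] at hle
  have hZC : ∀ t ∈ T₀, ∀ z ∈ (P : Subgroup G) ⊓ Subgroup.centralizer ((P : Subgroup G) : Set G), t * z = z * t := by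
    intro t ht z hz
    obtain ⟨y, hy, e⟩ := hle ⟨t, ht, rfl⟩
    have hc : y⁻¹ * t ∈ C := by
      rw [← hπ1, map_mul, map_inv, e, inv_mul_cancel]
    have hzV : z ∈ V := by
      rw [hV]
      exact center_le_zClosure _ hz
    have h1 : z * (y⁻¹ * t) = (y⁻¹ * t) * z := by
      rw [hC] at hc
      exact Subgroup.mem_centralizer_iff.mp hc z hzV
    have h2 : y * z = z * y := Subgroup.mem_centralizer_iff.mp hz.2 y hy
    have e1 : t = y * (y⁻¹ * t) := by group
    rw [e1, mul_assoc, ← h1, ← mul_assoc, h2, mul_assoc]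
  intro t ht
  rw [hC, hV]
  refine mem_centralizer_zClosure fun g z hz => ?_
  have h1 := hT₀n.conj_mem t ht g⁻¹
  rw [inv_inv] at h1
  exact hZC _ h1 z hz

/-- An element of odd order acting trivially on the involutions of an abelian `2`-group acts trivially. -/
theorem odd_fix {V : Subgroup G} (hVn : V.Normal) (hVab : ∀ a ∈ V, ∀ b ∈ V, a * b = b * a) {y : G} (hodd : Odd (orderOf y))
    (hy : ∀ u ∈ V, u * u = 1 → y * u * y⁻¹ = u) : ∀ (b : ℕ), ∀ v ∈ V, v ^ 2 ^ b = 1 → y * v * y⁻¹ = v := by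
  intro b
  induction b with
  | zero =>
    intro v _ h
    have h1 : v = 1 := by simpa using h
    rw [h1]
    group
  | succ b ih =>
    intro v hv h
    have hv2 : y * (v * v) * y⁻¹ = v * v := by
      refine ih _ (V.mul_mem hv hv) ?_
      rw [← sq, ← pow_mul, ← pow_succ']
      exact h
    have hyv : y * v * y⁻¹ ∈ V := hVn.conj_mem v hv y
    obtain ⟨u, hu⟩ : ∃ u, u = y * v * y⁻¹ * v⁻¹ := ⟨_, rfl⟩
    have huV : u ∈ V := by
      rw [hu]
      exact V.mul_mem hyv (V.inv_mem hv)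
    have hyvu : y * v * y⁻¹ = u * v := by
      rw [hu]
      group
    have huu : u * u = 1 := by
      have h1 : (y * v * y⁻¹) * (y * v * y⁻¹) = v * v := by
        rw [← hv2]
        group
      rw [hyvu] at h1
      have h2 : (u * v) * (u * v) = u * u * (v * v) := by
        calc (u * v) * (u * v) = u * (v * u) * v := by group
          _ = u * (u * v) * v := by rw [hVab v hv u huV]
          _ = u * u * (v * v) := by group
      rw [h2] at h1
      exact mul_eq_right.mp h1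
    have hyu := hy u huV huu
    have hit : ∀ k : ℕ, y ^ k * v * (y ^ k)⁻¹ = u ^ k * v := by
      intro k
      induction k with
      | zero => simp
      | succ k ihk =>
        have h2 : y * u ^ k * y⁻¹ = u ^ k := by
          rw [← conj_pow, hyu]
        calc y ^ (k + 1) * v * (y ^ (k + 1))⁻¹ = y * (y ^ k * v * (y ^ k)⁻¹) * y⁻¹ := by
              rw [pow_succ']
              group
          _ = y * (u ^ k * v) * y⁻¹ := by rw [ihk]
          _ = (y * u ^ k * y⁻¹) * (y * v * y⁻¹) := by group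
          _ = u ^ k * (u * v) := by rw [h2, hyvu]
          _ = u ^ (k + 1) * v := by rw [pow_succ, mul_assoc]
    have h3 := hit (orderOf y)
    rw [pow_orderOf_eq_one] at h3
    have h4 : u ^ orderOf y = 1 := by
      have : (1 : G) * v * (1 : G)⁻¹ = v := by group
      rw [this] at h3
      exact (mul_eq_right.mp h3.symm)
    have h5 : u = 1 := by
      have h6 : u ^ 2 = 1 := by rw [sq]; exact huu
      have h7 := orderOf_dvd_of_pow_eq_one h4
      have h8 := orderOf_dvd_of_pow_eq_one h6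
      have h9 : (2 : ℕ).Coprime (orderOf y) := Nat.coprime_two_left.mpr hodd
      exact orderOf_eq_one_iff.mp (Nat.eq_one_of_dvd_coprimes h9 h8 h7)
    rw [hyvu, h5, one_mul]

/-- An element of a Sylow subgroup centralizing a normal complement supplement modulo the centralizer of the closure
centralizes the closure. -/
theorem centralizes_of_comm (P : Sylow p G) {X : Subgroup G} (hXn : X.Normal) (hXP : X ⊔ (P : Subgroup G) = ⊤) {a : G}
    (haP : a ∈ (P : Subgroup G))
    (h : ∀ x ∈ X, a * x * a⁻¹ * x⁻¹ ∈ Subgroup.centralizer (zClosure (P : Subgroup G) : Set G)) :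
    a ∈ Subgroup.centralizer (zClosure (P : Subgroup G) : Set G) := by
  rw [Subgroup.mem_centralizer_iff]
  have hle : zClosure (P : Subgroup G) ≤ Subgroup.centralizer ({a} : Set G) := by
    rw [zClosure, Subgroup.normalClosure, Subgroup.closure_le]
    intro u hu
    obtain ⟨z, hz, hzu⟩ := Group.mem_conjugatesOfSet_iff.mp hu
    obtain ⟨g, rfl⟩ := isConj_iff.mp hzu
    have hg : g ∈ ((X ⊔ (P : Subgroup G) : Subgroup G) : Set G) := by
      rw [hXP]
      trivial
    haveI := hXn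
    rw [Subgroup.normal_mul] at hg
    obtain ⟨x, hx, t, ht, rfl⟩ := Set.mem_mul.mp hg
    have hzt : t * z * t⁻¹ = z := by
      have := Subgroup.mem_centralizer_iff.mp hz.2 t ht
      rw [this]
      group
    have hza : a * z * a⁻¹ = z := by
      have := Subgroup.mem_centralizer_iff.mp hz.2 a haP
      rw [this]
      group
    have huV : x * z * x⁻¹ ∈ zClosure (P : Subgroup G) := (zClosure_normal _).conj_mem z (center_le_zClosure _ hz) x
    have hd := Subgroup.mem_centralizer_iff.mp (h x hx) _ huV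
    show x * t * z * (x * t)⁻¹ ∈ Subgroup.centralizer ({a} : Set G)
    rw [Subgroup.mem_centralizer_singleton_iff]
    have e : x * t * z * (x * t)⁻¹ = x * z * x⁻¹ := by
      calc x * t * z * (x * t)⁻¹ = x * (t * z * t⁻¹) * x⁻¹ := by group
        _ = x * z * x⁻¹ := by rw [hzt]
    rw [e]
    -- `a` fixes the conjugate
    have h1 : a * (x * z * x⁻¹) * a⁻¹ = x * z * x⁻¹ := by
      calc a * (x * z * x⁻¹) * a⁻¹ = (a * x * a⁻¹ * x⁻¹) * (x * (a * z * a⁻¹) * x⁻¹) * (a * x * a⁻¹ * x⁻¹)⁻¹ := by group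
        _ = (a * x * a⁻¹ * x⁻¹) * (x * z * x⁻¹) * (a * x * a⁻¹ * x⁻¹)⁻¹ := by rw [hza]
        _ = (x * z * x⁻¹) * ((a * x * a⁻¹ * x⁻¹) * (a * x * a⁻¹ * x⁻¹)⁻¹) := by
            rw [← hd]
            group
        _ = x * z * x⁻¹ := by group
    calc x * z * x⁻¹ * a = (a * (x * z * x⁻¹) * a⁻¹) * a := by rw [h1]
      _ = a * (x * z * x⁻¹) := by group
  intro v hv
  exact Subgroup.mem_centralizer_singleton_iff.mp (hle hv)

/-- The order of a product of two subgroups, one normalizing the other. -/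
theorem card_sup_mul_inf {X Y : Subgroup G} (hYX : Y ≤ Subgroup.normalizer (X : Set G)) :
    Nat.card (X ⊔ Y : Subgroup G) * Nat.card (X ⊓ Y : Subgroup G) = Nat.card X * Nat.card Y := by
  have hset : ((X ⊔ Y : Subgroup G) : Set G) = (X : Set G) * (Y : Set G) := by
    ext z
    constructor
    · intro hz
      obtain ⟨x, hx, y, hy, rfl⟩ := Cfsg.Agent.H01.exists_mul_of_mem_sup hYX hz
      exact Set.mul_mem_mul hx hy
    · rintro ⟨x, hx, y, hy, rfl⟩
      exact mul_mem (Subgroup.mem_sup_left hx) (Subgroup.mem_sup_right hy)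
  have h1 : Nat.card (X ⊔ Y : Subgroup G) = Nat.card ((X : Set G) * (Y : Set G) : Set G) :=
    Nat.card_congr (Equiv.setCongr hset)
  rw [h1]
  exact Cfsg.Agent.H18.card_set_mul_mul_card_inf X Y

/-- The involutions of an abelian subgroup, with the identity. -/
def invSub (V : Subgroup G) (hVab : ∀ a ∈ V, ∀ b ∈ V, a * b = b * a) : Subgroup G where
  carrier := {v | v ∈ V ∧ v * v = 1}
  mul_mem' := by
    rintro a b ⟨ha, ha'⟩ ⟨hb, hb'⟩
    refine ⟨V.mul_mem ha hb, ?_⟩
    calc a * b * (a * b) = a * (b * a) * b := by group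
      _ = a * (a * b) * b := by rw [hVab b hb a ha]
      _ = (a * a) * (b * b) := by group
      _ = 1 := by rw [ha', hb', one_mul]
  one_mem' := ⟨V.one_mem, by simp⟩
  inv_mem' := by
    rintro a ⟨ha, ha'⟩
    refine ⟨V.inv_mem ha, ?_⟩
    rw [← mul_inv_rev, ha', inv_one]

/-- The case `p = 2`: an offender acts trivially. -/
theorem offender_two (hp2 : p = 2) (P : Sylow p G) {A X Q : Subgroup G} (hVP : zClosure (P : Subgroup G) ≤ P)
    (hVab : ∀ a ∈ zClosure (P : Subgroup G), ∀ b ∈ zClosure (P : Subgroup G), a * b = b * a)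
    (hXn : X.Normal) (hXP : X ⊔ (P : Subgroup G) = ⊤) (hXQ : ∀ a ∈ X, ∀ b ∈ X, a * b * a⁻¹ * b⁻¹ ∈ Q) {m : ℕ} (hm : m.Coprime p)
    (hXm : ∀ x ∈ X, x ^ m ∈ Q) (hQC : Q ≤ Subgroup.centralizer (zClosure (P : Subgroup G) : Set G))
    (hA : A ∈ (abFam G).mx (P : Subgroup G)) (hAN : ∀ v ∈ zClosure (P : Subgroup G), ∀ a ∈ A, v * a * v⁻¹ ∈ A)
    (hs4 : ¬ Involves (Equiv.Perm (Fin 4)) G) : A ≤ Subgroup.centralizer (zClosure (P : Subgroup G) : Set G) := by
  classical
  subst hp2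
  have hAP : A ≤ (P : Subgroup G) := hA.1
  have hAab : ∀ a ∈ A, ∀ b ∈ A, a * b = b * a := hA.2.1
  obtain ⟨V, hV⟩ : ∃ V, V = zClosure (P : Subgroup G) := ⟨_, rfl⟩
  have hVn : V.Normal := hV ▸ zClosure_normal _
  rw [← hV] at hVP hVab hQC hAN ⊢
  -- the involutions of `V`
  obtain ⟨W₀, hW₀⟩ : ∃ W₀ : Subgroup G, W₀ = invSub V hVab := ⟨_, rfl⟩
  have hW₀mem : ∀ v, v ∈ W₀ ↔ v ∈ V ∧ v * v = 1 := by
    intro v
    rw [hW₀]
    rfl
  have hW₀V : W₀ ≤ V := fun v hv => ((hW₀mem v).mp hv).1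
  haveI hW₀n : W₀.Normal := by
    refine ⟨fun v hv g => (hW₀mem _).mpr ?_⟩
    obtain ⟨h1, h2⟩ := (hW₀mem v).mp hv
    refine ⟨hVn.conj_mem v h1 g, ?_⟩
    calc g * v * g⁻¹ * (g * v * g⁻¹) = g * (v * v) * g⁻¹ := by group
      _ = 1 := by rw [h2]; group
  -- the centralizers of `W₀` and `V` agree
  have hCW : Subgroup.centralizer (W₀ : Set G) ≤ Subgroup.centralizer (V : Set G) := by
    rw [hV]
    refine lc_lemma P (centralizer_normal hW₀n) fun x hx => ?_
    obtain ⟨a, ha⟩ := exists_pprime_part (p := 2) x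
    refine ⟨a, ?_⟩
    rw [← hV, Subgroup.mem_centralizer_iff]
    have hodd : Odd (orderOf (x ^ 2 ^ a)) := Nat.coprime_two_right.mp ha
    have hfix : ∀ u ∈ V, u * u = 1 → (x ^ 2 ^ a) * u * (x ^ 2 ^ a)⁻¹ = u := by
      intro u hu huu
      have h1 : x ^ 2 ^ a ∈ Subgroup.centralizer (W₀ : Set G) := Subgroup.pow_mem _ hx _
      have h2 := Subgroup.mem_centralizer_iff.mp h1 u ((hW₀mem u).mpr ⟨hu, huu⟩)
      rw [← h2]
      group
    intro v hv
    obtain ⟨b, hb⟩ : ∃ b : ℕ, v ^ 2 ^ b = 1 := by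
      obtain ⟨b, hb⟩ := P.isPGroup' ⟨v, hVP hv⟩
      exact ⟨b, congrArg Subtype.val hb⟩
    have h3 := odd_fix hVn hVab hodd hfix b v hv hb
    calc v * x ^ 2 ^ a = (x ^ 2 ^ a * v * (x ^ 2 ^ a)⁻¹) * x ^ 2 ^ a := by rw [h3]
      _ = x ^ 2 ^ a * v := by group
  -- the action
  let ρ : G →* MulAut W₀ := MulAut.conjNormal (H := W₀)
  have hρ : ∀ (z : G) (x : W₀), ((ρ z) x : G) = z * x * z⁻¹ := fun z x => rfl
  have hρ1 : ∀ g, ρ g = 1 ↔ g ∈ Subgroup.centralizer (W₀ : Set G) := by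
    intro g
    constructor
    · intro h
      rw [Subgroup.mem_centralizer_iff]
      intro w hw
      have h1 := congrArg (fun φ : MulAut W₀ => ((φ ⟨w, hw⟩ : W₀) : G)) h
      have h2 : g * w * g⁻¹ = w := h1
      calc w * g = (g * w * g⁻¹) * g := by rw [h2]
        _ = g * w := by group
    · intro h
      ext w
      rw [hρ]
      have h1 := Subgroup.mem_centralizer_iff.mp h w w.2
      show g * (w : G) * g⁻¹ = w
      rw [← h1]
      group
  have hQρ : ∀ q ∈ Q, ρ q = 1 := fun q hq => (hρ1 q).mpr (fun w hw => Subgroup.mem_centralizer_iff.mp (hQC hq) w (hW₀V hw))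
  have he : ∀ x : W₀, x * x = 1 := fun x => Subtype.ext ((hW₀mem _).mp x.2).2
  -- the groups of automorphisms
  have hRab : ∀ c ∈ X.map ρ, ∀ d ∈ X.map ρ, c * d = d * c := by
    rintro _ ⟨x, hx, rfl⟩ _ ⟨y, hy, rfl⟩
    have h1 := hQρ _ (hXQ x hx y hy)
    simp only [map_mul, map_inv] at h1
    calc ρ x * ρ y = (ρ x * ρ y * (ρ x)⁻¹ * (ρ y)⁻¹) * (ρ y * ρ x) := by group
      _ = ρ y * ρ x := by rw [h1, one_mul]
  have hRodd : ∀ c ∈ X.map ρ, Odd (orderOf c) := by
    rintro _ ⟨x, hx, rfl⟩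
    have h1 : (ρ x) ^ m = 1 := by
      rw [← map_pow]
      exact hQρ _ (hXm x hx)
    have h2 : Odd m := Nat.coprime_two_right.mp hm
    exact Odd.of_dvd_nat h2 (orderOf_dvd_of_pow_eq_one h1)
  have hA2 : ∀ a ∈ A.map ρ, a * a = 1 := by
    rintro _ ⟨a, ha, rfl⟩
    rw [← map_mul, hρ1, Subgroup.mem_centralizer_iff]
    intro w hw
    obtain ⟨hwV, hww⟩ := (hW₀mem w).mp hw
    obtain ⟨u, hu⟩ : ∃ u, u = a * w * a⁻¹ * w⁻¹ := ⟨_, rfl⟩
    have hcw : a * w * a⁻¹ ∈ W₀ := hW₀n.conj_mem w hw a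
    have huW : u ∈ W₀ := by
      rw [hu]
      exact W₀.mul_mem hcw (W₀.inv_mem hw)
    have huA : u ∈ A := by
      have h1 := hAN w hwV a⁻¹ (A.inv_mem ha)
      have e : u = a * (w * a⁻¹ * w⁻¹) := by rw [hu]; group
      rw [e]
      exact A.mul_mem ha h1
    have huu := ((hW₀mem u).mp huW).2
    have h1 : a * w * a⁻¹ = u * w := by
      rw [hu]
      group
    have h2 : a * u * a⁻¹ = u := by
      rw [hAab a ha u huA]
      group
    have h3 : (a * a) * w * (a * a)⁻¹ = w := by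
      calc (a * a) * w * (a * a)⁻¹ = a * (a * w * a⁻¹) * a⁻¹ := by group
        _ = a * (u * w) * a⁻¹ := by rw [h1]
        _ = (a * u * a⁻¹) * (a * w * a⁻¹) := by group
        _ = u * (u * w) := by rw [h2, h1]
        _ = (u * u) * w := by group
        _ = w := by rw [huu, one_mul]
    calc w * (a * a) = ((a * a) * w * (a * a)⁻¹) * (a * a) := by rw [h3]
      _ = (a * a) * w := by group
  have hAR : ∀ a ∈ A.map ρ, ∀ c ∈ X.map ρ, a * c * a⁻¹ ∈ X.map ρ := by
    rintro _ ⟨a, ha, rfl⟩ _ ⟨x, hx, rfl⟩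
    refine ⟨a * x * a⁻¹, hXn.conj_mem x hx a, ?_⟩
    simp only [map_mul, map_inv]
  have hAC : ∀ a ∈ A.map ρ, (∀ c ∈ X.map ρ, a * c = c * a) → a = 1 := by
    rintro _ ⟨a, ha, rfl⟩ hcomm
    rw [hρ1]
    have h1 : a ∈ Subgroup.centralizer (V : Set G) := by
      rw [hV]
      refine centralizes_of_comm P hXn hXP (hAP ha) fun x hx => ?_
      rw [← hV]
      apply hCW
      rw [← hρ1]
      simp only [map_mul, map_inv]
      rw [hcomm _ ⟨x, hx, rfl⟩]
      group
    exact Subgroup.mem_centralizer_iff.mpr fun w hw => Subgroup.mem_centralizer_iff.mp h1 w (hW₀V hw)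
  have hS : ∀ a ∈ A.map ρ, ∀ c ∈ X.map ρ, ∀ K : Subgroup W₀, Nat.card K = 4 → (∀ x ∈ K, a x ∈ K) → (∀ x ∈ K, c x ∈ K) →
      a * c * a⁻¹ = c⁻¹ → (∀ x ∈ K, c (c (c x)) = x) → (∃ x ∈ K, c x ≠ x) → False := by
    rintro _ haa _ ⟨f, hf, rfl⟩ K hK4 hKa hKc hac hc3 ⟨x₀, hx₀, hx₀'⟩
    have haa2 := hA2 _ haa
    obtain ⟨a, ha, rfl⟩ := haa
    apply hs4
    have hcardK : Nat.card (K.map W₀.subtype) = 4 := by
      rw [← hK4]
      exact (Nat.card_congr (Subgroup.equivMapOfInjective K W₀.subtype W₀.subtype_injective).toEquiv).symm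
    have hmem : ∀ (k : W₀), (k : G) ∈ K.map W₀.subtype ↔ k ∈ K := fun k =>
      ⟨fun ⟨y, hy, e⟩ => (Subtype.ext e : y = k) ▸ hy, fun h => ⟨k, h, rfl⟩⟩
    refine involves_s4_of_section (W := K.map W₀.subtype) (a := a) (f := f) hcardK ?_ ?_ ?_ ?_ ?_ ?_ ?_
    · rintro _ ⟨k, -, rfl⟩
      exact he k |> congrArg Subtype.val
    · rintro _ ⟨k, hk, rfl⟩
      exact ⟨_, hKa k hk, rfl⟩
    · rintro _ ⟨k, hk, rfl⟩
      exact ⟨_, hKc k hk, rfl⟩
    · rintro _ ⟨k, hk, rfl⟩
      have h1 := congrArg (fun φ : MulAut W₀ => ((φ k : W₀) : G)) haa2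
      have h2 : a * (a * (k : G) * a⁻¹) * a⁻¹ = k := h1
      show (a * a) * (k : G) * (a * a)⁻¹ = k
      calc (a * a) * (k : G) * (a * a)⁻¹ = a * (a * (k : G) * a⁻¹) * a⁻¹ := by group
        _ = k := h2
    · rintro _ ⟨k, hk, rfl⟩
      have h2 : f * (f * (f * (k : G) * f⁻¹) * f⁻¹) * f⁻¹ = k := congrArg Subtype.val (hc3 k hk)
      show f ^ 3 * (k : G) * (f ^ 3)⁻¹ = k
      calc f ^ 3 * (k : G) * (f ^ 3)⁻¹ = f * (f * (f * (k : G) * f⁻¹) * f⁻¹) * f⁻¹ := by
            simp only [pow_succ, pow_zero, one_mul, mul_inv_rev, mul_assoc]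
        _ = k := h2
    · rintro _ ⟨k, hk, rfl⟩
      have h1 := congrArg (fun φ : MulAut W₀ => ((φ k : W₀) : G)) hac
      rw [← map_inv, ← map_inv, ← map_mul, ← map_mul] at h1
      have h2 : (a * f * a⁻¹) * (k : G) * (a * f * a⁻¹)⁻¹ = f⁻¹ * (k : G) * f⁻¹⁻¹ := h1
      rw [inv_inv] at h2
      exact h2
    · refine ⟨_, ⟨x₀, hx₀, rfl⟩, fun h => hx₀' (Subtype.ext h)⟩
  have hbound := plemma he (X.map ρ) (A.map ρ) hRab hRodd hS _ (A.map ρ) rfl le_rfl hA2 hAR hAC
  -- the counting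
  obtain ⟨A₁, hA₁⟩ : ∃ A₁, A₁ = A ⊓ Subgroup.centralizer (V : Set G) := ⟨_, rfl⟩
  obtain ⟨D₀, hD₀⟩ : ∃ D₀, D₀ = A ⊓ V := ⟨_, rfl⟩
  have hVnorm : ∀ Y : Subgroup G, Y ≤ Subgroup.normalizer (V : Set G) := fun Y => by
    rw [Subgroup.normalizer_eq_top_iff.mpr hVn]
    exact le_top
  have hW₀norm : ∀ Y : Subgroup G, Y ≤ Subgroup.normalizer (W₀ : Set G) := fun Y => by
    rw [Subgroup.normalizer_eq_top_iff.mpr hW₀n]
    exact le_top
  -- first inequality
  have hi : Nat.card V * Nat.card A₁ ≤ Nat.card A * Nat.card D₀ := by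
    have hA₁A : A₁ ≤ A := by rw [hA₁]; exact inf_le_left
    have hA₁C : ∀ a ∈ A₁, ∀ v ∈ V, v * a = a * v := by
      intro a ha v hv
      rw [hA₁] at ha
      exact Subgroup.mem_centralizer_iff.mp ha.2 v hv
    have hcomm : IsMulCommutative (V ⊔ A₁ : Subgroup G) :=
      isMulCommutative_sup hVab (fun a ha b hb => hAab a (hA₁A ha) b (hA₁A hb)) (fun v hv a ha => hA₁C a ha v hv)
    have h1 : Nat.card (V ⊔ A₁ : Subgroup G) ≤ Nat.card A :=
      hA.2.2 _ (sup_le hVP (hA₁A.trans hAP)) (fun a ha b hb => mul_comm_of_isMulCommutative hcomm ha hb)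
    have h2 := card_sup_mul_inf (hVnorm A₁)
    have h3 : V ⊓ A₁ = D₀ := by
      ext x
      rw [hA₁, hD₀]
      constructor
      · rintro ⟨h4, h5⟩
        exact ⟨h5.1, h4⟩
      · rintro ⟨h4, h5⟩
        refine ⟨h5, h4, ?_⟩
        exact Subgroup.mem_centralizer_iff.mpr fun v hv => hVab v hv x h5
    rw [h3] at h2
    rw [← h2]
    exact Nat.mul_le_mul_right _ h1
  -- second
  have hii : Nat.card A = Nat.card (A.map ρ) * Nat.card A₁ := by
    have h1 := (ρ.comp A.subtype).ker.card_mul_index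
    rw [Subgroup.index_ker] at h1
    have h2 : (ρ.comp A.subtype).range = A.map ρ := by
      ext x
      constructor
      · rintro ⟨a, rfl⟩
        exact ⟨a, a.2, rfl⟩
      · rintro ⟨a, ha, rfl⟩
        exact ⟨⟨a, ha⟩, rfl⟩
    rw [h2] at h1
    have h3 : (ρ.comp A.subtype).ker = A₁.subgroupOf A := by
      ext a
      rw [MonoidHom.mem_ker, Subgroup.mem_subgroupOf, hA₁]
      constructor
      · intro h
        exact ⟨a.2, hCW ((hρ1 _).mp h)⟩
      · rintro ⟨-, h⟩
        exact (hρ1 _).mpr (fun w hw => Subgroup.mem_centralizer_iff.mp h w (hW₀V hw))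
    rw [h3, Nat.card_congr (Subgroup.subgroupOfEquivOfLe (by rw [hA₁]; exact inf_le_left)).toEquiv] at h1
    rw [← h1, mul_comm]
  -- third
  have hiii : Nat.card W₀ * Nat.card D₀ ≤ Nat.card V * Nat.card (fixSub (A.map ρ)) := by
    have h1 := card_sup_mul_inf (X := W₀) (Y := D₀) (hW₀norm D₀)
    have hDV : D₀ ≤ V := by rw [hD₀]; exact inf_le_right
    have h2 : W₀ ⊔ D₀ ≤ V := sup_le hW₀V hDV
    have h3 : Nat.card (W₀ ⊔ D₀ : Subgroup G) ≤ Nat.card V := Subgroup.card_le_of_le h2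
    have h4 : Nat.card (W₀ ⊓ D₀ : Subgroup G) ≤ Nat.card (fixSub (A.map ρ)) := by
      refine Nat.card_le_card_of_injective (fun x : ↥(W₀ ⊓ D₀) => (⟨⟨x.1, x.2.1⟩, ?_⟩ : fixSub (A.map ρ))) ?_
      · rintro _ ⟨a, ha, rfl⟩
        apply Subtype.ext
        rw [hρ]
        have hD₀A : D₀ ≤ A := by rw [hD₀]; exact inf_le_left
        have hxA : (x : G) ∈ A := hD₀A x.2.2
        show a * (x : G) * a⁻¹ = x
        rw [hAab a ha _ hxA]
        group
      · intro x y h
        apply Subtype.ext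
        have h5 := congrArg (fun z : fixSub (A.map ρ) => ((z : W₀) : G)) h
        exact h5
    rw [← h1]
    exact Nat.mul_le_mul h3 h4
  -- conclusion
  have hn1 : Nat.card (A.map ρ) ≤ 1 := by
    have hfpos : 0 < Nat.card (fixSub (A.map ρ)) := Nat.card_pos
    have ha₁pos : 0 < Nat.card A₁ := Nat.card_pos
    have hdpos : 0 < Nat.card D₀ := Nat.card_pos
    obtain ⟨n, hn⟩ : ∃ n, n = Nat.card (A.map ρ) := ⟨_, rfl⟩
    rw [← hn] at hbound hii ⊢
    have h1 : n ^ 2 * Nat.card (fixSub (A.map ρ)) * Nat.card D₀ ≤ Nat.card V * Nat.card (fixSub (A.map ρ)) :=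
      (Nat.mul_le_mul_right _ hbound).trans hiii
    have h2 : n ^ 2 * Nat.card D₀ ≤ Nat.card V := by
      refine Nat.le_of_mul_le_mul_right ?_ hfpos
      calc n ^ 2 * Nat.card D₀ * Nat.card (fixSub (A.map ρ)) = n ^ 2 * Nat.card (fixSub (A.map ρ)) * Nat.card D₀ := by ring
        _ ≤ _ := h1
    have h3 : n ^ 2 * Nat.card D₀ * Nat.card A₁ ≤ n * Nat.card A₁ * Nat.card D₀ := by
      rw [← hii]
      exact (Nat.mul_le_mul_right _ h2).trans hi
    have h4 : n ^ 2 ≤ n := by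
      have hpos : 0 < Nat.card D₀ * Nat.card A₁ := Nat.mul_pos hdpos ha₁pos
      refine Nat.le_of_mul_le_mul_right ?_ hpos
      calc n ^ 2 * (Nat.card D₀ * Nat.card A₁) = n ^ 2 * Nat.card D₀ * Nat.card A₁ := by ring
        _ ≤ n * Nat.card A₁ * Nat.card D₀ := h3
        _ = n * (Nat.card D₀ * Nat.card A₁) := by ring
    nlinarith
  intro a ha
  apply hCW
  rw [← hρ1]
  have h1 : Subsingleton (A.map ρ) := Finite.card_le_one_iff_subsingleton.mp hn1
  have h2 := h1.elim ⟨ρ a, a, ha, rfl⟩ 1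
  exact congrArg Subtype.val h2

/-- In a minimal situation, every abelian subgroup of largest order of the Sylow subgroup centralizes the closure of
its centre. -/
theorem all_centralize (P : Sylow p G) (hquot : FrobCond p (G ⧸ Cfsg.pCore p G))
    (hcQ : Subgroup.centralizer (Cfsg.pCore p G : Set G) ≤ Cfsg.pCore p G)
    (hmin : ∀ G₁ : Subgroup G, G₁ ≠ ⊤ → (P : Subgroup G) ≤ G₁ → FC p G₁) (hnot : ¬ FrobCond p G)
    (hs4 : p ≠ 2 ∨ ¬ Involves (Equiv.Perm (Fin 4)) G) :
    ∀ A ∈ (abFam G).mx (P : Subgroup G), A ≤ Subgroup.centralizer (zClosure (P : Subgroup G) : Set G) := by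
  classical
  intro A₀ hA₀
  by_contra hc₀
  have hQn : (Cfsg.pCore p G).Normal := H01.pCore_normal p
  have hQP : Cfsg.pCore p G ≤ (P : Subgroup G) := H01.pCore_le_sylow p P
  have hQp : IsPGroup p (Cfsg.pCore p G) := H01.pCore_isPGroup p
  obtain ⟨X, hXn, hQX, hXQ, ⟨m, hm, hXm⟩, hXP, ⟨k, hXidx⟩, hirr⟩ := struct_of_frob P rfl hquot hcQ hmin hnot
  obtain ⟨V, hV⟩ : ∃ V, V = zClosure (P : Subgroup G) := ⟨_, rfl⟩
  rw [← hV] at hc₀
  have hVn : V.Normal := hV ▸ zClosure_normal _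
  have hZQ : ((P : Subgroup G) ⊓ Subgroup.centralizer ((P : Subgroup G) : Set G) : Subgroup G) ≤ Cfsg.pCore p G := by
    rintro z ⟨-, hz⟩
    apply hcQ
    rw [Subgroup.mem_centralizer_iff]
    exact fun q hq => Subgroup.mem_centralizer_iff.mp hz q (hQP hq)
  have hZC : ((P : Subgroup G) ⊓ Subgroup.centralizer ((P : Subgroup G) : Set G) : Subgroup G) ≤ Subgroup.centralizer (Cfsg.pCore p G : Set G) := by
    rintro z ⟨-, hz⟩
    rw [Subgroup.mem_centralizer_iff]
    exact fun q hq => Subgroup.mem_centralizer_iff.mp hz q (hQP hq)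
  have hVQ : V ≤ Cfsg.pCore p G := by
    rw [hV]
    exact Subgroup.normalClosure_le_normal hZQ
  have hVC : V ≤ Subgroup.centralizer (Cfsg.pCore p G : Set G) := by
    rw [hV]
    haveI := centralizer_normal hQn
    exact Subgroup.normalClosure_le_normal hZC
  have hVab : ∀ a ∈ V, ∀ b ∈ V, a * b = b * a := fun a ha b hb =>
    (Subgroup.mem_centralizer_iff.mp (hVC hb) a (hVQ ha))
  have hVP : V ≤ (P : Subgroup G) := hVQ.trans hQP
  have hQC : Cfsg.pCore p G ≤ Subgroup.centralizer (V : Set G) := by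
    intro q hq
    rw [Subgroup.mem_centralizer_iff]
    intro v hv
    exact (Subgroup.mem_centralizer_iff.mp (hVC hv) q hq).symm
  obtain ⟨A, hA, hAc, hAN⟩ := exists_offender (p := p) P.isPGroup' hVP (fun t _ v hv => hVn.conj_mem v hv t) hVab hA₀ hc₀
  apply hAc
  rcases eq_or_ne p 2 with hp2 | hp2
  · have h1 := offender_two hp2 P (A := A) (X := X) (Q := Cfsg.pCore p G) (hV ▸ hVP) (hV ▸ hVab) hXn hXP hXQ hm hXm (hV ▸ hQC) hA (hV ▸ hAN) (hs4.resolve_left (not_not.mpr hp2))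
    exact hV ▸ h1
  · -- `p` odd
    have hst : NormalStable p (P : Subgroup G) := by
      exact H14.normalStable_of_struct P hp2 hXn hQX hXQ hm hXm hXP ⟨k, hXidx⟩ (fun X₁ hX₁n h1 h2 =>
        hirr X₁ h1 h2 (by
          rw [NN, Subgroup.normalizer_eq_top_iff.mpr hX₁n]
          exact le_top))
    obtain ⟨T₁, hT₁n, hCT₁, ⟨n, hn⟩, hT₁⟩ := hst V (hQp.to_le hVQ) hVn
    have hAab : ∀ a ∈ A, ∀ b ∈ A, a * b = b * a := hA.2.1
    have hT₁C : T₁ ≤ Subgroup.centralizer (V : Set G) := by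
      rw [hV]
      refine lc_lemma P hT₁n fun x hx => ⟨n, ?_⟩
      rw [← hV]
      haveI := centralizer_normal hVn
      haveI : ((Subgroup.centralizer (V : Set G)).subgroupOf T₁).Normal := Subgroup.normal_subgroupOf
      have h1 := Subgroup.pow_index_mem ((Subgroup.centralizer (V : Set G)).subgroupOf T₁) (⟨x, hx⟩ : T₁)
      have h2 : ((Subgroup.centralizer (V : Set G)).subgroupOf T₁).index = p ^ n := hn
      rw [h2] at h1
      exact Subgroup.mem_subgroupOf.mp h1
    intro a ha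
    apply hT₁C
    apply hT₁ a (hA.1 ha)
    have hzp : Subgroup.zpowers a ≤ A := Subgroup.zpowers_le.mpr ha
    have h1 : ⁅V, Subgroup.zpowers a⁆ ≤ A := by
      rw [Subgroup.commutator_le]
      intro v hv g hg
      rw [commutatorElement_def]
      exact A.mul_mem (hAN v hv g (hzp hg)) (A.inv_mem (hzp hg))
    rw [eq_bot_iff, Subgroup.commutator_le]
    intro u hu g hg
    rw [Subgroup.mem_bot, commutatorElement_eq_one_iff_mul_comm]
    exact hAab _ (h1 hu) _ (hzp hg)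

/-- The Frattini step: all abelian subgroups of largest order centralize the closure. -/
theorem frob_of_all_centralize (P : Sylow p G)
    (hall : ∀ A ∈ (abFam G).mx (P : Subgroup G), A ≤ Subgroup.centralizer (zClosure (P : Subgroup G) : Set G))
    (hZ : FC p (Subgroup.centralizer (((P : Subgroup G) ⊓ Subgroup.centralizer ((P : Subgroup G) : Set G) : Subgroup G) : Set G)))
    (hJ : FC p (Subgroup.normalizer ((abFam G).jj (P : Subgroup G) : Set G))) : FrobCond p G := by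
  classical
  have hp : p.Prime := Fact.out
  obtain ⟨C, hC⟩ : ∃ C, C = Subgroup.centralizer (zClosure (P : Subgroup G) : Set G) := ⟨_, rfl⟩
  haveI hCn : C.Normal := hC ▸ centralizer_normal (zClosure_normal _)
  have hCZ : C ≤ Subgroup.centralizer (((P : Subgroup G) ⊓ Subgroup.centralizer ((P : Subgroup G) : Set G) : Subgroup G) : Set G) := by
    rw [hC]
    exact Subgroup.centralizer_le (center_le_zClosure _)
  have hCfc : FC p C := hZ.mono hCZ
  rw [← hC] at hall
  -- the normalizer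
  obtain ⟨N, hN⟩ : ∃ N, N = Subgroup.normalizer ((abFam G).jj (P : Subgroup G) : Set G) := ⟨_, rfl⟩
  rw [← hN] at hJ
  have hPN : (P : Subgroup G) ≤ N := by
    intro t ht
    rw [hN]
    refine H09.mem_normalizer_of_conj_le fun x hx => ?_
    exact ZJFam.jj_conj (Subgroup.le_normalizer ht) hx
  have hconj : ∀ g ∈ Subgroup.normalizer (((P : Subgroup G) ⊓ C : Subgroup G) : Set G), ∀ x ∈ (abFam G).jj (P : Subgroup G),
      g * x * g⁻¹ ∈ (abFam G).jj (P : Subgroup G) := by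
    intro g hg x hx
    have hle : (abFam G).jj (P : Subgroup G) ≤ ((abFam G).jj (P : Subgroup G)).comap (MulAut.conj g).toMonoidHom := by
      refine sSup_le fun A hA a ha => ?_
      have hA' : A.map (MulAut.conj g).toMonoidHom ∈ (abFam G).mx (P : Subgroup G) := by
        refine ⟨?_, (abFam G).F_conj A g hA.2.1, fun B hB hFB => ?_⟩
        · rintro _ ⟨a, ha, rfl⟩
          have h1 : a ∈ (P : Subgroup G) ⊓ C := ⟨hA.1 ha, hall A hA ha⟩
          exact ((Subgroup.mem_normalizer_iff.mp hg a).mp h1).1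
        · have e : Nat.card (A.map (MulAut.conj g).toMonoidHom) = Nat.card A :=
            (Nat.card_congr (Subgroup.equivMapOfInjective A _ (MulAut.conj g).injective).toEquiv).symm
          rw [e]
          exact hA.2.2 B hB hFB
      exact ZJFam.le_jj hA' ⟨a, ha, rfl⟩
    exact hle hx
  have hfr : Subgroup.normalizer (((P : Subgroup G) ⊓ C : Subgroup G) : Set G) ≤ N := by
    intro g hg
    rw [hN]
    exact H09.mem_normalizer_of_conj_le (hconj g hg)
  have hsup : N ⊔ C = ⊤ := by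
    rw [eq_top_iff, ← H14.frattini_inf P C]
    exact sup_le_sup_right hfr C
  -- the normal complement of `C`
  obtain ⟨K₀, hK₀n, hK₀c, k, hk⟩ := npc_iff.mp (hasNormalPComplement_of_frobCond (frobCond_of_FC hCfc))
  have hmem : ∀ c : C, (orderOf c).Coprime p → c ∈ K₀ := by
    intro c hco
    apply mem_of_pow_mem_coprime (m := p ^ k) _ (Nat.Coprime.pow_left k hco.symm)
    rw [← hk]
    exact Subgroup.pow_index_mem K₀ c
  have hNo : ∀ n : C, n ∈ K₀ → (orderOf n).Coprime p := by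
    intro n hn
    have h1 : orderOf n = orderOf (⟨n, hn⟩ : K₀) := (Subgroup.orderOf_mk n hn).symm
    rw [h1]
    exact Nat.Coprime.coprime_dvd_left (orderOf_dvd_natCard _) hK₀c
  haveI hKn : (K₀.map C.subtype).Normal := by
    refine ⟨fun x hx g => ?_⟩
    obtain ⟨n, hn, rfl⟩ := hx
    have h1 : g * (n : G) * g⁻¹ ∈ C := hCn.conj_mem _ n.2 g
    refine ⟨⟨_, h1⟩, ?_, rfl⟩
    apply hmem
    rw [Subgroup.orderOf_mk, H14.orderOf_conj_eq, Subgroup.orderOf_coe]
    exact hNo n hn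
  have hKcard : (Nat.card (K₀.map C.subtype)).Coprime p := by
    have hcard : Nat.card (K₀.map C.subtype) = Nat.card K₀ :=
      (Nat.card_congr (Subgroup.equivMapOfInjective K₀ C.subtype C.subtype_injective).toEquiv).symm
    rw [hcard]
    exact hK₀c
  -- `C = K₀ (P ∩ C)`
  have hCsup : K₀ ⊔ (H18.sylowOfNormal P C : Subgroup C) = ⊤ := by
    have h1 : (K₀ ⊔ (H18.sylowOfNormal P C : Subgroup C)).index ∣ p ^ k := by
      rw [← hk]
      exact Subgroup.index_dvd_of_le le_sup_left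
    have h2 : (K₀ ⊔ (H18.sylowOfNormal P C : Subgroup C)).index ∣ (H18.sylowOfNormal P C : Subgroup C).index :=
      Subgroup.index_dvd_of_le le_sup_right
    obtain ⟨j, -, hj⟩ := (Nat.dvd_prime_pow hp).mp h1
    rcases j with _ | j
    · rw [pow_zero] at hj
      exact Subgroup.index_eq_one.mp hj
    · exfalso
      apply (H18.sylowOfNormal P C).not_dvd_index
      refine dvd_trans ?_ h2
      rw [hj]
      exact dvd_pow_self p (by omega)
  -- the quotient
  obtain ⟨φ, hφ⟩ : ∃ φ : N →* G ⧸ K₀.map C.subtype, φ = (QuotientGroup.mk' (K₀.map C.subtype)).comp N.subtype := ⟨_, rfl⟩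
  have hφs : Function.Surjective φ := by
    intro y
    obtain ⟨g, rfl⟩ := QuotientGroup.mk'_surjective _ y
    have hg : g ∈ ((N ⊔ C : Subgroup G) : Set G) := by
      rw [hsup]
      trivial
    rw [Subgroup.mul_normal] at hg
    obtain ⟨n, hn, c, hc, rfl⟩ := Set.mem_mul.mp hg
    have hcC : (⟨c, hc⟩ : C) ∈ ((K₀ ⊔ (H18.sylowOfNormal P C : Subgroup C) : Subgroup C) : Set C) := by
      rw [hCsup]
      trivial
    rw [Subgroup.normal_mul] at hcC
    obtain ⟨k₀, hk₀, t, ht, e⟩ := Set.mem_mul.mp hcC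
    have e' : (k₀ : G) * t = c := congrArg Subtype.val e
    have htP : (t : G) ∈ (P : Subgroup G) := by
      have h1 := Subgroup.mem_subgroupOf.mp ht
      exact h1
    refine ⟨⟨n, hn⟩ * ⟨t, hPN htP⟩, ?_⟩
    rw [hφ]
    show QuotientGroup.mk' (K₀.map C.subtype) (n * t) = QuotientGroup.mk' (K₀.map C.subtype) (n * c)
    rw [QuotientGroup.mk'_apply, QuotientGroup.mk'_apply, QuotientGroup.eq]
    have h3 : (n * (t : G))⁻¹ * (n * c) = (t : G)⁻¹ * (k₀ : G) * t := by
      rw [← e']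
      group
    rw [h3]
    have h4 := hKn.conj_mem _ (⟨k₀, hk₀, rfl⟩ : (k₀ : G) ∈ K₀.map C.subtype) (t : G)⁻¹
    simpa using h4
  have hfq : FrobCond p (G ⧸ K₀.map C.subtype) := frobCond_of_surjective φ hφs (frobCond_of_FC hJ)
  exact frobCond_lift_pprime hKcard hfq

/-- **Thompson's normal `p`-complement theorem, local form.** -/
theorem frob_of_local (P : Sylow p G) (hquot : FrobCond p (G ⧸ Cfsg.pCore p G))
    (hcQ : Subgroup.centralizer (Cfsg.pCore p G : Set G) ≤ Cfsg.pCore p G)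
    (hmin : ∀ G₁ : Subgroup G, G₁ ≠ ⊤ → (P : Subgroup G) ≤ G₁ → FC p G₁)
    (hs4 : p ≠ 2 ∨ ¬ Involves (Equiv.Perm (Fin 4)) G)
    (hZ : FC p (Subgroup.centralizer (((P : Subgroup G) ⊓ Subgroup.centralizer ((P : Subgroup G) : Set G) : Subgroup G) : Set G)))
    (hJ : FC p (Subgroup.normalizer ((abFam G).jj (P : Subgroup G) : Set G))) : FrobCond p G := by
  by_contra hnot
  exact hnot (frob_of_all_centralize P (all_centralize P hquot hcQ hmin hnot hs4) hZ hJ)

end GpTh

end Cfsg.Agent.H25
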