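import Mathlib
import Cfsg.Agent.Lib.H25.Basic

set_option autoImplicit false

/-! Upper central series of `p`-groups of maximal class. -/

namespace Cfsg.Agent.H25

variable {G : Type*} [Group G] [Finite G] {p : ℕ} [Fact p.Prime]

/-- The quotient by the penultimate term of the upper central series is not cyclic of prime order. -/
theorem index_penultimate_ne {k : ℕ} (hk : Subgroup.upperCentralSeries G (k + 1) ≠ ⊤)
    (hp : (Subgroup.upperCentralSeries G (k + 1)).index = p) : False := by
  apply hk
  set M := Subgroup.upperCentralSeries G (k + 1) with hM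
  set N := Subgroup.upperCentralSeries G k with hN
  have hNM : N ≤ M := by
    intro x hx
    rw [hM, Subgroup.mem_upperCentralSeries_succ_iff]
    intro y
    have h1 : x * y * x⁻¹ * y⁻¹ = x * (y * x⁻¹ * y⁻¹) := by group
    rw [commutatorElement_def, h1]
    exact N.mul_mem hx (Subgroup.Normal.conj_mem inferInstance _ (N.inv_mem hx) y)
  haveI : IsCyclic (G ⧸ M) := by
    apply isCyclic_of_prime_card (p := p)
    rw [← Subgroup.index_eq_card, hp]
  let f : G ⧸ N →* G ⧸ M := QuotientGroup.map N M (MonoidHom.id G) hNM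
  have hker : f.ker ≤ Subgroup.center (G ⧸ N) := by
    intro y hy
    obtain ⟨a, rfl⟩ := QuotientGroup.mk_surjective y
    rw [MonoidHom.mem_ker] at hy
    have ha : a ∈ M := (QuotientGroup.eq_one_iff a).mp hy
    rw [Subgroup.mem_center_iff]
    intro b
    obtain ⟨b, rfl⟩ := QuotientGroup.mk_surjective b
    have h1 : a * b * a⁻¹ * b⁻¹ ∈ N := (Subgroup.mem_upperCentralSeries_succ_iff).mp ha b
    have h2 : ((a * b : G) : G ⧸ N) = ((b * a : G) : G ⧸ N) := by
      rw [QuotientGroup.eq]
      have h3 : (a * b)⁻¹ * (b * a) = (a * b)⁻¹ * (a * b * a⁻¹ * b⁻¹)⁻¹ * (a * b)⁻¹⁻¹ := by group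
      rw [h3]
      exact Subgroup.Normal.conj_mem (inferInstance : N.Normal) _ (N.inv_mem h1) _
    show ((b : G ⧸ N) * (a : G ⧸ N)) = (a : G ⧸ N) * (b : G ⧸ N)
    exact h2.symm
  have hcomm := (f.isMulCommutative_of_isCyclic_of_ker_le_center hker).is_comm.comm
  rw [eq_top_iff]
  intro a _
  rw [hM, Subgroup.mem_upperCentralSeries_succ_iff]
  intro y
  have h1 := hcomm (a : G ⧸ N) (y : G ⧸ N)
  have h2 : ((a * y : G) : G ⧸ N) = ((y * a : G) : G ⧸ N) := h1
  rw [QuotientGroup.eq] at h2
  have h3 : a * y * a⁻¹ * y⁻¹ = (y * a) * ((a * y)⁻¹ * (y * a))⁻¹ * (y * a)⁻¹ := by group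
  rw [commutatorElement_def, h3]
  exact Subgroup.Normal.conj_mem inferInstance _ (N.inv_mem h2) _

/-- The step of the upper central series is strict below the top. -/
theorem ucs_lt_succ {k : ℕ} (hk : Subgroup.upperCentralSeries G k ≠ ⊤) (hnil : Group.IsNilpotent G) :
    Subgroup.upperCentralSeries G k < Subgroup.upperCentralSeries G (k + 1) := by
  refine lt_of_le_of_ne ?_ ?_
  · intro x hx
    rw [Subgroup.mem_upperCentralSeries_succ_iff]
    intro y
    have h1 : x * y * x⁻¹ * y⁻¹ = x * (y * x⁻¹ * y⁻¹) := by group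
    rw [commutatorElement_def, h1]
    exact Subgroup.mul_mem _ hx (Subgroup.Normal.conj_mem inferInstance _ (Subgroup.inv_mem _ hx) y)
  · intro h
    apply hk
    have hall : ∀ j, Subgroup.upperCentralSeries G (k + j) = Subgroup.upperCentralSeries G k := by
      intro j
      induction j with
      | zero => rfl
      | succ j ih =>
        ext x
        rw [← add_assoc, Subgroup.mem_upperCentralSeries_succ_iff, ih]
        have h2 : x ∈ Subgroup.upperCentralSeries G k ↔ x ∈ Subgroup.upperCentralSeries G (k + 1) := by rw [← h]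
        rw [h2, Subgroup.mem_upperCentralSeries_succ_iff]
    have hc := Subgroup.upperCentralSeries_nilpotencyClass (G := G)
    have h3 : Subgroup.upperCentralSeries G (k + Group.nilpotencyClass G) = ⊤ := by
      rw [eq_top_iff, ← hc]
      exact Subgroup.upperCentralSeries_mono G (Nat.le_add_left _ _)
    rw [← hall (Group.nilpotencyClass G), h3]

/-- In a finite `p`-group of maximal class, the terms of the upper central series below the top have the
smallest possible orders. -/
theorem card_upperCentralSeries_of_maxClass (hG : IsPGroup p G) {n : ℕ} (hn : Nat.card G = p ^ n) (h2 : 2 ≤ n)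
    (hmax : (⊤ : Subgroup G).lowerCentralSeries (n - 2) ≠ ⊥) :
    Group.nilpotencyClass G = n - 1 ∧ ∀ k ≤ n - 2, Nat.card (Subgroup.upperCentralSeries G k) = p ^ k := by
  have hnil : Group.IsNilpotent G := hG.isNilpotent
  have hp1 : 1 < p := (Fact.out : p.Prime).one_lt
  set c := Group.nilpotencyClass G with hcdef
  have hc1 : n - 1 ≤ c := by
    by_contra hcon
    apply hmax
    have : c ≤ n - 2 := by omega
    exact Subgroup.lowerCentralSeries_eq_bot_iff_nilpotencyClass_le.mpr this
  have htop : ∀ k, Subgroup.upperCentralSeries G k = ⊤ ↔ c ≤ k := fun k => Subgroup.upperCentralSeries_eq_top_iff_nilpotencyClass_le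
  have hstep : ∀ k, k < c → p * Nat.card (Subgroup.upperCentralSeries G k) ≤ Nat.card (Subgroup.upperCentralSeries G (k + 1)) := by
    intro k hk
    have hne : Subgroup.upperCentralSeries G k ≠ ⊤ := fun h => by
      have := (htop k).mp h
      omega
    have hlt := ucs_lt_succ hne hnil
    have hdvd := Subgroup.card_dvd_of_le hlt.le
    obtain ⟨m, hm⟩ := hdvd
    have hpos : 0 < Nat.card (Subgroup.upperCentralSeries G k) := Nat.card_pos
    have hcard_lt : Nat.card (Subgroup.upperCentralSeries G k) < Nat.card (Subgroup.upperCentralSeries G (k + 1)) := by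
      by_contra hcon
      exact hlt.ne (Subgroup.eq_of_le_of_card_ge hlt.le (not_lt.mp hcon))
    have hm1 : m ≠ 1 := by
      rintro rfl
      omega
    have hm0 : m ≠ 0 := by
      rintro rfl
      rw [mul_zero] at hm
      have : 0 < Nat.card (Subgroup.upperCentralSeries G (k + 1)) := Nat.card_pos
      omega
    have hmp : m ∣ p ^ n := by
      rw [← hn]
      exact (Dvd.intro_left _ hm.symm).trans (Subgroup.card_subgroup_dvd_card _)
    obtain ⟨j, -, rfl⟩ := (Nat.dvd_prime_pow Fact.out).mp hmp
    have hj : j ≠ 0 := by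
      rintro rfl
      exact hm1 (pow_zero p)
    rw [hm, mul_comm]
    apply Nat.mul_le_mul_left
    calc p = p ^ 1 := (pow_one p).symm
      _ ≤ p ^ j := Nat.pow_le_pow_right (by omega) (by omega)
  have hchain : ∀ i k, k + i ≤ c → p ^ i * Nat.card (Subgroup.upperCentralSeries G k) ≤ Nat.card (Subgroup.upperCentralSeries G (k + i)) := by
    intro i
    induction i with
    | zero => intro k _; simp
    | succ i ih =>
      intro k hk
      have h1 := ih k (by omega)
      have h3 := hstep (k + i) (by omega)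
      calc p ^ (i + 1) * Nat.card (Subgroup.upperCentralSeries G k) = p * (p ^ i * Nat.card (Subgroup.upperCentralSeries G k)) := by ring
        _ ≤ p * Nat.card (Subgroup.upperCentralSeries G (k + i)) := Nat.mul_le_mul_left _ h1
        _ ≤ _ := h3
  have hlow : ∀ k, k ≤ c → p ^ k ≤ Nat.card (Subgroup.upperCentralSeries G k) := by
    intro k hk
    have h1 := hchain k 0 (by omega)
    simp only [Subgroup.upperCentralSeries_zero] at h1
    have h3 : Nat.card (⊥ : Subgroup G) = 1 := Subgroup.card_bot
    rw [h3, mul_one, zero_add] at h1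
    exact h1
  have hc0 : 1 ≤ c := by omega
  obtain ⟨c', hc'⟩ : ∃ c', c = c' + 1 := ⟨c - 1, by omega⟩
  have hcard_top : Nat.card (Subgroup.upperCentralSeries G c) = p ^ n := by
    rw [(htop c).mpr le_rfl, Subgroup.card_top, hn]
  -- index of the penultimate term
  have hidx : Nat.card (Subgroup.upperCentralSeries G c') * p ^ 2 ≤ p ^ n := by
    have h1 := Subgroup.card_mul_index (Subgroup.upperCentralSeries G c')
    rw [hn] at h1
    rw [← h1]
    apply Nat.mul_le_mul_left
    set m := (Subgroup.upperCentralSeries G c').index with hm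
    have hmp : m ∣ p ^ n := Dvd.intro_left _ h1
    obtain ⟨j, -, hj⟩ := (Nat.dvd_prime_pow Fact.out).mp hmp
    have hne : Subgroup.upperCentralSeries G c' ≠ ⊤ := fun h => by
      have := (htop c').mp h
      omega
    have hj0 : j ≠ 0 := by
      rintro rfl
      rw [pow_zero] at hj
      exact hne (Subgroup.index_eq_one.mp hj)
    have hj1 : j ≠ 1 := by
      rintro rfl
      rw [pow_one] at hj
      -- `c' = 0` or the cyclic-quotient argument
      rcases c' with _ | c''
      · have h3 := h1
        simp only [Subgroup.upperCentralSeries_zero] at h3 hj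
        have h4 : Nat.card (⊥ : Subgroup G) = 1 := Subgroup.card_bot
        rw [h4, one_mul] at h3
        have h5 : m = p := hj
        rw [h5] at h3
        have h6 : p ^ n = p ^ 1 := by rw [← h3, pow_one]
        have := Nat.pow_right_injective hp1 h6
        omega
      · exact index_penultimate_ne hne hj
    rw [hj]
    exact Nat.pow_le_pow_right (by omega) (by omega)
  have hlowc' := hlow c' (by omega)
  have hcn : c ≤ n - 1 := by
    have h3 : p ^ c' * p ^ 2 ≤ p ^ n := le_trans (Nat.mul_le_mul_right _ hlowc') hidx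
    rw [← pow_add] at h3
    have h4 := (Nat.pow_le_pow_iff_right hp1).mp h3
    omega
  have hceq : c = n - 1 := le_antisymm hcn hc1
  refine ⟨hceq, fun k hk => le_antisymm ?_ (hlow k (by omega))⟩
  -- upper bound
  have hup : Nat.card (Subgroup.upperCentralSeries G c') ≤ p ^ c' := by
    have h3 : Nat.card (Subgroup.upperCentralSeries G c') * p ^ 2 ≤ p ^ c' * p ^ 2 := by
      have h4 : p ^ n = p ^ c' * p ^ 2 := by
        rw [← pow_add]
        congr 1
        omega
      rw [← h4]
      exact hidx
    exact Nat.le_of_mul_le_mul_right h3 (by positivity)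
  have hkc : k ≤ c' := by omega
  obtain ⟨i, rfl⟩ := Nat.exists_eq_add_of_le hkc
  have h5 := hchain i k (by omega)
  have h6 : p ^ i * Nat.card (Subgroup.upperCentralSeries G k) ≤ p ^ i * p ^ k := by
    rw [← pow_add, add_comm i k]
    exact h5.trans hup
  exact Nat.le_of_mul_le_mul_left h6 (by positivity)

section Ambient

variable {Ω : Type*} [Group Ω] {S : Subgroup Ω}

omit [Finite G] [Fact p.Prime] in
theorem conj_mem_map_normal {N : Subgroup ↥S} (hN : N.Normal) {t : Ω} (ht : t ∈ S) {x : Ω} (hx : x ∈ N.map S.subtype) :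
    t * x * t⁻¹ ∈ N.map S.subtype := by
  obtain ⟨y, hy, rfl⟩ := hx
  exact ⟨(⟨t, ht⟩ : ↥S) * y * (⟨t, ht⟩ : ↥S)⁻¹, hN.conj_mem y hy _, rfl⟩

theorem le_normalizer_map_normal (N : Subgroup ↥S) [hN : N.Normal] : S ≤ Subgroup.normalizer ((N.map S.subtype : Subgroup Ω) : Set Ω) := by
  intro s hs
  rw [Subgroup.mem_normalizer_iff]
  intro x
  refine ⟨fun hx => conj_mem_map_normal hN hs hx, fun hx => ?_⟩
  have := conj_mem_map_normal hN (S.inv_mem hs) hx
  simpa [mul_assoc] using this

theorem comm_mem_center_map {x s : Ω} (hx : x ∈ (Subgroup.upperCentralSeries ↥S 2).map S.subtype) (hs : s ∈ S) :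
    s * x * s⁻¹ * x⁻¹ ∈ (Subgroup.center ↥S).map S.subtype := by
  obtain ⟨y, hy, rfl⟩ := hx
  set t : ↥S := ⟨s, hs⟩ with ht
  have h1 := Subgroup.mem_upperCentralSeries_succ_iff.mp hy t⁻¹
  rw [Subgroup.upperCentralSeries_one, commutatorElement_def] at h1
  have h3 := Subgroup.inv_mem _ h1
  have h4 : (y * t⁻¹ * y⁻¹ * t⁻¹⁻¹)⁻¹ = t⁻¹ * y * t * y⁻¹ := by group
  rw [h4] at h3
  have h5 := Subgroup.Normal.conj_mem (inferInstance : (Subgroup.center ↥S).Normal) _ h3 t
  have h6 : t * (t⁻¹ * y * t * y⁻¹) * t⁻¹ = y * t * y⁻¹ * t⁻¹ := by group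
  rw [h6] at h5
  have h7 := Subgroup.inv_mem _ h5
  have h8 : (y * t * y⁻¹ * t⁻¹)⁻¹ = t * y * t⁻¹ * y⁻¹ := by group
  rw [h8] at h7
  exact ⟨_, h7, rfl⟩

end Ambient

end Cfsg.Agent.H25
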