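import Cfsg.Agent.Lib.H25.FusHypQ
import Cfsg.Agent.Lib.H25.FusSmall2
import Cfsg.Agent.Lib.H24.FusNorm
import Cfsg.Agent.Lib.H24.FusSat
set_option autoImplicit false
open Cfsg Cfsg.FusionSystem
namespace Cfsg.Agent.H25

section
variable {Ω : Type*} [Group Ω] {S : Subgroup Ω} {F : FusionSystem S} {p : ℕ} {Z : Subgroup Ω}

/-- Maps of the system fix the elements of a central subgroup. -/
theorem central_fixed (hZ : F.IsCentral Z) {R : Subgroup Ω} {f : Ω → Ω} (hf : Mp F R f) {x : Ω} (hx : x ∈ R)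
    (hxZ : x ∈ Z) : f x = x := by
  obtain ⟨φ, hφ, hv⟩ := hf
  obtain ⟨ψ, hψ, h1, h2⟩ := hZ.2 R φ hφ
  have e1 := h1 ⟨x, hx⟩
  have e2 := h2 ⟨x, hxZ⟩
  have e3 : Subgroup.inclusion (le_sup_left : R ≤ R ⊔ Z) ⟨x, hx⟩ = Subgroup.inclusion (le_sup_right : Z ≤ R ⊔ Z) ⟨x, hxZ⟩ := rfl
  rw [e3, e2] at e1
  rw [← hv ⟨x, hx⟩]
  exact e1.symm

theorem central_commute (hZ : F.IsCentral Z) {x s : Ω} (hx : x ∈ Z) (hs : s ∈ S) : s * x = x * s := by
  have hZS : Z ≤ S := hZ.1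
  have := central_fixed hZ (Mp.conj (F := F) le_rfl hs) (hZS hx) hx
  have h2 : s * x * s⁻¹ = x := this
  rwa [mul_inv_eq_iff_eq_mul] at h2

theorem central_stronglyClosed (hZ : F.IsCentral Z) : F.StronglyClosed Z := by
  refine ⟨hZ.1, fun R hR φ hφ x => ?_⟩
  have := central_fixed hZ (mp_of_mem hφ) x.2 (hR x.2)
  rw [toFun_coe] at this
  rw [this]
  exact hR x.2

variable [Finite S] [Fact p.Prime]

/-- A subgroup of `Z(S)`, all of whose elements are fixed by the system, is central. -/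
theorem isCentral_of_fixed (hS : IsPGroup p S) (hF : F.IsSaturated p) (hZS : Z ≤ S)
    (hc : ∀ z ∈ Z, ∀ s ∈ S, s * z = z * s)
    (hfix : ∀ (R : Subgroup Ω) (f : Ω → Ω), Mp F R f → ∀ x ∈ R, x ∈ Z → f x = x) : F.IsCentral Z := by
  refine ⟨hZS, fun P φ hφ => ?_⟩
  have hφm := mp_of_mem hφ
  have hPS := hφm.le
  have hI := Iso.of_mp hφm
  have hP''S : hφm.img ≤ S := by
    intro y hy
    obtain ⟨x, hx, rfl⟩ := hφm.mem_img.mp hy
    exact hφm.mem hx
  obtain ⟨Q0, χ, hQ0, hχ⟩ := exists_far (F := F) (p := p) hF hP''S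
  have good : ∀ {A : Subgroup Ω} {B : Subgroup Ω} {k : Ω → Ω} (_ : Iso F A B k), A ⊔ Z ≤ Subgroup.closure {g : Ω | g ∈ S ∧ g ∈ Subgroup.normalizer (A : Set Ω) ∧
      ∃ s ∈ S, ∀ x ∈ A, k (g * x * g⁻¹) = s * k x * s⁻¹} := by
    intro A B k hk
    refine sup_le (fun x hx => Subgroup.subset_closure (mem_good_of_mem hk hx)) (fun z hz => ?_)
    refine Subgroup.subset_closure (mem_good_of_centralizes hk (hZS hz) (fun x hx => ?_))
    exact (hc z hz x (hk.mp.le hx)).symm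
  obtain ⟨h1, hh1, hh1v⟩ := recept_ext (K := P ⊔ Z) hQ0.recep (hI.comp hχ) le_sup_left (good (hI.comp hχ))
  obtain ⟨h2, hh2, hh2v⟩ := recept_ext (K := hφm.img ⊔ Z) hQ0.recep hχ le_sup_left (good hχ)
  have hz1 : ∀ z ∈ Z, h1 z = z := fun z hz => hfix _ _ hh1 z (Subgroup.mem_sup_right hz) hz
  have hz2 : ∀ z ∈ Z, h2 z = z := fun z hz => hfix _ _ hh2 z (Subgroup.mem_sup_right hz) hz
  obtain ⟨g2, hg2, hg2a, hg2b⟩ := hh2.inv
  have hfP : ∀ x ∈ P, toFun φ x ∈ hφm.img := fun x hx => hφm.mem_img.mpr ⟨x, hx, rfl⟩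
  have hmaps : ∀ y ∈ P ⊔ Z, h1 y ∈ hh2.img := by
    intro y hy
    rw [Subgroup.sup_eq_closure] at hy
    induction hy using Subgroup.closure_induction with
    | mem y hy =>
      rcases hy with hy | hy
      · refine hh2.mem_img.mpr ⟨toFun φ y, Subgroup.mem_sup_left (hfP y hy), ?_⟩
        rw [hh1v y hy, hh2v _ (hfP y hy)]
        rfl
      · refine hh2.mem_img.mpr ⟨y, Subgroup.mem_sup_right hy, ?_⟩
        rw [hz1 y hy, hz2 y hy]
    | one => rw [hh1.map_one]; exact Subgroup.one_mem _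
    | mul a b ha hb h3 h4 =>
      rw [← Subgroup.sup_eq_closure] at ha hb
      rw [hh1.map_mul ha hb]
      exact Subgroup.mul_mem _ h3 h4
    | inv a ha h3 =>
      rw [← Subgroup.sup_eq_closure] at ha
      rw [hh1.map_inv ha]
      exact Subgroup.inv_mem _ h3
  have hψ : Mp F (P ⊔ Z) (g2 ∘ h1) := hh1.comp hmaps hg2
  obtain ⟨ψ, hψm, hψv⟩ := hψ
  refine ⟨ψ, hψm, fun x => ?_, fun z => ?_⟩
  · have e := hψv (Subgroup.inclusion le_sup_left x)
    rw [e]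
    show g2 (h1 x) = φ x
    rw [hh1v _ x.2]
    show g2 (χ (toFun φ x)) = φ x
    rw [← hh2v _ (hfP x x.2), hg2a _ (Subgroup.mem_sup_left (hfP x x.2)), toFun_coe]
  · have e := hψv (Subgroup.inclusion le_sup_right z)
    rw [e]
    show g2 (h1 z) = z
    rw [hz1 _ z.2]
    have := hg2a _ (Subgroup.mem_sup_right z.2 : (z : Ω) ∈ hφm.img ⊔ Z)
    rwa [hz2 _ z.2] at this

/-- Elements of `Z(S)` that `Aut_F(S)` moves only inside a central subgroup. -/
theorem aut_top_fixed (hS : IsPGroup p S) (hF : F.IsSaturated p) {Z : Subgroup Ω} (hZ : F.IsCentral Z)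
    {α : MulAut S} (hα : α ∈ F.autGroup S) {x : S} (hxc : ∀ s : S, s * x = x * s)
    (hz : ((α x : S) : Ω) * (x : Ω)⁻¹ ∈ Z) : α x = x := by
  classical
  have hp : p.Prime := Fact.out
  have hSn : F.IsFullyNormalized S := by
    refine ⟨le_rfl, fun Q hQ => ?_⟩
    obtain ⟨φ, hφ, hφr⟩ := hQ
    have hle : Q ≤ S := by
      rw [← hφr]
      rintro _ ⟨y, rfl⟩
      exact (F.le_of_mem hφ).2 y
    have h1 : normalizerIn S Q ≤ normalizerIn S S := by
      refine le_inf inf_le_left ?_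
      intro g hg
      exact Subgroup.le_normalizer hg.1
    haveI : Finite (normalizerIn S S) := Cfsg.Agent.H24.finite_of_le inf_le_left
    exact Nat.card_le_card_of_injective (Subgroup.inclusion h1) (Subgroup.inclusion_injective h1)
  have hFA : F.IsFullyAutomized p S := (Cfsg.Agent.H24.fullyNormalized_props hS hF hSn).1
  obtain ⟨-, R, hR⟩ := hFA
  set N : Subgroup (F.autGroup S) := (autInducedBy S S).subgroupOf (F.autGroup S) with hN
  haveI hNn : N.Normal := by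
    constructor
    intro a ha b
    rw [hN, Subgroup.mem_subgroupOf] at ha ⊢
    obtain ⟨g, hg, hgv⟩ := (Cfsg.Agent.H24.mem_autInducedBy_iff S S _).mp ha
    refine (Cfsg.Agent.H24.mem_autInducedBy_iff S S _).mpr ⟨((b : MulAut S) ⟨g, hg⟩ : S), ((b : MulAut S) ⟨g, hg⟩).2, fun y => ?_⟩
    have e1 : (((b * a * b⁻¹ : (F.autGroup S)) : MulAut S) y) = (b : MulAut S) ((a : MulAut S) ((b : MulAut S)⁻¹ y)) := rfl
    rw [e1]
    have e2 : (a : MulAut S) ((b : MulAut S)⁻¹ y) = ⟨g, hg⟩ * ((b : MulAut S)⁻¹ y) * ⟨g, hg⟩⁻¹ :=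
      Subtype.ext (hgv _)
    rw [e2, map_mul, map_mul, map_inv, MulAut.apply_inv_self]
    rfl
  have hidx : Nat.Coprime N.index p := by
    have h1 : ¬ p ∣ (R : Subgroup (F.autGroup S)).index := R.not_dvd_index
    rw [hR] at h1
    exact ((Nat.Prime.coprime_iff_not_dvd hp).mpr h1).symm
  set a : (F.autGroup S) := ⟨α, hα⟩ with ha
  have hmem := Subgroup.pow_index_mem N a
  rw [hN, Subgroup.mem_subgroupOf] at hmem
  set t := N.index with ht
  obtain ⟨g, hg, hgv⟩ := (Cfsg.Agent.H24.mem_autInducedBy_iff S S _).mp hmem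
  have hfixt : ((((a ^ t : (F.autGroup S)) : MulAut S) x : S) : Ω) = x := by
    rw [hgv x]
    have := hxc ⟨g, hg⟩
    have h2 : g * (x : Ω) = x * g := congrArg Subtype.val this
    rw [h2, mul_inv_cancel_right]
  obtain ⟨z, hzdef⟩ : ∃ z : Ω, z = ((α x : S) : Ω) * (x : Ω)⁻¹ := ⟨_, rfl⟩
  rw [← hzdef] at hz
  have hαm : Mp F S (toFun (S.subtype.comp α.toMonoidHom)) := Mp.of_mem_autGroup le_rfl hα
  have hzS : z ∈ S := hZ.1 hz
  have hαz : ((α ⟨z, hzS⟩ : S) : Ω) = z := by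
    have := central_fixed hZ hαm hzS hz
    rw [toFun_aut α ⟨z, hzS⟩] at this
    exact this
  have hpow : ∀ n : ℕ, (((α ^ n) x : S) : Ω) = z ^ n * x := by
    intro n
    induction n with
    | zero => simp
    | succ n ih =>
      rw [pow_succ']
      show ((α ((α ^ n) x) : S) : Ω) = _
      have e : (α ^ n) x = ⟨z, hzS⟩ ^ n * x := Subtype.ext (by rw [ih]; simp)
      rw [e, map_mul, map_pow]
      have e2 : α ⟨z, hzS⟩ = ⟨z, hzS⟩ := Subtype.ext hαz
      rw [e2]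
      have e3 : ((α x : S) : Ω) = z * x := by rw [hzdef]; group
      rw [Subgroup.coe_mul, SubgroupClass.coe_pow]
      show z ^ n * ((α x : S) : Ω) = _
      rw [e3, pow_succ, mul_assoc]
  have h3 : z ^ t * x = x := by
    rw [← hpow t]
    exact hfixt
  have h4 : z ^ t = 1 := by
    have := mul_right_cancel (h3.trans (one_mul _).symm)
    exact this
  have h5 : z = 1 := by
    obtain ⟨k, hk⟩ := hS ⟨z, hzS⟩
    have h6 : z ^ (p ^ k) = 1 := congrArg Subtype.val hk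
    have h7 : orderOf z ∣ t := orderOf_dvd_of_pow_eq_one h4
    have h8 : orderOf z ∣ p ^ k := orderOf_dvd_of_pow_eq_one h6
    have h9 : Nat.Coprime t (p ^ k) := Nat.Coprime.pow_right k hidx
    have h10 := Nat.eq_one_of_dvd_coprimes h9 h7 h8
    exact orderOf_eq_one_iff.mp h10
  apply Subtype.ext
  have : ((α x : S) : Ω) * (x : Ω)⁻¹ = 1 := by rw [← hzdef]; exact h5
  rwa [mul_inv_eq_one] at this

theorem center_factor_trivial (hS : IsPGroup p S) (hF : F.IsSaturated p) (hfoc : S ≤ F.focalSubgroup)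
    {Ω' : Type*} [Group Ω'] {S' : Subgroup Ω'} (θ : S →* Ω') (E : FusionSystem S') (hE : F.IsFactorSystem F.center θ E) :
    E.center = ⊥ := by
  classical
  have hZc : F.IsCentral F.center := Cfsg.Agent.H24.isCentral_center
  have hZsc := central_stronglyClosed hZc
  have hmor := Cfsg.Agent.H24.factor_isSurjectiveMorphism hS hF hZsc _ E hE
  have hker : ∀ s : S, θ s = 1 ↔ (s : Ω) ∈ F.center := hE.2.1
  have hθeq : ∀ s t : S, θ s = θ t → ((s : Ω))⁻¹ * t ∈ F.center := by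
    intro s t h
    have h1 : θ (s⁻¹ * t) = 1 := by rw [map_mul, map_inv, h, inv_mul_cancel]
    exact (hker _).mp h1
  have hzc : ∀ {z s : Ω}, z ∈ F.center → s ∈ S → s * z = z * s := fun hz hs => central_commute hZc hz hs
  refine sSup_eq_bot.mpr ?_
  intro Q' hQ'
  have hQ'c : E.IsCentral Q' := hQ'
  have hQ'S : Q' ≤ S' := hQ'c.1
  -- the core computation
  have core : ∀ (R : Subgroup Ω) (φ : R →* Ω), φ ∈ F.Hom R → ∃ (K : Subgroup Ω) (ψ : Ω → Ω), Mp F K ψ ∧ R ≤ K ∧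
      (∀ x : S, θ x ∈ Q' → (x : Ω) ∈ K) ∧ (∀ q : R, (φ q)⁻¹ * ψ q ∈ F.center) ∧
      (∀ x : S, θ x ∈ Q' → (x : Ω)⁻¹ * ψ x ∈ F.center) := by
    intro R φ hφ
    obtain ⟨φ', hφ', hP, hv, hP', hind⟩ := hmor.1.2 R φ hφ
    obtain ⟨ψ', hψ', h1, h2⟩ := hQ'c.2 _ φ' hφ'
    have hle : imageAlong θ R ⊔ Q' ≤ S' := sup_le (by rintro _ ⟨s, -, rfl⟩; exact hmor.1.1 s) hQ'S
    obtain ⟨ψ, hψ, hK, hvψ, hK', hindψ⟩ := hmor.2.2 _ hle ψ' hψ'
    have hRK : R ≤ preimageAlong θ (imageAlong θ R ⊔ Q') := fun y hy =>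
      Cfsg.Agent.H24.mem_preimageAlong.2 ⟨hP hy, Subgroup.mem_sup_left ⟨⟨y, hP hy⟩, hy, rfl⟩⟩
    have hxK : ∀ x : S, θ x ∈ Q' → (x : Ω) ∈ preimageAlong θ (imageAlong θ R ⊔ Q') := fun x hx =>
      Cfsg.Agent.H24.mem_preimageAlong.2 ⟨x.2, Subgroup.mem_sup_right hx⟩
    refine ⟨_, toFun ψ, mp_of_mem hψ, hRK, hxK, fun q => ?_, fun x hx => ?_⟩
    · have h3 := hindψ ⟨q, hRK q.2⟩
      have h4 := h1 ⟨θ ⟨q, hP q.2⟩, hP' q⟩
      have h5 := hind q
      have h6 : θ ⟨φ q, hv q⟩ = θ ⟨ψ ⟨q, hRK q.2⟩, hvψ _⟩ := by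
        rw [← h3, ← h5, ← h4]
        rfl
      have := hθeq _ _ h6
      rwa [toFun_coe ψ ⟨q, hRK q.2⟩]
    · have h3 := hindψ ⟨x, hxK x hx⟩
      have h4 := h2 ⟨θ x, hx⟩
      have h6 : θ x = θ ⟨ψ ⟨x, hxK x hx⟩, hvψ _⟩ := by
        rw [← h3]
        exact h4.symm
      have := hθeq _ _ h6
      rwa [toFun_coe ψ ⟨x, hxK x hx⟩]
  -- displacement mod the centre
  have hdisp : ∀ (R : Subgroup Ω) (φ : R →* Ω), φ ∈ F.Hom R → ∀ (y : R) (hy : (y : Ω) ∈ S), θ ⟨y, hy⟩ ∈ Q' →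
      (y : Ω)⁻¹ * φ y ∈ F.center := by
    intro R φ hφ y hy hyQ
    obtain ⟨K, ψ, -, -, -, h1, h2⟩ := core R φ hφ
    have h3 := h1 y
    have h4 := h2 ⟨y, hy⟩ hyQ
    have := Subgroup.mul_mem _ h4 (Subgroup.inv_mem _ h3)
    simpa [mul_assoc] using this
  -- commuting
  have hcomm : ∀ x : S, θ x ∈ Q' → ∀ s ∈ S, s * (x : Ω) = x * s := by
    intro x hx
    have hC : F.focalSubgroup ≤ Subgroup.centralizer ({(x : Ω)} : Set Ω) := by
      refine (Subgroup.closure_le _).mpr ?_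
      rintro y ⟨R, φ, q, hφ, rfl⟩
      obtain ⟨K, ψ, hψ, hRK, hxK, h1, h2⟩ := core R φ hφ
      have hqS : (q : Ω) ∈ S := (F.le_of_mem hφ).1 q.2
      have hφS : φ q ∈ S := (F.le_of_mem hφ).2 q
      set c : S := x * ⟨q, hqS⟩ * x⁻¹ * (⟨q, hqS⟩ : S)⁻¹ with hc
      have hcZ : (c : Ω) ∈ F.center := by
        apply (hker c).mp
        rw [hc, map_mul, map_mul, map_mul, map_inv, map_inv]
        have h3 := central_commute hQ'c hx (hmor.1.1 ⟨q, hqS⟩)
        rw [← h3]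
        group
      have hcK : (c : Ω) ∈ K := by
        rw [hc]
        show (x : Ω) * q * (x : Ω)⁻¹ * (q : Ω)⁻¹ ∈ K
        exact K.mul_mem (K.mul_mem (K.mul_mem (hxK x hx) (hRK q.2)) (K.inv_mem (hxK x hx))) (K.inv_mem (hRK q.2))
      have hfix := central_fixed hZc hψ hcK hcZ
      have hψc : ψ c = ψ x * ψ q * (ψ x)⁻¹ * (ψ q)⁻¹ := by
        rw [hc]
        show ψ ((x : Ω) * q * (x : Ω)⁻¹ * (q : Ω)⁻¹) = _
        rw [hψ.map_mul (K.mul_mem (K.mul_mem (hxK x hx) (hRK q.2)) (K.inv_mem (hxK x hx))) (K.inv_mem (hRK q.2)),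
          hψ.map_mul (K.mul_mem (hxK x hx) (hRK q.2)) (K.inv_mem (hxK x hx)),
          hψ.map_mul (hxK x hx) (hRK q.2), hψ.map_inv (hxK x hx), hψ.map_inv (hRK q.2)]
      obtain ⟨z1, hz1, e1⟩ : ∃ z1 ∈ F.center, ψ q = φ q * z1 := ⟨_, h1 q, by group⟩
      obtain ⟨z2, hz2, e2⟩ : ∃ z2 ∈ F.center, ψ x = x * z2 := ⟨_, h2 x hx, by group⟩
      have hZS : F.center ≤ S := hZc.1
      have hψc2 : ψ c = x * φ q * (x : Ω)⁻¹ * (φ q)⁻¹ := by
        rw [hψc, e1, e2]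
        have c1 : z2 * (φ q * z1) = (φ q * z1) * z2 := (hzc hz2 (S.mul_mem hφS (hZS hz1))).symm
        have c2 : z1 * (x : Ω)⁻¹ = (x : Ω)⁻¹ * z1 := (hzc hz1 (S.inv_mem x.2)).symm
        have c3 : z2 * z2⁻¹ = 1 := mul_inv_cancel _
        calc (x : Ω) * z2 * (φ q * z1) * ((x : Ω) * z2)⁻¹ * (φ q * z1)⁻¹
            = (x : Ω) * (z2 * (φ q * z1)) * ((x : Ω) * z2)⁻¹ * (φ q * z1)⁻¹ := by group
          _ = (x : Ω) * ((φ q * z1) * z2) * ((x : Ω) * z2)⁻¹ * (φ q * z1)⁻¹ := by rw [c1]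
          _ = (x : Ω) * φ q * (z1 * (x : Ω)⁻¹) * z1⁻¹ * (φ q)⁻¹ := by group
          _ = (x : Ω) * φ q * ((x : Ω)⁻¹ * z1) * z1⁻¹ * (φ q)⁻¹ := by rw [c2]
          _ = x * φ q * (x : Ω)⁻¹ * (φ q)⁻¹ := by group
      have hcv : (c : Ω) = (x : Ω) * q * (x : Ω)⁻¹ * (q : Ω)⁻¹ := rfl
      have hkey : (x : Ω) * q * (x : Ω)⁻¹ * (q : Ω)⁻¹ = x * φ q * (x : Ω)⁻¹ * (φ q)⁻¹ := by
        rw [← hcv, ← hfix, hψc2]
      show _ ∈ Subgroup.centralizer _
      rw [Subgroup.mem_centralizer_singleton_iff]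
      -- `x` commutes with `q⁻¹ φ q`
      have h7 : (x : Ω) * q * (x : Ω)⁻¹ = (c : Ω) * q := by rw [hcv]; group
      have h8 : (x : Ω) * φ q * (x : Ω)⁻¹ = (c : Ω) * φ q := by rw [hcv, hkey]; group
      have h9 : (x : Ω) * ((q : Ω)⁻¹ * φ q) * (x : Ω)⁻¹ = (q : Ω)⁻¹ * φ q := by
        calc (x : Ω) * ((q : Ω)⁻¹ * φ q) * (x : Ω)⁻¹ = ((x : Ω) * q * (x : Ω)⁻¹)⁻¹ * ((x : Ω) * φ q * (x : Ω)⁻¹) := by group
          _ = (q : Ω)⁻¹ * φ q := by rw [h7, h8]; group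
      rw [mul_inv_eq_iff_eq_mul] at h9
      exact h9.symm
    intro s hs
    have := hC (hfoc hs)
    rw [Subgroup.mem_centralizer_singleton_iff] at this
    exact this
  -- all maps fix preimages
  have hfix : ∀ (R : Subgroup Ω) (f : Ω → Ω), Mp F R f → ∀ (y : Ω) (hy : y ∈ S), θ ⟨y, hy⟩ ∈ Q' → y ∈ R → f y = y := by
    intro R f hf y hy hyQ hyR
    obtain ⟨φ, hφ, hφv⟩ := hf
    have hd := hdisp R φ hφ ⟨y, hyR⟩ hy hyQ
    rw [hφv] at hd
    show f y = y
    have hZS : F.center ≤ S := hZc.1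
    -- the restriction to the cyclic subgroup
    have hmp : Mp F R f := ⟨φ, hφ, hφv⟩
    have hfyS : f y ∈ S := hmp.mem hyR
    have hzle : Subgroup.zpowers y ≤ R := by rw [Subgroup.zpowers_le]; exact hyR
    have hfc : ∀ s ∈ S, s * f y = f y * s := by
      intro s hs
      obtain ⟨z, hz, e⟩ : ∃ z ∈ F.center, f y = y * z := ⟨_, hd, by group⟩
      rw [e, ← mul_assoc, hcomm ⟨y, hy⟩ hyQ s hs, mul_assoc, hzc hz hs, mul_assoc]
    have hrest := hmp.restrict hzle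
    have hI := Iso.of_mp hrest
    have himg : hrest.img = Subgroup.zpowers (f y) := by
      ext w
      rw [hrest.mem_img]
      constructor
      · rintro ⟨_, ⟨k, rfl⟩, rfl⟩
        show f (y ^ k) ∈ _
        rw [hrest.map_zpow (Subgroup.mem_zpowers y) k]
        exact zpow_mem (Subgroup.mem_zpowers _) k
      · rintro ⟨k, rfl⟩
        refine ⟨y ^ k, zpow_mem (Subgroup.mem_zpowers _) k, ?_⟩
        rw [hrest.map_zpow (Subgroup.mem_zpowers y) k]
    have hfull : F.IsFullyCentralized hrest.img := by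
      rw [himg]
      have hle : Subgroup.zpowers (f y) ≤ S := by rw [Subgroup.zpowers_le]; exact hfyS
      refine ⟨hle, fun W _ => ?_⟩
      have h1 : S ≤ centralizerIn S (Subgroup.zpowers (f y)) := by
        intro s hs
        refine mem_centralizerIn.mpr ⟨hs, ?_⟩
        rintro _ ⟨k, rfl⟩
        have := (Commute.zpow_right (show Commute s (f y) from hfc s hs) k)
        exact this.symm.eq
      have h2 : centralizerIn S W ≤ S := inf_le_left
      haveI : Finite (centralizerIn S (Subgroup.zpowers (f y))) := Cfsg.Agent.H24.finite_of_le inf_le_left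
      have h3 := Nat.card_le_card_of_injective (Subgroup.inclusion h2) (Subgroup.inclusion_injective h2)
      have h4 := Nat.card_le_card_of_injective (Subgroup.inclusion h1) (Subgroup.inclusion_injective h1)
      exact h3.trans h4
    have hrec := Cfsg.Agent.H24.fullyCentralized_receptive hS hF hfull
    obtain ⟨h, hh, hhv⟩ := recept_ext (K := S) hrec hI (by rw [Subgroup.zpowers_le]; exact hy) (by
      intro s hs
      refine Subgroup.subset_closure (mem_good_of_centralizes hI hs ?_)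
      rintro _ ⟨k, rfl⟩
      have c := hcomm ⟨y, hy⟩ hyQ s hs
      have := (Commute.zpow_right (show Commute s y from c) k)
      exact this.eq)
    have hIS : Iso F S S h := Iso.of_maps hh (fun w hw => hh.mem hw)
    have hα := autOfIso_mem hIS
    have hval := autOfIso_apply hIS ⟨y, hy⟩
    have hyz : y ∈ Subgroup.zpowers y := Subgroup.mem_zpowers y
    have hhy : h y = f y := hhv y hyz
    have := aut_top_fixed hS hF hZc hα (x := ⟨y, hy⟩)
      (fun s => Subtype.ext (hcomm ⟨y, hy⟩ hyQ s s.2)) (by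
        rw [hval, hhy]
        have hd' : y⁻¹ * f y ∈ F.center := hd
        have e : f y * y⁻¹ = y⁻¹ * f y := by
          obtain ⟨z, hz, e⟩ : ∃ z ∈ F.center, f y = y * z := ⟨_, hd', by group⟩
          rw [e]
          have := hzc hz hy
          calc y * z * y⁻¹ = z * y * y⁻¹ := by rw [this]
            _ = y⁻¹ * (y * z) := by group
        show f y * y⁻¹ ∈ _
        rw [e]
        exact hd')
    have h7 := congrArg Subtype.val this
    rw [hval, hhy] at h7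
    exact h7
  have hcentral : F.IsCentral (preimageAlong θ Q') := by
    refine isCentral_of_fixed hS hF (Cfsg.Agent.H24.preimageAlong_le Q') ?_ ?_
    · intro z hz s hs
      obtain ⟨hzS, hzQ⟩ := Cfsg.Agent.H24.mem_preimageAlong.mp hz
      exact hcomm ⟨z, hzS⟩ hzQ s hs
    · intro R f hf x hxR hx
      obtain ⟨hxS, hxQ⟩ := Cfsg.Agent.H24.mem_preimageAlong.mp hx
      exact hfix R f hf x hxS hxQ hxR
  have hle : preimageAlong θ Q' ≤ F.center := le_sSup hcentral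
  rw [eq_bot_iff]
  intro y hy
  have hyr : y ∈ θ.range := by rw [hE.2.2.1]; exact hQ'S hy
  obtain ⟨s, rfl⟩ := hyr
  have h1 : (s : Ω) ∈ preimageAlong θ Q' := Cfsg.Agent.H24.mem_preimageAlong.mpr ⟨s.2, hy⟩
  have h2 := (hker s).mpr (hle h1)
  rw [h2]
  exact Subgroup.one_mem _

end

end Cfsg.Agent.H25
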