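import Cfsg.Agent.Lib.H25.RealS
set_option autoImplicit false
set_option linter.style.haveILetI false

/-! A simple realizable system is realized by a simple group. -/

namespace Cfsg.Agent.H25

open Cfsg Cfsg.FusionSystem

section
universe u
variable {Ω : Type u} [Group Ω] {S : Subgroup Ω} {G : Type u} [Group G] {ι : S →* G} {p : ℕ} [Fact p.Prime] {F : FusionSystem S}

/-- Realization descends modulo a normal subgroup meeting the Sylow subgroup trivially. -/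
theorem realized_quot [Finite G] (hr : F.IsRealizedBy ι) (R : Sylow p G) (hR : (R : Subgroup G) = ι.range) (N : Subgroup G) [hN : N.Normal]
    (ht : ttN ι N = ⊥) : F.IsRealizedBy ((QuotientGroup.mk' N).comp ι) := by
  classical
  have hι := hr.1
  -- elements of `ι(S)` in `N` are trivial
  have hRN : ∀ s : S, ι s ∈ N → s = 1 := by
    intro s hs
    have h1 : (s : Ω) ∈ ttN ι N := mem_ttN.2 ⟨s.2, hs⟩
    rw [ht] at h1
    exact Subtype.ext h1
  have hinj : Function.Injective ((QuotientGroup.mk' N).comp ι) := by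
    rw [injective_iff_map_eq_one]
    intro s hs
    apply hRN
    exact (QuotientGroup.eq_one_iff _).1 hs
  -- `p`-subgroups of `N` are trivial
  have hpN : ∀ U : Subgroup G, IsPGroup p U → ∀ u ∈ U, u ∈ N → u = 1 := by
    intro U hU u huU huN
    obtain ⟨g, hg⟩ := Cfsg.Agent.H24.exists_conj_le_sylow R hU
    have h1 : g * u * g⁻¹ ∈ (R : Subgroup G) := hg ⟨u, huU, rfl⟩
    rw [hR] at h1
    obtain ⟨s, hs⟩ := h1
    have h2 : g * u * g⁻¹ ∈ N := hN.conj_mem _ huN g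
    rw [← hs] at h2
    have h3 := hRN s h2
    rw [h3, map_one] at hs
    have h4 : u = g⁻¹ * (g * u * g⁻¹) * g := by group
    rw [h4, ← hs]
    group
  refine ⟨hinj, fun P hP φ hφ => ⟨fun h => ?_, ?_⟩⟩
  · obtain ⟨g, hg⟩ := (hr.2 P hP φ hφ).1 h
    refine ⟨QuotientGroup.mk' N g, fun x => ?_⟩
    show QuotientGroup.mk' N (ι ⟨φ x, hφ x⟩) = _
    rw [hg]
    simp only [map_mul, map_inv, MonoidHom.comp_apply]
  · rintro ⟨g', hg'⟩
    obtain ⟨g, rfl⟩ := QuotientGroup.mk'_surjective N g'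
    have hg1 : ∀ x : P, QuotientGroup.mk' N (ι ⟨φ x, hφ x⟩) = QuotientGroup.mk' N (g * ι ⟨x, hP x.2⟩ * g⁻¹) := by
      intro x
      have := hg' x
      simp only [map_mul, map_inv]
      exact this
    -- the two images
    let φ₂ : P →* G := ι.comp (φ.codRestrict S hφ)
    let Q₂ : Subgroup G := φ₂.range
    let Q₁ : Subgroup G := (P.subgroupOf S).map (((MulAut.conj g).toMonoidHom).comp ι)
    have hRp : IsPGroup p (R : Subgroup G) := R.isPGroup'
    have hQ₂p : IsPGroup p Q₂ := by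
      refine hRp.to_le ?_
      rintro _ ⟨x, rfl⟩
      rw [hR]
      exact ⟨_, rfl⟩
    have hQ₁p : IsPGroup p Q₁ := by
      have : IsPGroup p ((R : Subgroup G).map (MulAut.conj g).toMonoidHom) := Cfsg.Agent.H24.isPGroup_cj hRp g
      refine this.to_le ?_
      rintro _ ⟨x, -, rfl⟩
      refine ⟨ι x, ?_, rfl⟩
      show ι x ∈ (R : Subgroup G)
      rw [hR]
      exact ⟨_, rfl⟩
    have hQ₂n : N ≤ Subgroup.normalizer (N : Set G) := fun n _ => Cfsg.Agent.H24.mem_normalizer_of_forall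
      (fun y hy => hN.conj_mem _ hy n) (fun y hy => by simpa using hN.conj_mem _ hy n⁻¹)
    have hQ₂N : Q₂ ≤ Subgroup.normalizer (N : Set G) := fun n _ => Cfsg.Agent.H24.mem_normalizer_of_forall
      (fun y hy => hN.conj_mem _ hy n) (fun y hy => by simpa using hN.conj_mem _ hy n⁻¹)
    -- `Q₂` is Sylow in `N Q₂`
    have hQ₂le : Q₂ ≤ N ⊔ Q₂ := le_sup_right
    have hSyl : Cfsg.Agent.H24.IsSylowIn p Q₂ (N ⊔ Q₂) := by
      refine (Cfsg.Agent.H24.isSylowIn_iff hQ₂le).2 ⟨hQ₂p, fun U hU hUp => ?_⟩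
      -- the projection on `U`
      let πU : U →* G ⧸ N := (QuotientGroup.mk' N).comp U.subtype
      have hπU : Function.Injective πU := by
        rw [injective_iff_map_eq_one]
        intro u hu
        have h1 : (u : G) ∈ N := (QuotientGroup.eq_one_iff _).1 hu
        exact Subtype.ext (hpN U hUp u u.2 h1)
      let πQ : Q₂ →* G ⧸ N := (QuotientGroup.mk' N).comp Q₂.subtype
      have hrange : πU.range ≤ πQ.range := by
        rintro _ ⟨u, rfl⟩
        obtain ⟨n, hn, a, ha, e⟩ := Cfsg.Agent.H01.exists_mul_of_mem_sup hQ₂N (hU u.2)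
        refine ⟨⟨a, ha⟩, ?_⟩
        show QuotientGroup.mk' N a = QuotientGroup.mk' N u
        have hn1 : QuotientGroup.mk' N n = 1 := (QuotientGroup.eq_one_iff n).2 hn
        rw [e, map_mul, hn1, one_mul]
      have h1 : Nat.card U = Nat.card πU.range := Nat.card_congr (MonoidHom.ofInjective hπU).toEquiv
      have h2 : Nat.card πU.range ≤ Nat.card πQ.range := Subgroup.card_le_of_le hrange
      have h3 : Nat.card πQ.range ≤ Nat.card Q₂ := by
        have := Subgroup.card_range_dvd πQ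
        exact Nat.le_of_dvd Nat.card_pos this
      omega
    -- `Q₁ ≤ N Q₂`
    have hQ₁le : Q₁ ≤ N ⊔ Q₂ := by
      rintro _ ⟨x, hx, rfl⟩
      have hxP : (x : Ω) ∈ P := hx
      have h1 := hg1 ⟨x, hxP⟩
      have h2 : (ι ⟨φ ⟨x, hxP⟩, hφ _⟩)⁻¹ * (g * ι ⟨x, hP hxP⟩ * g⁻¹) ∈ N := by
        have := QuotientGroup.eq.1 h1
        exact this
      have e : ((MulAut.conj g).toMonoidHom.comp ι) x = ι ⟨φ ⟨x, hxP⟩, hφ _⟩ * ((ι ⟨φ ⟨x, hxP⟩, hφ _⟩)⁻¹ * (g * ι ⟨x, hP hxP⟩ * g⁻¹)) := by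
        rw [mul_inv_cancel_left]
        rfl
      rw [e]
      exact Subgroup.mul_mem _ (Subgroup.mem_sup_right ⟨⟨x, hxP⟩, rfl⟩) (Subgroup.mem_sup_left h2)
    obtain ⟨l, hl, hlQ⟩ := hSyl.exists_conj hQ₁le hQ₁p
    -- `l = q n`
    have hQ₂N' : N ≤ Subgroup.normalizer (Q₂ : Set G) ∨ True := Or.inr trivial
    have hl' : l ∈ ((Q₂ ⊔ N : Subgroup G) : Set G) := by rw [sup_comm]; exact hl
    rw [Subgroup.mul_normal] at hl'
    obtain ⟨q, hq, n, hn, rfl⟩ := Set.mem_mul.1 hl'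
    refine (hr.2 P hP φ hφ).2 ⟨n * g, fun x => ?_⟩
    have hxS : (x : Ω) ∈ S := hP x.2
    have hmem : (q * n) * (g * ι ⟨x, hxS⟩ * g⁻¹) * (q * n)⁻¹ ∈ Q₂ := hlQ ⟨_, ⟨⟨x, hxS⟩, Subgroup.mem_subgroupOf.2 x.2, rfl⟩, rfl⟩
    have hmem2 : (n * g) * ι ⟨x, hxS⟩ * (n * g)⁻¹ ∈ Q₂ := by
      have h1 := Q₂.mul_mem (Q₂.mul_mem (Q₂.inv_mem hq) hmem) hq
      have e : q⁻¹ * ((q * n) * (g * ι ⟨x, hxS⟩ * g⁻¹) * (q * n)⁻¹) * q = (n * g) * ι ⟨x, hxS⟩ * (n * g)⁻¹ := by group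
      rwa [e] at h1
    obtain ⟨z, hz⟩ := hmem2
    have hz' : ι ⟨φ z, hφ z⟩ = (n * g) * ι ⟨x, hxS⟩ * (n * g)⁻¹ := hz
    have h5 : QuotientGroup.mk' N (ι ⟨φ z, hφ z⟩) = QuotientGroup.mk' N (ι ⟨φ x, hφ x⟩) := by
      have hn1 : QuotientGroup.mk' N n = 1 := (QuotientGroup.eq_one_iff n).2 hn
      rw [hz', hg1 x]
      simp only [map_mul, map_inv, hn1, one_mul, inv_one, mul_one]
    have h6 := hinj h5
    rw [← hz']
    exact congrArg ι (by simpa using h6.symm)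

end

end Cfsg.Agent.H25
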