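import Cfsg.Agent.Lib.H25.FusFoc2
import Cfsg.Agent.Lib.H09.KTrans

/-! The focal subgroup is proper when `Aut_F(S)` is a `p`-group and `p ≥ 5`. -/

set_option autoImplicit false
set_option linter.style.haveILetI false

namespace Cfsg.Agent.H25

open Cfsg Cfsg.FusionSystem

open scoped commutatorElement

universe u

theorem localCT_kinf {p : ℕ} [Fact p.Prime] (hp : 5 ≤ p) : LocalCT.{u} p kInfLower := by
  intro G _ _ P _
  have h := H09.controlsTransfer_any (H09.ind_conj_functor (H09.isCharPFunctor_kInfLower p) (Y := G))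
    (H09.kinf_transfer_lower hp G) (R := (P : Subgroup G)) le_top P.isPGroup' (by
      rw [Subgroup.relIndex_top_right]
      exact P.not_dvd_index)
  have h0 : pCore p G ≤ (P : Subgroup G) := H01.pCore_le_sylow p P
  rw [top_inf_eq] at h
  have e2 : (commutator ↥(Subgroup.normalizer (((kInfLower ↥(P : Subgroup G)).map (P : Subgroup G).subtype : Subgroup G) : Set G))).map
      (Subgroup.normalizer (((kInfLower ↥(P : Subgroup G)).map (P : Subgroup G).subtype : Subgroup G) : Set G)).subtype =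
      ⁅Subgroup.normalizer (((kInfLower ↥(P : Subgroup G)).map (P : Subgroup G).subtype : Subgroup G) : Set G),
        Subgroup.normalizer (((kInfLower ↥(P : Subgroup G)).map (P : Subgroup G).subtype : Subgroup G) : Set G)⁆ :=
    Subgroup.map_subtype_commutator _
  rw [e2]
  have e1 : commutator G = ⁅(⊤ : Subgroup G), ⊤⁆ := rfl
  rw [e1]
  calc pCore p G ⊓ ⁅(⊤ : Subgroup G), ⊤⁆ = pCore p G ⊓ ((P : Subgroup G) ⊓ ⁅(⊤ : Subgroup G), ⊤⁆) := by
        rw [← inf_assoc, inf_eq_left.2 h0]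
    _ = _ := by
        rw [h, ← inf_assoc, inf_eq_left.2 h0]
        rfl

variable {Ω : Type u} [Group Ω] {S : Subgroup Ω} {F : FusionSystem S} {p : ℕ}

theorem inner_of_top_pgroup [Finite S] [Fact p.Prime] (hS : IsPGroup p S) (hF : F.IsSaturated p)
    (h : IsPGroup p (F.autGroup S)) {a : Ω → Ω} (hI : Iso F S S a) :
    ∃ s ∈ S, ∀ x ∈ S, a x = s * x * s⁻¹ := by
  have hfar : Far F p S := far_of_fullyNormalized hS hF (fullyNormalized_of_normal' le_rfl (fun s hs => mem_normalizer_of_conj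
      (fun y hy => S.mul_mem (S.mul_mem hs hy) (S.inv_mem hs)) (fun y hy => S.mul_mem (S.mul_mem (S.inv_mem hs) hy) hs)))
  obtain ⟨-, R, hR⟩ := hfar.auto
  have htop : (R : Subgroup (F.autGroup S)) = ⊤ := by
    have h1 : IsPGroup p (⊤ : Subgroup (F.autGroup S)) := h.to_subgroup _
    exact (R.is_maximal' h1 le_top).symm
  have hmem : autOfIso hI ∈ F.autGroup S := autOfIso_mem hI
  have h2 : (⟨autOfIso hI, hmem⟩ : F.autGroup S) ∈ (R : Subgroup (F.autGroup S)) := by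
    rw [htop]
    exact Subgroup.mem_top _
  rw [hR, Subgroup.mem_subgroupOf] at h2
  obtain ⟨s, hs, hsv⟩ := exists_of_mem_autInducedBy h2
  refine ⟨s, hs, fun x hx => ?_⟩
  have h3 := hsv ⟨x, hx⟩
  rw [← h3]
  exact (autOfIso_apply hI ⟨x, hx⟩).symm

theorem commutator_lt_of_pgroup [Finite S] [Fact p.Prime] (hS : IsPGroup p S) (hne : S ≠ ⊥) : ⁅S, S⁆ < S := by
  have hle : ⁅S, S⁆ ≤ S := Subgroup.commutator_le_self S
  refine lt_of_le_of_ne hle fun h => hne ?_
  haveI : Group.IsNilpotent ↥S := hS.isNilpotent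
  have h1 : commutator ↥S = ⊤ := by
    apply Subgroup.map_injective S.subtype_injective
    rw [Subgroup.map_subtype_commutator, h, ← MonoidHom.range_eq_map, Subgroup.range_subtype]
  have h2 : ∀ n, Subgroup.lowerCentralSeries (⊤ : Subgroup ↥S) n = ⊤ := by
    intro n
    induction n with
    | zero => rfl
    | succ n ih =>
      show ⁅Subgroup.lowerCentralSeries (⊤ : Subgroup ↥S) n, ⊤⁆ = ⊤
      rw [ih]
      exact h1
  obtain ⟨n, hn⟩ := (nilpotent_iff_lowerCentralSeries (G := ↥S)).1 inferInstance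
  rw [h2 n] at hn
  rw [eq_bot_iff]
  intro x hx
  have h3 : (⟨x, hx⟩ : ↥S) ∈ (⊤ : Subgroup ↥S) := Subgroup.mem_top _
  rw [hn, Subgroup.mem_bot] at h3
  exact Subgroup.mem_bot.2 (congrArg Subtype.val h3)

/-- The focal subgroup is proper: the normal case. -/
theorem foc_lt_normal [Finite S] [Fact p.Prime] (hS : IsPGroup p S) {E : FusionSystem S} (hE : E.IsSaturated p) {Y : Subgroup Ω}
    (hY : E.IsNormal Y) (hne : Y ≠ ⊥) (hSne : S ≠ ⊥) (hAut : IsPGroup p (E.autGroup S))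
    (hIH : ∀ (Ω' : Type u) [Group Ω'] (S' : Subgroup Ω') [Finite S'] (F' : FusionSystem S'),
      Nat.card S' < Nat.card S → IsPGroup p S' → F'.IsSaturated p → S' ≠ ⊥ → IsPGroup p (F'.autGroup S') → F'.focalSubgroup < S') :
    E.focalSubgroup < S := by
  classical
  have hYS : Y ≤ S := hY.1
  by_cases hYeq : Y = S
  · subst hYeq
    refine lt_of_le_of_lt (foc_le_of fun A f hf x hx => ?_) (commutator_lt_of_pgroup hS hSne)
    obtain ⟨ĥ, hĥ, hĥf, hg⟩ := normal_ext hY hf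
    have e : A ⊔ Y = Y := sup_eq_right.mpr hf.le
    rw [e] at hĥ
    have hI : Iso E Y Y ĥ := ⟨hĥ, hg.1, hg.2⟩
    obtain ⟨s, hs, hsv⟩ := inner_of_top_pgroup hS hE hAut hI
    have hxS := hf.le hx
    rw [← hĥf x hx, hsv x hxS]
    have e2 : x⁻¹ * (s * x * s⁻¹) = ⁅x⁻¹, s⁆ := by
      simp [commutatorElement_def, mul_assoc]
    rw [e2]
    exact Subgroup.commutator_mem_commutator (Y.inv_mem hxS) hs
  have hlt : Y < S := lt_of_le_of_ne hYS hYeq
  have hSN : S ≤ Subgroup.normalizer (Y : Set Ω) := H24.normalizer_of_isNormal hY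
  have hQsc := H24.stronglyClosed_of_isNormal hY
  haveI hQnorm : (Y.subgroupOf S).Normal := by
    constructor
    intro n hn g
    rw [Subgroup.mem_subgroupOf] at hn ⊢
    exact conj_mem_of_normalizer (hSN g.2) hn
  obtain ⟨E₁, hE₁⟩ := H24.exists_factorSystem_quotient hQsc
  obtain ⟨hmor, hE₁sat, hpS⟩ := H24.factor_facts hS hE hQsc hE₁
  obtain ⟨α, hα⟩ : ∃ α, α = QuotientGroup.mk' (Y.subgroupOf S) := ⟨_, rfl⟩
  rw [← hα] at hmor
  have hker : ∀ s : S, α s = 1 ↔ (s : Ω) ∈ Y := by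
    rw [hα]
    exact hE₁.2.1
  have hsurj : Function.Surjective α := by
    rw [hα]
    exact QuotientGroup.mk'_surjective _
  have hcardlt : Nat.card (⊤ : Subgroup (S ⧸ Y.subgroupOf S)) < Nat.card S := by
    rw [Subgroup.card_top, Subgroup.card_eq_card_quotient_mul_card_subgroup (Y.subgroupOf S)]
    have h1 : 1 < Nat.card (Y.subgroupOf S) := by
      rw [Subgroup.one_lt_card_iff_ne_bot]
      intro h
      apply hne
      rw [← Subgroup.map_subgroupOf_eq_of_le hYS, h, Subgroup.map_bot]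
    have h2 : 0 < Nat.card (S ⧸ Y.subgroupOf S) := Nat.card_pos
    nlinarith
  obtain ⟨s₀, hs₀, hs₀Y⟩ := Set.exists_of_ssubset hlt
  have htopne : (⊤ : Subgroup (S ⧸ Y.subgroupOf S)) ≠ ⊥ := by
    intro h
    have h1 : α ⟨s₀, hs₀⟩ ∈ (⊤ : Subgroup (S ⧸ Y.subgroupOf S)) := Subgroup.mem_top _
    rw [h] at h1
    exact hs₀Y ((hker _).mp (Subgroup.mem_bot.mp h1))
  have hAut₁ : IsPGroup p (E₁.autGroup (⊤ : Subgroup (S ⧸ Y.subgroupOf S))) := by
    intro β
    have hβ : ((⊤ : Subgroup (S ⧸ Y.subgroupOf S)).subtype.comp (β : MulAut ↥(⊤ : Subgroup (S ⧸ Y.subgroupOf S))).toMonoidHom) ∈ E₁.Hom ⊤ :=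
      mem_hom_iff.mpr (Mp.of_mem_autGroup le_rfl β.2)
    obtain ⟨φ, hφ, hPB, hv, hP', hind⟩ := hmor.2.2 ⊤ le_rfl _ hβ
    have hFm : Mp E (preimageAlong α ⊤) (toFun φ) := mp_of_mem hφ
    have hpre : preimageAlong α (⊤ : Subgroup (S ⧸ Y.subgroupOf S)) = S := by
      apply le_antisymm (H24.preimageAlong_le _)
      intro x hx
      exact H24.mem_preimageAlong.2 ⟨hx, Subgroup.mem_top _⟩
    have hSmem : ∀ x : ↥S, (x : Ω) ∈ preimageAlong α (⊤ : Subgroup (S ⧸ Y.subgroupOf S)) := fun x => by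
      rw [hpre]
      exact x.2
    have hSm : Mp E S (toFun φ) := hFm.restrict (fun x hx => H24.mem_preimageAlong.2 ⟨hx, Subgroup.mem_top _⟩)
    have hI : Iso E S S (toFun φ) := Iso.of_maps hSm (fun x hx => hSm.mem hx)
    have ha : autOfIso hI ∈ E.autGroup S := autOfIso_mem hI
    obtain ⟨k, hk⟩ := hAut ⟨autOfIso hI, ha⟩
    refine ⟨k, ?_⟩
    have hrel : ∀ x : ↥S, α (autOfIso hI x) = (((β : MulAut ↥(⊤ : Subgroup (S ⧸ Y.subgroupOf S))) ⟨α x, Subgroup.mem_top _⟩ : ↥(⊤ : Subgroup (S ⧸ Y.subgroupOf S))) : S ⧸ Y.subgroupOf S) := by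
      intro x
      have h1 := hind ⟨x, hSmem x⟩
      have h2 : (⟨φ ⟨x, hSmem x⟩, hv _⟩ : ↥S) = autOfIso hI x := by
        apply Subtype.ext
        rw [autOfIso_apply]
        exact (toFun_coe φ ⟨x, hSmem x⟩).symm
      rw [h2] at h1
      exact h1.symm
    have hit : ∀ (n : ℕ) (x : ↥S), α ((autOfIso hI ^ n) x) = (((((β : MulAut ↥(⊤ : Subgroup (S ⧸ Y.subgroupOf S))) ^ n) ⟨α x, Subgroup.mem_top _⟩ : ↥(⊤ : Subgroup (S ⧸ Y.subgroupOf S)))) : S ⧸ Y.subgroupOf S) := by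
      intro n
      induction n with
      | zero =>
        intro x
        rfl
      | succ n ih =>
        intro x
        rw [pow_succ, pow_succ]
        show α ((autOfIso hI ^ n) (autOfIso hI x)) = ((((β : MulAut ↥(⊤ : Subgroup (S ⧸ Y.subgroupOf S))) ^ n) ((β : MulAut ↥(⊤ : Subgroup (S ⧸ Y.subgroupOf S))) ⟨α x, Subgroup.mem_top _⟩) : ↥(⊤ : Subgroup (S ⧸ Y.subgroupOf S))) : S ⧸ Y.subgroupOf S)
        rw [ih (autOfIso hI x)]
        congr 2
        exact Subtype.ext (hrel x)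
    have hk' : (autOfIso hI) ^ (p ^ k) = 1 := congrArg Subtype.val hk
    apply Subtype.ext
    show ((β : MulAut ↥(⊤ : Subgroup (S ⧸ Y.subgroupOf S))) ^ (p ^ k)) = 1
    ext y
    obtain ⟨x, hx⟩ := hsurj (y : S ⧸ Y.subgroupOf S)
    have h1 := hit (p ^ k) x
    rw [hk'] at h1
    have e : (⟨α x, Subgroup.mem_top _⟩ : ↥(⊤ : Subgroup (S ⧸ Y.subgroupOf S))) = y := Subtype.ext hx
    rw [e] at h1
    rw [← h1]
    exact hx
  have hfoc₁ := hIH (S ⧸ Y.subgroupOf S) ⊤ E₁ hcardlt hpS hE₁sat htopne hAut₁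
  -- the preimage of the focal subgroup
  have hle : E.focalSubgroup ≤ preimageAlong α E₁.focalSubgroup := by
    refine foc_le_of fun P f hf x hx => ?_
    have hxS : x ∈ S := hf.le hx
    have hfxS : f x ∈ S := hf.mem hx
    obtain ⟨φ, hφ, hφf⟩ := hf
    obtain ⟨φ', hφ', hP, hv, hP', hind⟩ := hmor.1.2 P φ hφ
    have h1 := mem_foc_of_mp (mp_of_mem hφ') (hP' ⟨x, hx⟩)
    rw [toFun_coe φ' ⟨_, hP' ⟨x, hx⟩⟩, hind ⟨x, hx⟩] at h1
    have h3 : (⟨φ ⟨x, hx⟩, hv _⟩ : ↥S) = ⟨f x, hfxS⟩ := Subtype.ext (hφf ⟨x, hx⟩)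
    refine H24.mem_preimageAlong.2 ⟨S.mul_mem (S.inv_mem hxS) hfxS, ?_⟩
    have e : (⟨x⁻¹ * f x, S.mul_mem (S.inv_mem hxS) hfxS⟩ : ↥S) = (⟨x, hxS⟩ : ↥S)⁻¹ * ⟨f x, hfxS⟩ := rfl
    show α (⟨x⁻¹ * f x, S.mul_mem (S.inv_mem hxS) hfxS⟩ : ↥S) ∈ E₁.focalSubgroup
    rw [e, map_mul, map_inv, ← h3]
    exact h1
  refine lt_of_le_of_lt hle (lt_of_le_of_ne (H24.preimageAlong_le _) fun h => ?_)
  obtain ⟨y, -, hyn⟩ := Set.exists_of_ssubset hfoc₁
  obtain ⟨s, hs⟩ := hsurj y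
  have h1 : (s : Ω) ∈ preimageAlong α E₁.focalSubgroup := by
    rw [h]
    exact s.2
  have h2 := (H24.mem_preimageAlong.1 h1).2
  apply hyn
  rw [← hs]
  exact h2

/-- **Focal subgroups for `p ≥ 5`.** -/
theorem foc_lt_aux [Fact p.Prime] (hp : 5 ≤ p) : ∀ (n : ℕ) (Ω : Type u) [Group Ω] (S : Subgroup Ω) [Finite S] (F : FusionSystem S),
    Nat.card S < n → IsPGroup p S → F.IsSaturated p → S ≠ ⊥ → IsPGroup p (F.autGroup S) → F.focalSubgroup < S := by
  intro n
  induction n with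
  | zero =>
    intro Ω _ S _ F h
    omega
  | succ n ih =>
    intro Ω _ S _ F hc hS hF hne haut
    classical
    have hW : FunctorHyp p kInfLower.{u} := H09.isCharPFunctor_kInfLower p
    have hL := localCT_kinf (p := p) hp
    have hfm := foc_main hW hL hS hF
    have hYS : WW kInfLower S ≤ S := WW_le S
    have hSN : S ≤ Subgroup.normalizer (WW kInfLower S : Set Ω) := S_le_norm_WW hW hS
    have hfar : Far F p (WW kInfLower S) := far_of_fullyNormalized hS hF (fullyNormalized_of_normal' hYS hSN)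
    have hEsat : (normSys F (WW kInfLower S) S hYS le_rfl hSN).IsSaturated p :=
      normSys_sat_of_eq (inf_eq_left.mpr hSN) hS hF hfar
    have hEn : (normSys F (WW kInfLower S) S hYS le_rfl hSN).IsNormal (WW kInfLower S) := isNormal_normSys
    have hAut : IsPGroup p ((normSys F (WW kInfLower S) S hYS le_rfl hSN).autGroup S) := by
      refine haut.to_le ?_
      intro a ha
      exact mem_autGroup_of_mp (normSys_mp_F (Mp.of_mem_autGroup le_rfl ha)) (fun x => (toFun_aut a x).symm)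
    have hlt := foc_lt_normal hS hEsat hEn (WW_ne_bot hW hS hne) hne hAut
      (fun Ω' _ S' _ F' hc' => ih Ω' S' F' (by omega))
    refine lt_of_le_of_lt ?_ hlt
    rw [← hfm]
    refine foc_le_of fun A f hf x hx => mem_foc_of_mp ?_ hx
    obtain ⟨h1, h2, h3, ĥ, hĥ, hĥf, hg⟩ := (mp_NSys_iff hYS).mp hf
    exact mp_normSys_iff'.mpr ⟨h1, h2.trans inf_le_left, fun x hx => (h3 x hx).1, ĥ, hĥ, hĥf, hg⟩

end Cfsg.Agent.H25
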