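import Cfsg.Agent.Lib.H25.AxG
import Cfsg.Agent.Lib.H25.FusNormSat
set_option autoImplicit false
set_option linter.style.haveILetI false

/-! Abelian essential subgroups: the normalizer system and the complement. -/

namespace Cfsg.Agent.H25

open Cfsg Cfsg.FusionSystem
open scoped commutatorElement

variable {Ω : Type*} [Group Ω] {S : Subgroup Ω} {F : FusionSystem S} {p : ℕ} [Finite S] [Fact p.Prime]
variable {A P Q R R' : Subgroup Ω} {x : Ω}

/-- The intersection of the centre with the commutator subgroup. -/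
abbrev ZK (S : Subgroup Ω) : Subgroup Ω := ZS S ⊓ (commutator S).map S.subtype

theorem isCentric_up (h : F.IsCentric R) {R₁ : Subgroup Ω} (hRR₁ : R ≤ R₁) (hR₁ : R₁ ≤ S) : F.IsCentric R₁ := by
  refine ⟨hR₁, fun Q' hQ' => ?_⟩
  obtain ⟨ψ, hψ⟩ := isConj_iff.mp hQ'
  have hm : Mp F R ψ := hψ.mp.restrict hRR₁
  have hI := Iso.of_mp hm
  have hc := h.2 hm.img (isConj_iff.mpr ⟨ψ, hI⟩)
  have himg : hm.img ≤ Q' := by
    intro y hy
    obtain ⟨x, hx, rfl⟩ := hI.surj y hy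
    exact hψ.maps x (hRR₁ hx)
  intro c hc'
  apply himg
  apply hc
  obtain ⟨hcS, hcc⟩ := mem_centralizerIn.mp hc'
  exact mem_centralizerIn.mpr ⟨hcS, fun y hy => hcc y (himg hy)⟩

theorem aut_NSys (hPS : P ≤ S) {b : MulAut P} (hb : b ∈ F.autGroup P) : b ∈ (NSys F P hPS).autGroup P := by
  have hI := Iso.of_mem_autGroup hPS hb
  exact mem_autGroup_of_mp (mp_NSys_of_ge hPS le_rfl hI.mp (le_normalizerIn hPS) ⟨hI.maps, hI.surj⟩) (fun y => (toFun_aut b y).symm)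

/-- The setting of an abelian essential subgroup. -/
structure AxP (C : AxC S A p) (F : FusionSystem S) (P : Subgroup Ω) (x : Ω) : Prop where
  hF : F.IsSaturated p
  hE : F.IsEssential p P
  hxP : x ∈ P
  hxA : x ∉ A
  hab : ∀ s ∈ P, ∀ t ∈ P, s * t = t * s
  hinf : P ⊓ A = ZS S
  hZ2 : Z2 S ≤ A
  hB : ((ZS S).subgroupOf (Z2 S)).index = p
  hidx : (P.subgroupOf (S ⊓ Subgroup.normalizer (P : Set Ω))).index = p

section

variable {C : AxC S A p}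

theorem AxP.hPS (D : AxP C F P x) : P ≤ S := D.hE.1.1

theorem AxP.hxS (D : AxP C F P x) : x ∈ S := D.hPS D.hxP

theorem AxP.hZP (D : AxP C F P x) : ZS S ≤ P := by
  rw [← D.hinf]
  exact inf_le_left

theorem AxP.N_dec (D : AxP C F P x) {n : Ω} (hn : n ∈ normalizerIn S P) : ∃ r ∈ Z2 S, ∃ i : ℤ, n = r * x ^ i := by
  obtain ⟨r, hr, i, e⟩ := C.decomp D.hxS D.hxA hn.1
  have hxN : x ∈ Subgroup.normalizer (P : Set Ω) := (le_normalizerIn D.hPS D.hxP).2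
  have hrN : r ∈ Subgroup.normalizer (P : Set Ω) := by
    have e1 : r = n * (x ^ i)⁻¹ := by
      rw [e]
      group
    rw [e1]
    exact Subgroup.mul_mem _ hn.2 (Subgroup.inv_mem _ (Subgroup.zpow_mem _ hxN i))
  refine ⟨r, C.mem_Z2_of D.hxS D.hxA hr ?_, i, e⟩
  rw [← D.hinf]
  refine ⟨P.mul_mem (conj_mem_of_normalizer hrN D.hxP) (P.inv_mem D.hxP), ?_⟩
  have e1 : r * x * r⁻¹ * x⁻¹ = r * (x * r⁻¹ * x⁻¹) := by group
  rw [e1]
  exact A.mul_mem hr (C.conj_mem D.hxS (A.inv_mem hr))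

theorem AxP.Z2_le_N (D : AxP C F P x) : Z2 S ≤ normalizerIn S P := fun _ hb =>
  ⟨(mem_Z2.mp hb).1, ax_mem_norm C D.hPS D.hZP hb⟩

/-- Commutators of the normalizer. -/
theorem AxP.comm_N (D : AxP C F P x) : ∀ s ∈ normalizerIn S P, ∀ t ∈ normalizerIn S P, s * t * s⁻¹ * t⁻¹ ∈ ZK S := by
  classical
  intro s hs t ht
  have hsS : s ∈ S := hs.1
  have htS : t ∈ S := ht.1
  refine ⟨?_, ?_⟩
  · haveI hZn : ((ZS S).subgroupOf S).Normal := by
      refine ⟨fun n hn g => ?_⟩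
      rw [Subgroup.mem_subgroupOf] at hn ⊢
      exact conj_mem_of_normalizer (ZS_norm g.2) hn
    let π := QuotientGroup.mk' ((ZS S).subgroupOf S)
    have hπ : ∀ r (hr : r ∈ Z2 S) (y : S), Commute (π ⟨r, (mem_Z2.mp hr).1⟩) (π y) := by
      intro r hr y
      have h1 : π ⟨r, (mem_Z2.mp hr).1⟩ * π y * (π ⟨r, (mem_Z2.mp hr).1⟩)⁻¹ * (π y)⁻¹ = 1 := by
        rw [← map_inv, ← map_inv, ← map_mul, ← map_mul, ← map_mul]
        apply (QuotientGroup.eq_one_iff _).2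
        rw [Subgroup.mem_subgroupOf]
        exact (mem_Z2.mp hr).2 y y.2
      rw [mul_inv_eq_one, mul_inv_eq_iff_eq_mul] at h1
      exact h1
    obtain ⟨r, hr, i, e⟩ := D.N_dec hs
    obtain ⟨r', hr', j, e'⟩ := D.N_dec ht
    have e1 : (⟨s, hsS⟩ : S) = ⟨r, (mem_Z2.mp hr).1⟩ * (⟨x, D.hxS⟩ : S) ^ i := Subtype.ext (by simpa using e)
    have e2 : (⟨t, htS⟩ : S) = ⟨r', (mem_Z2.mp hr').1⟩ * (⟨x, D.hxS⟩ : S) ^ j := Subtype.ext (by simpa using e')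
    have hcomm : Commute (π ⟨s, hsS⟩) (π ⟨t, htS⟩) := by
      rw [e1, e2, map_mul, map_mul, map_zpow, map_zpow]
      apply Commute.mul_left
      · exact Commute.mul_right (hπ r hr _) ((hπ r hr _).zpow_right j)
      · exact Commute.mul_right ((hπ r' hr' _).symm.zpow_left i) ((Commute.refl _).zpow_zpow i j)
    have h3 : π ((⟨s, hsS⟩ : S) * ⟨t, htS⟩ * (⟨s, hsS⟩ : S)⁻¹ * (⟨t, htS⟩ : S)⁻¹) = 1 := by
      rw [map_mul, map_mul, map_mul, map_inv, map_inv, hcomm.eq]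
      group
    have h4 := (QuotientGroup.eq_one_iff _).1 h3
    exact Subgroup.mem_subgroupOf.mp h4
  · exact ⟨⁅(⟨s, hsS⟩ : S), (⟨t, htS⟩ : S)⁆, Subgroup.commutator_mem_commutator (Subgroup.mem_top _) (Subgroup.mem_top _), rfl⟩

theorem AxP.exists_a2 (D : AxP C F P x) : ∃ a ∈ Z2 S, a ∉ ZS S := by
  by_contra hcon
  push Not at hcon
  have h1 : (ZS S).subgroupOf (Z2 S) = ⊤ := by
    rw [eq_top_iff]
    intro y _
    exact Subgroup.mem_subgroupOf.mpr (hcon y y.2)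
  have h2 := D.hB
  rw [h1, Subgroup.index_top] at h2
  exact (Fact.out : p.Prime).one_lt.ne h2

theorem AxP.a2_not (D : AxP C F P x) {a : Ω} (ha : a ∈ Z2 S) (haZ : a ∉ ZS S) : a ∉ P := by
  intro h
  apply haZ
  rw [← D.hinf]
  exact ⟨h, D.hZ2 ha⟩

theorem AxP.far (D : AxP C F P x) : Far F p P := far_of_fullyNormalized C.hS D.hF D.hE.2.1

theorem AxP.tvp (D : AxP C F P x) : TvP (normalizerIn S P) p P := by
  haveI hfinN : Finite (normalizerIn S P) := NSys.finite_base P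
  refine ⟨le_normalizerIn D.hPS, fun z hz => ?_, D.hab, D.hidx⟩
  apply D.hE.1.2 P (isConj_refl D.hPS)
  refine mem_centralizerIn.mpr ⟨hz.1.1, fun y hy => ?_⟩
  exact (mem_ZS.mp hz).2 y (le_normalizerIn D.hPS hy)

theorem AxP.ZSN (D : AxP C F P x) : ZS (normalizerIn S P) = ZS S := by
  haveI hfinN : Finite (normalizerIn S P) := NSys.finite_base P
  obtain ⟨a, ha, haZ⟩ := D.exists_a2
  apply le_antisymm
  · intro z hz
    have hzP : z ∈ P := D.tvp.zl hz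
    rw [← D.hinf]
    refine ⟨hzP, ?_⟩
    by_contra hzA
    apply haZ
    apply C.mem_Z hz.1.1 hzA (D.hZ2 ha)
    rw [← (mem_ZS.mp hz).2 a (D.Z2_le_N ha)]
    group
  · intro z hz
    refine mem_ZS.mpr ⟨le_normalizerIn D.hPS (D.hZP hz), fun s hs => ?_⟩
    exact (mem_ZS.mp hz).2 s hs.1

theorem AxP.tvc (D : AxP C F P x) : TvC (NSys F P D.hPS) p (ZK S) := by
  obtain ⟨a, ha, haZ⟩ := D.exists_a2
  refine ⟨C.hS.to_le normalizerIn_le, NSys_saturated C.hS D.hF D.far, fun k hk => le_normalizerIn D.hPS (D.hZP hk.1), ?_,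
    C.card_inf D.hxS D.hxA D.hZ2 D.hB, D.comm_N, a, D.Z2_le_N ha, x, le_normalizerIn D.hPS D.hxP, ?_⟩
  · intro k hk
    exact Subgroup.mem_centralizer_iff.2 fun s hs => (mem_ZS.mp hk.1).2 s hs.1
  · intro h
    apply haZ
    apply C.mem_Z D.hxS D.hxA (D.hZ2 ha)
    rw [← h]
    group

/-- Elements of the Sylow act on the essential subgroup; the automizer moves `ZK`. -/
theorem AxP.moved (D : AxP C F P x) {a : Ω} (ha : a ∈ Z2 S) (haZ : a ∉ ZS S) : ∃ b ∈ F.autGroup P, imO b (ZK S) ≠ ZK S := by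
  have hN := D.comm_N
  obtain ⟨-, b, hb, ⟨t, ht, hbt⟩, -⟩ := ess_transv C.hS D.hF D.hE (K := ZK S) (U := normalizerIn S P)
    (fun k hk => hk.1.1) (fun k hk => Subgroup.mem_centralizer_iff.2 fun s hs => (mem_ZS.mp hk.1).2 s hs)
    (C.card_inf D.hxS D.hxA D.hZ2 D.hB) normalizerIn_le inf_le_right
    (fun s hs y hy => by
      have h1 := hN y⁻¹ (le_normalizerIn D.hPS (P.inv_mem hy)) s hs
      have e : y⁻¹ * s * y⁻¹⁻¹ * s⁻¹ = y⁻¹ * (s * y * s⁻¹) := by group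
      rwa [e] at h1)
    (D.Z2_le_N ha) (D.a2_not ha haZ)
  refine ⟨b, hb, fun h => hbt ?_⟩
  rw [← h]
  exact (mem_imO_self t).2 ht

/-- The commutator subgroup is characteristic. -/
theorem aut_ZK (α : MulAut S) {k : Ω} (hk : k ∈ ZK S) : ((α ⟨k, hk.1.1⟩ : S) : Ω) ∈ ZK S := by
  refine ⟨aut_ZS α hk.1, ?_⟩
  obtain ⟨w, hw, e⟩ := hk.2
  have hw' : (⟨k, hk.1.1⟩ : S) = w := Subtype.ext e.symm
  rw [hw']
  have h1 : (commutator S).map α.toMonoidHom ≤ commutator S :=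
    Subgroup.characteristic_iff_map_le.1 inferInstance α
  exact ⟨_, h1 ⟨w, hw, rfl⟩, rfl⟩

/-- **A complement of `ZK` in the centre, invariant under the automorphisms of `S`.** -/
theorem AxP.exists_compl (D : AxP C F P x) :
    ∃ Z₁ : Subgroup Ω, Z₁ ≤ ZS S ∧ (∀ z ∈ Z₁, z ∈ ZK S → z = 1) ∧ (∀ z ∈ ZS S, ∃ k ∈ ZK S, ∃ w ∈ Z₁, z = k * w) ∧
      ∀ β, Iso F S S β → ∀ z ∈ Z₁, β z ∈ Z₁ := by
  classical
  haveI hfinN : Finite (normalizerIn S P) := NSys.finite_base P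
  obtain ⟨a, ha, haZ⟩ := D.exists_a2
  have hhS := C.hS
  have hC := D.tvc
  have hP := D.tvp
  have hxN : a ∈ normalizerIn S P := D.Z2_le_N ha
  have hxP : a ∉ P := D.a2_not ha haZ
  obtain ⟨u, huC, -⟩ := exists_isC (F := NSys F P D.hPS) hP.le hxN (hP.normal hC hxN)
  obtain ⟨b, hb, hne⟩ := D.moved ha haZ
  have hb' := aut_NSys D.hPS hb
  letI instZ : CommGroup (ZS S) := { (inferInstance : Group (ZS S)) with
    mul_comm := fun a c => Subtype.ext ((mem_ZS.mp c.2).2 _ a.2.1) }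
  letI instC : CommGroup P := { (inferInstance : Group P) with
    mul_comm := fun a c => Subtype.ext (hP.ab _ a.2 _ c.2) }
  haveI hfinZ : Finite (ZS S) := finite_of_le inf_le_left
  have hKZ : ZK S ≤ ZS S := inf_le_left
  obtain ⟨v', k, k₂, hM⟩ := exists_mv hC hP hxN hxP huC hb' hne
  obtain ⟨ι, hι⟩ : ∃ ι : ZS S →* P, ι = Subgroup.inclusion D.hZP := ⟨_, rfl⟩
  have hιv : ∀ z : ZS S, ((ι z : P) : Ω) = z := fun z => by rw [hι]; rfl
  obtain ⟨C₀, hC₀⟩ : ∃ C₀ : Subgroup (ZS S), C₀ = MonoidHom.eqLocus ((b * u * b⁻¹).toMonoidHom.comp ι) ι := ⟨_, rfl⟩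
  have hmemC₀ : ∀ z : ZS S, z ∈ C₀ ↔ (b * u * b⁻¹) (ι z) = ι z := by
    intro z
    rw [hC₀]
    rfl
  have hKp := hC.hKp
  have hKpc : Nat.card ((ZK S).subgroupOf (ZS S)) = p := by
    rw [← hKp]
    exact Nat.card_congr (Subgroup.subgroupOfEquivOfLe hKZ).toEquiv
  have hk1' : (k : Ω) ≠ 1 := fun h => hM.hk1 (Subtype.ext h)
  obtain ⟨Z₁, h1, h2, h3⟩ := exists_inv_compl (A := ZS S) (p := p) ((F.autGroup S).map resZ)
    (not_dvd_card_image C.hS D.hF) ((ZK S).subgroupOf (ZS S)) C₀ hKpc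
    (by
      rintro _ ⟨α, -, rfl⟩ y hy
      apply Subgroup.mem_subgroupOf.mpr
      rw [resZ_apply]
      exact aut_ZK α (Subgroup.mem_subgroupOf.mp hy))
    (by
      rw [eq_bot_iff]
      rintro z ⟨hz1, hz2⟩
      rw [Subgroup.mem_bot]
      by_contra hz
      have hz1' : (z : Ω) ∈ ZK S := Subgroup.mem_subgroupOf.mp hz1
      have hz1n : (z : Ω) ≠ 1 := fun h => hz (Subtype.ext h)
      obtain ⟨j, hj⟩ := exists_zpow_of_card hKp hz1' hz1n hM.hk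
      have hz3 : (b * u * b⁻¹) (ι z) = ι z := (hmemC₀ z).1 hz2
      have e : k = (ι z) ^ j := Subtype.ext (by
        rw [← hj]
        simp [hιv])
      apply hM.vk
      rw [e, map_zpow, hz3])
    (by
      rw [eq_top_iff]
      intro z _
      obtain ⟨l, c, e, -, hvc, hcZ⟩ := hM.z_dec hC hP hxN hxP huC (ι z) (by
        rw [hιv, D.ZSN]
        exact z.2)
      rw [D.ZSN] at hcZ
      have hzc : z = (⟨(k : Ω) ^ l, hKZ ((ZK S).zpow_mem hM.hk l)⟩ : ZS S) * ⟨c, hcZ⟩ := Subtype.ext (by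
        have e1 := congrArg (fun y : P => (y : Ω)) e
        simp only [hιv] at e1
        rw [e1]
        simp)
      rw [hzc]
      refine Subgroup.mul_mem_sup (Subgroup.mem_subgroupOf.mpr ((ZK S).zpow_mem hM.hk l)) ?_
      rw [hmemC₀]
      have e2 : ι ⟨c, hcZ⟩ = c := Subtype.ext (hιv _)
      rw [e2]
      exact hvc)
  refine ⟨Z₁.map (ZS S).subtype, Subgroup.map_subtype_le _, ?_, ?_, ?_⟩
  · rintro _ ⟨z, hz, rfl⟩ hzK
    have : z ∈ (ZK S).subgroupOf (ZS S) ⊓ Z₁ := ⟨Subgroup.mem_subgroupOf.mpr hzK, hz⟩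
    rw [h1, Subgroup.mem_bot] at this
    rw [this]
    rfl
  · intro z hz
    have h4 : (⟨z, hz⟩ : ZS S) ∈ (ZK S).subgroupOf (ZS S) ⊔ Z₁ := by
      rw [h2]
      exact Subgroup.mem_top _
    obtain ⟨a', ha', c, hc, e⟩ := Subgroup.mem_sup.1 h4
    exact ⟨a', Subgroup.mem_subgroupOf.mp ha', c, ⟨c, hc, rfl⟩, (congrArg Subtype.val e).symm⟩
  · rintro β hβ _ ⟨z, hz, rfl⟩
    have h4 := h3 (resZ (autOfIso hβ)) ⟨_, autOfIso_mem hβ, rfl⟩ z hz
    exact ⟨_, h4, rfl⟩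

/-- The invariant complement is stable under the automizer of an abelian essential subgroup. -/
theorem AxP.stable (D : AxP C F P x) (hp2 : p ≠ 2) {Z₁ : Subgroup Ω} (hZ₁ : Z₁ ≤ ZS S) (hint : ∀ z ∈ Z₁, z ∈ ZK S → z = 1)
    (hst : ∀ β, Iso F S S β → ∀ z ∈ Z₁, β z ∈ Z₁) {a₀ : MulAut P} (ha₀ : a₀ ∈ F.autGroup P) (y : P) (hy : (y : Ω) ∈ Z₁) :
    ((a₀ y : P) : Ω) ∈ Z₁ := by
  classical
  haveI hfinN : Finite (normalizerIn S P) := NSys.finite_base P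
  obtain ⟨a, ha, haZ⟩ := D.exists_a2
  have hC := D.tvc
  have hP := D.tvp
  have hxN : a ∈ normalizerIn S P := D.Z2_le_N ha
  have hxP : a ∉ P := D.a2_not ha haZ
  obtain ⟨u, huC, -⟩ := exists_isC (F := NSys F P D.hPS) hP.le hxN (hP.normal hC hxN)
  have hZ₁' : Z₁ ≤ ZS (normalizerIn S P) := by
    rw [D.ZSN]
    exact hZ₁
  have hccN : CCx F (normalizerIn S P) :=
    ⟨isCentric_up D.hE.1 (le_normalizerIn D.hPS) normalizerIn_le, hC.hna⟩
  have hst' : ∀ β, Iso (NSys F P D.hPS) (normalizerIn S P) (normalizerIn S P) β → ∀ z ∈ Z₁, β z ∈ Z₁ := by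
    intro β hβ z hz
    obtain ⟨β', hβ', hβ'e⟩ := ext_center C D.hF (Nat.card S) _ _ β (by omega) hccN (NSys.iso_F D.hPS hβ)
    rw [hβ'e z (hZ₁ hz)]
    exact hst β' hβ' z hz
  obtain ⟨d, hd, n, hn, hnu, e⟩ := frat hC hP hxN hxP huC (H := fixOn P Z₁) (fun b' hb' z hz => by
    show b' (u (b'⁻¹ z)) = z
    have h1 := odd_key hC hP hxN hxP huC hp2 hZ₁' hst' hint hb' z hz
    rw [u_fix hC hP hxN huC h1]
    simp) (aut_NSys D.hPS ha₀)
  obtain ⟨ε, hε, hεn⟩ := lift_norm hC hP hxN hxP huC hn hnu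
  have h1 : ((n y : P) : Ω) ∈ Z₁ := by
    rw [← hεn]
    exact hst' ε hε _ hy
  rw [e]
  show ((d (n y) : P) : Ω) ∈ Z₁
  rw [hd _ h1]
  exact h1

end

end Cfsg.Agent.H25
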