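import Cfsg.Agent.Lib.H25.InvB
import Cfsg.Agent.Lib.H25.Rad2
import Cfsg.Agent.Lib.H25.AxH
set_option autoImplicit false
set_option linter.style.haveILetI false

/-! Normal subsystems of constrained systems are constrained. -/

namespace Cfsg.Agent.H25

open Cfsg Cfsg.FusionSystem

universe u

variable {Ω : Type u} [Group Ω] {S T : Subgroup Ω} {F : FusionSystem S} {E : FusionSystem T} {p : ℕ}
variable {P Q R U H : Subgroup Ω} {f g : Ω → Ω} {α : MulAut T}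

/-- A criterion for a subgroup to lie in an essential subgroup. -/
theorem le_ess_of_rule [Finite S] [Fact p.Prime] (hS : IsPGroup p S) (hF : F.IsSaturated p) (hE : F.IsEssential p P)
    (hHS : H ≤ S) (hHn : ∀ s ∈ S, ∀ h ∈ H, s * h * s⁻¹ ∈ H)
    (hinv : ∀ a ∈ F.autGroup P, ∀ t : P, (t : Ω) ∈ H → ((a t : P) : Ω) ∈ H)
    (hrule : ∀ a ∈ F.autGroup P, ∀ x ∈ H, ∀ c : MulAut P, IsC x c → ∃ y ∈ H, ∀ u : P, (u : Ω) ∈ H → ((a (c u) : P) : Ω) = y * (a u : P) * y⁻¹) :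
    H ≤ P := by
  classical
  have hPS : P ≤ S := hE.1.1
  by_contra hne
  -- an element of `H` normalizing `P`
  obtain ⟨x, hxH, hxN, hxP⟩ : ∃ x ∈ H, x ∈ Subgroup.normalizer (P : Set Ω) ∧ x ∉ P := by
    have hLS : P ⊔ H ≤ S := sup_le hPS hHS
    haveI : Finite ↥(P ⊔ H) := finite_of_le hLS
    have hne' : P ≠ P ⊔ H := fun h => hne (h ▸ le_sup_right)
    obtain ⟨g₁, hg₁, hg₁P⟩ := exists_normalizer_not_mem (hS.to_le hLS) le_sup_left hne'
    have hA : P ≤ Subgroup.normalizer (H : Set Ω) := fun t ht =>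
      mem_normalizer_of_conj (fun y hy => hHn t (hPS ht) y hy) (fun y hy => by
        have := hHn t⁻¹ (S.inv_mem (hPS ht)) y hy
        simpa using this)
    have hg₁' : g₁ ∈ H ⊔ P := by
      rw [sup_comm]
      exact hg₁.1
    obtain ⟨n, hn, a, ha, e⟩ := Cfsg.Agent.H01.exists_mul_of_mem_sup hA hg₁'
    have hna : n = g₁ * a⁻¹ := by
      rw [e]
      group
    have haN : a ∈ Subgroup.normalizer (P : Set Ω) := (le_normalizerIn hPS ha).2
    refine ⟨n, hn, ?_, fun h => hg₁P ?_⟩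
    · rw [hna]
      exact Subgroup.mul_mem _ hg₁.2 (Subgroup.inv_mem _ haN)
    · rw [e]
      exact P.mul_mem h ha
  have hxS : x ∈ S := hHS hxH
  obtain ⟨Γ, hΓle, hΓne, -, hΓ⟩ := ess_gamma hS hF hE
  obtain ⟨g₀, hg₀, hg₀Γ⟩ : ∃ a ∈ F.autGroup P, a ∉ Γ := by
    by_contra hcon
    push Not at hcon
    exact hΓne (le_antisymm hΓle hcon)
  obtain ⟨c, hcC, -⟩ := exists_isC (F := F) hPS hxS hxN
  have hUinv : ∀ (a : MulAut P), a ∈ F.autGroup P → ∀ t : P, (t : Ω) ∈ P ⊓ H → ((a t : P) : Ω) ∈ P ⊓ H :=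
    fun a ha t ht => ⟨(a t).2, hinv a ha t ht.2⟩
  have hcD : c ∈ DD P (P ⊓ H) H := by
    refine ⟨fun t => ?_, x, hxH, fun u _ => hcC u⟩
    rw [hcC t]
    refine ⟨P.mul_mem (P.inv_mem t.2) (conj_mem_of_normalizer hxN t.2), ?_⟩
    have e : (t : Ω)⁻¹ * (x * (t : Ω) * x⁻¹) = ((t : Ω)⁻¹ * x * (t : Ω)⁻¹⁻¹) * x⁻¹ := by group
    rw [e]
    exact H.mul_mem (hHn _ (S.inv_mem (hPS t.2)) _ hxH) (H.inv_mem hxH)
  have hvD : g₀ * c * g₀⁻¹ ∈ DD P (P ⊓ H) H := by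
    obtain ⟨y, hy, hyr⟩ := hrule g₀ hg₀ x hxH c hcC
    refine ⟨fun t => ?_, y, hy, fun u hu => ?_⟩
    · obtain ⟨s, hs⟩ : ∃ s : P, s = g₀⁻¹ t := ⟨_, rfl⟩
      have ht : t = g₀ s := by
        rw [hs]
        simp
      have e : (g₀ * c * g₀⁻¹) t = g₀ (c s) := by
        show g₀ (c (g₀⁻¹ t)) = _
        rw [hs]
      rw [e]
      have e2 : (((g₀ (((s⁻¹ : P) * c s)) : P)) : Ω) = (t : Ω)⁻¹ * (g₀ (c s) : P) := by
        rw [map_mul, map_inv, ← ht]
        rfl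
      have h2 : ((((s⁻¹ : P) * c s : P)) : Ω) ∈ P ⊓ H := hcD.1 s
      have h3 := hUinv g₀ hg₀ _ h2
      rwa [e2] at h3
    · obtain ⟨s, hs⟩ : ∃ s : P, s = g₀⁻¹ u := ⟨_, rfl⟩
      have hu' : u = g₀ s := by
        rw [hs]
        simp
      have hsU : (s : Ω) ∈ P ⊓ H := by
        rw [hs]
        exact hUinv g₀⁻¹ (inv_mem hg₀) u hu
      have e : (g₀ * c * g₀⁻¹) u = g₀ (c s) := by
        show g₀ (c (g₀⁻¹ u)) = _
        rw [hs]
      rw [e, hyr s hsU.2, ← hu']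
  haveI hfinU : Finite ↥(P ⊓ H) := finite_of_le (inf_le_left.trans hPS)
  have hpg : IsPGroup p (DD P (P ⊓ H) H) := DD_isPGroup (hS.to_le (inf_le_left.trans hPS)) (hS.to_le hHS)
  apply hg₀Γ
  refine hΓ g₀ hg₀ x x c c hxS hxS hxP hxP hcC hcC (hpg.to_le ?_)
  rw [Subgroup.closure_le]
  rintro z (rfl | rfl)
  · exact hcD
  · exact hvD

/-- In a constrained system the core is centric and radical. -/
theorem core_radical [Finite S] [Fact p.Prime] (hS : IsPGroup p S) (hF : F.IsConstrained p) :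
    F.IsNormal F.core ∧ F.IsCentric F.core ∧ F.IsRadical p F.core := by
  classical
  obtain ⟨hsat, Q₀, hQ₀, hQ₀c⟩ := hF
  have hN := Cfsg.Agent.H24.isNormal_core (F := F)
  have hQS : F.core ≤ S := hN.1
  have hQc : F.IsCentric F.core := isCentric_up hQ₀c (le_sSup hQ₀) hQS
  refine ⟨hN, hQc, ?_⟩
  have hSN : S ≤ Subgroup.normalizer ((F.core : Subgroup Ω) : Set Ω) := Cfsg.Agent.H24.normalizer_of_isNormal hN
  have hQf : F.IsFullyNormalized F.core := fullyNormalized_of_normal hQS hSN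
  by_contra hrad
  obtain ⟨N, hNN⟩ := exists_isNormalizerSystem (F := F) hQS
  have hcon := Cfsg.Agent.H24.constrained_normalizerSystem hS hsat hQf hQc hNN
  haveI hfinN : Finite (normalizerIn S F.core) := NSys.finite_base _
  obtain ⟨L, _, ι, hL⟩ := Cfsg.Agent.H24.exists_model (hS.to_le normalizerIn_le) hcon
  have hlt := lt_core_of_not_radical hS hsat hQf hQc hrad hNN hL
  have hX := Cfsg.Agent.H24.isNormal_core (F := N)
  have hXF : F.IsNormal N.core := by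
    refine ⟨hX.1.trans normalizerIn_le, fun P φ hφ => ?_⟩
    have hφN : φ ∈ N.Hom P := by
      rw [hNN P]
      have hPS : P ≤ S := (mp_of_mem hφ).le
      have hPN : P ≤ normalizerIn S F.core := fun y hy => ⟨hPS hy, hSN (hPS hy)⟩
      refine ⟨hφ, hPN, fun x => ?_, hN.2 P φ hφ⟩
      have h1 := (mp_of_mem hφ).mem x.2
      rw [toFun_coe φ x] at h1
      exact ⟨h1, hSN h1⟩
    obtain ⟨ψ, hψ, h1, h2⟩ := hX.2 P φ hφN
    rw [hNN _] at hψ
    exact ⟨ψ, hψ.1, h1, h2⟩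
  have hle : N.core ≤ F.core := le_sSup hXF
  exact absurd hle (not_le_of_gt hlt)

/-- **Normal subsystems of constrained systems are constrained.** -/
theorem constrained_of_normalIn [Finite S] [Fact p.Prime] (hS : IsPGroup p S) (hF : F.IsConstrained p) (hE : E.IsNormalIn F p) :
    E.IsConstrained p := by
  classical
  obtain ⟨hEs, -, hI⟩ := hE.1
  have hTS := inv_le hI
  haveI hfinT : Finite T := finite_of_le hTS
  have hT : IsPGroup p T := hS.to_le hTS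
  obtain ⟨hQn, hQc, hQr⟩ := core_radical hS hF
  obtain ⟨Q, hQdef⟩ : ∃ Q, Q = F.core := ⟨_, rfl⟩
  rw [← hQdef] at hQn hQc hQr
  have hQS : Q ≤ S := hQn.1
  have hSN : S ≤ Subgroup.normalizer (Q : Set Ω) := Cfsg.Agent.H24.normalizer_of_isNormal hQn
  have hsc_T : ∀ {Y : Subgroup Ω} {f : Ω → Ω}, Y ≤ T → Mp F Y f → ∀ y ∈ Y, f y ∈ T := by
    intro Y f hY hf y hy
    obtain ⟨φ, hφ, e⟩ := hf
    rw [← e ⟨y, hy⟩]
    exact hI.2.1.2 Y hY φ hφ ⟨y, hy⟩
  have hTconj : ∀ s ∈ S, ∀ t ∈ T, s * t * s⁻¹ ∈ T := fun s hs t ht =>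
    hsc_T (Y := T) le_rfl (Mp.conj hTS hs) t ht
  have hRn : ∀ s ∈ T, ∀ h ∈ Q ⊓ T, s * h * s⁻¹ ∈ Q ⊓ T := fun s hs h hh =>
    ⟨conj_mem_of_normalizer (hSN (hTS hs)) hh.1, T.mul_mem (T.mul_mem hs hh.2) (T.inv_mem hs)⟩
  -- stability of `R`
  have hst : ∀ P, P ≤ T → Q ⊓ T ≤ P → ∀ a ∈ E.autGroup P, ∀ y : P, (y : Ω) ∈ Q ⊓ T → ((a y : P) : Ω) ∈ Q ⊓ T := by
    intro P hPT hRP a ha y hy
    have hm : Mp E P (toFun (P.subtype.comp a.toMonoidHom)) := Mp.of_mem_autGroup hPT ha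
    obtain ⟨ĥ, hĥ, hĥe, hĥg⟩ := normal_ext hQn (inv_mp_sub hI hm)
    have h1 := hĥg.1 y hy.1
    rw [hĥe y y.2, toFun_aut] at h1
    exact ⟨h1, hPT (a y).2⟩
  have hRN : E.IsNormal (Q ⊓ T) := by
    refine Cfsg.Agent.H24.isNormal_of_aut hT hEs inf_le_right ?_
    rintro P (rfl | hP)
    · exact ⟨inf_le_right, fun a ha => map_eq_of_stable (hst _ le_rfl inf_le_right a ha) (hst _ le_rfl inf_le_right a⁻¹ (inv_mem ha))⟩
    · have hPT : P ≤ T := hP.1.1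
      have hle : Q ⊓ T ≤ P := by
        refine le_ess_of_rule hT hEs hP inf_le_right hRn (fun a ha t ht => ?_) ?_
        · -- stability of `P ∩ R`
          have hm : Mp E P (toFun (P.subtype.comp a.toMonoidHom)) := Mp.of_mem_autGroup hPT ha
          obtain ⟨ĥ, hĥ, hĥe, hĥg⟩ := normal_ext hQn (inv_mp_sub hI hm)
          have h1 := hĥg.1 t ht.1
          rw [hĥe t t.2, toFun_aut] at h1
          exact ⟨h1, hPT (a t).2⟩
        · intro a ha x hx c hc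
          have hm : Mp E P (toFun (P.subtype.comp a.toMonoidHom)) := Mp.of_mem_autGroup hPT ha
          obtain ⟨b, hb, hbe, hbg⟩ := normal_ext hQn (inv_mp_sub hI hm)
          have hxL : x ∈ P ⊔ Q := Subgroup.mem_sup_right hx.1
          refine ⟨b x, ⟨hbg.1 x hx.1, ?_⟩, fun u hu => ?_⟩
          · exact hsc_T (Y := Q ⊓ T) inf_le_right (hb.restrict (inf_le_left.trans le_sup_right)) x hx
          · have h1 := hbe _ (c u).2
            rw [toFun_aut] at h1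
            rw [← h1, hc u]
            have huL : (u : Ω) ∈ P ⊔ Q := Subgroup.mem_sup_left u.2
            rw [hb.map_mul (Subgroup.mul_mem _ hxL huL) (Subgroup.inv_mem _ hxL), hb.map_mul hxL huL, hb.map_inv hxL]
            have h2 := hbe _ u.2
            rw [toFun_aut] at h2
            rw [h2]
      exact ⟨hle, fun a ha => map_eq_of_stable (hst _ hPT hle a ha) (hst _ hPT hle a⁻¹ (inv_mem ha))⟩
  refine ⟨hEs, Q ⊓ T, hRN, Cfsg.Agent.H24.centric_of_normal hRN ?_⟩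
  -- the centralizer of `R` in `T`
  intro c hc
  obtain ⟨hcT, hcc⟩ := mem_centralizerIn.mp hc
  have hcS := hTS hcT
  obtain ⟨γ, hγC, hγm⟩ := exists_isC (F := F) hQS hcS (hSN hcS)
  have hQinv : ∀ a ∈ F.autGroup Q, ∀ t : Q, (t : Ω) ∈ T → ((a t : Q) : Ω) ∈ T := by
    intro a ha t ht
    have h1 := hsc_T (Y := Q ⊓ T) inf_le_right ((Mp.of_mem_autGroup hQS ha).restrict inf_le_left) t ⟨t.2, ht⟩
    rwa [toFun_aut] at h1
  have hiff : ∀ a ∈ F.autGroup Q, ∀ t : Q, (t : Ω) ∈ Q ⊓ T ↔ ((a t : Q) : Ω) ∈ Q ⊓ T := by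
    intro a ha t
    constructor
    · intro h
      exact ⟨(a t).2, hQinv a ha t h.2⟩
    · intro h
      have h1 := hQinv a⁻¹ (inv_mem ha) (a t) h.2
      have e : a⁻¹ (a t) = t := by simp
      rw [e] at h1
      exact ⟨t.2, h1⟩
  have hγst : γ ∈ stabCh Q (Q ⊓ T) := by
    refine ⟨fun t ht => Subtype.ext ?_, fun t => ?_⟩
    · rw [hγC t, ← hcc _ ht]
      group
    · rw [hγC t]
      refine ⟨Q.mul_mem (Q.inv_mem t.2) (conj_mem_of_normalizer (hSN hcS) t.2), ?_⟩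
      have e : (t : Ω)⁻¹ * (c * (t : Ω) * c⁻¹) = ((t : Ω)⁻¹ * c * (t : Ω)⁻¹⁻¹) * c⁻¹ := by group
      rw [e]
      exact T.mul_mem (hTconj _ (S.inv_mem (hQS t.2)) c hcT) (T.inv_mem hcT)
  have hW : stabCh Q (Q ⊓ T) ⊓ F.autGroup Q ≤ pCoreOf p (F.autGroup Q) := by
    haveI hfinR : Finite ↥(Q ⊓ T) := finite_of_le (inf_le_right.trans hTS)
    haveI hfinQ : Finite ↥Q := finite_of_le hQS
    haveI : Finite (MulAut ↥Q) := MulEquiv.finite_left
    refine Cfsg.Agent.H13.le_pCoreOf inf_le_right ((stabCh_isPGroup (hS.to_le (inf_le_right.trans hTS))).to_le inf_le_left) ?_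
    intro b hb
    rw [Subgroup.mem_normalizer_iff]
    intro z
    constructor
    · rintro ⟨hz1, hz2⟩
      exact ⟨conj_mem_stabCh hz1 (hiff b hb), Subgroup.mul_mem _ (Subgroup.mul_mem _ hb hz2) (Subgroup.inv_mem _ hb)⟩
    · rintro ⟨hz1, hz2⟩
      have h1 := conj_mem_stabCh hz1 (hiff b⁻¹ (Subgroup.inv_mem _ hb))
      refine ⟨by simpa [mul_assoc] using h1, ?_⟩
      have h2 := Subgroup.mul_mem _ (Subgroup.mul_mem _ (Subgroup.inv_mem _ hb) hz2) hb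
      simpa [mul_assoc] using h2
  have hγI : γ ∈ Inn Q := by
    have h1 := hW ⟨hγst, hγm⟩
    rw [← hQr.2]
    exact h1
  obtain ⟨q, hq, hqC⟩ := IsC.of_inn hγI
  have h2 : q⁻¹ * c ∈ Q := by
    refine hQc.2 Q (isConj_refl hQS) (mem_centralizerIn.mpr ⟨S.mul_mem (S.inv_mem (hQS hq)) hcS, fun y hy => ?_⟩)
    have h4 : c * y * c⁻¹ = q * y * q⁻¹ := (hγC ⟨y, hy⟩).symm.trans (hqC ⟨y, hy⟩)
    have h5 : c * y = q * y * q⁻¹ * c := by
      rw [← h4]
      group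
    calc y * (q⁻¹ * c) = q⁻¹ * (q * y * q⁻¹ * c) := by group
      _ = q⁻¹ * (c * y) := by rw [h5]
      _ = q⁻¹ * c * y := by group
  have h3 := Q.mul_mem hq h2
  have e : q * (q⁻¹ * c) = c := by group
  rw [e] at h3
  exact ⟨h3, hcT⟩

end Cfsg.Agent.H25
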