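import Cfsg.Agent.Lib.H25.TvE
set_option autoImplicit false
set_option linter.style.haveILetI false

/-! Nonabelian `p`-groups with an abelian subgroup of index `p`. -/

namespace Cfsg.Agent.H25

open Cfsg Cfsg.FusionSystem

variable {Ω : Type*} [Group Ω] {S : Subgroup Ω} {F : FusionSystem S} {p : ℕ} [Finite S] [Fact p.Prime]
variable {A P : Subgroup Ω} {x : Ω}

/-- `A` abelian of index `p` in the nonabelian `p`-group `S`. -/
structure AxC (S A : Subgroup Ω) (p : ℕ) : Prop where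
  hS : IsPGroup p S
  le : A ≤ S
  ab : ∀ s ∈ A, ∀ t ∈ A, s * t = t * s
  idx : (A.subgroupOf S).index = p
  na : ∃ s ∈ S, ∃ t ∈ S, s * t ≠ t * s

omit [Finite S] in
theorem AxC.le_of (C : AxC S A p) {y : Ω} (hyS : y ∈ S) (hyP : y ∉ A) {L : Subgroup Ω} (hPL : A ≤ L) (hyL : y ∈ L) :
    S ≤ L := by
  have h := eq_top_of_index_prime (L := L.subgroupOf S) C.idx
    (fun z hz => Subgroup.mem_subgroupOf.mpr (hPL (Subgroup.mem_subgroupOf.mp hz)))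
    (x := ⟨y, hyS⟩) (Subgroup.mem_subgroupOf.mpr hyL) (fun h => hyP (Subgroup.mem_subgroupOf.mp h))
  intro s hs
  have h1 : (⟨s, hs⟩ : S) ∈ L.subgroupOf S := by
    rw [h]
    exact Subgroup.mem_top _
  exact Subgroup.mem_subgroupOf.mp h1

theorem AxC.conj_mem (C : AxC S A p) {s a : Ω} (hs : s ∈ S) (ha : a ∈ A) : s * a * s⁻¹ ∈ A := by
  have hnt : Nat.card S ≠ 1 := by
    obtain ⟨s₁, hs₁, t₁, ht₁, hst⟩ := C.na
    intro h1
    haveI : Subsingleton S := (Nat.card_eq_one_iff_unique.1 h1).1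
    have e : (⟨s₁, hs₁⟩ : S) = ⟨1, S.one_mem⟩ := Subsingleton.elim _ _
    have e' : (⟨t₁, ht₁⟩ : S) = ⟨1, S.one_mem⟩ := Subsingleton.elim _ _
    have e1 : s₁ = 1 := congrArg Subtype.val e
    have e2 : t₁ = 1 := congrArg Subtype.val e'
    apply hst
    rw [e1, e2]
  obtain ⟨n, hn⟩ := IsPGroup.iff_card.1 C.hS
  have hn0 : n ≠ 0 := by
    rintro rfl
    apply hnt
    rw [hn, pow_zero]
  have hN : (A.subgroupOf S).Normal := by
    apply Subgroup.normal_of_index_eq_minFac_card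
    rw [C.idx, hn, Nat.Prime.pow_minFac (Fact.out : p.Prime) hn0]
  have h1 := hN.conj_mem ⟨a, C.le ha⟩ (Subgroup.mem_subgroupOf.mpr ha) ⟨s, hs⟩
  exact Subgroup.mem_subgroupOf.mp h1

theorem AxC.normal (C : AxC S A p) : S ≤ Subgroup.normalizer (A : Set Ω) := by
  intro s hs
  exact mem_normalizer_of_conj (fun y hy => C.conj_mem hs hy) (fun y hy => by
    have := C.conj_mem (S.inv_mem hs) hy
    simpa using this)

theorem AxC.decomp (C : AxC S A p) (hxS : x ∈ S) (hxP : x ∉ A) {s : Ω} (hs : s ∈ S) :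
    ∃ r ∈ A, ∃ i : ℤ, s = r * x ^ i := by
  have h1 : S ≤ A ⊔ Subgroup.zpowers x :=
    C.le_of hxS hxP le_sup_left (Subgroup.mem_sup_right (Subgroup.mem_zpowers x))
  have hA : Subgroup.zpowers x ≤ Subgroup.normalizer (A : Set Ω) := by
    rw [Subgroup.zpowers_le]
    exact C.normal hxS
  obtain ⟨r, hr, a, ⟨i, rfl⟩, e⟩ := Cfsg.Agent.H01.exists_mul_of_mem_sup hA (h1 hs)
  exact ⟨r, hr, i, e⟩

theorem AxC.exists_x (C : AxC S A p) : ∃ y ∈ S, y ∉ A := by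
  by_contra hcon
  push Not at hcon
  have h1 : A.subgroupOf S = ⊤ := by
    rw [eq_top_iff]
    intro y _
    exact Subgroup.mem_subgroupOf.mpr (hcon y y.2)
  have h2 := C.idx
  rw [h1, Subgroup.index_top] at h2
  exact (Fact.out : p.Prime).one_lt.ne h2

/-- The centre lies in `A`. -/
theorem AxC.zl (C : AxC S A p) : ZS S ≤ A := by
  intro z hz
  by_contra hzA
  obtain ⟨s, hs, t, ht, hst⟩ := C.na
  apply hst
  obtain ⟨r, hr, i, rfl⟩ := C.decomp hz.1 hzA hs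
  obtain ⟨r', hr', j, rfl⟩ := C.decomp hz.1 hzA ht
  have hc : ∀ y ∈ S, y * z = z * y := (mem_ZS.mp hz).2
  have h1 : Commute r z := hc r (C.le hr)
  have h2 : Commute r' z := hc r' (C.le hr')
  have h3 : Commute r r' := C.ab r hr r' hr'
  have e1 : Commute (r * z ^ i) (r' * z ^ j) := by
    apply Commute.mul_left
    · apply Commute.mul_right h3 (h1.zpow_right j)
    · apply Commute.mul_right (h2.symm.zpow_left i) ((Commute.refl z).zpow_zpow i j)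
  exact e1

theorem AxC.tvp (C : AxC S A p) : TvP S p A := ⟨C.le, C.zl, C.ab, C.idx⟩

theorem AxC.mem_Z (C : AxC S A p) (hxS : x ∈ S) (hxA : x ∉ A) {t : Ω} (ht : t ∈ A) (hc : x * t * x⁻¹ = t) : t ∈ ZS S :=
  C.tvp.mem_Z hxS hxA ht hc

/-- The second centre, as a subgroup of the ambient group. -/
abbrev Z2 (S : Subgroup Ω) : Subgroup Ω := (upperCentralSeries S 2).map S.subtype

theorem mem_Z2 {y : Ω} : y ∈ Z2 S ↔ y ∈ S ∧ ∀ s ∈ S, y * s * y⁻¹ * s⁻¹ ∈ ZS S := by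
  constructor
  · rintro ⟨w, hw, rfl⟩
    refine ⟨w.2, fun s hs => ?_⟩
    have h1 := (mem_upperCentralSeries_succ_iff (n := 1) (G := S)).1 hw ⟨s, hs⟩
    rw [upperCentralSeries_one] at h1
    have h2 := Subgroup.mem_center_iff.1 h1
    refine mem_ZS.mpr ⟨?_, fun t ht => ?_⟩
    · exact S.mul_mem (S.mul_mem (S.mul_mem w.2 hs) (S.inv_mem w.2)) (S.inv_mem hs)
    · exact congrArg Subtype.val (h2 ⟨t, ht⟩)
  · rintro ⟨hyS, hy⟩
    refine ⟨⟨y, hyS⟩, ?_, rfl⟩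
    apply (mem_upperCentralSeries_succ_iff (n := 1) (G := S)).2
    intro s
    rw [upperCentralSeries_one]
    apply Subgroup.mem_center_iff.2
    intro t
    apply Subtype.ext
    exact (mem_ZS.mp (hy s s.2)).2 t t.2

theorem ZS_le_Z2 : ZS S ≤ Z2 S := by
  intro z hz
  refine mem_Z2.mpr ⟨hz.1, fun s hs => ?_⟩
  have h1 := (mem_ZS.mp hz).2 s hs
  have e : z * s * z⁻¹ * s⁻¹ = 1 := by
    rw [← h1]
    group
  rw [e]
  exact (ZS S).one_mem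

/-- Criterion for `Z₂` on `A`. -/
theorem AxC.mem_Z2_of (C : AxC S A p) (hxS : x ∈ S) (hxA : x ∉ A) {a : Ω} (ha : a ∈ A) (h : a * x * a⁻¹ * x⁻¹ ∈ ZS S) :
    a ∈ Z2 S := by
  refine mem_Z2.mpr ⟨C.le ha, fun s hs => ?_⟩
  obtain ⟨r, hr, i, rfl⟩ := C.decomp hxS hxA hs
  obtain ⟨w, hw⟩ : ∃ w, w = a * x * a⁻¹ * x⁻¹ := ⟨_, rfl⟩
  rw [← hw] at h
  have hcx : Commute w x := (mem_ZS.mp h).2 x hxS |>.symm
  have e1 : a * x * a⁻¹ = w * x := by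
    rw [hw]
    group
  have e2 : a * x ^ i * a⁻¹ = (w * x) ^ i := by
    rw [← e1, conj_zpow]
  have e3 : a * (r * x ^ i) * a⁻¹ * (r * x ^ i)⁻¹ = r * (w ^ i) * r⁻¹ := by
    have h1 : a * r = r * a := C.ab a ha r hr
    calc a * (r * x ^ i) * a⁻¹ * (r * x ^ i)⁻¹ = (a * r) * x ^ i * a⁻¹ * (x ^ i)⁻¹ * r⁻¹ := by group
      _ = r * (a * x ^ i * a⁻¹) * (x ^ i)⁻¹ * r⁻¹ := by rw [h1]; group
      _ = r * (w * x) ^ i * (x ^ i)⁻¹ * r⁻¹ := by rw [e2]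
      _ = r * (w ^ i * x ^ i) * (x ^ i)⁻¹ * r⁻¹ := by rw [hcx.mul_zpow]
      _ = _ := by group
  rw [e3]
  have h5 : w ^ i ∈ ZS S := (ZS S).zpow_mem h i
  have h6 := (mem_ZS.mp h5).2 r (C.le hr)
  rw [h6]
  simpa using h5

/-- The commutator map with `x` on a subgroup of `A`. -/
def tauOn (C : AxC S A p) (x : Ω) (hxS : x ∈ S) {Y : Subgroup Ω} (hY : Y ≤ A) : Y →* Ω :=
  MonoidHom.mk' (fun a => (a : Ω) * x * (a : Ω)⁻¹ * x⁻¹) (by
    intro a b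
    have h1 : x * (a : Ω)⁻¹ * x⁻¹ ∈ A := C.conj_mem hxS (A.inv_mem (hY a.2))
    have h2 : x * (b : Ω)⁻¹ * x⁻¹ ∈ A := C.conj_mem hxS (A.inv_mem (hY b.2))
    have h3 : (b : Ω) * (x * (b : Ω)⁻¹ * x⁻¹) ∈ A := A.mul_mem (hY b.2) h2
    have h4 := C.ab _ h3 _ h1
    show ((a : Ω) * b) * x * ((a : Ω) * b)⁻¹ * x⁻¹ = ((a : Ω) * x * (a : Ω)⁻¹ * x⁻¹) * ((b : Ω) * x * (b : Ω)⁻¹ * x⁻¹)
    calc ((a : Ω) * b) * x * ((a : Ω) * b)⁻¹ * x⁻¹ = (a : Ω) * (((b : Ω) * (x * (b : Ω)⁻¹ * x⁻¹)) * (x * (a : Ω)⁻¹ * x⁻¹)) := by group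
      _ = (a : Ω) * ((x * (a : Ω)⁻¹ * x⁻¹) * ((b : Ω) * (x * (b : Ω)⁻¹ * x⁻¹))) := by rw [h4]
      _ = _ := by group)

theorem tauOn_apply (C : AxC S A p) (hxS : x ∈ S) {Y : Subgroup Ω} (hY : Y ≤ A) (a : Y) :
    tauOn C x hxS hY a = (a : Ω) * x * (a : Ω)⁻¹ * x⁻¹ := rfl

theorem tauOn_mem (C : AxC S A p) (hxS : x ∈ S) {Y : Subgroup Ω} (hY : Y ≤ A) (a : Y) :
    tauOn C x hxS hY a ∈ A := by
  rw [tauOn_apply]
  have h1 : x * (a : Ω)⁻¹ * x⁻¹ ∈ A := C.conj_mem hxS (A.inv_mem (hY a.2))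
  have e : (a : Ω) * x * (a : Ω)⁻¹ * x⁻¹ = (a : Ω) * (x * (a : Ω)⁻¹ * x⁻¹) := by group
  rw [e]
  exact A.mul_mem (hY a.2) h1

theorem tau_ker (C : AxC S A p) (hxS : x ∈ S) (hxA : x ∉ A) {Y : Subgroup Ω} (hY : Y ≤ A) :
    (tauOn C x hxS hY).ker = (ZS S).subgroupOf Y := by
  ext a
  rw [MonoidHom.mem_ker, tauOn_apply, Subgroup.mem_subgroupOf]
  constructor
  · intro h
    apply C.mem_Z hxS hxA (hY a.2)
    rw [mul_inv_eq_one, mul_inv_eq_iff_eq_mul] at h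
    rw [← h]
    group
  · intro h
    have h1 := (mem_ZS.mp h).2 x hxS
    rw [← h1]
    group

/-- A criterion for the index of a subgroup. -/
theorem index_eq_of_gen {Q N : Subgroup Ω} [Finite N] (hQN : Q ≤ N) (hN : N ≤ Subgroup.normalizer (Q : Set Ω))
    {a₀ : Ω} (ha₀ : a₀ ∈ N) (ha₀Q : a₀ ∉ Q) (hpow : a₀ ^ p ∈ Q) (hgen : ∀ w ∈ N, ∃ t ∈ Q, ∃ i : ℤ, w = t * a₀ ^ i) :
    (Q.subgroupOf N).index = p := by
  classical
  haveI hn : (Q.subgroupOf N).Normal := by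
    refine ⟨fun n hn g => ?_⟩
    rw [Subgroup.mem_subgroupOf] at hn ⊢
    exact conj_mem_of_normalizer (hN g.2) hn
  let q : N ⧸ Q.subgroupOf N := QuotientGroup.mk (⟨a₀, ha₀⟩ : N)
  have hq1 : q ^ p = 1 := by
    show ((QuotientGroup.mk ((⟨a₀, ha₀⟩ : N) ^ p)) : N ⧸ Q.subgroupOf N) = 1
    rw [QuotientGroup.eq_one_iff, Subgroup.mem_subgroupOf]
    simpa using hpow
  have hq2 : q ≠ 1 := by
    intro h
    have := (QuotientGroup.eq_one_iff _).1 h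
    exact ha₀Q (Subgroup.mem_subgroupOf.mp this)
  have hord : orderOf q = p := orderOf_eq_prime hq1 hq2
  have hgen' : ∀ y : N ⧸ Q.subgroupOf N, y ∈ Subgroup.zpowers q := by
    intro y
    obtain ⟨w, rfl⟩ := QuotientGroup.mk_surjective y
    obtain ⟨t, ht, i, e⟩ := hgen w w.2
    refine ⟨i, ?_⟩
    have e1 : w = (⟨t, hQN ht⟩ : N) * (⟨a₀, ha₀⟩ : N) ^ i := Subtype.ext (by simpa using e)
    have e2 : ((QuotientGroup.mk (⟨t, hQN ht⟩ : N)) : N ⧸ Q.subgroupOf N) = 1 :=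
      (QuotientGroup.eq_one_iff _).2 (Subgroup.mem_subgroupOf.mpr ht)
    show q ^ i = QuotientGroup.mk w
    rw [e1, QuotientGroup.mk_mul, e2, one_mul, QuotientGroup.mk_zpow]
  rw [Subgroup.index_eq_card, ← hord]
  exact (orderOf_eq_card_of_forall_mem_zpowers hgen').symm

end Cfsg.Agent.H25
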