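import Cfsg.Agent.Lib.H25.AxA
set_option autoImplicit false
set_option linter.style.haveILetI false

/-! Essential subgroups over a group with an abelian subgroup of index `p`: the trivial intersection argument. -/

namespace Cfsg.Agent.H25

open Cfsg Cfsg.FusionSystem

variable {Ω : Type*} [Group Ω] {S : Subgroup Ω} {F : FusionSystem S} {p : ℕ} [Finite S] [Fact p.Prime]
variable {A P : Subgroup Ω} {x : Ω}

theorem imO_comm {b : MulAut P} {L : Subgroup Ω} (hL : ∀ s ∈ L, ∀ t ∈ L, s * t = t * s) :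
    ∀ s ∈ imO b L, ∀ t ∈ imO b L, s * t = t * s := by
  intro s hs t ht
  have hsP : s ∈ P := imO_le hs
  have htP : t ∈ P := imO_le ht
  have h1 := (mem_imO (⟨s, hsP⟩ : P)).1 hs
  have h2 := (mem_imO (⟨t, htP⟩ : P)).1 ht
  have h3 := hL _ h1 _ h2
  have h4 : b⁻¹ ⟨s, hsP⟩ * b⁻¹ ⟨t, htP⟩ = b⁻¹ ⟨t, htP⟩ * b⁻¹ ⟨s, hsP⟩ := Subtype.ext h3
  rw [← map_mul, ← map_mul] at h4
  exact congrArg Subtype.val ((b⁻¹).injective h4)

theorem mem_imO_self {b : MulAut P} {L : Subgroup Ω} (t : P) : ((b t : P) : Ω) ∈ imO b L ↔ (t : Ω) ∈ L := by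
  rw [mem_imO]
  have : b⁻¹ (b t) = t := by simp
  rw [this]

section

variable (C : AxC S A p)

include C

theorem ax_dec (hPS : P ≤ S) {y t : Ω} (hyP : y ∈ P) (hyA : y ∉ A) (ht : t ∈ P) : ∃ r ∈ P ⊓ A, ∃ i : ℤ, t = r * y ^ i := by
  obtain ⟨r, hr, i, e⟩ := C.decomp (hPS hyP) hyA (hPS ht)
  refine ⟨r, ⟨?_, hr⟩, i, e⟩
  have h1 : r = t * (y ^ i)⁻¹ := by
    rw [e]
    group
  rw [h1]
  exact P.mul_mem ht (P.inv_mem (P.zpow_mem hyP i))

theorem ax_not_le (hE : F.IsEssential p P) (hne : P ≠ A) : ¬ P ≤ A := by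
  intro h
  apply hne
  apply le_antisymm h
  intro a ha
  apply hE.1.2 P (isConj_refl hE.1.1)
  exact mem_centralizerIn.mpr ⟨C.le ha, fun y hy => C.ab y (h hy) a ha⟩

/-- An element of `N_A(P)` outside `P`. -/
theorem ax_a0 (hE : F.IsEssential p P) (hP : P ≠ S) {y : Ω} (hyP : y ∈ P) (hyA : y ∉ A) :
    ∃ a ∈ A, a ∈ Subgroup.normalizer (P : Set Ω) ∧ a ∉ P := by
  have hPS : P ≤ S := hE.1.1
  obtain ⟨s₀, hs₀, hs₀P⟩ := exists_normalizer_not_mem C.hS hPS hP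
  obtain ⟨r, hr, i, e⟩ := C.decomp (hPS hyP) hyA hs₀.1
  have hyN : y ∈ Subgroup.normalizer (P : Set Ω) := (le_normalizerIn hPS hyP).2
  have hrdef : r = s₀ * (y ^ i)⁻¹ := by
    rw [e]
    group
  refine ⟨r, hr, ?_, fun h => hs₀P ?_⟩
  · rw [hrdef]
    exact Subgroup.mul_mem _ hs₀.2 (Subgroup.inv_mem _ (Subgroup.zpow_mem _ hyN i))
  · rw [e]
    exact P.mul_mem h (P.zpow_mem hyP i)

end

section Star

variable (C : AxC S A p) {g : MulAut P}

include C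

theorem ax_exists_d (hPS : P ≤ S) (hne : imO g (P ⊓ A) ≠ P ⊓ A) : ∃ d ∈ imO g (P ⊓ A), d ∉ A := by
  by_contra hcon
  push Not at hcon
  apply hne
  haveI : Finite ↥(P ⊓ A) := finite_of_le (inf_le_left.trans hPS)
  exact Subgroup.eq_of_le_of_card_ge (fun y hy => ⟨imO_le hy, hcon y hy⟩) (by rw [card_imO inf_le_left])

theorem ax_imO_ab : ∀ s ∈ imO g (P ⊓ A), ∀ t ∈ imO g (P ⊓ A), s * t = t * s :=
  imO_comm fun s hs t ht => C.ab s hs.2 t ht.2

/-- `P₀ ∩ D` is central in `P`. -/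
theorem ax_central (hPS : P ≤ S) {d : Ω} (hd : d ∈ imO g (P ⊓ A)) (hdA : d ∉ A) {c : Ω} (hc : c ∈ P ⊓ A) (hcD : c ∈ imO g (P ⊓ A))
    {t : Ω} (ht : t ∈ P) : t * c = c * t := by
  obtain ⟨r, hr, i, rfl⟩ := ax_dec C hPS (imO_le hd) hdA ht
  have h1 : Commute r c := C.ab r hr.2 c hc.2
  have h2 : Commute d c := ax_imO_ab C d hd c hcD
  exact Commute.mul_left h1 (h2.zpow_left i)

/-- The conjugation by an element of `N_A(P)` with commutator in `D` stabilizes the chain. -/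
theorem ax_stab (hPS : P ≤ S) {d : Ω} (hd : d ∈ imO g (P ⊓ A)) (hdA : d ∉ A) (hxP : x ∈ P) (hxA : x ∉ A)
    {a : Ω} (ha : a ∈ A) (haN : a ∈ Subgroup.normalizer (P : Set Ω)) (hw : a * x * a⁻¹ * x⁻¹ ∈ imO g (P ⊓ A)) {α : MulAut P}
    (hα : IsC a α) : α ∈ stabCh P ((P ⊓ A) ⊓ imO g (P ⊓ A)) := by
  refine ⟨fun y hy => Subtype.ext ?_, fun t => ?_⟩
  · rw [hα y, C.ab a ha _ hy.1.2]
    group
  · rw [hα t]
    obtain ⟨w, hwd⟩ : ∃ w, w = a * x * a⁻¹ * x⁻¹ := ⟨_, rfl⟩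
    rw [← hwd] at hw
    have hwP : w ∈ P := by
      rw [hwd]
      exact P.mul_mem (conj_mem_of_normalizer haN hxP) (P.inv_mem hxP)
    have hwA : w ∈ A := by
      have e : w = a * (x * a⁻¹ * x⁻¹) := by
        rw [hwd]
        group
      rw [e]
      exact A.mul_mem ha (C.conj_mem (hPS hxP) (A.inv_mem ha))
    have hcw : ∀ s ∈ P, s * w = w * s := fun s hs => ax_central C hPS hd hdA ⟨hwP, hwA⟩ hw hs
    obtain ⟨r, hr, i, e⟩ := ax_dec C hPS hxP hxA t.2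
    have hcx : Commute w x := (hcw x hxP).symm
    have e1 : a * x * a⁻¹ = w * x := by
      rw [hwd]
      group
    have e2 : a * x ^ i * a⁻¹ = (w * x) ^ i := by
      rw [← e1, conj_zpow]
    have e3 : (t : Ω)⁻¹ * (a * (t : Ω) * a⁻¹) = w ^ i := by
      rw [e]
      have h1 : a * r = r * a := C.ab a ha r hr.2
      calc (r * x ^ i)⁻¹ * (a * (r * x ^ i) * a⁻¹) = (r * x ^ i)⁻¹ * ((a * r) * x ^ i * a⁻¹) := by group
        _ = (r * x ^ i)⁻¹ * (r * (a * x ^ i * a⁻¹)) := by rw [h1]; group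
        _ = (r * x ^ i)⁻¹ * (r * (w ^ i * x ^ i)) := by rw [e2, hcx.mul_zpow]
        _ = (x ^ i)⁻¹ * (w ^ i * x ^ i) := by group
        _ = (x ^ i)⁻¹ * (x ^ i * w ^ i) := by rw [(hcx.zpow_zpow i i).eq]
        _ = _ := by group
    rw [e3]
    have hwC : w ∈ (P ⊓ A) ⊓ imO g (P ⊓ A) := ⟨⟨hwP, hwA⟩, hw⟩
    exact Subgroup.zpow_mem _ hwC i

end Star

/-- **The star property.** -/
theorem ax_star (C : AxC S A p) (hF : F.IsSaturated p) (hE : F.IsEssential p P) (hne : P ≠ A) :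
    ∃ g ∈ F.autGroup P, imO g (P ⊓ A) ≠ P ⊓ A ∧
      ∀ x ∈ P, x ∉ A → ∀ a ∈ A, a ∈ Subgroup.normalizer (P : Set Ω) → a * x * a⁻¹ * x⁻¹ ∈ imO g (P ⊓ A) → a ∈ P := by
  classical
  have hPS : P ≤ S := hE.1.1
  have hPne : P ≠ S := by
    rintro rfl
    exact essential_ne_self C.hS hF hE
  obtain ⟨Γ, hΓle, hΓne, -, hΓ⟩ := ess_gamma C.hS hF hE
  obtain ⟨g, hg, hgΓ⟩ : ∃ a ∈ F.autGroup P, a ∉ Γ := by
    by_contra hcon
    push Not at hcon
    exact hΓne (le_antisymm hΓle hcon)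
  obtain ⟨y, hyP, hyA⟩ := SetLike.not_le_iff_exists.1 (ax_not_le C hE hne)
  obtain ⟨a₀, ha₀, ha₀N, ha₀P⟩ := ax_a0 C hE hPne hyP hyA
  haveI hfinP₀ : Finite ↥(P ⊓ A) := finite_of_le (inf_le_left.trans hPS)
  have hne' : imO g (P ⊓ A) ≠ P ⊓ A := by
    intro heq
    obtain ⟨α, hαC, -⟩ := exists_isC (F := F) hPS (C.le ha₀) ha₀N
    have hst : α ∈ stabCh P (P ⊓ A) := by
      refine ⟨fun t ht => Subtype.ext ?_, fun t => ?_⟩
      · rw [hαC t, C.ab a₀ ha₀ _ ht.2]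
        group
      · rw [hαC t]
        refine ⟨P.mul_mem (P.inv_mem t.2) (conj_mem_of_normalizer ha₀N t.2), ?_⟩
        have e : (t : Ω)⁻¹ * (a₀ * (t : Ω) * a₀⁻¹) = ((t : Ω)⁻¹ * a₀ * (t : Ω)) * a₀⁻¹ := by group
        rw [e]
        refine A.mul_mem ?_ (A.inv_mem ha₀)
        have := C.conj_mem (S.inv_mem (hPS t.2)) ha₀
        simpa using this
    have hiff : ∀ t : P, (t : Ω) ∈ P ⊓ A ↔ (g t : Ω) ∈ P ⊓ A := by
      intro t
      have := mem_imO_self (b := g) (L := P ⊓ A) t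
      rw [heq] at this
      exact this.symm
    have hv := conj_mem_stabCh hst hiff
    have hpg : IsPGroup p (stabCh P (P ⊓ A)) := stabCh_isPGroup (C.hS.to_le (inf_le_left.trans hPS))
    apply hgΓ
    refine hΓ g hg a₀ a₀ α α (C.le ha₀) (C.le ha₀) ha₀P ha₀P hαC hαC (hpg.to_le ?_)
    rw [Subgroup.closure_le]
    rintro z (rfl | rfl)
    · exact hst
    · exact hv
  refine ⟨g, hg, hne', ?_⟩
  intro x hxP hxA a ha haN hw
  by_contra haP
  obtain ⟨d, hd, hdA⟩ := ax_exists_d C hPS hne'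
  obtain ⟨α, hαC, -⟩ := exists_isC (F := F) hPS (C.le ha) haN
  have hst := ax_stab C hPS hd hdA hxP hxA ha haN hw hαC
  haveI hfinC : Finite ↥((P ⊓ A) ⊓ imO g (P ⊓ A)) := finite_of_le ((inf_le_left.trans inf_le_left).trans hPS)
  obtain ⟨m, hm⟩ := isC_pow C.hS (C.le ha) hαC
  have hvm : (g * α * g⁻¹) ^ p ^ m = 1 := by
    rw [conj_pow, hm, mul_one, mul_inv_cancel]
  have hfix : ∀ t : P, (t : Ω) ∈ (P ⊓ A) ⊓ imO g (P ⊓ A) → (g * α * g⁻¹) t = t := by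
    intro t ht
    have h1 := (mem_imO t).1 ht.2
    have h2 : α (g⁻¹ t) = g⁻¹ t := Subtype.ext (by
      rw [hαC, C.ab a ha _ h1.2]
      group)
    show g (α (g⁻¹ t)) = t
    rw [h2]
    simp
  have hpg := closure_isPGroup (Q := P) (K := (P ⊓ A) ⊓ imO g (P ⊓ A)) (C.hS.to_le ((inf_le_left.trans inf_le_left).trans hPS)) hst hvm
    (fun t => by
      constructor
      · intro ht
        rw [hfix t ht]
        exact ht
      · intro ht
        have h1 := hfix _ ht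
        have h2 : (g * α * g⁻¹) t = t := (g * α * g⁻¹).injective h1
        rw [h2] at ht
        exact ht)
  exact hgΓ (hΓ g hg a a α α (C.le ha) (C.le ha) haP haP hαC hαC hpg)

end Cfsg.Agent.H25
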