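import Cfsg.Agent.Lib.H25.AxB
set_option autoImplicit false
set_option linter.style.haveILetI false

/-! Essential subgroups over a group with an abelian subgroup of index `p`: the structure. -/

namespace Cfsg.Agent.H25

open Cfsg Cfsg.FusionSystem

variable {Ω : Type*} [Group Ω] {S : Subgroup Ω} {F : FusionSystem S} {p : ℕ} [Finite S] [Fact p.Prime]
variable {A P : Subgroup Ω} {x : Ω}

theorem AxC.pow_mem (C : AxC S A p) {s : Ω} (hs : s ∈ S) : s ^ p ∈ A := by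
  haveI hN : (A.subgroupOf S).Normal :=
    ⟨fun n hn g => Subgroup.mem_subgroupOf.mpr (C.conj_mem g.2 (Subgroup.mem_subgroupOf.mp hn))⟩
  have h1 := Subgroup.pow_index_mem (A.subgroupOf S) (⟨s, hs⟩ : S)
  rw [C.idx] at h1
  have h2 := Subgroup.mem_subgroupOf.mp h1
  simpa using h2

theorem ZS_norm {b : Ω} (hb : b ∈ S) : b ∈ Subgroup.normalizer ((ZS S : Subgroup Ω) : Set Ω) := by
  refine mem_normalizer_of_conj (fun y hy => ?_) (fun y hy => ?_)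
  · rw [(mem_ZS.mp hy).2 b hb]
    simpa using hy
  · rw [(mem_ZS.mp hy).2 b⁻¹ (S.inv_mem hb)]
    simpa using hy

section

variable (C : AxC S A p) {g : MulAut P}

include C

/-- Generation modulo `D`. -/
theorem ax_D_gen (hPS : P ≤ S) {w t : Ω} (hw : w ∈ P) (hwD : w ∉ imO g (P ⊓ A)) (ht : t ∈ P) :
    ∃ d ∈ imO g (P ⊓ A), ∃ i : ℤ, t = d * w ^ i := by
  have h1 : ((g⁻¹ ⟨w, hw⟩ : P) : Ω) ∉ A := by
    intro h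
    apply hwD
    exact (mem_imO (⟨w, hw⟩ : P)).2 ⟨(g⁻¹ ⟨w, hw⟩).2, h⟩
  obtain ⟨r, hr, i, e⟩ := ax_dec C hPS (g⁻¹ ⟨w, hw⟩).2 h1 (g⁻¹ ⟨t, ht⟩).2
  have hrP : r ∈ P := hr.1
  refine ⟨((g ⟨r, hrP⟩ : P) : Ω), (mem_imO_self _).2 hr, i, ?_⟩
  have e1 : g⁻¹ ⟨t, ht⟩ = ⟨r, hrP⟩ * (g⁻¹ ⟨w, hw⟩) ^ i := Subtype.ext (by simpa using e)
  have e2 : (⟨t, ht⟩ : P) = g ⟨r, hrP⟩ * (⟨w, hw⟩ : P) ^ i := by
    have h3 : g (g⁻¹ ⟨t, ht⟩) = ⟨t, ht⟩ := by simp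
    rw [← h3, e1, map_mul, map_zpow]
    have h4 : g (g⁻¹ ⟨w, hw⟩) = ⟨w, hw⟩ := by simp
    rw [h4]
  have e3 := congrArg Subtype.val e2
  simpa using e3

theorem ax_D_pow (hPS : P ≤ S) {w : Ω} (hw : w ∈ P) : w ^ p ∈ imO g (P ⊓ A) := by
  have h1 : (⟨w ^ p, P.pow_mem hw p⟩ : P) = (⟨w, hw⟩ : P) ^ p := rfl
  apply (mem_imO (⟨w ^ p, P.pow_mem hw p⟩ : P)).2
  rw [h1, map_pow]
  refine ⟨Subgroup.pow_mem _ (g⁻¹ ⟨w, hw⟩).2 p, ?_⟩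
  have := C.pow_mem (hPS (g⁻¹ ⟨w, hw⟩).2)
  simpa using this

theorem ax_D_conj (hPS : P ≤ S) {t d : Ω} (ht : t ∈ P) (hd : d ∈ imO g (P ⊓ A)) : t * d * t⁻¹ ∈ imO g (P ⊓ A) := by
  have hdP : d ∈ P := imO_le hd
  have h1 := (mem_imO (⟨d, hdP⟩ : P)).1 hd
  have hm : t * d * t⁻¹ ∈ P := P.mul_mem (P.mul_mem ht hdP) (P.inv_mem ht)
  apply (mem_imO (⟨t * d * t⁻¹, hm⟩ : P)).2
  have e : (⟨t * d * t⁻¹, hm⟩ : P) = (⟨t, ht⟩ : P) * ⟨d, hdP⟩ * (⟨t, ht⟩ : P)⁻¹ := rfl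
  rw [e, map_mul, map_mul, map_inv]
  refine ⟨SetLike.coe_mem _, ?_⟩
  have h2 := C.conj_mem (hPS (g⁻¹ ⟨t, ht⟩).2) h1.2
  simpa using h2

/-- Elements of `N_A(P)` modulo `P`. -/
theorem ax_gen (hPS : P ≤ S) (hstar : ∀ x ∈ P, x ∉ A → ∀ a ∈ A, a ∈ Subgroup.normalizer (P : Set Ω) → a * x * a⁻¹ * x⁻¹ ∈ imO g (P ⊓ A) → a ∈ P)
    (hxP : x ∈ P) (hxA : x ∉ A) {a₀ r : Ω} (ha₀ : a₀ ∈ A) (ha₀N : a₀ ∈ Subgroup.normalizer (P : Set Ω)) (ha₀P : a₀ ∉ P)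
    (hr : r ∈ A) (hrN : r ∈ Subgroup.normalizer (P : Set Ω)) : ∃ t ∈ P, ∃ i : ℤ, r = t * a₀ ^ i := by
  have hxS := hPS hxP
  have hw0 : tauOn C x hxS le_rfl (⟨a₀, ha₀⟩ : A) ∈ P := P.mul_mem (conj_mem_of_normalizer ha₀N hxP) (P.inv_mem hxP)
  have hwr : tauOn C x hxS le_rfl (⟨r, hr⟩ : A) ∈ P := P.mul_mem (conj_mem_of_normalizer hrN hxP) (P.inv_mem hxP)
  have hw0D : tauOn C x hxS le_rfl (⟨a₀, ha₀⟩ : A) ∉ imO g (P ⊓ A) := fun h => ha₀P (hstar x hxP hxA a₀ ha₀ ha₀N h)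
  obtain ⟨d, hd, i, e⟩ := ax_D_gen C hPS hw0 hw0D hwr
  refine ⟨r * (a₀ ^ i)⁻¹, ?_, i, by group⟩
  have hm : r * (a₀ ^ i)⁻¹ ∈ A := A.mul_mem hr (A.inv_mem (A.zpow_mem ha₀ i))
  refine hstar x hxP hxA _ hm (Subgroup.mul_mem _ hrN (Subgroup.inv_mem _ (Subgroup.zpow_mem _ ha₀N i))) ?_
  have e1 : (⟨r * (a₀ ^ i)⁻¹, hm⟩ : A) = ⟨r, hr⟩ * ((⟨a₀, ha₀⟩ : A) ^ i)⁻¹ := Subtype.ext (by simp)
  have e2 : tauOn C x hxS le_rfl (⟨r * (a₀ ^ i)⁻¹, hm⟩ : A) = r * (a₀ ^ i)⁻¹ * x * (r * (a₀ ^ i)⁻¹)⁻¹ * x⁻¹ := rfl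
  rw [← e2, e1, map_mul, map_inv, map_zpow, e]
  simpa using hd

theorem ax_pow_mem (hPS : P ≤ S) (hstar : ∀ x ∈ P, x ∉ A → ∀ a ∈ A, a ∈ Subgroup.normalizer (P : Set Ω) → a * x * a⁻¹ * x⁻¹ ∈ imO g (P ⊓ A) → a ∈ P)
    (hxP : x ∈ P) (hxA : x ∉ A) {a₀ : Ω} (ha₀ : a₀ ∈ A) (ha₀N : a₀ ∈ Subgroup.normalizer (P : Set Ω)) : a₀ ^ p ∈ P := by
  have hxS := hPS hxP
  have hw0 : tauOn C x hxS le_rfl (⟨a₀, ha₀⟩ : A) ∈ P := P.mul_mem (conj_mem_of_normalizer ha₀N hxP) (P.inv_mem hxP)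
  have hm : a₀ ^ p ∈ A := A.pow_mem ha₀ p
  refine hstar x hxP hxA _ hm (Subgroup.pow_mem _ ha₀N p) ?_
  have e1 : (⟨a₀ ^ p, hm⟩ : A) = (⟨a₀, ha₀⟩ : A) ^ p := rfl
  have e2 : tauOn C x hxS le_rfl (⟨a₀ ^ p, hm⟩ : A) = a₀ ^ p * x * (a₀ ^ p)⁻¹ * x⁻¹ := rfl
  rw [← e2, e1, map_pow]
  exact ax_D_pow C hPS hw0

/-- The index of `P` in its normalizer. -/
theorem ax_index (hPS : P ≤ S) (hPne : P ≠ S) (hstar : ∀ x ∈ P, x ∉ A → ∀ a ∈ A, a ∈ Subgroup.normalizer (P : Set Ω) → a * x * a⁻¹ * x⁻¹ ∈ imO g (P ⊓ A) → a ∈ P)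
    (hE : F.IsEssential p P) (hxP : x ∈ P) (hxA : x ∉ A) : (P.subgroupOf (S ⊓ Subgroup.normalizer (P : Set Ω))).index = p := by
  obtain ⟨a₀, ha₀, ha₀N, ha₀P⟩ := ax_a0 C hE hPne hxP hxA
  haveI : Finite ↥(S ⊓ Subgroup.normalizer (P : Set Ω)) := finite_of_le inf_le_left
  refine index_eq_of_gen (Q := P) (N := S ⊓ Subgroup.normalizer (P : Set Ω)) (le_normalizerIn hPS) inf_le_right (a₀ := a₀)
    ⟨C.le ha₀, ha₀N⟩ ha₀P (ax_pow_mem C hPS hstar hxP hxA ha₀ ha₀N) ?_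
  intro w hw
  obtain ⟨r, hr, j, e⟩ := C.decomp (hPS hxP) hxA hw.1
  have hxN : x ∈ Subgroup.normalizer (P : Set Ω) := (le_normalizerIn hPS hxP).2
  have hrN : r ∈ Subgroup.normalizer (P : Set Ω) := by
    have e1 : r = w * (x ^ j)⁻¹ := by
      rw [e]
      group
    rw [e1]
    exact Subgroup.mul_mem _ hw.2 (Subgroup.inv_mem _ (Subgroup.zpow_mem _ hxN j))
  obtain ⟨t, ht, i, e2⟩ := ax_gen C hPS hstar hxP hxA ha₀ ha₀N ha₀P hr hrN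
  refine ⟨t * (a₀ ^ i * x ^ j * (a₀ ^ i)⁻¹), P.mul_mem ht (conj_mem_of_normalizer (Subgroup.zpow_mem _ ha₀N i) (P.zpow_mem hxP j)), i, ?_⟩
  rw [e, e2]
  group

end

/-- In a nonabelian subgroup not in `A`, central elements lie in the centre of `S`. -/
theorem ax_ZP (C : AxC S A p) (hPS : P ≤ S) (hxP : x ∈ P) (hxA : x ∉ A) (hna : ∃ s ∈ P, ∃ t ∈ P, s * t ≠ t * s) {y : Ω} (hy : y ∈ P)
    (hc : ∀ t ∈ P, t * y = y * t) : y ∈ ZS S := by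
  by_cases hyA : y ∈ A
  · apply C.mem_Z (hPS hxP) hxA hyA
    rw [hc x hxP]
    group
  · exfalso
    have h1 : ∀ r ∈ P ⊓ A, r ∈ ZS S := by
      intro r hr
      apply C.mem_Z (hPS hy) hyA hr.2
      rw [← hc r hr.1]
      group
    obtain ⟨s, hs, t, ht, hst⟩ := hna
    apply hst
    obtain ⟨r, hr, i, rfl⟩ := ax_dec C hPS hy hyA hs
    obtain ⟨r', hr', j, rfl⟩ := ax_dec C hPS hy hyA ht
    have h2 : Commute r y := (mem_ZS.mp (h1 r hr)).2 y (hPS hy) |>.symm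
    have h3 : Commute r' y := (mem_ZS.mp (h1 r' hr')).2 y (hPS hy) |>.symm
    have h4 : Commute r r' := C.ab r hr.2 r' hr'.2
    have e1 : Commute (r * y ^ i) (r' * y ^ j) := by
      apply Commute.mul_left
      · exact Commute.mul_right h4 (h2.zpow_right j)
      · exact Commute.mul_right (h3.symm.zpow_left i) ((Commute.refl y).zpow_zpow i j)
    exact e1

theorem ax_mem_norm (C : AxC S A p) (hPS : P ≤ S) (hZ : ZS S ≤ P) {b : Ω} (hb : b ∈ Z2 S) : b ∈ Subgroup.normalizer (P : Set Ω) := by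
  have h1 : ∀ b ∈ Z2 S, ∀ t ∈ P, b * t * b⁻¹ ∈ P := by
    intro b hb t ht
    have h2 := hZ ((mem_Z2.mp hb).2 t (hPS ht))
    have e : b * t * b⁻¹ = (b * t * b⁻¹ * t⁻¹) * t := by group
    rw [e]
    exact P.mul_mem h2 ht
  refine mem_normalizer_of_conj (h1 b hb) (fun t ht => ?_)
  have := h1 b⁻¹ ((Z2 S).inv_mem hb) t ht
  simpa using this

theorem ax_ZB (C : AxC S A p) : ZS S ≤ A ⊓ Z2 S := le_inf C.zl ZS_le_Z2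

/-- Case: `P` abelian. -/
theorem ax_abelian (C : AxC S A p) {g : MulAut P} (hE : F.IsEssential p P) (hPne : P ≠ S)
    (hstar : ∀ x ∈ P, x ∉ A → ∀ a ∈ A, a ∈ Subgroup.normalizer (P : Set Ω) → a * x * a⁻¹ * x⁻¹ ∈ imO g (P ⊓ A) → a ∈ P)
    (hxP : x ∈ P) (hxA : x ∉ A) (hab : ∀ s ∈ P, ∀ t ∈ P, s * t = t * s) :
    P ⊓ A = ZS S ∧ P = ZS S ⊔ Subgroup.zpowers x ∧ ((ZS S).subgroupOf (A ⊓ Z2 S)).index = p := by
  have hPS : P ≤ S := hE.1.1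
  have hxS := hPS hxP
  have hZ : ZS S ≤ P := fun z hz => hE.1.2 P (isConj_refl hPS) (mem_centralizerIn.mpr ⟨hz.1, fun y hy => (mem_ZS.mp hz).2 y (hPS hy)⟩)
  have h1 : P ⊓ A = ZS S := by
    apply le_antisymm
    · rintro y ⟨hyP, hyA⟩
      apply C.mem_Z hxS hxA hyA
      rw [hab x hxP y hyP]
      group
    · exact le_inf hZ C.zl
  refine ⟨h1, ?_, ?_⟩
  · apply le_antisymm
    · intro t ht
      obtain ⟨r, hr, i, rfl⟩ := ax_dec C hPS hxP hxA ht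
      rw [h1] at hr
      exact Subgroup.mul_mem_sup hr (Subgroup.mem_zpowers_iff.2 ⟨i, rfl⟩)
    · exact sup_le hZ (by
        rw [Subgroup.zpowers_le]
        exact hxP)
  · obtain ⟨a₀, ha₀, ha₀N, ha₀P⟩ := ax_a0 C hE hPne hxP hxA
    haveI : Finite ↥(A ⊓ Z2 S) := finite_of_le (inf_le_left.trans C.le)
    have hmemP : ∀ t ∈ P, t ∈ A → t ∈ ZS S := fun t ht ht' => by
      have : t ∈ P ⊓ A := ⟨ht, ht'⟩
      rwa [h1] at this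
    have ha₀Z : a₀ ∈ Z2 S := by
      apply C.mem_Z2_of hxS hxA ha₀
      apply hmemP
      · exact P.mul_mem (conj_mem_of_normalizer ha₀N hxP) (P.inv_mem hxP)
      · have e : a₀ * x * a₀⁻¹ * x⁻¹ = a₀ * (x * a₀⁻¹ * x⁻¹) := by group
        rw [e]
        exact A.mul_mem ha₀ (C.conj_mem hxS (A.inv_mem ha₀))
    refine index_eq_of_gen (ax_ZB C) (?_) (a₀ := a₀) ⟨ha₀, ha₀Z⟩ (fun h => ha₀P (hZ h)) (hmemP _ (ax_pow_mem C hPS hstar hxP hxA ha₀ ha₀N) (A.pow_mem ha₀ p)) ?_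
    · exact fun b hb => ZS_norm (C.le hb.1)
    · rintro b ⟨hbA, hbZ⟩
      obtain ⟨t, ht, i, e⟩ := ax_gen C hPS hstar hxP hxA ha₀ ha₀N ha₀P hbA (ax_mem_norm C hPS hZ hbZ)
      refine ⟨t, hmemP t ht ?_, i, e⟩
      have e1 : t = b * (a₀ ^ i)⁻¹ := by
        rw [e]
        group
      rw [e1]
      exact A.mul_mem hbA (A.inv_mem (A.zpow_mem ha₀ i))

/-- Case: `P` nonabelian. -/
theorem ax_nonabelian (C : AxC S A p) {g : MulAut P} (hE : F.IsEssential p P) (hne : imO g (P ⊓ A) ≠ P ⊓ A)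
    (hstar : ∀ x ∈ P, x ∉ A → ∀ a ∈ A, a ∈ Subgroup.normalizer (P : Set Ω) → a * x * a⁻¹ * x⁻¹ ∈ imO g (P ⊓ A) → a ∈ P)
    (hxP : x ∈ P) (hxA : x ∉ A) (hna : ∃ s ∈ P, ∃ t ∈ P, s * t ≠ t * s) :
    P ⊓ A = A ⊓ Z2 S ∧ P = (A ⊓ Z2 S) ⊔ Subgroup.zpowers x ∧ ((ZS S).subgroupOf (A ⊓ Z2 S)).index = p := by
  have hPS : P ≤ S := hE.1.1
  have hxS := hPS hxP
  have hZ : ZS S ≤ P := fun z hz => hE.1.2 P (isConj_refl hPS) (mem_centralizerIn.mpr ⟨hz.1, fun y hy => (mem_ZS.mp hz).2 y (hPS hy)⟩)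
  obtain ⟨d, hd, hdA⟩ := ax_exists_d C hPS hne
  have hC : ∀ c ∈ P ⊓ A, c ∈ imO g (P ⊓ A) → c ∈ ZS S := fun c hc hcD =>
    ax_ZP C hPS hxP hxA hna hc.1 (fun t ht => ax_central C hPS hd hdA hc hcD ht)
  have hZD : ZS S ≤ imO g (P ⊓ A) := by
    intro z hz
    apply (mem_imO (⟨z, hZ hz⟩ : P)).2
    obtain ⟨y, hy⟩ : ∃ y : P, y = g⁻¹ ⟨z, hZ hz⟩ := ⟨_, rfl⟩
    rw [← hy]
    have hyZ : (y : Ω) ∈ ZS S := by
      refine ax_ZP C hPS hxP hxA hna y.2 (fun t ht => ?_)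
      have h1 : (g⁻¹ ⟨z, hZ hz⟩) * g⁻¹ (g ⟨t, ht⟩) = g⁻¹ (g ⟨t, ht⟩) * (g⁻¹ ⟨z, hZ hz⟩) := by
        rw [← map_mul, ← map_mul]
        congr 1
        exact Subtype.ext ((mem_ZS.mp hz).2 _ (hPS (g ⟨t, ht⟩).2)).symm
      have h2 : g⁻¹ (g ⟨t, ht⟩) = ⟨t, ht⟩ := by simp
      rw [h2, ← hy] at h1
      exact (congrArg Subtype.val h1).symm
    exact ⟨y.2, C.zl hyZ⟩
  -- `P₀ ≤ Z₂`
  have h1 : P ⊓ A ≤ A ⊓ Z2 S := by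
    rintro y ⟨hyP, hyA⟩
    refine ⟨hyA, ?_⟩
    apply C.mem_Z2_of hxS hxA hyA
    obtain ⟨r, hr, i, e⟩ := ax_dec C hPS (imO_le hd) hdA hxP
    have hdi : d ^ i ∈ imO g (P ⊓ A) := Subgroup.zpow_mem _ hd i
    have hdiP : d ^ i ∈ P := imO_le hdi
    have hq1 : y * d ^ i * y⁻¹ * (d ^ i)⁻¹ ∈ P ⊓ A := by
      refine ⟨P.mul_mem (P.mul_mem (P.mul_mem hyP hdiP) (P.inv_mem hyP)) (P.inv_mem hdiP), ?_⟩
      have e1 : y * d ^ i * y⁻¹ * (d ^ i)⁻¹ = y * (d ^ i * y⁻¹ * (d ^ i)⁻¹) := by group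
      rw [e1]
      exact A.mul_mem hyA (C.conj_mem (hPS hdiP) (A.inv_mem hyA))
    have hq2 : y * d ^ i * y⁻¹ * (d ^ i)⁻¹ ∈ imO g (P ⊓ A) :=
      Subgroup.mul_mem _ (ax_D_conj C hPS hyP hdi) (Subgroup.inv_mem _ hdi)
    have hq := hC _ hq1 hq2
    have hrc : r * y = y * r := C.ab r hr.2 y hyA
    have e2 : y * x * y⁻¹ * x⁻¹ = r * (y * d ^ i * y⁻¹ * (d ^ i)⁻¹) * r⁻¹ := by
      rw [e]
      calc y * (r * d ^ i) * y⁻¹ * (r * d ^ i)⁻¹ = (y * r) * d ^ i * y⁻¹ * (d ^ i)⁻¹ * r⁻¹ := by group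
        _ = (r * y) * d ^ i * y⁻¹ * (d ^ i)⁻¹ * r⁻¹ := by rw [hrc]
        _ = _ := by group
    rw [e2, (mem_ZS.mp hq).2 r (hPS hr.1)]
    have e3 : y * d ^ i * y⁻¹ * (d ^ i)⁻¹ * r * r⁻¹ = y * d ^ i * y⁻¹ * (d ^ i)⁻¹ := by group
    rw [e3]
    exact hq
  -- `Z₂ ∩ A ≤ P`
  have h2 : A ⊓ Z2 S ≤ P ⊓ A := by
    rintro b ⟨hbA, hbZ⟩
    refine ⟨hstar x hxP hxA b hbA (ax_mem_norm C hPS hZ hbZ) (hZD ?_), hbA⟩
    exact (mem_Z2.mp hbZ).2 x hxS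
  have h3 : P ⊓ A = A ⊓ Z2 S := le_antisymm h1 h2
  refine ⟨h3, ?_, ?_⟩
  · apply le_antisymm
    · intro t ht
      obtain ⟨r, hr, i, rfl⟩ := ax_dec C hPS hxP hxA ht
      rw [h3] at hr
      exact Subgroup.mul_mem_sup hr (Subgroup.mem_zpowers_iff.2 ⟨i, rfl⟩)
    · refine sup_le (fun y hy => (h2 hy).1) ?_
      rw [Subgroup.zpowers_le]
      exact hxP
  · haveI : Finite ↥(A ⊓ Z2 S) := finite_of_le (inf_le_left.trans C.le)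
    haveI hfin₀ : Finite ↥(P ⊓ A) := finite_of_le (inf_le_left.trans hPS)
    haveI hfin₁ : Finite ↥(imO g (P ⊓ A)) := finite_of_le (imO_le.trans hPS)
    obtain ⟨w, hw, hwD⟩ : ∃ w ∈ P ⊓ A, w ∉ imO g (P ⊓ A) := by
      by_contra hcon
      push Not at hcon
      apply hne
      symm
      exact Subgroup.eq_of_le_of_card_ge hcon (by rw [card_imO inf_le_left])
    have hwZ : w ∈ Z2 S := (h1 hw).2
    have hpow : w ^ p ∈ P ⊓ A := Subgroup.pow_mem _ hw p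
    refine index_eq_of_gen (ax_ZB C) ?_ (a₀ := w) ⟨hw.2, hwZ⟩ (fun h => hwD (hZD h)) (hC _ hpow (ax_D_pow C hPS hw.1)) ?_
    · exact fun b hb => ZS_norm (C.le hb.1)
    · intro b hb
      have hb' := h2 hb
      obtain ⟨t, ht, i, e⟩ := ax_D_gen C hPS hw.1 hwD hb'.1
      refine ⟨t, hC t ?_ ht, i, e⟩
      have e1 : t = b * (w ^ i)⁻¹ := by
        rw [e]
        group
      rw [e1]
      exact Subgroup.mul_mem _ hb' (Subgroup.inv_mem _ (Subgroup.zpow_mem _ hw i))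

/-- Summary for essential subgroups other than `A`. -/
theorem ax_main (C : AxC S A p) (hF : F.IsSaturated p) (hE : F.IsEssential p P) (hne : P ≠ A) :
    (P.subgroupOf (S ⊓ Subgroup.normalizer (P : Set Ω))).index = p ∧ ((ZS S).subgroupOf (A ⊓ Z2 S)).index = p ∧
      ∃ x ∈ P, x ∉ A ∧ ((P ⊓ A = ZS S ∧ P = ZS S ⊔ Subgroup.zpowers x ∧ ∀ s ∈ P, ∀ t ∈ P, s * t = t * s) ∨
        (P ⊓ A = A ⊓ Z2 S ∧ P = (A ⊓ Z2 S) ⊔ Subgroup.zpowers x ∧ ∃ s ∈ P, ∃ t ∈ P, s * t ≠ t * s)) := by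
  have hPS : P ≤ S := hE.1.1
  have hPne : P ≠ S := by
    rintro rfl
    exact essential_ne_self C.hS hF hE
  obtain ⟨g, hg, hne', hstar⟩ := ax_star C hF hE hne
  obtain ⟨x, hxP, hxA⟩ := SetLike.not_le_iff_exists.1 (ax_not_le C hE hne)
  have h1 := ax_index C hPS hPne hstar hE hxP hxA
  by_cases hab : ∀ s ∈ P, ∀ t ∈ P, s * t = t * s
  · obtain ⟨h2, h3, h4⟩ := ax_abelian C hE hPne hstar hxP hxA hab
    exact ⟨h1, h4, x, hxP, hxA, Or.inl ⟨h2, h3, hab⟩⟩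
  · push Not at hab
    obtain ⟨h2, h3, h4⟩ := ax_nonabelian C hE hne' hstar hxP hxA hab
    exact ⟨h1, h4, x, hxP, hxA, Or.inr ⟨h2, h3, hab⟩⟩

end Cfsg.Agent.H25
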