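import Cfsg.Agent.Lib.H25.AxD
set_option autoImplicit false
set_option linter.style.haveILetI false

/-! Group theory of a nonabelian `p`-group with a unique abelian subgroup of index `p`. -/

namespace Cfsg.Agent.H25

open Cfsg Cfsg.FusionSystem
open scoped commutatorElement

variable {Ω : Type*} [Group Ω] {S : Subgroup Ω} {F : FusionSystem S} {p : ℕ} [Finite S] [Fact p.Prime]
variable {A P : Subgroup Ω} {x : Ω}

/-- The index of the centre in `A` is larger than `p`. -/
theorem AxC.idx_ne (C : AxC S A p) (uq : ∀ B : Subgroup Ω, B ≤ S → (∀ s ∈ B, ∀ t ∈ B, s * t = t * s) → (B.subgroupOf S).index = p → B = A) :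
    ((ZS S).subgroupOf A).index ≠ p := by
  intro hidx
  obtain ⟨y, hyS, hyA⟩ := C.exists_x
  have hA : Subgroup.zpowers y ≤ Subgroup.normalizer ((ZS S : Subgroup Ω) : Set Ω) := by
    rw [Subgroup.zpowers_le]
    exact ZS_norm hyS
  obtain ⟨B, hB⟩ : ∃ B, B = ZS S ⊔ Subgroup.zpowers y := ⟨_, rfl⟩
  have hBS : B ≤ S := by
    rw [hB]
    refine sup_le inf_le_left ?_
    rw [Subgroup.zpowers_le]
    exact hyS
  have hBab : ∀ s ∈ B, ∀ t ∈ B, s * t = t * s := by
    intro s hs t ht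
    rw [hB] at hs ht
    obtain ⟨z, hz, _, ⟨i, rfl⟩, rfl⟩ := Cfsg.Agent.H01.exists_mul_of_mem_sup hA hs
    obtain ⟨z', hz', _, ⟨j, rfl⟩, rfl⟩ := Cfsg.Agent.H01.exists_mul_of_mem_sup hA ht
    have h1 : Commute z z' := (mem_ZS.mp hz').2 z hz.1
    have h2 : Commute z (y ^ j) := ((mem_ZS.mp hz).2 _ (S.zpow_mem hyS j)).symm
    have h3 : Commute (y ^ i) z' := (mem_ZS.mp hz').2 _ (S.zpow_mem hyS i)
    have h4 : Commute (y ^ i) (y ^ j) := (Commute.refl y).zpow_zpow i j
    exact Commute.mul_left (Commute.mul_right h1 h2) (Commute.mul_right h3 h4)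
  have hZB : ZS S ≤ B := by
    rw [hB]
    exact le_sup_left
  have hyB : y ∈ B := by
    rw [hB]
    exact Subgroup.mem_sup_right (Subgroup.mem_zpowers y)
  haveI : Finite ↥B := finite_of_le hBS
  haveI : Finite ↥A := finite_of_le C.le
  haveI : Finite ↥(ZS S) := finite_of_le inf_le_left
  have h1 := Subgroup.card_mul_index (A.subgroupOf S)
  have h2 := Subgroup.card_mul_index ((ZS S).subgroupOf A)
  have h3 := Subgroup.card_mul_index ((ZS S).subgroupOf B)
  have h4 := Subgroup.card_mul_index (B.subgroupOf S)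
  rw [show Nat.card ↥(A.subgroupOf S) = Nat.card A from Nat.card_congr (Subgroup.subgroupOfEquivOfLe C.le).toEquiv, C.idx] at h1
  rw [show Nat.card ↥((ZS S).subgroupOf A) = Nat.card (ZS S) from Nat.card_congr (Subgroup.subgroupOfEquivOfLe C.zl).toEquiv, hidx] at h2
  rw [show Nat.card ↥((ZS S).subgroupOf B) = Nat.card (ZS S) from Nat.card_congr (Subgroup.subgroupOfEquivOfLe hZB).toEquiv] at h3
  rw [show Nat.card ↥(B.subgroupOf S) = Nat.card B from Nat.card_congr (Subgroup.subgroupOfEquivOfLe hBS).toEquiv] at h4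
  obtain ⟨m, hm⟩ : ∃ m, m = ((ZS S).subgroupOf B).index := ⟨_, rfl⟩
  obtain ⟨k, hk⟩ : ∃ k, k = (B.subgroupOf S).index := ⟨_, rfl⟩
  rw [← hm] at h3
  rw [← hk] at h4
  have hpos : 0 < Nat.card (ZS S) := Nat.card_pos
  have hmk : m * k = p ^ 2 := by
    have h5 : Nat.card (ZS S) * (m * k) = Nat.card (ZS S) * p ^ 2 := by
      calc Nat.card (ZS S) * (m * k) = (Nat.card (ZS S) * m) * k := by ring
        _ = Nat.card S := by rw [h3, h4]
        _ = _ := by rw [← h1, ← h2]; ring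
    exact Nat.eq_of_mul_eq_mul_left hpos h5
  have hm1 : m ≠ 1 := by
    intro h
    have h5 : ((ZS S).subgroupOf B).index = 1 := by rw [← hm, h]
    have h7 := Subgroup.index_eq_one.1 h5
    have h6 : (⟨y, hyB⟩ : B) ∈ (ZS S).subgroupOf B := by
      rw [h7]
      exact Subgroup.mem_top _
    exact hyA (C.zl (Subgroup.mem_subgroupOf.mp h6))
  have hk1 : k ≠ 1 := by
    intro h
    rw [h] at hk
    have h6 := Subgroup.index_eq_one.1 hk.symm
    obtain ⟨s, hs, t, ht, hst⟩ := C.na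
    apply hst
    have h7 : ∀ u (hu : u ∈ S), u ∈ B := by
      intro u hu
      have : (⟨u, hu⟩ : S) ∈ B.subgroupOf S := by
        rw [h6]
        exact Subgroup.mem_top _
      exact Subgroup.mem_subgroupOf.mp this
    exact hBab s (h7 s hs) t (h7 t ht)
  have hkp : k = p := by
    have hdvd : k ∣ p ^ 2 := ⟨m, by rw [← hmk]; ring⟩
    obtain ⟨e, he, rfl⟩ := (Nat.dvd_prime_pow (Fact.out : p.Prime)).1 hdvd
    interval_cases e
    · exact absurd (pow_zero p) hk1
    · exact pow_one p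
    · exfalso
      apply hm1
      have hp2 : 0 < p ^ 2 := pow_pos (Fact.out : p.Prime).pos 2
      exact Nat.eq_of_mul_eq_mul_right hp2 (by rw [hmk, one_mul])
  have hBA := uq B hBS hBab (by rw [← hk, hkp])
  exact hyA (hBA ▸ hyB)

/-- The second centre lies in `A`. -/
theorem AxC.Z2_le (C : AxC S A p) (uq : ∀ B : Subgroup Ω, B ≤ S → (∀ s ∈ B, ∀ t ∈ B, s * t = t * s) → (B.subgroupOf S).index = p → B = A)
    (hB : ((ZS S).subgroupOf (A ⊓ Z2 S)).index = p) : Z2 S ≤ A := by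
  by_contra hcon
  obtain ⟨y, hyZ, hyA⟩ := SetLike.not_le_iff_exists.1 hcon
  have hyS : y ∈ S := (mem_Z2.mp hyZ).1
  have hAle : A ≤ Z2 S := by
    intro a ha
    apply C.mem_Z2_of hyS hyA ha
    have h1 := (ZS S).inv_mem ((mem_Z2.mp hyZ).2 a (C.le ha))
    have e : (y * a * y⁻¹ * a⁻¹)⁻¹ = a * y * a⁻¹ * y⁻¹ := by group
    rwa [e] at h1
  rw [inf_eq_left.mpr hAle] at hB
  exact C.idx_ne uq hB

section Tau

variable (C : AxC S A p) (hxS : x ∈ S) (hxA : x ∉ A)

include C hxS hxA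

/-- The range of the commutator map is the commutator subgroup. -/
theorem AxC.comm_eq : (commutator S).map S.subtype = (tauOn C x hxS (le_refl A)).range := by
  classical
  obtain ⟨T, hT⟩ : ∃ T, T = (tauOn C x hxS (le_refl A)).range := ⟨_, rfl⟩
  rw [← hT]
  have hTA : T ≤ A := by
    rw [hT]
    rintro _ ⟨a, rfl⟩
    exact tauOn_mem C hxS le_rfl a
  have hmemT : ∀ a (ha : a ∈ A), a * x * a⁻¹ * x⁻¹ ∈ T := by
    intro a ha
    rw [hT]
    exact ⟨⟨a, ha⟩, rfl⟩
  have hTx : ∀ s ∈ S, ∀ t ∈ T, (∀ a (ha : a ∈ A), s * a * s⁻¹ * x * (s * a * s⁻¹)⁻¹ * x⁻¹ ∈ T) → s * x * s⁻¹ = x → s * t * s⁻¹ ∈ T := by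
    intro s hs t ht h1 h2
    rw [hT] at ht
    obtain ⟨a, rfl⟩ := ht
    have h3 := h1 a a.2
    have e : s * (tauOn C x hxS le_rfl a) * s⁻¹ = s * a * s⁻¹ * (s * x * s⁻¹) * (s * a * s⁻¹)⁻¹ * (s * x * s⁻¹)⁻¹ := by
      rw [tauOn_apply]
      group
    rw [e, h2]
    exact h3
  have hnx : x ∈ Subgroup.normalizer (T : Set Ω) := by
    refine mem_normalizer_of_conj (fun t ht => ?_) (fun t ht => ?_)
    · refine hTx x hxS t ht (fun a ha => ?_) (by group)
      exact hmemT _ (C.conj_mem hxS ha)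
    · have h9 := hTx x⁻¹ (S.inv_mem hxS) t ht (fun a ha => hmemT _ (C.conj_mem (S.inv_mem hxS) ha)) (by group)
      simpa using h9
  have hnA : A ≤ Subgroup.normalizer (T : Set Ω) := by
    intro a ha
    refine mem_normalizer_of_conj (fun t ht => ?_) (fun t ht => ?_)
    · rw [C.ab a ha t (hTA ht)]
      simpa using ht
    · rw [C.ab a⁻¹ (A.inv_mem ha) t (hTA ht)]
      simpa using ht
  have hnS : S ≤ Subgroup.normalizer (T : Set Ω) := C.le_of hxS hxA hnA hnx
  haveI hTn : (T.subgroupOf S).Normal := by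
    refine ⟨fun n hn g => ?_⟩
    rw [Subgroup.mem_subgroupOf] at hn ⊢
    exact conj_mem_of_normalizer (hnS g.2) hn
  apply le_antisymm
  · rintro _ ⟨w, hw, rfl⟩
    -- the quotient is commutative
    let π := QuotientGroup.mk' (T.subgroupOf S)
    have hπA : ∀ a (ha : a ∈ A), Commute (π ⟨a, C.le ha⟩) (π ⟨x, hxS⟩) := by
      intro a ha
      have h1 : π ⟨a, C.le ha⟩ * π ⟨x, hxS⟩ * (π ⟨a, C.le ha⟩)⁻¹ * (π ⟨x, hxS⟩)⁻¹ = 1 := by
        rw [← map_inv, ← map_inv, ← map_mul, ← map_mul, ← map_mul]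
        apply (QuotientGroup.eq_one_iff _).2
        rw [Subgroup.mem_subgroupOf]
        exact hmemT a ha
      rw [mul_inv_eq_one, mul_inv_eq_iff_eq_mul] at h1
      exact h1
    have hπAA : ∀ a (ha : a ∈ A) b (hb : b ∈ A), Commute (π ⟨a, C.le ha⟩) (π ⟨b, C.le hb⟩) := by
      intro a ha b hb
      show _ * _ = _ * _
      rw [← map_mul, ← map_mul]
      congr 1
      exact Subtype.ext (C.ab a ha b hb)
    have hcomm : ∀ g₁ g₂ : S, Commute (π g₁) (π g₂) := by
      rintro ⟨g₁, h₁⟩ ⟨g₂, h₂⟩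
      obtain ⟨r, hr, i, e⟩ := C.decomp hxS hxA h₁
      obtain ⟨r', hr', j, e'⟩ := C.decomp hxS hxA h₂
      have e1 : (⟨g₁, h₁⟩ : S) = ⟨r, C.le hr⟩ * (⟨x, hxS⟩ : S) ^ i := Subtype.ext (by simpa using e)
      have e2 : (⟨g₂, h₂⟩ : S) = ⟨r', C.le hr'⟩ * (⟨x, hxS⟩ : S) ^ j := Subtype.ext (by simpa using e')
      rw [e1, e2, map_mul, map_mul, map_zpow, map_zpow]
      apply Commute.mul_left
      · exact Commute.mul_right (hπAA r hr r' hr') ((hπA r hr).zpow_right j)
      · exact Commute.mul_right ((hπA r' hr').symm.zpow_left i) ((Commute.refl _).zpow_zpow i j)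
    have hle : commutator S ≤ T.subgroupOf S := by
      rw [commutator, Subgroup.commutator_le]
      intro g₁ _ g₂ _
      apply (QuotientGroup.eq_one_iff _).1
      show π _ = 1
      rw [commutatorElement_def, map_mul, map_mul, map_mul, map_inv, map_inv, (hcomm g₁ g₂).eq]
      group
    exact Subgroup.mem_subgroupOf.mp (hle hw)
  · rw [hT]
    rintro _ ⟨a, rfl⟩
    refine ⟨⁅(⟨a, C.le a.2⟩ : S), (⟨x, hxS⟩ : S)⁆, Subgroup.commutator_mem_commutator (Subgroup.mem_top _) (Subgroup.mem_top _), ?_⟩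
    rfl

/-- The intersection of the centre with the commutator subgroup. -/
theorem AxC.ZS_inf_comm (hZ2 : Z2 S ≤ A) : ZS S ⊓ (commutator S).map S.subtype = (tauOn C x hxS hZ2).range := by
  rw [C.comm_eq hxS hxA]
  apply le_antisymm
  · rintro _ ⟨hz, ⟨a, rfl⟩⟩
    exact ⟨⟨a, C.mem_Z2_of hxS hxA a.2 hz⟩, rfl⟩
  · rintro _ ⟨a, rfl⟩
    exact ⟨(mem_Z2.mp a.2).2 x hxS, ⟨⟨a, hZ2 a.2⟩, rfl⟩⟩

theorem AxC.card_inf (hZ2 : Z2 S ≤ A) (hB : ((ZS S).subgroupOf (Z2 S)).index = p) :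
    Nat.card ↥(ZS S ⊓ (commutator S).map S.subtype) = p := by
  rw [C.ZS_inf_comm hxS hxA hZ2]
  have h1 := Subgroup.index_ker (tauOn C x hxS hZ2)
  rw [tau_ker C hxS hxA hZ2, hB] at h1
  exact h1.symm

theorem AxC.card_comm : Nat.card ↥((commutator S).map S.subtype) = ((ZS S).subgroupOf A).index := by
  rw [C.comm_eq hxS hxA]
  have h1 := Subgroup.index_ker (tauOn C x hxS (le_refl A))
  rw [tau_ker C hxS hxA (le_refl A)] at h1
  exact h1.symm

end Tau

/-- A product formula for the index in `A`. -/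
theorem AxC.idx_sup (C : AxC S A p) {Z T : Subgroup Ω} (hZ : Z ≤ A) (hT : T ≤ A) (hcard : Nat.card ↥(Z ⊓ T) = p)
    (hidx : (Z.subgroupOf A).index = Nat.card T) : ((Z ⊔ T).subgroupOf A).index = p := by
  classical
  haveI : Finite ↥A := finite_of_le C.le
  obtain ⟨Z', hZ'⟩ : ∃ Z', Z' = Z.subgroupOf A := ⟨_, rfl⟩
  obtain ⟨T', hT'⟩ : ∃ T', T' = T.subgroupOf A := ⟨_, rfl⟩
  haveI hn : Z'.Normal := by
    refine ⟨fun n hn g => ?_⟩
    have e : g * n * g⁻¹ = n := by
      have : g * n = n * g := Subtype.ext (C.ab _ g.2 _ n.2)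
      rw [this]
      group
    rw [e]
    exact hn
  have hsup : (Z ⊔ T).subgroupOf A = T' ⊔ Z' := by
    rw [hT', hZ', sup_comm, Subgroup.subgroupOf_sup hT hZ]
  have h1 : Z'.relIndex (T' ⊔ Z') = Z'.relIndex T' := Subgroup.relIndex_sup_right T' Z'
  have h2 := Subgroup.relIndex_mul_index (H := Z') (K := T' ⊔ Z') le_sup_right
  rw [h1, ← hsup, hZ', hidx, ← hZ'] at h2
  have h3 := Subgroup.card_mul_index (Z'.subgroupOf T')
  have h4 : Nat.card T' = Nat.card T := by
    rw [hT']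
    exact Nat.card_congr (Subgroup.subgroupOfEquivOfLe hT).toEquiv
  have hZ'm : ∀ a : A, a ∈ Z' ↔ (a : Ω) ∈ Z := fun a => by
    rw [hZ']
    exact Subgroup.mem_subgroupOf
  have hT'm : ∀ a : A, a ∈ T' ↔ (a : Ω) ∈ T := fun a => by
    rw [hT']
    exact Subgroup.mem_subgroupOf
  have h5 : Nat.card ↥(Z'.subgroupOf T') = p := by
    rw [← hcard]
    refine Nat.card_congr (Equiv.ofBijective (fun w : ↥(Z'.subgroupOf T') => (⟨((w : T') : A), ?_, ?_⟩ : ↥(Z ⊓ T))) ⟨?_, ?_⟩)
    · exact (hZ'm _).1 (Subgroup.mem_subgroupOf.mp w.2)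
    · exact (hT'm _).1 w.1.2
    · intro u v h
      apply Subtype.ext
      apply Subtype.ext
      apply Subtype.ext
      exact congrArg (fun y : ↥(Z ⊓ T) => (y : Ω)) h
    · rintro ⟨y, hy1, hy2⟩
      refine ⟨⟨⟨⟨y, hZ hy1⟩, ?_⟩, ?_⟩, rfl⟩
      · exact (hT'm _).2 hy2
      · exact Subgroup.mem_subgroupOf.mpr ((hZ'm _).2 hy1)
  rw [h5, h4] at h3
  -- h3 : p * relIndex = card T, h2 : card relIndex * index = card ...
  unfold Subgroup.relIndex at h1 h2
  rw [← h3] at h2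
  have hpos : 0 < (Z'.subgroupOf T').index := Nat.pos_of_ne_zero Subgroup.index_ne_zero_of_finite
  have h6 : (Z'.subgroupOf T').index * ((Z ⊔ T).subgroupOf A).index = (Z'.subgroupOf T').index * p := by
    rw [h2]
    ring
  exact Nat.eq_of_mul_eq_mul_left hpos h6

/-- Powers of an endomorphism. -/
def endoPow {V : Type*} [Group V] (φ : V →* V) : ℕ → (V →* V)
  | 0 => MonoidHom.id V
  | k + 1 => φ.comp (endoPow φ k)

theorem endoPow_succ' {V : Type*} [Group V] (φ : V →* V) (k : ℕ) (v : V) : endoPow φ (k + 1) v = endoPow φ k (φ v) := by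
  induction k with
  | zero => rfl
  | succ k ih =>
    show φ (endoPow φ (k + 1) v) = φ (endoPow φ k (φ v))
    rw [ih]

/-- Kernels of the powers of an endomorphism. -/
theorem card_ker_pow {V : Type*} [Group V] [Finite V] (φ : V →* V) {p : ℕ} (hφ : Nat.card φ.ker ≤ p) (k : ℕ) :
    Nat.card (endoPow φ k).ker ≤ p ^ k := by
  induction k with
  | zero =>
    have : (endoPow φ 0).ker = ⊥ := by
      ext v
      rw [MonoidHom.mem_ker, Subgroup.mem_bot]
      rfl
    rw [this]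
    simp
  | succ k ih =>
    have hmap : ∀ w : (endoPow φ (k + 1)).ker, φ w ∈ (endoPow φ k).ker := by
      intro w
      have h1 := w.2
      rw [MonoidHom.mem_ker, endoPow_succ'] at h1
      rw [MonoidHom.mem_ker]
      exact h1
    let ψ : (endoPow φ (k + 1)).ker →* (endoPow φ k).ker := MonoidHom.mk' (fun w => ⟨φ w, hmap w⟩) (by
      intro a b
      apply Subtype.ext
      show φ ((a : V) * b) = φ a * φ b
      rw [map_mul])
    have h2 : Nat.card ψ.ker ≤ p := by
      refine le_trans ?_ hφ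
      refine Nat.card_le_card_of_injective (fun w : ψ.ker => (⟨((w : (endoPow φ (k + 1)).ker) : V), ?_⟩ : φ.ker)) ?_
      · have h3 := w.2
        rw [MonoidHom.mem_ker] at h3
        rw [MonoidHom.mem_ker]
        exact congrArg (fun y : (endoPow φ k).ker => (y : V)) h3
      · intro u v h
        apply Subtype.ext
        apply Subtype.ext
        exact congrArg (fun y : φ.ker => (y : V)) h
    have h3 : Nat.card ψ.range ≤ Nat.card (endoPow φ k).ker := Subgroup.card_le_card_group _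
    have h4 : Nat.card (endoPow φ (k + 1)).ker = Nat.card ψ.ker * Nat.card ψ.range := by
      rw [← Subgroup.index_ker, Subgroup.card_mul_index]
    rw [h4, pow_succ, mul_comm (p ^ k)]
    exact Nat.mul_le_mul h2 (h3.trans ih)

/-- `S/Z(S)` has maximal class. -/
theorem AxC.lcs_not_le (C : AxC S A p) (hxS : x ∈ S) (hxA : x ∉ A) (hZ2 : Z2 S ≤ A) (hB : ((ZS S).subgroupOf (Z2 S)).index = p)
    (m : ℕ) (hm : ((ZS S).subgroupOf S).index = p ^ m) (hm3 : 3 ≤ m) : ¬ Subgroup.lowerCentralSeries S (m - 2) ≤ ZS S := by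
  classical
  intro hle
  haveI : Finite ↥A := finite_of_le C.le
  haveI : Finite ↥(ZS S) := finite_of_le inf_le_left
  obtain ⟨f, hf⟩ : ∃ f : A →* A, f = (tauOn C x hxS (le_refl A)).codRestrict A (tauOn_mem C hxS le_rfl) := ⟨_, rfl⟩
  have hfa : ∀ a : A, (f a : Ω) = (a : Ω) * x * (a : Ω)⁻¹ * x⁻¹ := by
    intro a
    rw [hf]
    rfl
  obtain ⟨Z', hZ'⟩ : ∃ Z', Z' = (ZS S).subgroupOf A := ⟨_, rfl⟩
  haveI hZn : Z'.Normal := by
    refine ⟨fun n hn g => ?_⟩
    have e : g * n * g⁻¹ = n := by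
      have : g * n = n * g := Subtype.ext (C.ab _ g.2 _ n.2)
      rw [this]
      group
    rw [e]
    exact hn
  have hfZ : Z' ≤ Z'.comap f := by
    intro a ha
    apply Subgroup.mem_comap.mpr
    have h1 : f a = 1 := by
      apply Subtype.ext
      rw [hfa]
      rw [hZ'] at ha
      have h2 := (mem_ZS.mp (Subgroup.mem_subgroupOf.mp ha)).2 x hxS
      rw [← h2]
      simp
    rw [h1]
    exact Z'.one_mem
  obtain ⟨φ, hφ⟩ : ∃ φ : (A ⧸ Z') →* (A ⧸ Z'), φ = QuotientGroup.map Z' Z' f hfZ := ⟨_, rfl⟩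
  have hφmk : ∀ a : A, φ (QuotientGroup.mk a) = QuotientGroup.mk (f a) := by
    intro a
    rw [hφ]
    rfl
  -- the kernel of `φ`
  have hkerφ : Nat.card φ.ker ≤ p := by
    obtain ⟨ρ, hρ⟩ : ∃ ρ : Z2 S →* (A ⧸ Z'), ρ = (QuotientGroup.mk' Z').comp (Subgroup.inclusion hZ2) := ⟨_, rfl⟩
    have hρker : ρ.ker = (ZS S).subgroupOf (Z2 S) := by
      ext b
      rw [MonoidHom.mem_ker, hρ, Subgroup.mem_subgroupOf]
      show (QuotientGroup.mk (Subgroup.inclusion hZ2 b) : A ⧸ Z') = 1 ↔ _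
      rw [QuotientGroup.eq_one_iff, hZ', Subgroup.mem_subgroupOf]
      rfl
    have hcard : Nat.card ρ.range = p := by
      rw [← Subgroup.index_ker, hρker, hB]
    rw [← hcard]
    refine Nat.card_le_card_of_injective (fun w : φ.ker => (⟨(w : A ⧸ Z'), ?_⟩ : ρ.range)) ?_
    · obtain ⟨w₀, hw₀⟩ := w
      obtain ⟨a, rfl⟩ := QuotientGroup.mk_surjective w₀
      rw [MonoidHom.mem_ker, hφmk, QuotientGroup.eq_one_iff, hZ', Subgroup.mem_subgroupOf] at hw₀
      have ha : (a : Ω) ∈ Z2 S := by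
        apply C.mem_Z2_of hxS hxA a.2
        rw [← hfa]
        exact hw₀
      refine ⟨⟨a, ha⟩, ?_⟩
      rw [hρ]
      rfl
    · intro u v h
      apply Subtype.ext
      exact congrArg (fun y : ρ.range => (y : A ⧸ Z')) h
  have hker := card_ker_pow φ hkerφ (m - 2)
  -- the powers of `f`
  have hfpow : ∀ k, ∀ a : A, ((endoPow f k a : A) : Ω) ∈ Subgroup.lowerCentralSeries S k := by
    intro k
    induction k with
    | zero =>
      intro a
      exact C.le a.2
    | succ k ih =>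
      intro a
      show ((f (endoPow f k a) : A) : Ω) ∈ _
      rw [hfa]
      exact Subgroup.commutator_mem_commutator (ih a) hxS
  have hφpow : ∀ k, ∀ a : A, endoPow φ k (QuotientGroup.mk a) = QuotientGroup.mk (endoPow f k a) := by
    intro k
    induction k with
    | zero =>
      intro a
      rfl
    | succ k ih =>
      intro a
      show φ (endoPow φ k (QuotientGroup.mk a)) = _
      rw [ih, hφmk]
      rfl
  have htop : (endoPow φ (m - 2)).ker = ⊤ := by
    rw [eq_top_iff]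
    intro w _
    obtain ⟨a, rfl⟩ := QuotientGroup.mk_surjective w
    rw [MonoidHom.mem_ker, hφpow, QuotientGroup.eq_one_iff, hZ', Subgroup.mem_subgroupOf]
    exact hle (hfpow _ a)
  rw [htop, Subgroup.card_top, ← Subgroup.index_eq_card, hZ'] at hker
  -- cardinalities
  have h1 := Subgroup.card_mul_index (A.subgroupOf S)
  have h2 := Subgroup.card_mul_index ((ZS S).subgroupOf A)
  have h3 := Subgroup.card_mul_index ((ZS S).subgroupOf S)
  rw [show Nat.card ↥(A.subgroupOf S) = Nat.card A from Nat.card_congr (Subgroup.subgroupOfEquivOfLe C.le).toEquiv, C.idx] at h1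
  rw [show Nat.card ↥((ZS S).subgroupOf A) = Nat.card (ZS S) from Nat.card_congr (Subgroup.subgroupOfEquivOfLe C.zl).toEquiv] at h2
  rw [show Nat.card ↥((ZS S).subgroupOf S) = Nat.card (ZS S) from Nat.card_congr (Subgroup.subgroupOfEquivOfLe inf_le_left).toEquiv, hm] at h3
  have hpos : 0 < Nat.card (ZS S) := Nat.card_pos
  have hpp := (Fact.out : p.Prime).one_lt
  have h4 : ((ZS S).subgroupOf A).index * p = p ^ m := by
    apply Nat.eq_of_mul_eq_mul_left hpos
    rw [h3, ← h1, ← h2]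
    ring
  have hm' : m = (m - 1) + 1 := by omega
  rw [hm', pow_succ] at h4
  have h5 : ((ZS S).subgroupOf A).index = p ^ (m - 1) := Nat.eq_of_mul_eq_mul_right (by omega) h4
  rw [h5] at hker
  have h6 : p ^ (m - 2) < p ^ (m - 1) := Nat.pow_lt_pow_right hpp (by omega)
  omega

end Cfsg.Agent.H25
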