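import Cfsg.Agent.Lib.H25.AxE
set_option autoImplicit false
set_option linter.style.haveILetI false

/-! Bridges for statements about a unique abelian subgroup of index `p`. -/

namespace Cfsg.Agent.H25

open Cfsg Cfsg.FusionSystem

variable {Ω : Type*} [Group Ω] {S : Subgroup Ω} {F : FusionSystem S} {p : ℕ} [Finite S] [Fact p.Prime]
variable {A P : Subgroup Ω} {x : Ω}

omit [Finite S] [Fact p.Prime] in
theorem mkAxC (hS : IsPGroup p S) (hna : ¬ IsMulCommutative ↥S)
    (hA : A ≤ S ∧ IsMulCommutative ↥A ∧ (A.subgroupOf S).index = p) : AxC S A p := by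
  refine ⟨hS, hA.1, fun s hs t ht => ?_, hA.2.2, ?_⟩
  · have := hA.2.1.is_comm.comm (⟨s, hs⟩ : A) ⟨t, ht⟩
    exact congrArg Subtype.val this
  · by_contra hcon
    push Not at hcon
    apply hna
    exact ⟨⟨fun a b => Subtype.ext (hcon a a.2 b b.2)⟩⟩

omit [Finite S] [Fact p.Prime] in
theorem mkUq (huniq : ∀ B : Subgroup Ω, B ≤ S → IsMulCommutative ↥B → (B.subgroupOf S).index = p → B = A) :
    ∀ B : Subgroup Ω, B ≤ S → (∀ s ∈ B, ∀ t ∈ B, s * t = t * s) → (B.subgroupOf S).index = p → B = A :=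
  fun B hB hc hi => huniq B hB ⟨⟨fun a b => Subtype.ext (hc a a.2 b b.2)⟩⟩ hi

end Cfsg.Agent.H25
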