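import Cfsg.Agent.Lib.H25.AxF
set_option autoImplicit false
set_option linter.style.haveILetI false

/-! The action on the centre of `S` of maps between nonabelian centric subgroups. -/

namespace Cfsg.Agent.H25

open Cfsg Cfsg.FusionSystem

variable {Ω : Type*} [Group Ω] {S : Subgroup Ω} {F : FusionSystem S} {p : ℕ} [Finite S] [Fact p.Prime]
variable {A P Q R R' : Subgroup Ω} {x : Ω}

/-- Frattini's argument for automizers of receptive fully automized subgroups. -/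
theorem frat_far (hQ : Far F p Q) {H : Subgroup (MulAut Q)}
    (hH : ∀ b ∈ F.autGroup Q, ∀ s ∈ S, ∀ γ : MulAut Q, IsC s γ → b * γ * b⁻¹ ∈ H) {a : MulAut Q} (ha : a ∈ F.autGroup Q) :
    ∃ d ∈ H, ∃ n ∈ F.autGroup Q, (∀ s ∈ S, ∀ γ : MulAut Q, IsC s γ → ∃ s' ∈ S, IsC s' (n * γ * n⁻¹)) ∧ a = d * n := by
  classical
  have hQS := hQ.le
  haveI : Finite Q := finite_of_le hQS
  obtain ⟨R₀, hR₀⟩ := hQ.auto.2
  obtain ⟨D, hDdef⟩ : ∃ D : Subgroup (F.autGroup Q), D = Subgroup.normalClosure (R₀ : Set (F.autGroup Q)) := ⟨_, rfl⟩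
  haveI hDn : D.Normal := by
    rw [hDdef]
    infer_instance
  have hRD : (R₀ : Subgroup (F.autGroup Q)) ≤ D := by
    rw [hDdef]
    exact Subgroup.le_normalClosure
  have hDH : ∀ d ∈ D, (d : MulAut Q) ∈ H := by
    have hle : D ≤ H.subgroupOf (F.autGroup Q) := by
      rw [hDdef]
      refine (Subgroup.closure_le _).2 ?_
      intro y hy
      obtain ⟨a', ha', hconj⟩ := Group.mem_conjugatesOfSet_iff.1 hy
      obtain ⟨c, hc⟩ := _root_.isConj_iff.1 hconj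
      rw [← hc]
      have h1 : a' ∈ (R₀ : Subgroup (F.autGroup Q)) := ha'
      rw [hR₀, Subgroup.mem_subgroupOf] at h1
      obtain ⟨s, hs, hsα⟩ := exists_of_mem_autInducedBy h1
      exact hH c c.2 s hs _ hsα
    intro d hd
    exact Subgroup.mem_subgroupOf.mp (hle hd)
  have hsup := Cfsg.Agent.H14.frattini_inf R₀ D
  rw [inf_eq_left.mpr hRD] at hsup
  have hmem : (⟨a, ha⟩ : F.autGroup Q) ∈ Subgroup.normalizer ((R₀ : Subgroup (F.autGroup Q)) : Set (F.autGroup Q)) ⊔ D := by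
    rw [hsup]
    exact Subgroup.mem_top _
  rw [sup_comm] at hmem
  obtain ⟨d, hd, n, hn, e⟩ := Cfsg.Agent.H01.exists_mul_of_mem_sup (N := D)
    (A := Subgroup.normalizer ((R₀ : Subgroup (F.autGroup Q)) : Set (F.autGroup Q)))
    (le_top.trans (Subgroup.normalizer_eq_top_iff.mpr hDn).ge) hmem
  refine ⟨d, hDH d hd, n, n.2, ?_, congrArg Subtype.val e⟩
  intro s hs γ hγ
  have hγm : γ ∈ F.autGroup Q := conj_mem_autGroup hQS hs hγ
  have h1 : (⟨γ, hγm⟩ : F.autGroup Q) ∈ (R₀ : Subgroup (F.autGroup Q)) := by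
    rw [hR₀, Subgroup.mem_subgroupOf]
    exact mem_autInducedBy_of_conj hs hγ
  have h2 := (Subgroup.mem_normalizer_iff.mp hn _).mp h1
  rw [hR₀, Subgroup.mem_subgroupOf] at h2
  exact exists_of_mem_autInducedBy h2

/-- Lifting to the normalizer. -/
theorem lift_far (hQ : Far F p Q) {n : MulAut Q} (hn : n ∈ F.autGroup Q)
    (hnorm : ∀ s ∈ S, ∀ γ : MulAut Q, IsC s γ → ∃ s' ∈ S, IsC s' (n * γ * n⁻¹)) :
    ∃ e, Mp F (normalizerIn S Q) e ∧ ∀ y : Q, e y = ((n y : Q) : Ω) := by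
  have hQS := hQ.le
  have hb := Iso.of_mem_autGroup hQS hn
  have hbapp : ∀ y : Q, toFun (Q.subtype.comp n.toMonoidHom) y = ((n y : Q) : Ω) := toFun_aut _
  obtain ⟨b, hbdef⟩ : ∃ b, b = toFun (Q.subtype.comp n.toMonoidHom) := ⟨_, rfl⟩
  rw [← hbdef] at hb hbapp
  obtain ⟨e, he, heb⟩ := recept_ext hQ.recep hb (K := normalizerIn S Q) (le_normalizerIn hQS) (by
    intro g hg
    apply Subgroup.subset_closure
    refine ⟨hg.1, hg.2, ?_⟩
    obtain ⟨γ, hγC, -⟩ := exists_isC (F := F) hQS hg.1 hg.2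
    obtain ⟨s', hs', hs'C⟩ := hnorm g hg.1 γ hγC
    refine ⟨s', hs', fun y hy => ?_⟩
    have hgy : g * y * g⁻¹ ∈ Q := conj_mem_of_normalizer hg.2 hy
    have h1 : (⟨g * y * g⁻¹, hgy⟩ : Q) = γ ⟨y, hy⟩ := Subtype.ext (hγC ⟨y, hy⟩).symm
    rw [hbapp ⟨g * y * g⁻¹, hgy⟩, hbapp ⟨y, hy⟩, h1, ← hs'C (n ⟨y, hy⟩)]
    show _ = ((n (γ (n⁻¹ (n ⟨y, hy⟩))) : Q) : Ω)
    simp)
  exact ⟨e, he, fun y => by rw [heb y y.2, hbapp]⟩

/-- Nonabelian centric subgroups. -/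
def CCx (F : FusionSystem S) (R : Subgroup Ω) : Prop := F.IsCentric R ∧ ∃ s ∈ R, ∃ t ∈ R, s * t ≠ t * s

theorem CCx.le (h : CCx F R) : R ≤ S := h.1.1

theorem CCx.Z (h : CCx F R) : ZS S ≤ R := fun z hz =>
  h.1.2 R (isConj_refl h.1.1) (mem_centralizerIn.mpr ⟨hz.1, fun y hy => (mem_ZS.mp hz).2 y (h.1.1 hy)⟩)

theorem CCx.exists_x (C : AxC S A p) (h : CCx F R) : ∃ x ∈ R, x ∉ A := by
  by_contra hcon
  push Not at hcon
  obtain ⟨s, hs, t, ht, hst⟩ := h.2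
  exact hst (C.ab s (hcon s hs) t (hcon t ht))

theorem CCx.center (C : AxC S A p) (h : CCx F R) {y : Ω} (hy : y ∈ R) (hc : ∀ t ∈ R, t * y = y * t) : y ∈ ZS S := by
  obtain ⟨x, hxR, hxA⟩ := h.exists_x C
  exact ax_ZP C h.le hxR hxA h.2 hy hc

theorem CCx.iso (h : CCx F R) {φ : Ω → Ω} (hI : Iso F R R' φ) : CCx F R' := by
  have hR'S : R' ≤ S := by
    intro y hy
    obtain ⟨x, hx, rfl⟩ := hI.surj y hy
    exact hI.mp.mem hx
  refine ⟨⟨hR'S, fun Q' hQ' => h.1.2 Q' (isConj_trans (isConj_iff.mpr ⟨φ, hI⟩) hQ')⟩, ?_⟩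
  obtain ⟨s, hs, t, ht, hst⟩ := h.2
  refine ⟨φ s, hI.maps s hs, φ t, hI.maps t ht, fun e => hst ?_⟩
  rw [← hI.mp.map_mul hs ht, ← hI.mp.map_mul ht hs] at e
  exact hI.mp.inj (R.mul_mem hs ht) (R.mul_mem ht hs) e

theorem CCx.up (h : CCx F R) {R₁ : Subgroup Ω} (hRR₁ : R ≤ R₁) (hR₁ : R₁ ≤ S) : CCx F R₁ := by
  refine ⟨⟨hR₁, fun Q' hQ' => ?_⟩, ?_⟩
  · obtain ⟨ψ, hψ⟩ := isConj_iff.mp hQ'
    have hm : Mp F R ψ := hψ.mp.restrict hRR₁
    have hI := Iso.of_mp hm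
    have hc := h.1.2 hm.img (isConj_iff.mpr ⟨ψ, hI⟩)
    have himg : hm.img ≤ Q' := by
      intro y hy
      obtain ⟨x, hx, rfl⟩ := hI.surj y hy
      exact hψ.maps x (hRR₁ hx)
    intro c hc'
    apply himg
    apply hc
    obtain ⟨hcS, hcc⟩ := mem_centralizerIn.mp hc'
    exact mem_centralizerIn.mpr ⟨hcS, fun y hy => hcc y (himg hy)⟩
  · obtain ⟨s, hs, t, ht, hst⟩ := h.2
    exact ⟨s, hRR₁ hs, t, hRR₁ ht, hst⟩

/-- Maps between nonabelian centric subgroups preserve the centre of `S`. -/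
theorem CCx.maps_Z (C : AxC S A p) (h : CCx F R) {φ : Ω → Ω} (hI : Iso F R R' φ) {z : Ω} (hz : z ∈ ZS S) : φ z ∈ ZS S := by
  have hzR := h.Z hz
  refine (h.iso hI).center C (hI.maps z hzR) (fun t ht => ?_)
  obtain ⟨t', ht', rfl⟩ := hI.surj t ht
  rw [← hI.mp.map_mul ht' hzR, ← hI.mp.map_mul hzR ht', (mem_ZS.mp hz).2 t' (h.le ht')]

/-- The middle step. -/
theorem ext_mid (C : AxC S A p) (hQ : Far F p Q) (hc : CCx F Q)
    (IH : ∀ e, Mp F (normalizerIn S Q) e → ∃ β, Iso F S S β ∧ ∀ z ∈ ZS S, e z = β z) {f : Ω → Ω} (hf : Iso F Q Q f) :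
    ∃ β, Iso F S S β ∧ ∀ z ∈ ZS S, f z = β z := by
  have hQS := hQ.le
  have hZQ := hc.Z
  have hmem : ∀ (n : MulAut Q), n ∈ F.autGroup Q → ∀ y : Q, (y : Ω) ∈ ZS S → ((n y : Q) : Ω) ∈ ZS S := by
    intro n hn y hy
    have hI := Iso.of_mem_autGroup hQS hn
    have h1 := hc.maps_Z C hI hy
    rwa [toFun_aut] at h1
  obtain ⟨d, hd, n, hn, hnorm, e⟩ := frat_far hQ (H := fixOn Q (ZS S)) (fun b hb s hs γ hγ y hy => by
    show b (γ (b⁻¹ y)) = y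
    have h1 := hmem b⁻¹ (inv_mem hb) y hy
    have h2 : γ (b⁻¹ y) = b⁻¹ y := Subtype.ext (by
      rw [hγ, (mem_ZS.mp h1).2 s hs]
      group)
    rw [h2]
    simp) (autOfIso_mem hf)
  obtain ⟨e', he', hn'⟩ := lift_far hQ hn hnorm
  obtain ⟨β, hβ, hβe⟩ := IH e' he'
  refine ⟨β, hβ, fun z hz => ?_⟩
  have hzQ := hZQ hz
  have h1 : ((n ⟨z, hzQ⟩ : Q) : Ω) ∈ ZS S := hmem n hn _ hz
  have h2 : d (n ⟨z, hzQ⟩) = n ⟨z, hzQ⟩ := hd _ h1
  have h3 : f z = ((autOfIso hf ⟨z, hzQ⟩ : Q) : Ω) := rfl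
  rw [h3, e]
  show ((d (n ⟨z, hzQ⟩) : Q) : Ω) = _
  rw [h2, ← hβe z hz, ← hn' ⟨z, hzQ⟩]

/-- **Maps between nonabelian centric subgroups act on the centre like automorphisms of `S`.** -/
theorem ext_center (C : AxC S A p) (hF : F.IsSaturated p) (n : ℕ) :
    ∀ (R R' : Subgroup Ω) (φ : Ω → Ω), Nat.card S ≤ Nat.card R + n → CCx F R → Iso F R R' φ →
      ∃ β, Iso F S S β ∧ ∀ z ∈ ZS S, φ z = β z := by
  have hS := C.hS
  have base : ∀ (R R' : Subgroup Ω) (φ : Ω → Ω), R = S → CCx F R → Iso F R R' φ →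
      ∃ β, Iso F S S β ∧ ∀ z ∈ ZS S, φ z = β z := by
    intro R R' φ hR hcc hI
    subst hR
    refine ⟨φ, ?_, fun _ _ => rfl⟩
    have hR'S := (hcc.iso hI).le
    have : R' = R := by
      haveI : Finite R' := finite_of_le hR'S
      apply Subgroup.eq_of_le_of_card_ge hR'S
      exact (hI.card_eq).le
    rwa [this] at hI
  induction n with
  | zero =>
    intro R R' φ hcard hcc hI
    refine base R R' φ ?_ hcc hI
    haveI : Finite R := finite_of_le hcc.le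
    exact Subgroup.eq_of_le_of_card_ge hcc.le (by simpa using hcard)
  | succ n IH =>
    intro R R' φ hcard hcc hI
    by_cases hRS : R = S
    · exact base R R' φ hRS hcc hI
    have hcc' := hcc.iso hI
    have hc' : Nat.card R' = Nat.card R := hI.card_eq.symm
    have hR'S : R' ≠ S := by
      rintro rfl
      apply hRS
      haveI : Finite R := finite_of_le hcc.le
      exact Subgroup.eq_of_le_of_card_ge hcc.le hc'.le
    obtain ⟨Q, f, hfar, hf⟩ := exists_far hF hcc.le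
    have hccQ := hcc.iso hf
    have hcQ : Nat.card Q = Nat.card R := hf.card_eq.symm
    have hQS : Q ≠ S := by
      rintro rfl
      apply hRS
      haveI : Finite R := finite_of_le hcc.le
      exact Subgroup.eq_of_le_of_card_ge hcc.le hcQ.le
    -- extension to normalizers
    have step : ∀ (R₂ : Subgroup Ω), R₂ ≠ S → CCx F R₂ → Nat.card R₂ = Nat.card R → ∀ e, Mp F (normalizerIn S R₂) e →
        ∃ β, Iso F S S β ∧ ∀ z ∈ ZS S, e z = β z := by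
      intro R₂ hne hcc₂ hc₂ e he
      obtain ⟨g, hg, hgR⟩ := exists_normalizer_not_mem hS hcc₂.le hne
      have hlt : R₂ < normalizerIn S R₂ := lt_of_le_of_ne (le_normalizerIn hcc₂.le) fun h => hgR (h ▸ hg)
      have h1 := card_lt_of_lt normalizerIn_le hlt
      refine IH _ _ e ?_ (hcc₂.up (le_normalizerIn hcc₂.le) normalizerIn_le) (Iso.of_mp he)
      omega
    obtain ⟨h₁, hh₁, hI₁⟩ := exists_ext_normalizer hS hfar (isConj_iff.mpr ⟨f, hf⟩)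
    obtain ⟨f', hf', -, -⟩ := hI.inv
    obtain ⟨h₂, hh₂, hI₂⟩ := exists_ext_normalizer hS hfar (isConj_iff.mpr ⟨f ∘ f', hf'.comp hf⟩)
    obtain ⟨β₁, hβ₁, hβ₁e⟩ := step R hRS hcc rfl h₁ hh₁
    obtain ⟨β₂, hβ₂, hβ₂e⟩ := step R' hR'S hcc' hc' h₂ hh₂
    obtain ⟨k₁, hk₁, hk₁1, hk₁2⟩ := hI₁.inv
    obtain ⟨β₃, hβ₃, hβ₃e⟩ := ext_mid C hfar hccQ (step Q hQS hccQ hcQ) ((hk₁.comp hI).comp hI₂)
    obtain ⟨γ₂, hγ₂, hγ₂1, -⟩ := hβ₂.inv
    refine ⟨γ₂ ∘ β₃ ∘ β₁, (hβ₁.comp hβ₃).comp hγ₂, fun z hz => ?_⟩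
    have hzR := hcc.Z hz
    have h1 : β₁ z ∈ ZS S := iso_ZS hβ₁ hz
    have h2 := hβ₃e (β₁ z) h1
    rw [← hβ₁e z hz] at h2
    have h3 : (h₂ ∘ φ ∘ k₁) (h₁ z) = h₂ (φ z) := by
      show h₂ (φ (k₁ (h₁ z))) = _
      rw [hk₁1 z hzR]
    rw [h3, hβ₂e _ (hcc.maps_Z C hI hz)] at h2
    show φ z = γ₂ (β₃ (β₁ z))
    rw [hβ₁e z hz] at h2
    rw [← h2, hγ₂1 _ (hcc'.le (hcc'.Z (hcc.maps_Z C hI hz)))]

end Cfsg.Agent.H25
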