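import Cfsg.Agent.Lib.H14.GT
import Cfsg.Agent.Lib.H13.FrobFusion

set_option autoImplicit false

/-! An axiomatic form of the ZJ theorem, for a family of abelian subgroups of a Sylow subgroup. -/

namespace Cfsg.Agent.H25

open Cfsg

open scoped commutatorElement

section Ax

variable {G : Type*} [Group G]

/-- The intersection of the members of the family contained in `Q`. -/
def II (𝒜 : Set (Subgroup G)) (Q : Subgroup G) : Subgroup G := ⨅ A ∈ {A : Subgroup G | A ∈ 𝒜 ∧ A ≤ Q}, A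

theorem mem_II {𝒜 : Set (Subgroup G)} {Q : Subgroup G} {x : G} : x ∈ II 𝒜 Q ↔ ∀ A ∈ 𝒜, A ≤ Q → x ∈ A := by
  unfold II
  simp only [Subgroup.mem_iInf]
  exact ⟨fun h A hA hAQ => h A ⟨hA, hAQ⟩, fun h A hA => h A hA.1 hA.2⟩

theorem II_mono {𝒜 : Set (Subgroup G)} {Q R : Subgroup G} (h : Q ≤ R) : II 𝒜 R ≤ II 𝒜 Q := fun _ hx =>
  mem_II.mpr fun A hA hAQ => mem_II.mp hx A hA (hAQ.trans h)

variable [Finite G] {p : ℕ} [Fact p.Prime]

/-- The axiomatic ZJ theorem. -/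
theorem I_normal (hp : p ≠ 2) (P : Sylow p G) {𝒜 : Set (Subgroup G)} (hab : ∀ A ∈ 𝒜, A ≤ P ∧ ∀ a ∈ A, ∀ b ∈ A, a * b = b * a)
    (hne : 𝒜.Nonempty)
    (hinv : ∀ Q : Subgroup G, Q ≤ P → (∃ A ∈ 𝒜, A ≤ Q) → ∀ g ∈ Subgroup.normalizer (Q : Set G), ∀ x ∈ II 𝒜 Q, g * x * g⁻¹ ∈ II 𝒜 Q)
    (hrep : ∀ B : Subgroup G, B ≤ P → ⁅⁅B, B⁆, B⁆ = ⊥ → (∃ A ∈ 𝒜, ⁅B, B⁆ ≤ A ∧ ¬ B ≤ A) →
      ∃ A ∈ 𝒜, ⁅B, B⁆ ≤ A ∧ ¬ B ≤ A ∧ B ≤ Subgroup.normalizer (A : Set G))
    (hst : H14.NormalStable p (P : Subgroup G))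
    (hc : Subgroup.centralizer (Cfsg.pCore p G : Set G) ≤ Cfsg.pCore p G) : (II 𝒜 (P : Subgroup G)).Normal := by
  classical
  set Z := II 𝒜 (P : Subgroup G) with hZ
  obtain ⟨A₁, hA₁⟩ := hne
  have hZA : ∀ A ∈ 𝒜, Z ≤ A := fun A hA x hx => mem_II.mp hx A hA (hab A hA).1
  have hZP : Z ≤ (P : Subgroup G) := (hZA A₁ hA₁).trans (hab A₁ hA₁).1
  have hPP : ∀ g ∈ (P : Subgroup G), g ∈ Subgroup.normalizer ((P : Subgroup G) : Set G) := fun g hg => by
    refine Subgroup.mem_normalizer_iff.mpr fun x => ⟨fun hx => Subgroup.mul_mem _ (Subgroup.mul_mem _ hg hx) (Subgroup.inv_mem _ hg), fun hx => ?_⟩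
    have h2 := Subgroup.mul_mem _ (Subgroup.mul_mem _ (Subgroup.inv_mem _ hg) hx) hg
    have e : g⁻¹ * (g * x * g⁻¹) * g = x := by group
    rwa [e] at h2
  have hZconj : ∀ g ∈ (P : Subgroup G), ∀ x ∈ Z, g * x * g⁻¹ ∈ Z := fun g hg x hx =>
    hinv _ le_rfl ⟨A₁, hA₁, (hab A₁ hA₁).1⟩ g (hPP g hg) x hx
  have hfin : Set.Finite {B : Subgroup G | B.Normal ∧ B ≤ Z} := Set.toFinite _
  have hne' : {B : Subgroup G | B.Normal ∧ B ≤ Z}.Nonempty := ⟨⊥, inferInstance, bot_le⟩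
  obtain ⟨B₀, hB₀⟩ := hfin.exists_maximal hne'
  obtain ⟨⟨hB₀n, hB₀Z⟩, hmax⟩ := hB₀
  by_cases hEq : B₀ = Z
  · rw [← hEq]
    exact hB₀n
  exfalso
  have hnle : ¬ Z ≤ B₀ := fun h => hEq (le_antisymm hB₀Z h)
  have hB₀p : IsPGroup p B₀ := P.isPGroup'.to_le (hB₀Z.trans hZP)
  -- the central element modulo `B₀`
  obtain ⟨w, hwZ, hwB₀, hwc⟩ : ∃ w ∈ Z, w ∉ B₀ ∧ ∀ g ∈ (P : Subgroup G), w * g * w⁻¹ * g⁻¹ ∈ B₀ := by
    haveI : Group.IsNilpotent (P : Subgroup G) := P.isPGroup'.isNilpotent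
    have hZPn : (Z.subgroupOf (P : Subgroup G)).Normal := by
      refine ⟨fun n hn g => ?_⟩
      rw [Subgroup.mem_subgroupOf] at hn ⊢
      exact hZconj g g.2 n hn
    have hnle' : ¬ Z.subgroupOf (P : Subgroup G) ≤ B₀.subgroupOf (P : Subgroup G) := by
      intro h
      apply hnle
      intro z hz
      have := h (Subgroup.mem_subgroupOf.mpr (show ((⟨z, hZP hz⟩ : (P : Subgroup G)) : G) ∈ Z from hz))
      exact Subgroup.mem_subgroupOf.mp this
    obtain ⟨⟨w, hwP⟩, hwZ, hwB, hw⟩ := H14.exists_commutator_mem hZPn hnle'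
    refine ⟨w, Subgroup.mem_subgroupOf.mp hwZ, fun h => hwB (Subgroup.mem_subgroupOf.mpr h), ?_⟩
    intro g hg
    have := (hw ⟨g, hg⟩).2
    exact Subgroup.mem_subgroupOf.mp this
  have hcommZ : ∀ a ∈ Z, ∀ b ∈ Z, a * b = b * a := fun a ha b hb => (hab A₁ hA₁).2 a (hZA A₁ hA₁ ha) b (hZA A₁ hA₁ hb)
  set V := Cfsg.pCore p G with hV
  have hVn : V.Normal := Cfsg.Agent.H01.pCore_normal p
  have hVp : IsPGroup p V := Cfsg.Agent.H01.pCore_isPGroup p
  have hVP : V ≤ (P : Subgroup G) := Cfsg.Agent.H01.pCore_le_sylow p P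
  have hwV : w ∈ V := H14.mem_pCore_of_stability hVn hVp hB₀n hB₀p hc
    (fun c hc => hcommZ w hwZ c (hB₀Z hc)) (fun v hv => hwc v (hVP hv))
  have hB₀V : B₀ ≤ V := Cfsg.Agent.H01.le_pCore hB₀n hB₀p
  -- the next member
  set X : Set G := (B₀ : Set G) ∪ {y | ∃ g : G, y = g * w * g⁻¹} with hX
  set B₁ : Subgroup G := Subgroup.closure X with hB₁
  have hXconj : ∀ x ∈ X, ∀ g : G, g * x * g⁻¹ ∈ X := by
    rintro x (hx | ⟨k, rfl⟩) g
    · exact Or.inl (hB₀n.conj_mem x hx g)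
    · exact Or.inr ⟨g * k, by group⟩
  have hB₁n : B₁.Normal := by
    refine ⟨fun n hn g => ?_⟩
    induction hn using Subgroup.closure_induction with
    | mem x hx => exact Subgroup.subset_closure (hXconj x hx g)
    | one =>
      have : g * 1 * g⁻¹ = 1 := by group
      rw [this]
      exact B₁.one_mem
    | mul a b _ _ ha hb =>
      have : g * (a * b) * g⁻¹ = (g * a * g⁻¹) * (g * b * g⁻¹) := by group
      rw [this]
      exact B₁.mul_mem ha hb
    | inv a _ ha =>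
      have : g * a⁻¹ * g⁻¹ = (g * a * g⁻¹)⁻¹ := by group
      rw [this]
      exact B₁.inv_mem ha
  have hconjV : ∀ g : G, g * w * g⁻¹ ∈ V := fun g => hVn.conj_mem w hwV g
  have hB₁V : B₁ ≤ V := by
    rw [hB₁, Subgroup.closure_le]
    rintro x (hx | ⟨k, rfl⟩)
    · exact hB₀V hx
    · exact hconjV k
  have hB₁p : IsPGroup p B₁ := hVp.to_le hB₁V
  have hwB₁ : w ∈ B₁ := Subgroup.subset_closure (Or.inr ⟨1, by group⟩)
  have hB₀B₁ : B₀ ≤ B₁ := fun b hb => Subgroup.subset_closure (Or.inl hb)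
  -- class two
  have hcentB₀ : ∀ z ∈ B₀, ∀ g ∈ B₁, z * g = g * z := by
    have hle : B₁ ≤ Subgroup.centralizer (B₀ : Set G) := by
      rw [hB₁, Subgroup.closure_le]
      rintro x (hx | ⟨k, rfl⟩)
      · rw [SetLike.mem_coe, Subgroup.mem_centralizer_iff]
        intro c hc
        exact hcommZ c (hB₀Z hc) x (hB₀Z hx)
      · rw [SetLike.mem_coe, Subgroup.mem_centralizer_iff]
        intro c hc
        have hc' : k⁻¹ * c * k ∈ B₀ := by
          have := hB₀n.conj_mem c hc k⁻¹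
          simpa using this
        have h1 := hcommZ _ (hB₀Z hc') w hwZ
        calc c * (k * w * k⁻¹) = k * ((k⁻¹ * c * k) * w) * k⁻¹ := by group
          _ = k * (w * (k⁻¹ * c * k)) * k⁻¹ := by rw [h1]
          _ = _ := by group
    intro z hz g hg
    exact (Subgroup.mem_centralizer_iff.mp (hle hg)) z hz
  have hcomm1 : ∀ g ∈ B₁, ∀ k ∈ B₁, ⁅g, k⁆ ∈ B₀ := by
    apply H14.commutator_mem_of_closure hcentB₀
    have hXB : ∀ x ∈ X, x ∈ B₁ := fun x hx => Subgroup.subset_closure hx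
    rintro x (hx | ⟨k, rfl⟩) y hy
    · rw [commutatorElement_eq_one_iff_mul_comm.mpr (hcentB₀ x hx y (hXB y hy))]
      exact B₀.one_mem
    · rcases hy with hy | ⟨l, rfl⟩
      · rw [commutatorElement_eq_one_iff_mul_comm.mpr (hcentB₀ y hy _ (hXB _ (Or.inr ⟨k, rfl⟩))).symm]
        exact B₀.one_mem
      · have h1 : k⁻¹ * (l * w * l⁻¹) * k ∈ V := by
          have := hVn.conj_mem _ (hconjV l) k⁻¹
          simpa using this
        have h2 := hwc _ (hVP h1)
        have h3 := hB₀n.conj_mem _ h2 k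
        have e : ⁅k * w * k⁻¹, l * w * l⁻¹⁆ =
            k * (w * (k⁻¹ * (l * w * l⁻¹) * k) * w⁻¹ * (k⁻¹ * (l * w * l⁻¹) * k)⁻¹) * k⁻¹ := by
          rw [commutatorElement_def]
          group
        rw [e]
        exact h3
  have hB₁comm : ⁅B₁, B₁⁆ ≤ B₀ := by
    rw [Subgroup.commutator_le]
    exact hcomm1
  have hB₂ : ⁅⁅B₁, B₁⁆, B₁⁆ = ⊥ := by
    rw [eq_bot_iff, Subgroup.commutator_le]
    intro a ha b hb
    rw [Subgroup.mem_bot, commutatorElement_eq_one_iff_mul_comm]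
    exact hcentB₀ a (hB₁comm ha) b hb
  have hB₁normalizer : ∀ A : Subgroup G, A ≤ Subgroup.normalizer (B₁ : Set G) := by
    intro A
    rw [Subgroup.normalizer_eq_top_iff.mpr hB₁n]
    exact le_top
  -- the main claim
  have hclaim : ∀ A ∈ 𝒜, B₁ ≤ A := by
    by_contra hcon
    push Not at hcon
    obtain ⟨A₀, hA₀, hA₀B⟩ := hcon
    have hB₁P : B₁ ≤ (P : Subgroup G) := hB₁V.trans hVP
    obtain ⟨A, hA, hAc, hAB, hBnorm⟩ := hrep B₁ hB₁P hB₂ ⟨A₀, hA₀, hB₁comm.trans (hB₀Z.trans (hZA A₀ hA₀)), hA₀B⟩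
    have hAab := (hab A hA).2
    have hAP := (hab A hA).1
    -- step 2: quadratic action
    have hquad : ∀ a ∈ A, ⁅⁅B₁, Subgroup.zpowers a⁆, Subgroup.zpowers a⁆ = ⊥ := by
      intro a ha
      have h1 : ⁅B₁, Subgroup.zpowers a⁆ ≤ A := by
        rw [Subgroup.commutator_le]
        intro x hx y hy
        have hyA : y ∈ A := (Subgroup.zpowers_le.mpr ha) hy
        have h2 := (Subgroup.mem_normalizer_iff.mp (hBnorm hx) y).mp hyA
        rw [commutatorElement_def]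
        exact A.mul_mem h2 (A.inv_mem hyA)
      rw [eq_bot_iff, Subgroup.commutator_le]
      intro x hx y hy
      rw [Subgroup.mem_bot, commutatorElement_eq_one_iff_mul_comm]
      exact hAab x (h1 hx) y ((Subgroup.zpowers_le.mpr ha) hy)
    obtain ⟨T, hTn, hCT, ⟨m, hm⟩, hTq⟩ := hst B₁ hB₁p hB₁n
    haveI := hTn
    set C := Subgroup.centralizer (B₁ : Set G) with hC
    have hCn : C.Normal := Subgroup.normal_centralizer
    have hAT : A ≤ T := fun a ha => hTq a (hAP ha) (hquad a ha)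
    set Q₁ : Subgroup G := (P : Subgroup G) ⊓ T with hQ₁
    have hfrat := H14.frattini_inf P T
    -- `T ≤ Q₁ C`
    have hTQC : T ≤ Q₁ ⊔ C := by
      have h1 : (Q₁ ⊔ C).relIndex T ∣ C.relIndex T := Subgroup.relIndex_dvd_of_le_left T le_sup_right
      have h2 : (Q₁ ⊔ C).relIndex T ∣ Q₁.relIndex T := Subgroup.relIndex_dvd_of_le_left T le_sup_left
      have h3 : ¬ p ∣ Q₁.relIndex T := by
        rw [hQ₁, Subgroup.inf_relIndex_right]
        exact fun h => P.not_dvd_index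
          (h.trans (H18.relIndex_dvd_index_of_normal_right (P : Subgroup G) T))
      rw [hm] at h1
      obtain ⟨j, -, hj⟩ := (Nat.dvd_prime_pow (Fact.out : p.Prime)).mp h1
      rcases j with _ | j
      · have : (Q₁ ⊔ C).relIndex T = 1 := by simpa using hj
        exact Subgroup.relIndex_eq_one.mp this
      · exfalso
        apply h3
        refine dvd_trans ?_ h2
        rw [hj]
        exact dvd_pow_self p (by omega)
    have hsupC : Subgroup.normalizer (Q₁ : Set G) ⊔ C = ⊤ := by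
      rw [eq_top_iff, ← hfrat]
      refine sup_le le_sup_left (hTQC.trans (sup_le ?_ le_sup_right))
      exact Subgroup.le_normalizer.trans le_sup_left
    have hdecomp : ∀ g : G, ∃ h ∈ Subgroup.normalizer (Q₁ : Set G), ∃ c ∈ C, g = h * c := by
      intro g
      have hg : g ∈ ((Subgroup.normalizer (Q₁ : Set G) ⊔ C : Subgroup G) : Set G) := by
        rw [hsupC]
        trivial
      rw [Subgroup.mul_normal] at hg
      obtain ⟨h, hh, c, hc, e⟩ := Set.mem_mul.mp hg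
      exact ⟨h, hh, c, hc, e.symm⟩
    have hAQ₁ : A ≤ Q₁ := le_inf hAP hAT
    have hQ₁P : Q₁ ≤ (P : Subgroup G) := inf_le_left
    have hZ₁ : ∀ z ∈ Z, z ∈ II 𝒜 Q₁ := fun z hz => II_mono hQ₁P hz
    have hle : B₁ ≤ II 𝒜 Q₁ := by
      rw [hB₁, Subgroup.closure_le]
      rintro x (hx | ⟨k, rfl⟩)
      · exact hZ₁ x (hB₀Z hx)
      · obtain ⟨h, hh, c, hc, rfl⟩ := hdecomp k
        have h1 : c * w * c⁻¹ = w := by
          have := (Subgroup.mem_centralizer_iff.mp hc) w hwB₁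
          rw [← this]
          group
        have e : h * c * w * (h * c)⁻¹ = h * (c * w * c⁻¹) * h⁻¹ := by group
        rw [e, h1]
        exact hinv Q₁ hQ₁P ⟨A, hA, hAQ₁⟩ h hh w (hZ₁ w hwZ)
    exact hAB fun x hx => mem_II.mp (hle hx) A hA hAQ₁
  have hB₁Z : B₁ ≤ Z := fun x hx => mem_II.mpr fun A hA _ => hclaim A hA hx
  have h1 := hmax ⟨hB₁n, hB₁Z⟩ hB₀B₁
  exact hwB₀ (h1 hwB₁)

end Ax

section Stable

open H13 H14

variable {G : Type*} [Group G] [Finite G] {p : ℕ} [Fact p.Prime]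

/-- Stability in a minimal situation. -/
theorem stable_of_frob (hp2 : p ≠ 2) (P : Sylow p G) {Q : Subgroup G} [hQnn : Q.Normal] (hQdef : Q = Cfsg.pCore p G)
    (hquot : FrobCond p (G ⧸ Q)) (hcQ : Subgroup.centralizer (Q : Set G) ≤ Q)
    (hmin : ∀ G₁ : Subgroup G, G₁ ≠ ⊤ → (P : Subgroup G) ≤ G₁ → FC p G₁) (hnot : ¬ FrobCond p G) :
    NormalStable p (P : Subgroup G) := by
  classical
  have hp : p.Prime := Fact.out
  have hQn : Q.Normal := hQnn
  have hQp : IsPGroup p Q := hQdef ▸ Cfsg.Agent.H01.pCore_isPGroup p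
  have hQP : Q ≤ (P : Subgroup G) := hQdef ▸ Cfsg.Agent.H01.pCore_le_sylow p P
  have hNQ : NN Q = ⊤ := Subgroup.normalizer_eq_top_iff.mpr hQn
  let π := QuotientGroup.mk' Q
  have hπs : Function.Surjective π := QuotientGroup.mk'_surjective Q
  have hπ1 : ∀ x : G, π x = 1 ↔ x ∈ Q := fun x => QuotientGroup.eq_one_iff x
  have hkerπ : (⊥ : Subgroup (G ⧸ Q)).comap π = Q := by
    ext x
    rw [Subgroup.mem_comap, Subgroup.mem_bot]
    exact hπ1 x
  have hQcomap : ∀ K : Subgroup (G ⧸ Q), Q ≤ K.comap π := by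
    intro K x hx
    rw [Subgroup.mem_comap, (hπ1 x).mpr hx]
    exact K.one_mem
  let Pb : Sylow p (G ⧸ Q) := P.mapSurjective hπs
  have hPb : (Pb : Subgroup (G ⧸ Q)) = (P : Subgroup G).map π := Sylow.coe_mapSurjective hπs P
  -- the normal complement
  obtain ⟨Nb, hNbn, hNbc, k, hk⟩ := npc_iff.mp (hasNormalPComplement_of_frobCond hquot)
  let X : Subgroup G := Nb.comap π
  have hXn : X.Normal := hNbn.comap π
  have hQX : Q ≤ X := hQcomap Nb
  have hXidx : X.index = p ^ k := by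
    rw [← hk]
    exact Subgroup.index_comap_of_surjective Nb hπs
  have hXm : ∀ x ∈ X, x ^ Nat.card Nb ∈ Q := by
    intro x hx
    rw [← hπ1, map_pow]
    have := pow_card_eq_one' (G := Nb) (x := ⟨π x, hx⟩)
    exact congrArg Subtype.val this
  have hXP : X ⊔ (P : Subgroup G) = ⊤ := by
    have h1 : (X ⊔ (P : Subgroup G)).index ∣ p ^ k := by
      rw [← hXidx]
      exact Subgroup.index_dvd_of_le le_sup_left
    have h2 : (X ⊔ (P : Subgroup G)).index ∣ (P : Subgroup G).index :=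
      Subgroup.index_dvd_of_le le_sup_right
    obtain ⟨j, -, hj⟩ := (Nat.dvd_prime_pow hp).mp h1
    rcases j with _ | j
    · rw [pow_zero] at hj
      exact Subgroup.index_eq_one.mp hj
    · exfalso
      apply P.not_dvd_index
      refine dvd_trans ?_ h2
      rw [hj]
      exact dvd_pow_self p (by omega)
  have hXpel : ∀ x ∈ X, ∀ j : ℕ, x ^ p ^ j = 1 → x ∈ Q := by
    intro x hx j hj
    rw [← hπ1]
    have h1 : π x ∈ Nb := hx
    exact eq_one_of_mem_coprime h1 hNbc (by rw [← map_pow, hj, map_one])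
  -- irreducibility
  have hirr : ∀ X₁ : Subgroup G, Q ≤ X₁ → X₁ ≤ X → (P : Subgroup G) ≤ NN X₁ → X₁ = Q ∨ X₁ = X := by
    intro X₁ hQX₁ hX₁X hPX₁
    by_cases hEq : X₁ = X
    · exact Or.inr hEq
    left
    let G₁ : Subgroup G := (P : Subgroup G) ⊔ X₁
    have hG₁ : G₁ ≠ ⊤ := by
      intro htop
      apply hEq
      apply le_antisymm hX₁X
      intro x hx
      have h1 : x ∈ (G₁ : Set G) := by
        rw [htop]
        trivial
      rw [Subgroup.coe_mul_of_left_le_normalizer_right _ _ hPX₁] at h1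
      obtain ⟨u, hu, x₁, hx₁, rfl⟩ := Set.mem_mul.mp h1
      have hu' : u ∈ X := by
        have h2 := X.mul_mem hx (X.inv_mem (hX₁X hx₁))
        simpa using h2
      have hu'' : u ∈ Q := by
        obtain ⟨j, hj⟩ := P.isPGroup' ⟨u, hu⟩
        exact hXpel u hu' j (congrArg Subtype.val hj)
      exact X₁.mul_mem (hQX₁ hu'') hx₁
    have hPG₁ : (P : Subgroup G) ≤ G₁ := le_sup_left
    have hG₁fc : FC p G₁ := hmin G₁ hG₁ hPG₁
    apply le_antisymm _ hQX₁
    intro x hx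
    obtain ⟨a, ha⟩ := exists_pprime_part (p := p) x
    have h1 : x ^ p ^ a ∈ X₁ := X₁.pow_mem hx _
    have h2 : x ^ p ^ a ∈ Subgroup.centralizer (Q : Set G) :=
      hG₁fc Q hQp (hQX₁.trans le_sup_right) _ (Subgroup.mem_sup_right h1)
        (hNQ.ge (Subgroup.mem_top _)) ha
    have h3 : x ^ p ^ a ∈ Q := hcQ h2
    obtain ⟨j, hj⟩ := hQp ⟨_, h3⟩
    have h4 : x ^ p ^ a = 1 := eq_one_of_coprime_order (congrArg Subtype.val hj) ha
    exact hXpel x (hX₁X hx) a h4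
  have hXneQ : X ≠ Q := by
    intro h
    apply hnot
    have h1 : X ≤ (P : Subgroup G) := by rw [h]; exact hQP
    have h2 : (P : Subgroup G) = ⊤ := by
      rw [← hXP, sup_eq_right.mpr h1]
    intro T _ g _ hgc
    have hg : g = 1 := by
      obtain ⟨j, hj⟩ := P.isPGroup' ⟨g, by rw [h2]; trivial⟩
      exact eq_one_of_coprime_order (congrArg Subtype.val hj) hgc
    rw [hg]
    exact Subgroup.one_mem _
  have hNbne : Nb ≠ ⊥ := by
    rintro rfl
    apply hXneQ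
    exact hkerπ
  -- the complement is abelian
  have hNbab := abelian_of_irreducible Pb hNbn hNbc hNbne (by
    intro K hKN hPbK
    have hcom : NN (K.comap π) = (NN K).comap π := (Subgroup.comap_normalizer_eq_of_surjective K hπs).symm
    have h1 : (P : Subgroup G) ≤ NN (K.comap π) := by
      rw [hcom]
      intro u hu
      rw [Subgroup.mem_comap]
      apply hPbK
      rw [hPb]
      exact ⟨u, hu, rfl⟩
    rcases hirr (K.comap π) (hQcomap K) (Subgroup.comap_mono hKN) h1 with h | h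
    · left
      apply Subgroup.comap_injective hπs
      exact h.trans hkerπ.symm
    · right
      exact Subgroup.comap_injective hπs h)
  have hXQ : ∀ a ∈ X, ∀ b ∈ X, a * b * a⁻¹ * b⁻¹ ∈ Q := by
    intro a ha b hb
    rw [← hπ1]
    have h1 := hNbab (π a) ha (π b) hb
    simp only [map_mul, map_inv]
    rw [h1]
    group
  have hQX' : Cfsg.pCore p G ≤ X := hQdef ▸ hQX
  have hXQ' : ∀ a ∈ X, ∀ b ∈ X, a * b * a⁻¹ * b⁻¹ ∈ Cfsg.pCore p G := hQdef ▸ hXQ
  have hXm' : ∀ x ∈ X, x ^ Nat.card Nb ∈ Cfsg.pCore p G := hQdef ▸ hXm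
  exact
    H14.normalStable_of_struct P hp2 hXn hQX' hXQ' hNbc hXm' hXP ⟨k, hXidx⟩ (fun X₁ hX₁n h1 h2 => by
      rcases hirr X₁ (hQdef ▸ h1) h2 (by
        rw [NN, Subgroup.normalizer_eq_top_iff.mpr hX₁n]
        exact le_top) with h | h
      · left
        rw [h, hQdef]
      · right
        exact h)

end Stable

end Cfsg.Agent.H25
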