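import Cfsg.Agent.Lib.H25.FusBad2

set_option autoImplicit false

/-! Consequences for centres of normalizer systems; local hypotheses of quadratic type. -/

namespace Cfsg.Agent.H25

open Cfsg Cfsg.FusionSystem

universe u

section Group

variable {G : Type*} [Group G] {p : ℕ} [Fact p.Prime]

/-- The power trick for one element. -/
theorem agemo_of_elt [Finite G] (T : Sylow p G) {Q B : Subgroup G} (hQT : Q ≤ T) (hB : B.Normal)
    (hab : ∀ a ∈ B, ∀ b ∈ B, a * b = b * a) (hQB : ∀ q ∈ Q, ∀ b ∈ B, q * b = b * q) {n : ℕ} {g₁ : G} (hg₁T : g₁ ∈ (T : Subgroup G))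
    (hg₁Q : g₁ ∉ Q) (hg₁p : g₁ ^ p ∈ Q)
    (hnil : ∀ v ∈ B, (dl g₁)^[n * (p - 1) + 1] v = 1) :
    ∃ R : Subgroup G, Q < R ∧ R ≤ T ∧ (T : Subgroup G) ≤ Subgroup.normalizer (R : Set G) ∧ ∀ g : G, ∃ h ∈ Subgroup.normalizer (R : Set G),
      ∃ c, g = h * c ∧ ∀ v ∈ B, c * v ^ (p ^ n) = v ^ (p ^ n) * c := by
  classical
  have hp : p.Prime := Fact.out
  have hfix := conj_pow_fix hp hab g₁ (fun b hb => hB.conj_mem b hb g₁) (fun b hb => hQB _ hg₁p b hb) (n := n)
    (fun v hv => hnil v hv)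
  let C : Subgroup G := Subgroup.centralizer {y : G | ∃ v ∈ B, y = v ^ (p ^ n)}
  have hCn : C.Normal := by
    refine ⟨fun c hc g => ?_⟩
    rw [Subgroup.mem_centralizer_iff] at hc ⊢
    rintro y ⟨v, hv, rfl⟩
    have h1 := hc ((g⁻¹ * v * g) ^ (p ^ n)) ⟨g⁻¹ * v * g, by simpa using hB.conj_mem v hv g⁻¹, rfl⟩
    have h2 : (g⁻¹ * v * g) ^ (p ^ n) = g⁻¹ * v ^ (p ^ n) * g := by
      have := conj_pow (a := g⁻¹) (b := v) (i := p ^ n)
      simpa using this
    rw [h2] at h1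
    calc v ^ p ^ n * (g * c * g⁻¹) = g * ((g⁻¹ * v ^ p ^ n * g) * c) * g⁻¹ := by group
      _ = g * (c * (g⁻¹ * v ^ p ^ n * g)) * g⁻¹ := by rw [h1]
      _ = g * c * g⁻¹ * v ^ p ^ n := by group
  have hg₁C : g₁ ∈ C := by
    rw [Subgroup.mem_centralizer_iff]
    rintro y ⟨v, hv, rfl⟩
    have := hfix v hv
    calc v ^ p ^ n * g₁ = (g₁ * v ^ p ^ n * g₁⁻¹) * g₁ := by rw [this]
      _ = g₁ * v ^ p ^ n := by group
  have hQC : Q ≤ C := by
    intro q hq
    rw [Subgroup.mem_centralizer_iff]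
    rintro y ⟨v, hv, rfl⟩
    exact (hQB q hq _ (B.pow_mem hv _)).symm
  refine ⟨(T : Subgroup G) ⊓ C, lt_of_le_of_ne (le_inf hQT hQC) ?_, inf_le_left, ?_, fun g => ?_⟩
  · intro h
    exact hg₁Q (h ▸ (⟨hg₁T, hg₁C⟩ : g₁ ∈ (T : Subgroup G) ⊓ C))
  · intro t ht
    refine mem_normalizer_of_conj (fun x hx => ⟨T.toSubgroup.mul_mem (T.toSubgroup.mul_mem ht hx.1) (T.toSubgroup.inv_mem ht), hCn.conj_mem x hx.2 t⟩) (fun x hx => ⟨T.toSubgroup.mul_mem (T.toSubgroup.mul_mem (T.toSubgroup.inv_mem ht) hx.1) ht, ?_⟩)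
    have := hCn.conj_mem x hx.2 t⁻¹
    simpa using this
  · have hfr := H14.frattini_inf T C
    have hgt : g ∈ Subgroup.normalizer (((T : Subgroup G) ⊓ C : Subgroup G) : Set G) ⊔ C := hfr ▸ Subgroup.mem_top g
    have hgt' : g ∈ (↑(Subgroup.normalizer (((T : Subgroup G) ⊓ C : Subgroup G) : Set G) ⊔ C) : Set G) := hgt
    rw [Subgroup.mul_normal] at hgt'
    obtain ⟨h, hh, c, hc, rfl⟩ := hgt'
    refine ⟨h, hh, c, rfl, fun v hv => ?_⟩
    exact ((Subgroup.mem_centralizer_iff.mp hc) _ ⟨v, hv, rfl⟩).symm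

/-- A quadratic element has quadratic powers. -/
theorem dl_pow_quadratic {g v : G} (hc : g * dl g v = dl g v * g) (hcv : dl g v * v = v * dl g v) (n : ℕ) :
    dl (g ^ n) (dl (g ^ n) v) = 1 := by
  obtain ⟨c, hcdef⟩ : ∃ c, c = dl g v := ⟨_, rfl⟩
  rw [← hcdef] at hc hcv
  have hconj : g * v * g⁻¹ = c * v := by
    rw [hcdef]
    unfold dl
    group
  have hcg : Commute g c := hc
  have h1 : ∀ n : ℕ, g ^ n * v * (g ^ n)⁻¹ = c ^ n * v := by
    intro n
    induction n with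
    | zero => simp
    | succ n ih =>
      calc g ^ (n + 1) * v * (g ^ (n + 1))⁻¹ = g * (g ^ n * v * (g ^ n)⁻¹) * g⁻¹ := by
            rw [pow_succ']
            group
        _ = g * (c ^ n * v) * g⁻¹ := by rw [ih]
        _ = (g * c ^ n * g⁻¹) * (g * v * g⁻¹) := by group
        _ = c ^ n * (c * v) := by
            rw [hconj]
            congr 1
            have := (hcg.pow_right n).eq
            rw [this]
            group
        _ = c ^ (n + 1) * v := by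
            rw [pow_succ, mul_assoc]
  have h2 : dl (g ^ n) v = c ^ n := by
    unfold dl
    rw [h1]
    group
  rw [h2]
  unfold dl
  have h3 : Commute (g ^ n) (c ^ n) := (hcg.pow_left n).pow_right n
  rw [h3.eq]
  group

theorem dl_iterate_of_two {g v : G} (h : dl g (dl g v) = 1) (k : ℕ) : (dl g)^[k + 2] v = 1 := by
  rw [Function.iterate_add_apply]
  have h1 : (dl g)^[2] v = 1 := h
  rw [h1]
  refine Function.iterate_fixed ?_ k
  simp [dl]

end Group

variable {Ω : Type u} [Group Ω] {S : Subgroup Ω} {F : FusionSystem S} {p : ℕ}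
variable {W : ∀ (Q : Type u) [Group Q], Subgroup Q}

section Center

variable [Finite S] [Fact p.Prime]

/-- The cyclic subgroup of an element of `Z(S)` not moved by `F` is central. -/
theorem isCentral_zpowers (hS : IsPGroup p S) (hF : F.IsSaturated p) {z : Ω} (hzS : z ∈ S) (hzc : ∀ s ∈ S, s * z = z * s)
    (h : ¬ Moves F z) : F.IsCentral (Subgroup.zpowers z) := by
  have hle : Subgroup.zpowers z ≤ S := by
    rw [Subgroup.zpowers_le]
    exact hzS
  refine H24.isCentral_of_aut hS hF hle fun P hP => ?_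
  have hzP : z ∈ P := by
    rcases hP with rfl | hP
    · exact hzS
    · exact hP.1.2 P (H24.isConj_refl hP.1.1) (mem_centralizerIn.mpr ⟨hzS, fun y hy => hzc y (hP.1.1 hy)⟩)
  have hzp : Subgroup.zpowers z ≤ P := by
    rw [Subgroup.zpowers_le]
    exact hzP
  refine ⟨hzp, fun α hα x hx hxP => ?_⟩
  have hPS : P ≤ S := by
    rcases hP with rfl | hP
    · exact le_rfl
    · exact hP.1.1
  have hI := Mp.of_mem_autGroup hPS hα
  have hfix : toFun (P.subtype.comp α.toMonoidHom) z = z := by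
    by_contra hne
    exact h ⟨P, _, hI, hzP, hne⟩
  obtain ⟨i, rfl⟩ := hx
  have h1 := hI.map_zpow hzP i
  rw [hfix, toFun_aut _ ⟨z ^ i, hxP⟩] at h1
  exact h1

theorem mem_center_of_not_moves (hS : IsPGroup p S) (hF : F.IsSaturated p) {z : Ω} (hzS : z ∈ S) (hzc : ∀ s ∈ S, s * z = z * s)
    (h : ¬ Moves F z) : z ∈ F.center :=
  (le_sSup (isCentral_zpowers hS hF hzS hzc h) : Subgroup.zpowers z ≤ F.center) (Subgroup.mem_zpowers z)

/-- Control of elements in the power closure of the centre. -/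
theorem center_le_of_bad {k : ℕ} (hW : FunctorHyp p W) (hL : LocalFix.{u} p k W) (hS : IsPGroup p S) (hF : F.IsSaturated p)
    {N : FusionSystem (normalizerIn S (WW W S))} (hN : F.IsNormalizerSystem (WW W S) N) :
    powerClosure p k (S ⊓ Subgroup.centralizer (S : Set Ω)) ⊓ N.center ≤ F.center := by
  rintro z ⟨hz, hzN⟩
  have hZ : z ∈ S ⊓ Subgroup.centralizer (S : Set Ω) := pc_le (p := p) (k := k) _ hz
  haveI : Finite (normalizerIn S (WW W S)) := finite_of_le inf_le_left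
  have h1 := mem_center_iff_central hzN
  rw [eq_NSys (WW_le S) hN] at h1
  exact mem_center_of_not_moves hS hF hZ.1 (fun s hs => Subgroup.mem_centralizer_iff.mp hZ.2 s hs) (bad_main hW hL hS hF hz h1)

/-- Central subgroups of `F` are central in normalizer systems. -/
theorem isCentral_nsys {C X : Subgroup Ω} (hC : F.IsCentral C) (hX : X ≤ S) (hCX : C ≤ normalizerIn S X) :
    (NSys F X hX).IsCentral C := by
  refine ⟨hCX, fun P φ hφ => ?_⟩
  obtain ⟨hm, hP, hv, ĥ, hĥ, hĥf, hg⟩ := (mp_NSys_iff hX).mp (mp_of_mem hφ)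
  obtain ⟨φ₀, hφ₀, hφ₀ĥ⟩ := hĥ
  obtain ⟨ψ, hψ, h1, h2⟩ := hC.2 _ φ₀ hφ₀
  have hψm := mp_of_mem hψ
  have hleP : P ≤ (P ⊔ X) ⊔ C := le_sup_left.trans le_sup_left
  have hleX : X ≤ (P ⊔ X) ⊔ C := le_sup_right.trans le_sup_left
  have hleC : C ≤ (P ⊔ X) ⊔ C := le_sup_right
  have hval : ∀ x (hx : x ∈ P ⊔ X), toFun ψ x = ĥ x := by
    intro x hx
    rw [toFun_coe ψ ⟨x, le_sup_left (a := P ⊔ X) hx⟩]
    have := h1 ⟨x, hx⟩
    rw [hφ₀ĥ] at this
    exact this
  have hvalC : ∀ x (hx : x ∈ C), toFun ψ x = x := by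
    intro x hx
    rw [toFun_coe ψ ⟨x, hleC hx⟩]
    exact h2 ⟨x, hx⟩
  have hgood : GoodN X (toFun ψ) := by
    refine ⟨fun x hx => ?_, fun y hy => ?_⟩
    · rw [hval x (Subgroup.mem_sup_right hx)]
      exact hg.1 x hx
    · obtain ⟨x, hx, rfl⟩ := hg.2 y hy
      exact ⟨x, hx, hval x (Subgroup.mem_sup_right hx)⟩
  have hPC : P ⊔ C ≤ (P ⊔ X) ⊔ C := sup_le hleP hleC
  have hPCX : (P ⊔ C) ⊔ X ≤ (P ⊔ X) ⊔ C := sup_le hPC hleX
  have hmem : ∀ x ∈ P ⊔ C, toFun ψ x ∈ normalizerIn S X := by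
    have := (hψm.restrict hPC).sup_maps (A₁ := normalizerIn S X) (B₁ := normalizerIn S X) (fun x hx => by
      rw [hval x (Subgroup.mem_sup_left hx), hĥf x hx]
      exact hv x hx) (fun x hx => by
      rw [hvalC x hx]
      exact hCX hx)
    rwa [sup_idem] at this
  have hmp : Mp (NSys F X hX) (P ⊔ C) (toFun ψ) :=
    (mp_NSys_iff hX).mpr ⟨hψm.restrict hPC, sup_le hP hCX, hmem, toFun ψ, hψm.restrict hPCX, fun _ _ => rfl, hgood⟩
  obtain ⟨ψ', hψ', hψ'f⟩ := hmp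
  refine ⟨ψ', hψ', fun x => ?_, fun x => ?_⟩
  · rw [hψ'f]
    show toFun ψ x = φ x
    rw [hval x (Subgroup.mem_sup_left x.2), hĥf x x.2]
    exact (toFun_coe φ x)
  · rw [hψ'f]
    exact hvalC x x.2

end Center

end Cfsg.Agent.H25
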