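import Cfsg.Agent.Lib.H25.AxGT
import Cfsg.Agent.Lib.H25.FusBad3

set_option autoImplicit false

/-! The axiomatic Glauberman–Thompson criterion for fusion systems. -/

namespace Cfsg.Agent.H25

open Cfsg Cfsg.FusionSystem H13 H14

open scoped commutatorElement

universe u

section Gp

variable {G : Type*} [Group G] [Finite G] {p : ℕ} [Fact p.Prime]

theorem comm_of_pow_comm {y u : G} {k : ℕ} (hco : (orderOf y).Coprime p) (h : y ^ p ^ k * u = u * y ^ p ^ k) : y * u = u * y := by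
  have h1 : y ∈ Subgroup.zpowers (y ^ p ^ k) := mem_zpowers_pow_of_coprime y (Nat.Coprime.pow_right k hco)
  have h2 : y ^ p ^ k ∈ Subgroup.centralizer ({u} : Set G) := by
    rw [Subgroup.mem_centralizer_iff]
    intro v hv
    rw [Set.mem_singleton_iff] at hv
    rw [hv]
    exact h.symm
  have h3 := (Subgroup.zpowers_le.mpr h2) h1
  exact (Subgroup.mem_centralizer_iff.mp h3 u rfl).symm

end Gp

variable {Ω : Type u} [Group Ω] {S : Subgroup Ω} {F : FusionSystem S} {p : ℕ}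

section Frob

variable [Finite S] [Fact p.Prime]

/-- The Frobenius property of the quotient of a realizing group. -/
theorem frob_quot {E₀ : FusionSystem S} {G : Type*} [Group G] [Finite G] {ι : ↥S →* G} (hr : E₀.IsRealizedBy ι) (T : Sylow p G)
    (hT : (T : Subgroup G) = ι.range) {O : Subgroup G} [hOn : O.Normal] (hOT : O ≤ T) {Q : Subgroup Ω} (hQS : Q ≤ S)
    (hQO : ∀ x (hx : x ∈ Q), ι ⟨x, hQS hx⟩ ∈ O)
    (hfac : ∀ (P : Subgroup Ω) (f : Ω → Ω), Q ≤ P → Iso E₀ P P f → ∃ k : ℕ, ∀ x ∈ P, x⁻¹ * f^[p ^ k] x ∈ Q) :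
    FrobCond p (G ⧸ O) := by
  classical
  have hπs : Function.Surjective (QuotientGroup.mk' O) := QuotientGroup.mk'_surjective O
  have hπ1 : ∀ x : G, QuotientGroup.mk' O x = 1 ↔ x ∈ O := fun x => QuotientGroup.eq_one_iff x
  have hPb : ((T.mapSurjective hπs : Sylow p (G ⧸ O)) : Subgroup (G ⧸ O)) = (T : Subgroup G).map (QuotientGroup.mk' O) :=
    Sylow.coe_mapSurjective hπs T
  refine frobCond_of_sylow (T.mapSurjective hπs) fun Rb hRb gb hgb hco => ?_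
  obtain ⟨g, rfl⟩ := hπs gb
  have hRT : Rb.comap (QuotientGroup.mk' O) ≤ T := by
    intro t ht
    have h1 := hRb ht
    rw [hPb] at h1
    obtain ⟨u, hu, e⟩ := h1
    have h2 : u⁻¹ * t ∈ O := by
      rw [← hπ1, map_mul, map_inv, e, inv_mul_cancel]
    have h3 := Subgroup.mul_mem _ hu (hOT h2)
    simpa using h3
  have hgN : g ∈ Subgroup.normalizer ((Rb.comap (QuotientGroup.mk' O) : Subgroup G) : Set G) := by
    refine mem_normalizer_of_conj (fun x hx => ?_) (fun x hx => ?_)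
    · show QuotientGroup.mk' O (g * x * g⁻¹) ∈ Rb
      rw [map_mul, map_mul, map_inv]
      exact conj_mem_of_normalizer hgb hx
    · show QuotientGroup.mk' O (g⁻¹ * x * g) ∈ Rb
      rw [map_mul, map_mul, map_inv]
      exact conj_inv_mem_of_normalizer hgb hx
  have hlift : ∀ y : ↥(preimageAlong ι (Rb.comap (QuotientGroup.mk' O))),
      g * ι (Subgroup.inclusion (H24.preimageAlong_le (θ := ι) _) y) * g⁻¹ ∈ ι.range := by
    intro y
    rw [← hT]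
    obtain ⟨_, hy⟩ := H24.mem_preimageAlong.1 y.2
    exact hRT (conj_mem_of_normalizer hgN hy)
  obtain ⟨f, hf, hfι⟩ := mp_of_conj hr (H24.preimageAlong_le (θ := ι) (Rb.comap (QuotientGroup.mk' O))) g hlift
  have hR₀S := H24.preimageAlong_le (θ := ι) (Rb.comap (QuotientGroup.mk' O))
  have hfm : ∀ x ∈ preimageAlong ι (Rb.comap (QuotientGroup.mk' O)), f x ∈ preimageAlong ι (Rb.comap (QuotientGroup.mk' O)) := by
    intro x hx
    obtain ⟨h', e⟩ := hfι ⟨x, hx⟩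
    obtain ⟨hxS, hx'⟩ := H24.mem_preimageAlong.1 hx
    refine H24.mem_preimageAlong.2 ⟨h', ?_⟩
    have e' : ι ⟨f x, h'⟩ = g * ι ⟨x, hxS⟩ * g⁻¹ := e
    rw [e']
    exact conj_mem_of_normalizer hgN hx'
  haveI : Finite (preimageAlong ι (Rb.comap (QuotientGroup.mk' O))) := finite_of_le hR₀S
  have hI := Iso.of_maps hf hfm
  have hQR : Q ≤ preimageAlong ι (Rb.comap (QuotientGroup.mk' O)) := by
    intro x hx
    refine H24.mem_preimageAlong.2 ⟨hQS hx, ?_⟩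
    show QuotientGroup.mk' O _ ∈ Rb
    rw [(hπ1 _).mpr (hQO x hx)]
    exact Rb.one_mem
  obtain ⟨k, hk⟩ := hfac _ f hQR hI
  rw [Subgroup.mem_centralizer_iff]
  intro rb hrb
  have hrbT := hRb hrb
  rw [hPb] at hrbT
  obtain ⟨t, ht, rfl⟩ := hrbT
  have ht' := ht
  rw [hT] at ht'
  obtain ⟨x₀, rfl⟩ := ht'
  have hx₀ : (x₀ : Ω) ∈ preimageAlong ι (Rb.comap (QuotientGroup.mk' O)) := H24.mem_preimageAlong.2 ⟨x₀.2, hrb⟩
  have hiter := iter_conj (ι := ι) hR₀S (g := g) hfm (fun x hx => by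
    obtain ⟨h', e⟩ := hfι ⟨x, hx⟩
    exact e) (p ^ k) x₀ hx₀ (hR₀S (iterate_maps hI _ _ hx₀))
  have hmem := hk _ hx₀
  have hS1 : f^[p ^ k] (x₀ : Ω) ∈ S := hR₀S (iterate_maps hI _ _ hx₀)
  have hmemS : (x₀ : Ω)⁻¹ * f^[p ^ k] (x₀ : Ω) ∈ S := S.mul_mem (S.inv_mem x₀.2) hS1
  have h2 := hQO _ hmem
  have e : (⟨(x₀ : Ω)⁻¹ * f^[p ^ k] (x₀ : Ω), hQS hmem⟩ : ↥S) = x₀⁻¹ * ⟨f^[p ^ k] (x₀ : Ω), hS1⟩ := rfl
  rw [e, map_mul, map_inv, hiter] at h2
  have h3 := (hπ1 _).mpr h2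
  simp only [map_mul, map_inv] at h3
  have hcomm : (QuotientGroup.mk' O g) ^ p ^ k * QuotientGroup.mk' O (ι x₀) = QuotientGroup.mk' O (ι x₀) * (QuotientGroup.mk' O g) ^ p ^ k := by
    have h4 : (QuotientGroup.mk' O (ι x₀))⁻¹ * (QuotientGroup.mk' O (g ^ p ^ k) * QuotientGroup.mk' O (ι x₀) * (QuotientGroup.mk' O (g ^ p ^ k))⁻¹) = 1 := h3
    rw [map_pow] at h4
    have h5 := inv_mul_eq_one.mp h4
    exact mul_inv_eq_iff_eq_mul.mp h5.symm
  exact (comm_of_pow_comm hco hcomm).symm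

end Frob

section Sub

variable {G : Type*} [Group G] [Finite G] [Fact p.Prime]

theorem frob_quot_sub {O : Subgroup G} [O.Normal] (h : FrobCond p (G ⧸ O)) {L : Subgroup G} {O' : Subgroup L} [O'.Normal]
    (hO' : ∀ x : L, (x : G) ∈ O → x ∈ O') : FrobCond p (↥L ⧸ O') := by
  obtain ⟨φ, hφ⟩ : ∃ φ : L →* G ⧸ O, φ = (QuotientGroup.mk' O).comp L.subtype := ⟨_, rfl⟩
  have h1 : FrobCond p (↥L ⧸ φ.ker) := frobCond_of_injective (QuotientGroup.kerLift φ) (QuotientGroup.kerLift_injective φ) h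
  have hle : φ.ker ≤ O'.comap (MonoidHom.id L) := by
    intro x hx
    apply hO'
    rw [MonoidHom.mem_ker, hφ] at hx
    exact (QuotientGroup.eq_one_iff _).mp hx
  refine frobCond_of_surjective (QuotientGroup.map φ.ker O' (MonoidHom.id L) hle) ?_ h1
  intro y
  obtain ⟨x, rfl⟩ := QuotientGroup.mk_surjective y
  exact ⟨(x : L ⧸ φ.ker), rfl⟩

theorem centralizer_sub {L : Subgroup G} (hOL : Cfsg.pCore p G ≤ L) (hc : Subgroup.centralizer (Cfsg.pCore p G : Set G) ≤ Cfsg.pCore p G) :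
    Subgroup.centralizer (Cfsg.pCore p ↥L : Set ↥L) ≤ Cfsg.pCore p ↥L := by
  have hOn := H01.pCore_normal (G := G) p
  have hO₁ : (Cfsg.pCore p G).subgroupOf L ≤ Cfsg.pCore p ↥L := by
    haveI := hOn
    apply H01.le_pCore
    · exact Subgroup.normal_subgroupOf
    · exact (H01.pCore_isPGroup p).comap_subtype
  intro c hc'
  apply hO₁
  rw [Subgroup.mem_subgroupOf]
  apply hc
  rw [Subgroup.mem_centralizer_iff]
  intro o ho
  have h1 : (⟨o, hOL ho⟩ : L) ∈ Cfsg.pCore p ↥L := hO₁ (Subgroup.mem_subgroupOf.mpr ho)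
  exact congrArg Subtype.val (Subgroup.mem_centralizer_iff.mp hc' _ h1)

end Sub

section Main

variable [Finite S] [Fact p.Prime]

/-- The axiomatic criterion. -/
theorem ax_gt (hp : p ≠ 2) (hS : IsPGroup p S) (hF : F.IsSaturated p) {𝒜 : Set (Subgroup Ω)}
    (h𝒜 : ∀ A ∈ 𝒜, A ≤ S ∧ IsMulCommutative ↥A) (hne : 𝒜.Nonempty)
    (hinv : ∀ Q : Subgroup Ω, Q ≤ S → (∃ A ∈ 𝒜, A ≤ Q) → ∀ α ∈ F.autGroup Q, ∀ x : ↥Q, (x : Ω) ∈ II 𝒜 Q → (((α : MulAut ↥Q) x : ↥Q) : Ω) ∈ II 𝒜 Q)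
    (hrep : ∀ B : Subgroup Ω, B ≤ S → ⁅⁅B, B⁆, B⁆ = ⊥ → (∃ A ∈ 𝒜, ⁅B, B⁆ ≤ A ∧ ¬ B ≤ A) → ∃ A ∈ 𝒜, ⁅B, B⁆ ≤ A ∧ ¬ B ≤ A ∧ B ≤ Subgroup.normalizer (A : Set Ω))
    (hW : II 𝒜 S ≤ S) (hN : PN (NSys F (II 𝒜 S) hW) p) : PN F p := by
  classical
  by_contra hnp
  obtain ⟨Q, hQS, hSN, hcon, hnp₀, hfac⟩ := exists_constrained' hp hS hF hnp
  obtain ⟨E₀, hE₀⟩ : ∃ E₀, E₀ = normSys F Q S hQS le_rfl hSN := ⟨_, rfl⟩
  rw [← hE₀] at hcon hnp₀ hfac
  have hleF : ∀ (P : Subgroup Ω) f, Mp E₀ P f → Mp F P f := by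
    intro P f h
    rw [hE₀] at h
    exact normSys_mp_F h
  have hQn : E₀.IsNormal Q := by
    rw [hE₀]
    exact isNormal_normSys
  obtain ⟨G, _, ι, hG⟩ := H24.exists_model hS hcon
  have hcore := H24.preimage_eq_core hG
  obtain ⟨hfG, hr, ⟨T, hT⟩, hCG⟩ := hG
  haveI := hfG
  have hι := hr.1
  have hOn := pCore_normal p G
  haveI := hOn
  have hOT : pCore p G ≤ (T : Subgroup G) := H01.pCore_le_sylow p T
  have hQO : ∀ x (hx : x ∈ Q), ι ⟨x, hQS hx⟩ ∈ pCore p G := by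
    intro x hx
    have h1 : x ∈ E₀.core := (le_sSup hQn : Q ≤ E₀.core) hx
    rw [← hcore] at h1
    obtain ⟨y, hy, e⟩ := h1
    have : y = ⟨x, hQS hx⟩ := Subtype.ext e
    rw [← this]
    exact hy
  have hquot : FrobCond p (G ⧸ pCore p G) := frob_quot hr T hT hOT hQS hQO hfac
  have hnotG : ¬ FC p (⊤ : Subgroup G) := fun h => hnp₀ (pn_of_frob hS hr (FC_top_iff.mp h))
  -- a minimal subgroup
  obtain ⟨L, ⟨hTL, hLfc⟩, hLmin⟩ := Set.exists_min_image {L : Subgroup G | (T : Subgroup G) ≤ L ∧ ¬ FC p L} (fun L => Nat.card L)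
    (Set.toFinite _) ⟨⊤, le_top, hnotG⟩
  have hOL : pCore p G ≤ L := hOT.trans hTL
  have hιL : ∀ s, ι s ∈ L := fun s => hTL (by rw [hT]; exact ⟨s, rfl⟩)
  obtain ⟨j, hj⟩ : ∃ j : ↥S →* ↥L, j = ι.codRestrict L hιL := ⟨_, rfl⟩
  have hjv : ∀ s, ((j s : L) : G) = ι s := fun s => by rw [hj]; rfl
  have hjinj : Function.Injective j := by
    intro a b h
    apply hι
    rw [← hjv, ← hjv, h]
  obtain ⟨TL, hTLdef⟩ : ∃ TL : Sylow p ↥L, TL = T.subtype hTL := ⟨_, rfl⟩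
  have hTLmem : ∀ x : L, x ∈ (TL : Subgroup L) ↔ (x : G) ∈ (T : Subgroup G) := by
    intro x
    rw [hTLdef, Sylow.coe_subtype, Subgroup.mem_subgroupOf]
  have hjrange : j.range = (TL : Subgroup L) := by
    ext x
    rw [hTLmem, hT]
    constructor
    · rintro ⟨s, rfl⟩
      exact ⟨s, (hjv s).symm⟩
    · rintro ⟨s, hs⟩
      exact ⟨s, Subtype.ext ((hjv s).trans hs)⟩
  -- conjugations
  have hreal : ∀ (X₀ : Subgroup ↥S) (g : L), g ∈ Subgroup.normalizer ((X₀.map j : Subgroup L) : Set L) →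
      ∃ f, Iso E₀ (X₀.map S.subtype) (X₀.map S.subtype) f ∧ ∀ x : ↥S, x ∈ X₀ → ∃ h : f x ∈ S, j ⟨f x, h⟩ = g * j x * g⁻¹ := by
    intro X₀ g hg
    have hXS : X₀.map S.subtype ≤ S := by
      rintro _ ⟨x, -, rfl⟩
      exact x.2
    have hc : ∀ y : ↥(X₀.map S.subtype), (g : G) * ι (Subgroup.inclusion hXS y) * (g : G)⁻¹ ∈ ι.range := by
      rintro ⟨_, x, hx, rfl⟩
      have h1 := conj_mem_of_normalizer hg (⟨x, hx, rfl⟩ : j x ∈ X₀.map j)
      obtain ⟨x₁, -, e⟩ := h1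
      refine ⟨x₁, ?_⟩
      have h2 := congrArg Subtype.val e
      rw [hjv] at h2
      simp only [Subgroup.coe_mul, InvMemClass.coe_inv, hjv] at h2
      exact h2
    obtain ⟨f, hf, hfι⟩ := mp_of_conj hr hXS (g : G) hc
    have hval : ∀ x : ↥S, x ∈ X₀ → ∃ h : f x ∈ S, j ⟨f x, h⟩ = g * j x * g⁻¹ := by
      intro x hx
      obtain ⟨h', e⟩ := hfι ⟨x, ⟨x, hx, rfl⟩⟩
      refine ⟨h', Subtype.ext ?_⟩
      rw [hjv]
      simp only [Subgroup.coe_mul, InvMemClass.coe_inv, hjv]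
      exact e
    have hfm : ∀ y ∈ X₀.map S.subtype, f y ∈ X₀.map S.subtype := by
      rintro _ ⟨x, hx, rfl⟩
      obtain ⟨h', e⟩ := hval x hx
      obtain ⟨x₁, hx₁, e₁⟩ := conj_mem_of_normalizer hg (⟨x, hx, rfl⟩ : j x ∈ X₀.map j)
      rw [← e] at e₁
      have := hjinj e₁
      refine ⟨x₁, hx₁, ?_⟩
      rw [this]
      rfl
    haveI : Finite (X₀.map S.subtype) := finite_of_le hXS
    exact ⟨f, Iso.of_maps hf hfm, hval⟩
  -- the family
  obtain ⟨𝒜L, h𝒜L⟩ : ∃ 𝒜L : Set (Subgroup L), 𝒜L = (fun A : Subgroup Ω => (A.subgroupOf S).map j) '' 𝒜 := ⟨_, rfl⟩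
  have hsub : ∀ A ∈ 𝒜, (A.subgroupOf S).map S.subtype = A := fun A hA => Subgroup.map_subgroupOf_eq_of_le (h𝒜 A hA).1
  have hmemj : ∀ (X₀ : Subgroup ↥S) (s : ↥S), j s ∈ X₀.map j ↔ s ∈ X₀ := fun X₀ s =>
    ⟨fun ⟨y, hy, e⟩ => (hjinj e) ▸ hy, fun h => ⟨s, h, rfl⟩⟩
  have hab' : ∀ Â ∈ 𝒜L, Â ≤ (TL : Subgroup L) ∧ ∀ a ∈ Â, ∀ b ∈ Â, a * b = b * a := by
    intro Â hÂ
    rw [h𝒜L] at hÂ
    obtain ⟨A, hA, rfl⟩ := hÂ
    refine ⟨?_, ?_⟩
    · rw [← hjrange]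
      exact Subgroup.map_le_range _ _
    · rintro _ ⟨a, ha, rfl⟩ _ ⟨b, hb, rfl⟩
      rw [← map_mul, ← map_mul]
      congr 1
      apply Subtype.ext
      have h1 := (h𝒜 A hA).2.is_comm.comm ⟨a, Subgroup.mem_subgroupOf.mp ha⟩ ⟨b, Subgroup.mem_subgroupOf.mp hb⟩
      have h2 : (a : Ω) * b = b * a := congrArg (Subtype.val : ↥A → Ω) h1
      exact h2
  have hne' : 𝒜L.Nonempty := by
    rw [h𝒜L]
    exact hne.image _
  have hII : ∀ (X₀ : Subgroup ↥S) (x : ↥S), j x ∈ II 𝒜L (X₀.map j) ↔ (x : Ω) ∈ II 𝒜 (X₀.map S.subtype) := by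
    intro X₀ x
    rw [mem_II, mem_II]
    constructor
    · intro h A hA hAX
      have h1 : (A.subgroupOf S).map j ≤ X₀.map j := by
        refine Subgroup.map_mono fun y hy => ?_
        have h2 := hAX (Subgroup.mem_subgroupOf.mp hy)
        obtain ⟨y₁, hy₁, e⟩ := h2
        have : y₁ = y := Subtype.ext e
        rwa [← this]
      have h2 := h _ (by rw [h𝒜L]; exact ⟨A, hA, rfl⟩) h1
      exact Subgroup.mem_subgroupOf.mp ((hmemj _ _).mp h2)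
    · intro h Â hÂ hÂX
      rw [h𝒜L] at hÂ
      obtain ⟨A, hA, rfl⟩ := hÂ
      have h1 : A ≤ X₀.map S.subtype := by
        intro y hy
        have hyS := (h𝒜 A hA).1 hy
        have h2 := hÂX (⟨⟨y, hyS⟩, Subgroup.mem_subgroupOf.mpr hy, rfl⟩ : j ⟨y, hyS⟩ ∈ (A.subgroupOf S).map j)
        exact ⟨⟨y, hyS⟩, (hmemj _ _).mp h2, rfl⟩
      have h2 := h A hA h1
      exact ⟨x, Subgroup.mem_subgroupOf.mpr h2, rfl⟩
  have hinv' : ∀ Qh : Subgroup L, Qh ≤ (TL : Subgroup L) → (∃ Â ∈ 𝒜L, Â ≤ Qh) →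
      ∀ g ∈ Subgroup.normalizer (Qh : Set L), ∀ x ∈ II 𝒜L Qh, g * x * g⁻¹ ∈ II 𝒜L Qh := by
    intro Qh hQh ⟨Â, hÂ, hÂQ⟩ g hg x hx
    have hQh' : Qh = (Qh.comap j).map j := (Subgroup.map_comap_eq_self (by rw [hjrange]; exact hQh)).symm
    obtain ⟨X₀, hX₀⟩ : ∃ X₀, X₀ = Qh.comap j := ⟨_, rfl⟩
    rw [← hX₀] at hQh'
    rw [hQh'] at hÂQ hg hx ⊢
    have hxT : x ∈ j.range := by
      rw [hjrange]
      exact (hab' Â hÂ).1 (mem_II.mp hx Â hÂ hÂQ)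
    obtain ⟨x₀, rfl⟩ := hxT
    rw [hII] at hx
    obtain ⟨f, hfI, hfv⟩ := hreal X₀ g hg
    rw [h𝒜L] at hÂ
    obtain ⟨A, hA, rfl⟩ := hÂ
    have hAX : A ≤ X₀.map S.subtype := by
      intro y hy
      have hyS := (h𝒜 A hA).1 hy
      have h2 := hÂQ (⟨⟨y, hyS⟩, Subgroup.mem_subgroupOf.mpr hy, rfl⟩ : j ⟨y, hyS⟩ ∈ (A.subgroupOf S).map j)
      exact ⟨⟨y, hyS⟩, (hmemj _ _).mp h2, rfl⟩
    have hXS : X₀.map S.subtype ≤ S := by
      rintro _ ⟨y, -, rfl⟩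
      exact y.2
    have hx₀X : (x₀ : Ω) ∈ X₀.map S.subtype := hAX (mem_II.mp hx A hA hAX)
    have hx₀X' : x₀ ∈ X₀ := by
      obtain ⟨y, hy, e⟩ := hx₀X
      have : y = x₀ := Subtype.ext e
      rwa [← this]
    obtain ⟨h', e⟩ := hfv x₀ hx₀X'
    rw [← e, hII]
    have hFI : Iso F (X₀.map S.subtype) (X₀.map S.subtype) f := ⟨hleF _ _ hfI.mp, hfI.maps, hfI.surj⟩
    have h1 := hinv _ hXS ⟨A, hA, hAX⟩ (autOfIso hFI) (autOfIso_mem hFI) ⟨x₀, hx₀X⟩ hx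
    rw [autOfIso_apply] at h1
    exact h1
  -- the replacement hypothesis
  have hrep' : ∀ B : Subgroup L, B ≤ (TL : Subgroup L) → ⁅⁅B, B⁆, B⁆ = ⊥ → (∃ A ∈ 𝒜L, ⁅B, B⁆ ≤ A ∧ ¬ B ≤ A) →
      ∃ A ∈ 𝒜L, ⁅B, B⁆ ≤ A ∧ ¬ B ≤ A ∧ B ≤ Subgroup.normalizer (A : Set L) := by
    intro B hB hBB ⟨Â, hÂ, hÂ1, hÂ2⟩
    have hB' : (B.comap j).map j = B := Subgroup.map_comap_eq_self (by rw [hjrange]; exact hB)
    obtain ⟨B₀, hB₀⟩ : ∃ B₀, B₀ = B.comap j := ⟨_, rfl⟩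
    rw [← hB₀] at hB'
    subst hB'
    have hincl : ∀ X Y : Subgroup ↥S, X.map j ≤ Y.map j ↔ X.map S.subtype ≤ Y.map S.subtype := by
      intro X Y
      rw [Subgroup.map_le_map_iff_of_injective hjinj, Subgroup.map_le_map_iff_of_injective S.subtype_injective]
    have hbb₀ : ⁅⁅B₀, B₀⁆, B₀⁆ = ⊥ := by
      have h1 : (⁅⁅B₀, B₀⁆, B₀⁆).map j = ⊥ := by
        rw [Subgroup.map_commutator, Subgroup.map_commutator]
        exact hBB
      exact (Subgroup.map_eq_bot_iff_of_injective _ hjinj).mp h1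
    have hmap : ⁅(B₀.map S.subtype), (B₀.map S.subtype)⁆ = (⁅B₀, B₀⁆).map S.subtype := (Subgroup.map_commutator _ _ _).symm
    have hmapj : ⁅(B₀.map j), (B₀.map j)⁆ = (⁅B₀, B₀⁆).map j := (Subgroup.map_commutator _ _ _).symm
    rw [h𝒜L] at hÂ
    obtain ⟨A, hA, rfl⟩ := hÂ
    rw [hmapj, hincl, hsub A hA] at hÂ1
    rw [hincl, hsub A hA] at hÂ2
    have hBS : B₀.map S.subtype ≤ S := by
      rintro _ ⟨x, -, rfl⟩
      exact x.2
    obtain ⟨A', hA', h1, h2, h3⟩ := hrep _ hBS (by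
        rw [hmap, ← Subgroup.map_commutator, hbb₀, Subgroup.map_bot]) ⟨A, hA, by rw [hmap]; exact hÂ1, hÂ2⟩
    refine ⟨(A'.subgroupOf S).map j, by rw [h𝒜L]; exact ⟨A', hA', rfl⟩, ?_, ?_, ?_⟩
    · rw [hmapj, hincl, hsub A' hA']
      rw [hmap] at h1
      exact h1
    · rw [hincl, hsub A' hA']
      exact h2
    · rintro _ ⟨x, hx, rfl⟩
      have hxN := h3 (⟨x, hx, rfl⟩ : (x : Ω) ∈ B₀.map S.subtype)
      refine mem_normalizer_of_conj ?_ ?_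
      · rintro _ ⟨a, ha, rfl⟩
        refine ⟨x * a * x⁻¹, ?_, by simp only [map_mul, map_inv]⟩
        exact Subgroup.mem_subgroupOf.mpr (conj_mem_of_normalizer hxN (Subgroup.mem_subgroupOf.mp ha))
      · rintro _ ⟨a, ha, rfl⟩
        refine ⟨x⁻¹ * a * x, ?_, by simp only [map_mul, map_inv]⟩
        exact Subgroup.mem_subgroupOf.mpr (conj_inv_mem_of_normalizer hxN (Subgroup.mem_subgroupOf.mp ha))
  -- the minimal situation
  haveI hOLn := H01.pCore_normal (G := ↥L) p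
  have hcQ_L : Subgroup.centralizer (Cfsg.pCore p ↥L : Set ↥L) ≤ Cfsg.pCore p ↥L := centralizer_sub hOL hCG
  have hO₁ : ∀ x : L, (x : G) ∈ pCore p G → x ∈ Cfsg.pCore p ↥L := by
    intro x hx
    have h1 : (Cfsg.pCore p G).subgroupOf L ≤ Cfsg.pCore p ↥L := by
      apply H01.le_pCore
      · exact Subgroup.normal_subgroupOf
      · exact (H01.pCore_isPGroup p).comap_subtype
    exact h1 (Subgroup.mem_subgroupOf.mpr hx)
  have hquot_L : FrobCond p (↥L ⧸ Cfsg.pCore p ↥L) := frob_quot_sub hquot hO₁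
  have hmin_L : ∀ G₁ : Subgroup L, G₁ ≠ ⊤ → (TL : Subgroup L) ≤ G₁ → FC p G₁ := by
    intro G₁ hne₁ hTG₁
    have hcard : Nat.card (G₁.map L.subtype) = Nat.card G₁ :=
      Nat.card_congr (G₁.equivMapOfInjective L.subtype L.subtype_injective).toEquiv.symm
    have hlt : Nat.card G₁ < Nat.card L := by
      have h1 : Nat.card G₁ ≤ Nat.card L := Subgroup.card_le_card_group G₁
      have h2 : Nat.card G₁ ≠ Nat.card L := fun e => hne₁ (Subgroup.eq_top_of_card_eq G₁ e)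
      omega
    have hFC : FC p (G₁.map L.subtype) := by
      by_contra hcon'
      have h1 := hLmin (G₁.map L.subtype) ⟨fun t ht => ⟨⟨t, hTL ht⟩, hTG₁ ((hTLmem _).mpr ht), rfl⟩, hcon'⟩
      rw [hcard] at h1
      omega
    exact FC_of_frobCond (frobCond_of_injective (G₁.equivMapOfInjective L.subtype L.subtype_injective).toMonoidHom
      (MulEquiv.injective _) (frobCond_of_FC hFC))
  have hnot_L : ¬ FrobCond p ↥L := fun h => hLfc (FC_of_frobCond h)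
  have hst : NormalStable p (TL : Subgroup L) := stable_of_frob hp TL rfl hquot_L hcQ_L hmin_L hnot_L
  have hWn : (II 𝒜L (TL : Subgroup L)).Normal := I_normal hp TL hab' hne' hinv' hrep' hst hcQ_L
  -- the final contradiction
  apply hnot_L
  obtain ⟨A₁, hA₁⟩ := hne
  obtain ⟨W₀, hW₀⟩ : ∃ W₀ : Subgroup ↥S, W₀ = (II 𝒜 S).subgroupOf S := ⟨_, rfl⟩
  have hW₀S : W₀.map S.subtype = II 𝒜 S := by
    rw [hW₀]
    exact Subgroup.map_subgroupOf_eq_of_le hW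
  have hWhat : II 𝒜L (TL : Subgroup L) = W₀.map j := by
    ext x
    have hrange : j.range = (⊤ : Subgroup ↥S).map j := MonoidHom.range_eq_map j
    have hrangeS : (⊤ : Subgroup ↥S).map S.subtype = S := by
      rw [← MonoidHom.range_eq_map]
      exact Subgroup.range_subtype S
    have hTLtop : (TL : Subgroup L) = (⊤ : Subgroup ↥S).map j := by rw [← hjrange, hrange]
    rw [hTLtop]
    constructor
    · intro hx
      have hx₁ : x ∈ (TL : Subgroup L) := (hab' _ (by rw [h𝒜L]; exact ⟨A₁, hA₁, rfl⟩)).1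
        (mem_II.mp hx _ (by rw [h𝒜L]; exact ⟨A₁, hA₁, rfl⟩) (by rw [← hTLtop]; exact (hab' _ (by rw [h𝒜L]; exact ⟨A₁, hA₁, rfl⟩)).1))
      rw [← hjrange] at hx₁
      obtain ⟨x₀, rfl⟩ := hx₁
      rw [hII, hrangeS] at hx
      exact ⟨x₀, by rw [hW₀]; exact Subgroup.mem_subgroupOf.mpr hx, rfl⟩
    · rintro ⟨x₀, hx₀, rfl⟩
      rw [hII, hrangeS]
      rw [hW₀] at hx₀
      exact Subgroup.mem_subgroupOf.mp hx₀
  have hSN : S ≤ Subgroup.normalizer ((II 𝒜 S : Subgroup Ω) : Set Ω) := by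
    intro s hs
    have hjN : j ⟨s, hs⟩ ∈ Subgroup.normalizer ((W₀.map j : Subgroup L) : Set L) := by
      rw [← hWhat, Subgroup.normalizer_eq_top_iff.mpr hWn]
      trivial
    refine mem_normalizer_of_conj ?_ ?_
    · intro x hx
      have hxS := hW hx
      have h1 := conj_mem_of_normalizer hjN (⟨⟨x, hxS⟩, by rw [hW₀]; exact Subgroup.mem_subgroupOf.mpr hx, rfl⟩ : j ⟨x, hxS⟩ ∈ W₀.map j)
      rw [← map_inv, ← map_mul, ← map_mul, hmemj, hW₀] at h1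
      exact Subgroup.mem_subgroupOf.mp h1
    · intro x hx
      have hxS := hW hx
      have h1 := conj_inv_mem_of_normalizer hjN (⟨⟨x, hxS⟩, by rw [hW₀]; exact Subgroup.mem_subgroupOf.mpr hx, rfl⟩ : j ⟨x, hxS⟩ ∈ W₀.map j)
      rw [← map_inv, ← map_mul, ← map_mul, hmemj, hW₀] at h1
      exact Subgroup.mem_subgroupOf.mp h1
  refine frobCond_of_sylow TL fun U hU y hy hco => ?_
  have hyW : y ∈ Subgroup.normalizer ((II 𝒜L (TL : Subgroup L) : Subgroup L) : Set L) := by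
    rw [Subgroup.normalizer_eq_top_iff.mpr hWn]
    trivial
  rw [hWhat] at hyW
  have hU' : (U.comap j).map j = U := Subgroup.map_comap_eq_self (by rw [hjrange]; exact hU)
  obtain ⟨U₀, hU₀⟩ : ∃ U₀, U₀ = U.comap j := ⟨_, rfl⟩
  rw [← hU₀] at hU'
  subst hU'
  have hyK : y ∈ Subgroup.normalizer (((U₀ ⊔ W₀).map j : Subgroup L) : Set L) := by
    rw [Subgroup.map_sup]
    refine mem_normalizer_of_conj ?_ ?_
    · intro x hx
      have hle : U₀.map j ⊔ W₀.map j ≤ (U₀.map j ⊔ W₀.map j).comap (MulAut.conj y).toMonoidHom := by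
        refine sup_le (fun a ha => ?_) (fun a ha => ?_)
        · exact Subgroup.mem_sup_left (conj_mem_of_normalizer hy ha)
        · exact Subgroup.mem_sup_right (conj_mem_of_normalizer hyW ha)
      exact hle hx
    · intro x hx
      have hle : U₀.map j ⊔ W₀.map j ≤ (U₀.map j ⊔ W₀.map j).comap (MulAut.conj y⁻¹).toMonoidHom := by
        refine sup_le (fun a ha => ?_) (fun a ha => ?_)
        · have h1 := conj_inv_mem_of_normalizer hy ha
          exact Subgroup.mem_sup_left (by simpa using h1)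
        · have h1 := conj_inv_mem_of_normalizer hyW ha
          exact Subgroup.mem_sup_right (by simpa using h1)
      have h2 := hle hx
      simpa using h2
  obtain ⟨f, hfI, hfv⟩ := hreal (U₀ ⊔ W₀) y hyK
  have hKsup : (U₀ ⊔ W₀).map S.subtype = U₀.map S.subtype ⊔ II 𝒜 S := by
    rw [Subgroup.map_sup, hW₀S]
  rw [hKsup] at hfI
  have hfvU : ∀ x : ↥S, x ∈ U₀ → ∃ h : f x ∈ S, j ⟨f x, h⟩ = y * j x * y⁻¹ := fun x hx =>
    hfv x (Subgroup.mem_sup_left hx)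
  have hRS : U₀.map S.subtype ≤ S := by
    rintro _ ⟨x, -, rfl⟩
    exact x.2
  have hfR : ∀ x ∈ U₀.map S.subtype, f x ∈ U₀.map S.subtype := by
    rintro _ ⟨x, hx, rfl⟩
    obtain ⟨h', e⟩ := hfvU x hx
    have h1 := conj_mem_of_normalizer hy (⟨x, hx, rfl⟩ : j x ∈ U₀.map j)
    rw [← e, hmemj] at h1
    exact ⟨_, h1, rfl⟩
  have hfW : ∀ x ∈ II 𝒜 S, f x ∈ II 𝒜 S := by
    intro x hx
    have hxS := hW hx
    have hxW : (⟨x, hxS⟩ : ↥S) ∈ W₀ := by rw [hW₀]; exact Subgroup.mem_subgroupOf.mpr hx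
    obtain ⟨h', e⟩ := hfv ⟨x, hxS⟩ (Subgroup.mem_sup_right hxW)
    have h1 := conj_mem_of_normalizer hyW (⟨⟨x, hxS⟩, hxW, rfl⟩ : j ⟨x, hxS⟩ ∈ W₀.map j)
    rw [← e, hmemj, hW₀] at h1
    exact Subgroup.mem_subgroupOf.mp h1
  have hRN : U₀.map S.subtype ≤ normalizerIn S (II 𝒜 S) := le_inf hRS (hRS.trans hSN)
  have hgood : GoodN (II 𝒜 S) f := by
    refine ⟨hfW, ?_⟩
    haveI : Finite (II 𝒜 S) := finite_of_le hW
    have hinj : Function.Injective (fun x : ↥(II 𝒜 S) => (⟨f x, hfW x x.2⟩ : ↥(II 𝒜 S))) := by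
      intro a b hab
      apply Subtype.ext
      exact hfI.mp.inj (Subgroup.mem_sup_right a.2) (Subgroup.mem_sup_right b.2) (congrArg Subtype.val hab)
    intro y' hy'
    obtain ⟨x, hx⟩ := (Finite.injective_iff_surjective.mp hinj) ⟨y', hy'⟩
    exact ⟨x, x.2, congrArg Subtype.val hx⟩
  have hIN : Iso (NSys F (II 𝒜 S) hW) (U₀.map S.subtype) (U₀.map S.subtype) f := by
    haveI : Finite (U₀.map S.subtype) := finite_of_le hRS
    refine Iso.of_maps ?_ hfR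
    rw [mp_NSys_iff]
    have hF1 : Mp F (U₀.map S.subtype ⊔ II 𝒜 S) f := hleF _ _ hfI.mp
    refine ⟨hF1.restrict le_sup_left, hRN, fun x hx => hRN (hfR x hx), f, hF1, fun _ _ => rfl, hgood⟩
  obtain ⟨k, hk⟩ := hN _ f hIN
  rw [Subgroup.mem_centralizer_iff]
  rintro _ ⟨u, hu, rfl⟩
  have hu' : (u : Ω) ∈ U₀.map S.subtype := ⟨u, hu, rfl⟩
  have hiter := iter_conj (ι := j) hRS (g := y) hfR (fun x hx => by
    obtain ⟨x₀, hx₀, rfl⟩ := hx
    obtain ⟨h', e⟩ := hfvU x₀ hx₀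
    exact e) (p ^ k) u hu' (hRS (iterate_maps hIN _ _ hu'))
  have e1 : (⟨f^[p ^ k] (u : Ω), hRS (iterate_maps hIN _ _ hu')⟩ : ↥S) = u := Subtype.ext (hk _ hu')
  rw [e1] at hiter
  have hcomm : y ^ p ^ k * j u = j u * y ^ p ^ k := by
    have h1 : y ^ p ^ k * j u * (y ^ p ^ k)⁻¹ * y ^ p ^ k = j u * y ^ p ^ k := by rw [← hiter]
    simpa using h1
  exact (comm_of_pow_comm hco hcomm).symm

end Main

end Cfsg.Agent.H25
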