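import Cfsg.Agent.Lib.H25.StrongEmb
import Cfsg.Agent.Lib.H25.FusEss2

set_option autoImplicit false
set_option linter.style.haveILetI false

/-! The trivial intersection property of essential subgroups, and transvection-like automorphisms. -/

namespace Cfsg.Agent.H25

open Cfsg Cfsg.FusionSystem
open scoped Pointwise

section Gamma

variable {X : Type*} [Group X] [Finite X] {p : ℕ} [Fact p.Prime]

/-- The element `a` conjugating one Sylow element into a common Sylow subgroup with another lies in `Γ`. -/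
theorem gamma_of_pgroup (T : Sylow p X) {u v a : X} (hu : u ∈ T) (hu1 : u ≠ 1) (hv : v ∈ T) (hv1 : v ≠ 1)
    (hD : IsPGroup p (Subgroup.closure {u, a * v * a⁻¹})) : a ∈ kGeneratedCore p 1 (T : Subgroup X) := by
  obtain ⟨T₁, hT₁⟩ := hD.exists_le_sylow
  obtain ⟨g, hg⟩ := MulAction.exists_smul_eq X T T₁
  have hmem : ∀ x, x ∈ T₁ ↔ g⁻¹ * x * g ∈ T := by
    intro x
    rw [← hg]
    exact mem_sylow_smul
  have h1 : u ∈ T₁ := hT₁ (Subgroup.subset_closure (by simp))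
  have h2 : a * v * a⁻¹ ∈ T₁ := hT₁ (Subgroup.subset_closure (by simp))
  have h3 : g⁻¹ ∈ kGeneratedCore p 1 (T : Subgroup X) := by
    refine mem_gamma_of_conj T hu hu1 ?_
    have := (hmem u).1 h1
    simpa using this
  have h4 : g⁻¹ * a ∈ kGeneratedCore p 1 (T : Subgroup X) := by
    refine mem_gamma_of_conj T hv hv1 ?_
    have := (hmem _).1 h2
    have e : g⁻¹ * a * v * (g⁻¹ * a)⁻¹ = g⁻¹ * (a * v * a⁻¹) * g := by group
    rw [e]
    exact this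
  have e : a = (g⁻¹)⁻¹ * (g⁻¹ * a) := by group
  rw [e]
  exact Subgroup.mul_mem _ (Subgroup.inv_mem _ h3) h4

/-- Conjugating the Sylow subgroup conjugates `Γ`. -/
theorem gamma_smul_top (T : Sylow p X) (g : X) (h : kGeneratedCore p 1 ((g • T : Sylow p X) : Subgroup X) = ⊤) :
    kGeneratedCore p 1 (T : Subgroup X) = ⊤ := by
  rw [eq_top_iff]
  intro x _
  have hgx : g * x * g⁻¹ ∈ kGeneratedCore p 1 ((g • T : Sylow p X) : Subgroup X) := by
    rw [h]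
    exact Subgroup.mem_top _
  have hle : kGeneratedCore p 1 ((g • T : Sylow p X) : Subgroup X) ≤
      (kGeneratedCore p 1 (T : Subgroup X)).map (MulAut.conj g).toMonoidHom := by
    refine iSup_le ?_
    rintro ⟨V, hVT, hVr⟩ y hy
    have hVne : V ≠ ⊥ := by
      rintro rfl
      apply hVr
      intro B _ hB
      have h0 : p ^ (1 - 1) = 1 := by simp
      rw [h0]
      exact (Nat.card_eq_one_iff_unique.mpr ⟨inferInstance, inferInstance⟩).le
    refine ⟨g⁻¹ * y * g, ?_, by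
      show g * (g⁻¹ * y * g) * g⁻¹ = y
      group⟩
    have hW : V.map (MulAut.conj g⁻¹).toMonoidHom ≤ (T : Subgroup X) := by
      rintro _ ⟨v, hv, rfl⟩
      have := mem_sylow_smul.1 (hVT hv)
      show g⁻¹ * v * g⁻¹⁻¹ ∈ (T : Subgroup X)
      rw [inv_inv]
      exact this
    have hWne : V.map (MulAut.conj g⁻¹).toMonoidHom ≠ ⊥ := by
      intro hb
      exact hVne ((Subgroup.map_eq_bot_iff_of_injective _ (MulEquiv.injective _)).1 hb)
    refine normalizer_le_gamma T hW hWne ?_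
    rw [Subgroup.mem_normalizer_iff]
    intro w
    constructor
    · rintro ⟨v, hv, rfl⟩
      refine ⟨y * v * y⁻¹, (Subgroup.mem_normalizer_iff.1 hy v).1 hv, ?_⟩
      show g⁻¹ * (y * v * y⁻¹) * g⁻¹⁻¹ = g⁻¹ * y * g * (g⁻¹ * v * g⁻¹⁻¹) * (g⁻¹ * y * g)⁻¹
      group
    · rintro ⟨v, hv, hve⟩
      have hve' : g⁻¹ * v * g⁻¹⁻¹ = g⁻¹ * y * g * w * (g⁻¹ * y * g)⁻¹ := hve
      have e : w = g⁻¹ * (y⁻¹ * v * y) * g⁻¹⁻¹ := by
        have h5 : w = (g⁻¹ * y * g)⁻¹ * (g⁻¹ * v * g⁻¹⁻¹) * (g⁻¹ * y * g) := by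
          rw [hve']
          group
        rw [h5]
        group
      refine ⟨y⁻¹ * v * y, ?_, e.symm⟩
      have := (Subgroup.mem_normalizer_iff.1 hy (y⁻¹ * v * y)).2
      apply this
      have e2 : y * (y⁻¹ * v * y) * y⁻¹ = v := by group
      rw [e2]
      exact hv
  obtain ⟨x', hx', e⟩ := hle hgx
  have e' : g * x' * g⁻¹ = g * x * g⁻¹ := e
  have : x' = x := by
    have h5 := mul_right_cancel e'
    exact mul_left_cancel h5
  rwa [← this]

end Gamma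

variable {Ω : Type*} [Group Ω] {S : Subgroup Ω} {F : FusionSystem S}
variable {Q K : Subgroup Ω} {p : ℕ} [Finite S] [Fact p.Prime]

/-- The subgroup `Γ` of `Aut_F(Q)` attached to an essential subgroup `Q`. -/
theorem ess_gamma (hS : IsPGroup p S) (hF : F.IsSaturated p) (hE : F.IsEssential p Q) :
    ∃ Γ : Subgroup (MulAut Q), Γ ≤ F.autGroup Q ∧ Γ ≠ F.autGroup Q ∧
      (∀ s ∈ S, ∀ α : MulAut Q, IsC s α → α ∈ Γ) ∧
      ∀ a ∈ F.autGroup Q, ∀ (s₁ s₂ : Ω) (α β : MulAut Q), s₁ ∈ S → s₂ ∈ S → s₁ ∉ Q → s₂ ∉ Q → IsC s₁ α → IsC s₂ β →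
        IsPGroup p (Subgroup.closure {α, a * β * a⁻¹}) → a ∈ Γ := by
  classical
  obtain ⟨hcent, hFN, hN, Y, hY⟩ := hE
  have hQS := hcent.1
  have hfar : Far F p Q := far_of_fullyNormalized hS hF hFN
  have hc : centralizerIn S Q ≤ Q := hcent.2 Q (isConj_refl hQS)
  haveI : Finite Q := finite_of_le hQS
  obtain ⟨A, hA⟩ : ∃ A, A = F.autGroup Q := ⟨_, rfl⟩
  subst hA
  let Nn : Subgroup (F.autGroup Q) := (Inn Q).subgroupOf (F.autGroup Q)
  let π := QuotientGroup.mk' Nn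
  have hπ : Function.Surjective π := QuotientGroup.mk'_surjective Nn
  obtain ⟨R₀, hR₀⟩ := hfar.auto.2
  let T₀ : Sylow p (F.autGroup Q ⧸ Nn) := R₀.mapSurjective hπ
  have hCR₀ : ∀ (β : F.autGroup Q) (g : Ω), g ∈ S → IsC g (β : MulAut Q) → β ∈ (R₀ : Subgroup (F.autGroup Q)) := by
    intro β g hg hβ
    rw [hR₀, Subgroup.mem_subgroupOf]
    exact mem_autInducedBy_of_conj hg hβ
  have hCnot : ∀ (β : F.autGroup Q) (g : Ω), g ∉ Q → g ∈ S → IsC g (β : MulAut Q) → π β ≠ 1 := by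
    intro β g hgQ hgS hβ h1
    have h2 : β ∈ Nn := (QuotientGroup.eq_one_iff β).mp h1
    obtain ⟨x, hx, hxβ⟩ := IsC.of_inn h2
    apply hgQ
    have h3 : x⁻¹ * g ∈ centralizerIn S Q := by
      refine mem_centralizerIn.mpr ⟨S.mul_mem (S.inv_mem (hQS hx)) hgS, fun y hy => ?_⟩
      have h4 : g * y * g⁻¹ = x * y * x⁻¹ := (hβ ⟨y, hy⟩).symm.trans (hxβ ⟨y, hy⟩)
      have h5 : g * y = x * y * x⁻¹ * g := by
        rw [← h4]; group
      calc y * (x⁻¹ * g) = x⁻¹ * (x * y * x⁻¹ * g) := by group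
        _ = x⁻¹ * (g * y) := by rw [h5]
        _ = x⁻¹ * g * y := by group
    have h6 := Q.mul_mem hx (hc h3)
    simpa using h6
  have hmemT : ∀ (β : F.autGroup Q) (g : Ω), g ∈ S → IsC g (β : MulAut Q) → π β ∈ (T₀ : Subgroup (F.autGroup Q ⧸ Nn)) := by
    intro β g hg hβ
    rw [Sylow.coe_mapSurjective]
    exact ⟨β, hCR₀ β g hg hβ, rfl⟩
  -- `Γ₀` is proper
  have hΓ₀ : kGeneratedCore p 1 (T₀ : Subgroup (F.autGroup Q ⧸ Nn)) ≠ ⊤ := by
    obtain ⟨-, hYne, T', hT'⟩ := hY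
    intro htop
    obtain ⟨g, hg⟩ := MulAction.exists_smul_eq (F.autGroup Q ⧸ Nn) T' T₀
    have h1 := gamma_smul_top T' g (by rw [hg]; exact htop)
    rw [h1] at hT'
    exact hYne (top_le_iff.1 hT')
  refine ⟨((kGeneratedCore p 1 (T₀ : Subgroup (F.autGroup Q ⧸ Nn))).comap π).map (F.autGroup Q).subtype, ?_, ?_, ?_, ?_⟩
  · rintro _ ⟨a, -, rfl⟩
    exact a.2
  · intro h
    apply hΓ₀
    rw [eq_top_iff]
    intro x _
    obtain ⟨a, rfl⟩ := hπ x
    have h1 : (a : MulAut Q) ∈ ((kGeneratedCore p 1 (T₀ : Subgroup (F.autGroup Q ⧸ Nn))).comap π).map (F.autGroup Q).subtype := by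
      rw [h]
      exact a.2
    obtain ⟨a', ha', e⟩ := h1
    have : a' = a := Subtype.ext e
    rw [← this]
    exact ha'
  · intro s hs α hα
    have hαm : α ∈ F.autGroup Q := conj_mem_autGroup hQS hs hα
    refine ⟨⟨α, hαm⟩, ?_, rfl⟩
    apply Subgroup.mem_comap.mpr
    by_cases hsQ : s ∈ Q
    · have h1 : π ⟨α, hαm⟩ = 1 := (QuotientGroup.eq_one_iff _).mpr (IsC.mem_inn hsQ hα)
      rw [h1]
      exact Subgroup.one_mem _
    · have h2 := hmemT ⟨α, hαm⟩ s hs hα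
      have h3 := hCnot ⟨α, hαm⟩ s hsQ hs hα
      have hTne : (T₀ : Subgroup (F.autGroup Q ⧸ Nn)) ≠ ⊥ := by
        intro hb
        rw [hb, Subgroup.mem_bot] at h2
        exact h3 h2
      exact normalizer_le_gamma T₀ le_rfl hTne (Subgroup.le_normalizer h2)
  · intro a ha s₁ s₂ α β hs₁ hs₂ hs₁Q hs₂Q hα hβ hD
    have hαm : α ∈ F.autGroup Q := conj_mem_autGroup hQS hs₁ hα
    have hβm : β ∈ F.autGroup Q := conj_mem_autGroup hQS hs₂ hβ
    refine ⟨⟨a, ha⟩, ?_, rfl⟩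
    apply Subgroup.mem_comap.mpr
    refine gamma_of_pgroup T₀ (hmemT ⟨α, hαm⟩ s₁ hs₁ hα) (hCnot ⟨α, hαm⟩ s₁ hs₁Q hs₁ hα)
      (hmemT ⟨β, hβm⟩ s₂ hs₂ hβ) (hCnot ⟨β, hβm⟩ s₂ hs₂Q hs₂ hβ) ?_
    have hle : Subgroup.closure {π ⟨α, hαm⟩, π ⟨a, ha⟩ * π ⟨β, hβm⟩ * (π ⟨a, ha⟩)⁻¹} ≤
        ((Subgroup.closure {α, a * β * a⁻¹}).subgroupOf (F.autGroup Q)).map π := by
      rw [Subgroup.closure_le]
      rintro x (rfl | rfl)
      · exact ⟨⟨α, hαm⟩, Subgroup.mem_subgroupOf.mpr (Subgroup.subset_closure (by simp)), rfl⟩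
      · refine ⟨⟨a, ha⟩ * ⟨β, hβm⟩ * ⟨a, ha⟩⁻¹, Subgroup.mem_subgroupOf.mpr (Subgroup.subset_closure (by simp)), ?_⟩
        simp only [map_mul, map_inv]
    refine IsPGroup.to_le ?_ hle
    refine IsPGroup.map ?_ π
    exact IsPGroup.comap_of_injective hD (F.autGroup Q).subtype (Subgroup.subtype_injective _) 

/-- The stability group of the chain `1 ≤ K ≤ Q`. -/
def stabCh (Q K : Subgroup Ω) : Subgroup (MulAut Q) where
  carrier := {α | (∀ x : Q, (x : Ω) ∈ K → α x = x) ∧ ∀ x : Q, (x : Ω)⁻¹ * (α x : Q) ∈ K}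
  mul_mem' := by
    rintro α β ⟨h1, h2⟩ ⟨h3, h4⟩
    refine ⟨fun x hx => ?_, fun x => ?_⟩
    · show α (β x) = x
      rw [h3 x hx, h1 x hx]
    · show (x : Ω)⁻¹ * (α (β x) : Q) ∈ K
      have e : (x : Ω)⁻¹ * (α (β x) : Q) = ((x : Ω)⁻¹ * (β x : Q)) * (((β x : Q) : Ω)⁻¹ * (α (β x) : Q)) := by group
      rw [e]
      exact K.mul_mem (h4 x) (h2 _)
  one_mem' := by
    refine ⟨fun x _ => rfl, fun x => ?_⟩
    show (x : Ω)⁻¹ * (x : Ω) ∈ K
    rw [inv_mul_cancel]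
    exact K.one_mem
  inv_mem' := by
    rintro α ⟨h1, h2⟩
    refine ⟨fun x hx => ?_, fun x => ?_⟩
    · have h5 := h1 x hx
      calc α⁻¹ x = α⁻¹ (α x) := by rw [h5]
        _ = x := by simp
    · have h3 := K.inv_mem (h2 (α⁻¹ x))
      have e : α (α⁻¹ x) = x := by simp
      rw [e] at h3
      simpa using h3

theorem mem_stabCh {α : MulAut Q} : α ∈ stabCh Q K ↔
    (∀ x : Q, (x : Ω) ∈ K → α x = x) ∧ ∀ x : Q, (x : Ω)⁻¹ * (α x : Q) ∈ K := Iff.rfl

omit [Finite S] in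
theorem stabCh_isPGroup {K : Subgroup Ω} [Finite K] (hK : IsPGroup p K) : IsPGroup p (stabCh Q K) := by
  obtain ⟨m, hm⟩ := IsPGroup.iff_card.1 hK
  have hpow : ∀ k ∈ K, k ^ p ^ m = 1 := by
    intro k hk
    have := pow_card_eq_one' (x := (⟨k, hk⟩ : K))
    rw [hm] at this
    exact congrArg Subtype.val this
  rintro ⟨α, hα1, hα2⟩
  refine ⟨m, ?_⟩
  apply Subtype.ext
  show α ^ p ^ m = 1
  ext x
  obtain ⟨δ, hδ⟩ : ∃ δ : Q, δ = x⁻¹ * α x := ⟨_, rfl⟩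
  have hδK : (δ : Ω) ∈ K := by
    rw [hδ]
    exact hα2 x
  have hαδ : α δ = δ := hα1 δ hδK
  have hit : ∀ n : ℕ, (α ^ n) x = x * δ ^ n := by
    intro n
    induction n with
    | zero => simp
    | succ n ih =>
      rw [pow_succ', MulAut.mul_apply, ih, map_mul, map_pow, hαδ, pow_succ', ← mul_assoc]
      congr 1
      rw [hδ]
      group
  rw [hit, show (δ ^ p ^ m : Q) = 1 from Subtype.ext (by
    show (δ : Ω) ^ p ^ m = 1
    exact hpow _ hδK), mul_one]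
  rfl

omit [Finite S] [Fact p.Prime] in
theorem conj_mem_stabCh {α v : MulAut Q} (hα : α ∈ stabCh Q K) (hv : ∀ x : Q, (x : Ω) ∈ K ↔ (v x : Ω) ∈ K) :
    v * α * v⁻¹ ∈ stabCh Q K := by
  obtain ⟨h1, h2⟩ := hα
  refine ⟨fun x hx => ?_, fun x => ?_⟩
  · show v (α (v⁻¹ x)) = x
    have h3 : (((v⁻¹ x : Q)) : Ω) ∈ K := by
      rw [hv]
      simpa using hx
    rw [h1 _ h3]
    simp
  · show (x : Ω)⁻¹ * (v (α (v⁻¹ x)) : Q) ∈ K
    have h3 := (hv ((v⁻¹ x)⁻¹ * α (v⁻¹ x))).1 (by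
      show (((v⁻¹ x)⁻¹ * α (v⁻¹ x) : Q) : Ω) ∈ K
      have := h2 (v⁻¹ x)
      simpa using this)
    have e : (((v ((v⁻¹ x)⁻¹ * α (v⁻¹ x)) : Q)) : Ω) = (x : Ω)⁻¹ * (v (α (v⁻¹ x)) : Q) := by
      rw [map_mul, map_inv]
      simp
    rw [← e]
    exact h3

/-- A stable automorphism and a `p`-element preserving the chain generate a `p`-group. -/
theorem closure_isPGroup {K : Subgroup Ω} [Finite K] (hK : IsPGroup p K) {u v : MulAut Q} (hu : u ∈ stabCh Q K) {m : ℕ} (hvm : v ^ p ^ m = 1)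
    (hv : ∀ x : Q, (x : Ω) ∈ K ↔ (v x : Ω) ∈ K) : IsPGroup p (Subgroup.closure {u, v}) := by
  have h1 : IsPGroup p (Subgroup.zpowers v) := by
    rintro ⟨y, k, rfl⟩
    refine ⟨m, ?_⟩
    apply Subtype.ext
    show (v ^ k) ^ p ^ m = 1
    rw [← zpow_natCast, ← zpow_mul, mul_comm, zpow_mul, zpow_natCast, hvm, one_zpow]
  have hvinv : ∀ x : Q, (x : Ω) ∈ K ↔ (v⁻¹ x : Ω) ∈ K := by
    intro x
    rw [hv (v⁻¹ x)]
    simp
  have h2 : Subgroup.zpowers v ≤ Subgroup.normalizer ((stabCh Q K : Subgroup (MulAut Q)) : Set (MulAut Q)) := by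
    rw [Subgroup.zpowers_le]
    rw [Subgroup.mem_normalizer_iff]
    intro α
    constructor
    · intro hα
      exact conj_mem_stabCh hα hv
    · intro hα
      have := conj_mem_stabCh hα hvinv
      simpa [mul_assoc] using this
  have h3 := IsPGroup.to_sup_of_normal_right' h1 (stabCh_isPGroup (Q := Q) hK) h2
  refine h3.to_le ?_
  rw [Subgroup.closure_le]
  rintro x (rfl | rfl)
  · exact Subgroup.mem_sup_right hu
  · exact Subgroup.mem_sup_left (Subgroup.mem_zpowers _)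

omit [Fact p.Prime] in
theorem exists_isC {s : Ω} (hQS : Q ≤ S) (hs : s ∈ S) (hsN : s ∈ Subgroup.normalizer (Q : Set Ω)) :
    ∃ α : MulAut Q, IsC s α ∧ α ∈ F.autGroup Q := by
  have hI := Iso.conj_normalizer (F := F) hQS hs hsN
  exact ⟨autOfIso hI, fun x => rfl, autOfIso_mem hI⟩

omit [Finite S] in
theorem isC_pow {s : Ω} (hS : IsPGroup p S) (hs : s ∈ S) {α : MulAut Q} (hα : IsC s α) : ∃ m, α ^ p ^ m = 1 := by
  obtain ⟨m, hm⟩ := hS ⟨s, hs⟩
  have hm' : s ^ p ^ m = 1 := congrArg Subtype.val hm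
  refine ⟨m, ?_⟩
  have hit : ∀ n : ℕ, IsC (s ^ n) (α ^ n) := by
    intro n
    induction n with
    | zero =>
      intro y
      simp
    | succ n ih =>
      rw [pow_succ, pow_succ]
      exact ih.mul hα
  ext y
  have := hit (p ^ m) y
  rw [this, hm']
  simp

/-- **The transvection lemma.** Let `K ≤ Z(S)` have order `p` and `U ≤ N_S(Q)` with `[Q, U] ≤ K`, `U ≰ Q`, for `Q` essential. -/
theorem ess_transv (hS : IsPGroup p S) (hF : F.IsSaturated p) (hE : F.IsEssential p Q)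
    {K U : Subgroup Ω} (hKS : K ≤ S) (hKc : K ≤ Subgroup.centralizer (S : Set Ω)) (hKp : Nat.card K = p)
    (hUS : U ≤ S) (hUN : U ≤ Subgroup.normalizer (Q : Set Ω)) (hcomm : ∀ s ∈ U, ∀ x ∈ Q, x⁻¹ * (s * x * s⁻¹) ∈ K)
    {s₀ : Ω} (hs₀ : s₀ ∈ U) (hs₀Q : s₀ ∉ Q) :
    K ≤ Q ∧ ∃ a ∈ F.autGroup Q, (∃ x : Q, (x : Ω) ∈ K ∧ (a x : Ω) ∉ K) ∧
      ∃ e : Q, (a e : Ω) ∈ K ∧ e ≠ 1 ∧ ∀ s ∈ U, s ∉ Q → s * e * s⁻¹ ≠ e := by
  classical
  have hQS : Q ≤ S := hE.1.1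
  have hc : centralizerIn S Q ≤ Q := hE.1.2 Q (isConj_refl hQS)
  haveI hfinK : Finite K := Nat.finite_of_card_ne_zero (by
    rw [hKp]
    exact (Fact.out : p.Prime).ne_zero)
  have hKpg : IsPGroup p K := IsPGroup.of_card (n := 1) (by rw [hKp, pow_one])
  have hKQ : K ≤ Q := by
    intro k hk
    refine hc (mem_centralizerIn.mpr ⟨hKS hk, fun y hy => ?_⟩)
    exact (Subgroup.mem_centralizer_iff.1 (hKc hk) y (hQS hy))
  refine ⟨hKQ, ?_⟩
  obtain ⟨Γ, hΓle, hΓne, -, hΓ⟩ := ess_gamma hS hF hE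
  obtain ⟨a, ha, haΓ⟩ : ∃ a ∈ F.autGroup Q, a ∉ Γ := by
    by_contra hcon
    push Not at hcon
    exact hΓne (le_antisymm hΓle hcon)
  obtain ⟨u, huC, hum⟩ := exists_isC (F := F) hQS (hUS hs₀) (hUN hs₀)
  have hcentr : ∀ s ∈ S, ∀ k ∈ K, s * k * s⁻¹ = k := by
    intro s hs k hk
    have := Subgroup.mem_centralizer_iff.1 (hKc hk) s hs
    rw [this]
    group
  have hu : u ∈ stabCh Q K := by
    refine ⟨fun x hx => Subtype.ext ?_, fun x => ?_⟩
    · rw [huC x]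
      exact hcentr _ (hUS hs₀) _ hx
    · rw [huC x]
      exact hcomm _ hs₀ _ x.2
  refine ⟨a, ha, ?_, ?_⟩
  · -- `a` moves `K`
    by_contra hcon
    push Not at hcon
    have hinj : Function.Injective (fun x : {x : Q // (x : Ω) ∈ K} => (⟨a x.1, hcon x.1 x.2⟩ : {x : Q // (x : Ω) ∈ K})) := by
      intro x y h
      apply Subtype.ext
      exact a.injective (congrArg Subtype.val h)
    haveI : Finite {x : Q // (x : Ω) ∈ K} := Finite.of_injective
      (fun x : {x : Q // (x : Ω) ∈ K} => (⟨(x.1 : Ω), x.2⟩ : K)) (fun x y h => Subtype.ext (Subtype.ext (congrArg (fun z : K => (z : Ω)) h)))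
    have hsurj := Finite.injective_iff_surjective.1 hinj
    have hiff : ∀ x : Q, (x : Ω) ∈ K ↔ (a x : Ω) ∈ K := by
      intro x
      refine ⟨hcon x, fun h => ?_⟩
      obtain ⟨y, hy⟩ := hsurj ⟨a x, h⟩
      have h2 : a y.1 = a x := congrArg Subtype.val hy
      rw [← a.injective h2]
      exact y.2
    have hv : a * u * a⁻¹ ∈ stabCh Q K := conj_mem_stabCh hu hiff
    apply haΓ
    refine hΓ a ha s₀ s₀ u u (hUS hs₀) (hUS hs₀) hs₀Q hs₀Q huC huC ?_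
    refine (stabCh_isPGroup (Q := Q) hKpg).to_le ?_
    rw [Subgroup.closure_le]
    rintro x (rfl | rfl)
    · exact hu
    · exact hv
  · -- the element `e`
    have hKnt : Nontrivial K := by
      apply (Finite.one_lt_card_iff_nontrivial).1
      rw [hKp]
      exact (Fact.out : p.Prime).one_lt
    obtain ⟨⟨k₁, hk₁⟩, hk₁1⟩ := exists_ne (1 : K)
    have hk₁ne : k₁ ≠ 1 := fun h => hk₁1 (Subtype.ext h)
    have hzp : ∀ k ∈ K, k ∈ Subgroup.zpowers k₁ := by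
      have h1 : Subgroup.zpowers (⟨k₁, hk₁⟩ : K) = ⊤ := zpowers_eq_top_of_prime_card hKp hk₁1
      intro k hk
      have h2 : (⟨k, hk⟩ : K) ∈ Subgroup.zpowers (⟨k₁, hk₁⟩ : K) := by
        rw [h1]
        exact Subgroup.mem_top _
      obtain ⟨n, hn⟩ := h2
      exact ⟨n, congrArg Subtype.val hn⟩
    refine ⟨a⁻¹ ⟨k₁, hKQ hk₁⟩, ?_, ?_, ?_⟩
    · have : a (a⁻¹ ⟨k₁, hKQ hk₁⟩) = ⟨k₁, hKQ hk₁⟩ := by simp
      rw [this]
      exact hk₁
    · intro h
      have : (⟨k₁, hKQ hk₁⟩ : Q) = a (a⁻¹ ⟨k₁, hKQ hk₁⟩) := by simp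
      rw [h, map_one] at this
      exact hk₁ne (congrArg Subtype.val this)
    · intro s hs hsQ he
      obtain ⟨β, hβC, hβm⟩ := exists_isC (F := F) hQS (hUS hs) (hUN hs)
      obtain ⟨m, hm⟩ := isC_pow hS (hUS hs) hβC
      apply haΓ
      refine hΓ a ha s₀ s u β (hUS hs₀) (hUS hs) hs₀Q hsQ huC hβC ?_
      have hfixk : β (a⁻¹ ⟨k₁, hKQ hk₁⟩) = a⁻¹ ⟨k₁, hKQ hk₁⟩ := by
        apply Subtype.ext
        rw [hβC]
        exact he
      have hvk : (a * β * a⁻¹) ⟨k₁, hKQ hk₁⟩ = ⟨k₁, hKQ hk₁⟩ := by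
        show a (β (a⁻¹ ⟨k₁, hKQ hk₁⟩)) = _
        rw [hfixk]
        simp
      have hvfix : ∀ x : Q, (x : Ω) ∈ K → (a * β * a⁻¹) x = x := by
        rintro ⟨x, hxQ⟩ hx
        obtain ⟨n, hn⟩ := hzp x hx
        have e : (⟨x, hxQ⟩ : Q) = (⟨k₁, hKQ hk₁⟩ : Q) ^ n := by
          apply Subtype.ext
          exact hn.symm
        rw [e, map_zpow, hvk]
      have hvm : (a * β * a⁻¹) ^ p ^ m = 1 := by
        rw [conj_pow, hm, mul_one, mul_inv_cancel]
      refine closure_isPGroup hKpg hu hvm ?_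
      intro x
      constructor
      · intro hx
        rw [hvfix x hx]
        exact hx
      · intro hx
        have h5 := hvfix _ hx
        have h6 : (a * β * a⁻¹) x = x := (a * β * a⁻¹).injective h5
        rw [h6] at hx
        exact hx

/-- The index of a centralizer of an element with commutators in a central subgroup of order `p`. -/
theorem index_cent_dvd {V K : Subgroup Ω} {e : Ω} (hK : Nat.card K = p) (hKc : ∀ k ∈ K, ∀ v ∈ V, v * k = k * v)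
    (hVe : ∀ v ∈ V, v * e * v⁻¹ * e⁻¹ ∈ K) :
    (Subgroup.centralizer ({e} : Set Ω)).relIndex V ∣ p := by
  classical
  haveI hfinK : Finite K := Nat.finite_of_card_ne_zero (by
    rw [hK]
    exact (Fact.out : p.Prime).ne_zero)
  have hKcomm : ∀ a b : K, a * b = b * a := by
    haveI : Fact (Nat.card K).Prime := ⟨by rw [hK]; exact Fact.out⟩
    haveI := isCyclic_of_prime_card (α := K) rfl
    intro a b
    exact mul_comm' a b
  let f : V →* K := MonoidHom.mk' (fun v => ⟨(v : Ω) * e * (v : Ω)⁻¹ * e⁻¹, hVe v v.2⟩) (by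
    intro a b
    rw [hKcomm]
    apply Subtype.ext
    show ((a : Ω) * b) * e * ((a : Ω) * b)⁻¹ * e⁻¹ = ((b : Ω) * e * (b : Ω)⁻¹ * e⁻¹) * ((a : Ω) * e * (a : Ω)⁻¹ * e⁻¹)
    have h1 := hKc _ (hVe b b.2) a a.2
    have e1 : ((a : Ω) * b) * e * ((a : Ω) * b)⁻¹ * e⁻¹ =
        ((a : Ω) * ((b : Ω) * e * (b : Ω)⁻¹ * e⁻¹)) * e * (a : Ω)⁻¹ * e⁻¹ := by group
    rw [e1, h1]
    group)
  have hker : f.ker = (Subgroup.centralizer ({e} : Set Ω)).subgroupOf V := by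
    ext v
    rw [MonoidHom.mem_ker, Subgroup.mem_subgroupOf, Subgroup.mem_centralizer_singleton_iff]
    constructor
    · intro h
      have h1 : (v : Ω) * e * (v : Ω)⁻¹ * e⁻¹ = 1 := congrArg Subtype.val h
      have h2 : (v : Ω) * e * (v : Ω)⁻¹ = e := by
        rw [mul_inv_eq_one] at h1
        exact h1
      rw [mul_inv_eq_iff_eq_mul] at h2
      exact h2
    · intro h
      apply Subtype.ext
      show (v : Ω) * e * (v : Ω)⁻¹ * e⁻¹ = 1
      rw [h]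
      group
  unfold Subgroup.relIndex
  rw [← hker, Subgroup.index_ker, ← hK]
  exact Subgroup.card_subgroup_dvd_card _

end Cfsg.Agent.H25
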