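import Cfsg.Agent.Lib.H25.FusGT2
import Cfsg.Agent.Lib.H25.FusPow

set_option autoImplicit false

/-! Subgroups whose normalizer system moves a given element. -/

namespace Cfsg.Agent.H25

open Cfsg Cfsg.FusionSystem

universe u

variable {Ω : Type u} [Group Ω] {S : Subgroup Ω} {F : FusionSystem S}
variable {P Q R T : Subgroup Ω} {f g h : Ω → Ω} {p : ℕ}

/-- Some map of the system moves `z`. -/
def Moves {T' : Subgroup Ω} (E : FusionSystem T') (z : Ω) : Prop :=
  ∃ (P : Subgroup Ω) (f : Ω → Ω), Mp E P f ∧ z ∈ P ∧ f z ≠ z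

theorem not_moves_of_isCentral {T' : Subgroup Ω} {E : FusionSystem T'} {z : Ω} (hQ : E.IsCentral Q) (hz : z ∈ Q) :
    ¬ Moves E z := by
  rintro ⟨P, f, ⟨φ, hφ, hφf⟩, hzP, hne⟩
  obtain ⟨ψ, -, h1, h2⟩ := hQ.2 P φ hφ
  apply hne
  rw [← hφf ⟨z, hzP⟩, ← h1 ⟨z, hzP⟩]
  exact h2 ⟨z, hz⟩

theorem mem_center_iff_central [Finite S] {z : Ω} : z ∈ F.center → ¬ Moves F z := fun hz =>
  not_moves_of_isCentral H24.isCentral_center hz

section Sat

variable [Finite S] [Fact p.Prime]

theorem mem_normalizerIn_of_central {z : Ω} (hzS : z ∈ S) (hz : ∀ s ∈ S, s * z = z * s) (hP : P ≤ S) :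
    z ∈ normalizerIn S P := by
  refine ⟨hzS, mem_normalizer_of_conj (fun x hx => ?_) (fun x hx => ?_)⟩
  · rw [← hz x (hP hx)]
    simpa using hx
  · have : z⁻¹ * x * z = x := by
      rw [mul_assoc, hz x (hP hx)]
      group
    rw [this]
    exact hx

/-- Maps on large subgroups fix `z` if automorphisms of large fully normalized subgroups do. -/
theorem fix_large (hS : IsPGroup p S) (hF : F.IsSaturated p) {z : Ω} (hzS : z ∈ S) (hz : ∀ s ∈ S, s * z = z * s) (m : ℕ)
    (H : ∀ (R : Subgroup Ω) (a : Ω → Ω), F.IsFullyNormalized R → z ∈ R → m < Nat.card R → Iso F R R a → a z = z) :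
    ∀ (P : Subgroup Ω) (f : Ω → Ω), Mp F P f → z ∈ P → m < Nat.card P → f z = z := by
  classical
  have key : ∀ n : ℕ, ∀ (P : Subgroup Ω) (f : Ω → Ω), Nat.card S - Nat.card P = n → Mp F P f → z ∈ P → m < Nat.card P → f z = z := by
    intro n
    induction n using Nat.strong_induction_on with
    | _ n ih =>
      intro P f hn hf hzP hmP
      have hP := hf.le
      by_cases hPS : P = S
      · subst hPS
        exact H P f (fullyNormalized_of_normal' hP (fun x hx => mem_normalizer_of_conj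
          (fun y hy => P.mul_mem (P.mul_mem hx hy) (P.inv_mem hx)) (fun y hy => P.mul_mem (P.mul_mem (P.inv_mem hx) hy) hx)))
          hzP hmP (Iso.of_maps hf (fun _ hx => hf.mem hx))
      have hcardP : Nat.card P < Nat.card S := card_lt_of_lt (S := S) le_rfl (lt_of_le_of_ne hP hPS)
      obtain ⟨Q, hconj, hQ⟩ := H24.exists_fullyNormalized_conj (F := F) hP
      have hfar := far_of_fullyNormalized hS hF hQ
      obtain ⟨h₁, hh₁, hI₁⟩ := exists_ext_normalizer hS hfar hconj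
      have hIf := Iso.of_mp hf
      have hP'S : hf.img ≤ S := fun y hy => by
        obtain ⟨x, hx, rfl⟩ := (Mp.mem_img hf).mp hy
        exact hf.mem hx
      have hP'Q : F.IsConj hf.img Q := isConj_trans (isConj_symm (isConj_iff.mpr ⟨f, hIf⟩)) hconj
      obtain ⟨h₂, hh₂, hI₂⟩ := exists_ext_normalizer hS hfar hP'Q
      have hcard' : Nat.card hf.img = Nat.card P := hIf.card_eq.symm
      have hcardQ : Nat.card P = Nat.card Q := hI₁.card_eq
      have hP'ne : hf.img ≠ S := fun h => by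
        rw [h] at hcard'
        omega
      have hN : ∀ (A : Subgroup Ω), A ≤ S → A ≠ S → Nat.card A < Nat.card (normalizerIn S A) := by
        intro A hA hne
        obtain ⟨g, hg, hgA⟩ := exists_normalizer_not_mem hS hA hne
        exact card_lt_of_lt normalizerIn_le (lt_of_le_of_ne (le_normalizerIn hA) fun h => hgA (h ▸ hg))
      have hleS : ∀ (A : Subgroup Ω), A ≤ S → Nat.card A ≤ Nat.card S := fun A hA => card_le_of_le (S := S) le_rfl hA
      have h1z : h₁ z = z := by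
        have h1 := hN P hP hPS
        have h2 := hleS _ (normalizerIn_le (S := S) (P := P))
        exact ih (Nat.card S - Nat.card (normalizerIn S P)) (by omega) _ _ rfl hh₁ (mem_normalizerIn_of_central hzS hz hP) (by omega)
      have h2z : h₂ z = z := by
        have h1 := hN _ hP'S hP'ne
        have h2 := hleS _ (normalizerIn_le (S := S) (P := hf.img))
        exact ih (Nat.card S - Nat.card (normalizerIn S hf.img)) (by omega) _ _ rfl hh₂ (mem_normalizerIn_of_central hzS hz hP'S) (by omega)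
      have hzQ : z ∈ Q := h1z ▸ hI₁.maps z hzP
      obtain ⟨g₁, hg₁, hg₁1, hg₁2⟩ := hI₁.inv
      have hIa := (hg₁.comp hIf).comp hI₂
      have h3 := H Q _ hQ hzQ (by omega) hIa
      simp only [Function.comp] at h3
      have h4 : g₁ z = z := by
        have := hg₁1 z hzP
        rwa [h1z] at this
      rw [h4] at h3
      have hfz : f z ∈ hf.img := (Mp.mem_img hf).mpr ⟨z, hzP, rfl⟩
      exact hh₂.inj (le_normalizerIn hP'S hfz) (mem_normalizerIn_of_central hzS hz hP'S) (by rw [h3, h2z])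
  intro P f hf hzP hmP
  exact key _ P f rfl hf hzP hmP

/-- Transport of a map in a normalizer system to a fully normalized conjugate. -/
theorem nsys_transport (hS : IsPGroup p S) (hF : F.IsSaturated p) {W₁ W' : Subgroup Ω}
    (hW' : F.IsFullyNormalized W') (hconj : F.IsConj W₁ W') (hW₁P : W₁ ≤ P) (hP : P ≤ normalizerIn S W₁) (hf : Mp F P f)
    (hfN : ∀ x ∈ P, f x ∈ normalizerIn S W₁) (hg : GoodN W₁ f) :
    ∃ (χ : Ω → Ω) (hχ : Mp F (normalizerIn S W₁) χ) (f' : Ω → Ω), Mp (NSys F W' hW'.1) (hχ.restrict hP).img f' ∧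
      ∀ x ∈ P, f' (χ x) = χ (f x) := by
  have hfar := far_of_fullyNormalized hS hF hW'
  obtain ⟨φ, hφ, hφN, hφW⟩ := Cfsg.Agent.H24.exists_normalizer_map hS hfar.auto hfar.recep hconj
  have hW₁S : W₁ ≤ S := (isConj_iff.mp hconj).choose_spec.mp.le
  have hχ : Mp F (normalizerIn S W₁) (toFun φ) := mp_of_mem hφ
  have hW₁N : W₁ ≤ normalizerIn S W₁ := le_normalizerIn hW₁S
  have hχN : ∀ x ∈ normalizerIn S W₁, toFun φ x ∈ normalizerIn S W' := fun x hx => by
    rw [toFun_coe φ ⟨x, hx⟩]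
    exact hφN ⟨x, hx⟩
  obtain ⟨hW1, hW2⟩ := (Cfsg.Agent.H24.map_subgroupOf_eq_iff hW₁N φ).1 hφW
  have hχW : ∀ x ∈ W₁, toFun φ x ∈ W' := fun x hx => by
    rw [toFun_coe φ ⟨x, hW₁N hx⟩]
    exact hW1 x hx
  have hχWs : ∀ y ∈ W', ∃ x ∈ W₁, toFun φ x = y := fun y hy => by
    obtain ⟨x, hx, hxy⟩ := hW2 y hy
    exact ⟨x, hx, by rw [toFun_coe φ ⟨x, hW₁N hx⟩]; exact hxy⟩
  have hχP := hχ.restrict hP
  have hIP := Iso.of_mp hχP
  obtain ⟨gR, hgI, hg1, hg2⟩ := hIP.inv
  have hm' : Mp F (hχP).img (toFun φ ∘ f ∘ gR) :=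
    (hgI.mp.comp hgI.maps hf).comp (fun y hy => hfN _ (hgI.maps y hy)) hχ
  have hval : ∀ x ∈ P, (toFun φ ∘ f ∘ gR) (toFun φ x) = toFun φ (f x) := fun x hx => by
    simp only [Function.comp]
    rw [hg1 x hx]
  have hW'img : W' ≤ (hχP).img := by
    intro y hy
    obtain ⟨x, hx, rfl⟩ := hχWs y hy
    exact (Mp.mem_img hχP).mpr ⟨x, hW₁P hx, rfl⟩
  refine ⟨toFun φ, hχ, toFun φ ∘ f ∘ gR, (mp_NSys_iff hW'.1).mpr ⟨hm', ?_, ?_, toFun φ ∘ f ∘ gR, ?_, fun _ _ => rfl, ?_, ?_⟩, hval⟩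
  · intro y hy
    obtain ⟨x, hx, rfl⟩ := (Mp.mem_img hχP).mp hy
    exact hχN x (hP hx)
  · intro y hy
    obtain ⟨x, hx, rfl⟩ := (Mp.mem_img hχP).mp hy
    rw [hval x hx]
    exact hχN _ (hfN x hx)
  · rw [sup_eq_left.mpr hW'img]
    exact hm'
  · intro y hy
    obtain ⟨x, hx, rfl⟩ := hχWs y hy
    rw [hval x (hW₁P hx)]
    exact hχW _ (hg.1 x hx)
  · intro y hy
    obtain ⟨x, hx, rfl⟩ := hχWs y hy
    obtain ⟨x₀, hx₀, rfl⟩ := hg.2 x hx
    exact ⟨toFun φ x₀, hχW x₀ hx₀, hval x₀ (hW₁P hx₀)⟩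

end Sat

section Functor

/-- The hypotheses on a functor. -/
def FunctorHyp (p : ℕ) (W : ∀ (Q : Type u) [Group Q], Subgroup Q) : Prop :=
  (∀ (Q : Type u) [Group Q] [Finite Q], IsPGroup p Q → Nontrivial Q → W Q ≠ ⊥) ∧
    ∀ (Q R : Type u) [Group Q] [Group R] [Finite Q], IsPGroup p Q → ∀ φ : Q ≃* R, (W Q).map φ.toMonoidHom = W R

/-- The functor on subgroups. -/
abbrev WW (W : ∀ (Q : Type u) [Group Q], Subgroup Q) {G : Type u} [Group G] (S : Subgroup G) : Subgroup G := (W ↥S).map S.subtype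

variable {W : ∀ (Q : Type u) [Group Q], Subgroup Q}

theorem WW_le {G : Type u} [Group G] (S : Subgroup G) : WW W S ≤ S := by
  rintro _ ⟨x, -, rfl⟩
  exact x.2

theorem WW_ne_bot (hW : FunctorHyp p W) {G : Type u} [Group G] {S : Subgroup G} [Finite S] (hS : IsPGroup p S) (hne : S ≠ ⊥) :
    WW W S ≠ ⊥ := by
  haveI : Nontrivial S := (Subgroup.nontrivial_iff_ne_bot S).mpr hne
  have h1 := hW.1 S hS inferInstance
  intro h
  exact h1 ((Subgroup.map_eq_bot_iff_of_injective _ (Subgroup.subtype_injective _)).mp h)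

theorem WW_range (hW : FunctorHyp p W) {G H : Type u} [Group G] [Group H] {S : Subgroup G} [Finite S] (hS : IsPGroup p S)
    {ι : ↥S →* H} (hι : Function.Injective ι) {T : Subgroup H} (hT : T = ι.range) : WW W T = (W ↥S).map ι := by
  subst hT
  have h1 := hW.2 ↥S ↥ι.range hS (MonoidHom.ofInjective hι)
  unfold WW
  rw [← h1, Subgroup.map_map]
  congr 1

theorem WW_conj (hW : FunctorHyp p W) {G : Type u} [Group G] {S : Subgroup G} [Finite S] (hS : IsPGroup p S) {g : G}
    (hg : g ∈ Subgroup.normalizer (S : Set G)) : g ∈ Subgroup.normalizer (WW W S : Set G) := by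
  have hinj : Function.Injective ((MulAut.conj g).toMonoidHom.comp S.subtype) := by
    intro x y h
    apply Subtype.ext
    exact (MulAut.conj g).injective h
  have hrange : S = ((MulAut.conj g).toMonoidHom.comp S.subtype).range := by
    ext y
    constructor
    · intro hy
      refine ⟨⟨g⁻¹ * y * g, conj_inv_mem_of_normalizer hg hy⟩, ?_⟩
      simp [MulAut.conj_apply, mul_assoc]
    · rintro ⟨x, rfl⟩
      exact conj_mem_of_normalizer hg x.2
  have h1 := WW_range hW hS hinj hrange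
  have h2 : WW W S = (WW W S).map (MulAut.conj g).toMonoidHom := by
    conv_rhs => unfold WW
    rw [Subgroup.map_map]
    exact h1
  apply mem_normalizer_of_conj
  · intro x hx
    rw [h2]
    exact ⟨x, hx, rfl⟩
  · intro x hx
    rw [h2] at hx
    obtain ⟨y, hy, rfl⟩ := hx
    have : g⁻¹ * ((MulAut.conj g).toMonoidHom y) * g = y := by
      simp [MulAut.conj_apply, mul_assoc]
    rw [this]
    exact hy

theorem pc_le {G : Type*} [Group G] {k : ℕ} (H : Subgroup G) : powerClosure p k H ≤ H := by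
  refine (Subgroup.closure_le _).mpr ?_
  rintro y ⟨x, hx, rfl⟩
  exact H.pow_mem hx _

theorem pc_mono {G : Type*} [Group G] {k : ℕ} {H K : Subgroup G} (h : H ≤ K) : powerClosure p k H ≤ powerClosure p k K := by
  refine Subgroup.closure_mono ?_
  rintro y ⟨x, hx, rfl⟩
  exact ⟨x, h hx, rfl⟩

/-- Image of the power closure of the centre. -/
theorem pc_map_aux {G H : Type*} [Group G] [Group H] {S : Subgroup G} {S' : Subgroup H} {k : ℕ} {α : ↥S →* H} (hα : α.range = S')
    {z : G} (hz : z ∈ powerClosure p k (S ⊓ Subgroup.centralizer (S : Set G))) :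
    ∃ h : z ∈ S, α ⟨z, h⟩ ∈ powerClosure p k (S' ⊓ Subgroup.centralizer (S' : Set H)) := by
  unfold powerClosure at hz
  induction hz using Subgroup.closure_induction with
  | mem y hy =>
    obtain ⟨x, hx, rfl⟩ := hy
    have hx1 : x ∈ S := hx.1
    refine ⟨S.pow_mem hx1 _, Subgroup.subset_closure ⟨α ⟨x, hx1⟩, Subgroup.mem_inf.mpr ⟨?_, ?_⟩, ?_⟩⟩
    · rw [← hα]
      exact ⟨_, rfl⟩
    · rw [Subgroup.mem_centralizer_iff]
      intro y hy
      rw [SetLike.mem_coe, ← hα] at hy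
      obtain ⟨s, rfl⟩ := hy
      rw [← map_mul, ← map_mul]
      congr 1
      apply Subtype.ext
      exact Subgroup.mem_centralizer_iff.mp (Subgroup.mem_inf.mp hx).2 s s.2
    · rw [← map_pow]
      rfl
  | one => exact ⟨S.one_mem, by
      have : (⟨1, S.one_mem⟩ : S) = 1 := rfl
      rw [this, map_one]
      exact Subgroup.one_mem _⟩
  | mul a b _ _ ha hb =>
    obtain ⟨h1, h2⟩ := ha
    obtain ⟨h3, h4⟩ := hb
    refine ⟨S.mul_mem h1 h3, ?_⟩
    have : (⟨a * b, S.mul_mem h1 h3⟩ : S) = ⟨a, h1⟩ * ⟨b, h3⟩ := rfl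
    rw [this, map_mul]
    exact Subgroup.mul_mem _ h2 h4
  | inv a _ ha =>
    obtain ⟨h1, h2⟩ := ha
    refine ⟨S.inv_mem h1, ?_⟩
    have : (⟨a⁻¹, S.inv_mem h1⟩ : S) = ⟨a, h1⟩⁻¹ := rfl
    rw [this, map_inv]
    exact Subgroup.inv_mem _ h2

theorem pc_map {G H : Type*} [Group G] [Group H] {S : Subgroup G} {S' : Subgroup H} {k : ℕ} {α : ↥S →* H} (hα : α.range = S')
    {z : G} (hz : z ∈ powerClosure p k (S ⊓ Subgroup.centralizer (S : Set G))) (hzS : z ∈ S) :
    α ⟨z, hzS⟩ ∈ powerClosure p k (S' ⊓ Subgroup.centralizer (S' : Set H)) :=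
  (pc_map_aux hα hz).choose_spec

end Functor

end Cfsg.Agent.H25
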