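import Cfsg.Agent.Lib.H25.ModelCore
import Cfsg.Agent.Lib.H25.Basic
import Cfsg.Agent.Lib.H25.FusSub
import Cfsg.Agent.Lib.H25.FusSys
import Cfsg.Agent.Lib.H25.FusNormal
import Cfsg.Agent.Lib.H25.FusNormSat
import Cfsg.Agent.Lib.H24.FusSat

set_option autoImplicit false

/-! The Model Theorem: existence of models of constrained fusion systems. -/

namespace Cfsg.Agent.H25

open Cfsg Cfsg.FusionSystem

universe u

variable {Ω : Type u} [Group Ω] {S : Subgroup Ω} {F : FusionSystem S}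
variable {P Q R T : Subgroup Ω} {f f' g : Ω → Ω} {p : ℕ}

theorem normal_ext (hQ : F.IsNormal Q) (hf : Mp F P f) :
    ∃ ĥ, Mp F (P ⊔ Q) ĥ ∧ (∀ x ∈ P, ĥ x = f x) ∧ GoodN Q ĥ := by
  obtain ⟨φ, hφ, hφf⟩ := hf
  obtain ⟨ĥ, h1, h2, h3⟩ := normalExt_iff.mp (hQ.2 P φ hφ)
  refine ⟨ĥ, h1, fun x hx => ?_, h3⟩
  rw [← hφf ⟨x, hx⟩]
  exact h2 ⟨x, hx⟩

theorem normal_good (hQ : F.IsNormal Q) (hQR : Q ≤ R) (hf : Mp F R f) : GoodN Q f := by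
  obtain ⟨ĥ, h1, h2, h3⟩ := normal_ext hQ hf
  exact h3.congr fun x hx => h2 x (hQR hx)

theorem normal_SN (hQ : F.IsNormal Q) : S ≤ Subgroup.normalizer (Q : Set Ω) := by
  intro s hs
  have h1 : GoodN Q (fun x => s * x * s⁻¹) := normal_good hQ hQ.1 (Mp.conj (le_refl S) hs)
  have h2 : GoodN Q (fun x => s⁻¹ * x * s⁻¹⁻¹) := normal_good hQ hQ.1 (Mp.conj (le_refl S) (S.inv_mem hs))
  refine mem_normalizer_of_conj h1.1 fun x hx => ?_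
  simpa using h2.1 x hx

/-- **Uniqueness of maps with source containing `Q`.** -/
theorem uniq_of_normal [Finite S] [Fact p.Prime] (hS : IsPGroup p S) (hF : F.IsSaturated p) (hQ : F.IsNormal Q)
    (hc : F.IsCentric Q) (hQR : Q ≤ R) (hf : Mp F R f) (hf' : Mp F R f') (h : ∀ x ∈ Q, f x = f' x) :
    ∃ z ∈ Q, (∀ t ∈ Q, z * t = t * z) ∧ ∀ y ∈ R, f' y = z * f y * z⁻¹ := by
  have hRS := hf.le
  have hSN := normal_SN hQ
  have hg := normal_good hQ hQR hf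
  obtain ⟨g, hgI, hg1, hg2⟩ := (Iso.of_mp hf).inv
  have hQR' : Q ≤ hf.img := fun y hy => by
    obtain ⟨x, hx, rfl⟩ := hg.2 y hy
    exact (Iso.of_mp hf).maps x (hQR hx)
  -- `f⁻¹ f'` moves elements by `Z(Q)`
  have hd : ∀ y ∈ R, (f y)⁻¹ * f' y ∈ Q := by
    intro y hy
    apply hc.2 Q (isConj_refl hQ.1)
    refine mem_centralizerIn.mpr ⟨S.mul_mem (S.inv_mem (hf.mem hy)) (hf'.mem hy), fun t ht => ?_⟩
    obtain ⟨x₀, hx₀, rfl⟩ := hg.2 t ht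
    have h1 : y * x₀ * y⁻¹ ∈ Q := conj_mem_of_normalizer (hSN (hRS hy)) hx₀
    have h2 := h _ h1
    rw [hf.map_mul (R.mul_mem hy (hQR hx₀)) (R.inv_mem hy), hf.map_mul hy (hQR hx₀), hf.map_inv hy,
      hf'.map_mul (R.mul_mem hy (hQR hx₀)) (R.inv_mem hy), hf'.map_mul hy (hQR hx₀), hf'.map_inv hy, ← h x₀ hx₀] at h2
    have h3 : f y * f x₀ = f y * f x₀ * (f y)⁻¹ * f y := by group
    have h4 : f' y * f x₀ = f y * f x₀ * (f y)⁻¹ * f' y := by rw [h2]; group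
    calc f x₀ * ((f y)⁻¹ * f' y) = (f y)⁻¹ * (f y * f x₀ * (f y)⁻¹ * f' y) := by group
      _ = (f y)⁻¹ * (f' y * f x₀) := by rw [h4]
      _ = _ := by group
  -- apply the lemma on trivial maps
  have hmaps : ∀ w ∈ hf.img, g w ∈ R := fun w hw => hgI.maps w hw
  have hcomp : Mp F hf.img (f' ∘ g) := hgI.mp.comp hmaps hf'
  have hLN : hf.img ≤ Subgroup.normalizer (Q : Set Ω) := fun w hw => by
    obtain ⟨x, hx, rfl⟩ := (Mp.mem_img hf).mp hw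
    exact hSN (hf.mem hx)
  have htriv : ∀ x ∈ Q, (f' ∘ g) x = x := by
    intro x hx
    obtain ⟨x₀, hx₀, rfl⟩ := hg.2 x hx
    simp only [Function.comp]
    rw [hg1 x₀ (hQR hx₀), ← h x₀ hx₀]
  obtain ⟨z, hz, hz1, hz2⟩ := conj_of_trivial_on_centric hS hF hc hQR' hLN hcomp htriv
  refine ⟨z, hz, hz1, fun y hy => ?_⟩
  have := hz2 (f y) ((Iso.of_mp hf).maps y hy)
  simp only [Function.comp] at this
  rwa [hg1 y hy] at this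

/-- Conjugation action of `S` on `Q`. -/
noncomputable def cQ (hQ : F.IsNormal Q) : ↥S →* MulAut ↥Q :=
  Q.normalizerMonoidHom.comp (Subgroup.inclusion (normal_SN hQ))

@[simp] theorem cQ_apply (hQ : F.IsNormal Q) (s : ↥S) (x : ↥Q) :
    ((cQ hQ s x : ↥Q) : Ω) = (s : Ω) * (x : Ω) * (s : Ω)⁻¹ := rfl

theorem cQ_inv_apply (hQ : F.IsNormal Q) (s : ↥S) (x : ↥Q) :
    (((cQ hQ s)⁻¹ x : ↥Q) : Ω) = (s : Ω)⁻¹ * (x : Ω) * (s : Ω) := by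
  rw [← map_inv, cQ_apply]
  simp

/-- The source of the extension of `a`. -/
noncomputable def NO (hQ : F.IsNormal Q) (a : MulAut ↥Q) : Subgroup Ω :=
  (Subgroup.comap (cQ hQ) ((cQ hQ).range.comap (MulAut.conj a).toMonoidHom)).map S.subtype

theorem mem_NO (hQ : F.IsNormal Q) {a : MulAut ↥Q} {y : Ω} :
    y ∈ NO hQ a ↔ ∃ h : y ∈ S, a * cQ hQ ⟨y, h⟩ * a⁻¹ ∈ (cQ hQ).range := by
  constructor
  · rintro ⟨y', hy', rfl⟩
    exact ⟨y'.2, hy'⟩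
  · rintro ⟨h, h'⟩
    exact ⟨⟨y, h⟩, h', rfl⟩

theorem NO_le (hQ : F.IsNormal Q) (a : MulAut ↥Q) : NO hQ a ≤ S := fun _ hy => ((mem_NO hQ).mp hy).1

theorem cQ_conj (hQ : F.IsNormal Q) (a : MulAut ↥Q) (x : ↥Q) :
    a * cQ hQ (Subgroup.inclusion hQ.1 x) * a⁻¹ = cQ hQ (Subgroup.inclusion hQ.1 (a x)) := by
  ext y
  show ((a (cQ hQ (Subgroup.inclusion hQ.1 x) (a⁻¹ y)) : ↥Q) : Ω) = ((a x : ↥Q) : Ω) * (y : Ω) * ((a x : ↥Q) : Ω)⁻¹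
  have h1 : cQ hQ (Subgroup.inclusion hQ.1 x) (a⁻¹ y) = x * a⁻¹ y * x⁻¹ := rfl
  rw [h1, map_mul, map_mul, map_inv, MulAut.apply_inv_self]
  rfl

theorem le_NO (hQ : F.IsNormal Q) (a : MulAut ↥Q) : Q ≤ NO hQ a := by
  intro x hx
  refine (mem_NO hQ).mpr ⟨hQ.1 hx, ?_⟩
  have := cQ_conj hQ a ⟨x, hx⟩
  exact ⟨_, this.symm⟩

theorem range_cQ (hQ : F.IsNormal Q) : (cQ hQ).range = autInducedBy S Q := by
  ext a
  constructor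
  · rintro ⟨s, rfl⟩
    exact mem_autInducedBy_of_conj s.2 fun x => rfl
  · intro h
    obtain ⟨s, hs, hsa⟩ := exists_of_mem_autInducedBy h
    refine ⟨⟨s, hs⟩, ?_⟩
    ext x
    exact (hsa x).symm

theorem far_of_normal [Finite S] [Fact p.Prime] (hS : IsPGroup p S) (hF : F.IsSaturated p) (hQ : F.IsNormal Q) :
    Far F p Q := by
  have hSN := normal_SN hQ
  have hfn : F.IsFullyNormalized Q := by
    refine ⟨hQ.1, fun R hR => ?_⟩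
    have h1 : normalizerIn S Q = S := inf_eq_left.mpr hSN
    rw [h1]
    have hfin : Finite S := inferInstance
    exact Subgroup.card_le_of_le inf_le_left
  exact far_of_fullyNormalized hS hF hfn

theorem exists_ext_NO [Finite S] [Fact p.Prime] (hS : IsPGroup p S) (hF : F.IsSaturated p) (hQ : F.IsNormal Q)
    {a : MulAut ↥Q} (ha : a ∈ F.autGroup Q) : ∃ h, Mp F (NO hQ a) h ∧ ∀ x : ↥Q, h x = a x := by
  have hSN := normal_SN hQ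
  have hfar := far_of_normal hS hF hQ
  have hI := Iso.of_mem_autGroup hQ.1 ha
  obtain ⟨h, h1, h2⟩ := recept_ext hfar.recep hI (le_NO hQ a) (by
    intro y hy
    apply Subgroup.subset_closure
    obtain ⟨hyS, s, hs⟩ := (mem_NO hQ).mp hy
    refine ⟨hyS, hSN hyS, s, s.2, fun x hx => ?_⟩
    have h3 := congrArg (fun m : MulAut ↥Q => ((m (a ⟨x, hx⟩) : ↥Q) : Ω)) hs
    simp only [cQ_apply] at h3
    have h4 : (a * cQ hQ ⟨y, hyS⟩ * a⁻¹) (a ⟨x, hx⟩) = a (cQ hQ ⟨y, hyS⟩ ⟨x, hx⟩) := by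
      show a (cQ hQ ⟨y, hyS⟩ (a⁻¹ (a ⟨x, hx⟩))) = _
      rw [MulAut.inv_apply_self]
    rw [h4] at h3
    have h5 : y * x * y⁻¹ ∈ Q := conj_mem_of_normalizer (hSN hyS) hx
    rw [toFun_aut a ⟨x, hx⟩, toFun_aut a ⟨_, h5⟩]
    exact h3.symm)
  refine ⟨h, h1, fun x => ?_⟩
  rw [h2 x x.2, toFun_aut a x]

/-- The data of the construction. -/
noncomputable def mkData (hQ : F.IsNormal Q) (hc : F.IsCentric Q) (ψ₀ : MulAut ↥Q → Ω → Ω)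
    (h₁ : ∀ a ∈ F.autGroup Q, Mp F (NO hQ a) (ψ₀ a)) (h₂ : ∀ a ∈ F.autGroup Q, ∀ x : ↥Q, ψ₀ a x = a x) :
    MData ↥S ↥Q := by
  classical
  exact
  { j := Subgroup.inclusion hQ.1
    c := cQ hQ
    A := F.autGroup Q
    ψ := fun a y => if h : a ∈ F.autGroup Q ∧ (y : Ω) ∈ NO hQ a then ⟨ψ₀ a y, (h₁ a h.1).mem h.2⟩ else 1
    hj := Subgroup.inclusion_injective _
    hc := fun s x => rfl
    hcA := fun s => conj_mem_autGroup hQ.1 s.2 (fun x => rfl)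
    hker := by
      intro s hs
      have h1 : (s : Ω) ∈ centralizerIn S Q := by
        refine mem_centralizerIn.mpr ⟨s.2, fun t ht => ?_⟩
        have h2 := congrArg (fun m : MulAut ↥Q => ((m ⟨t, ht⟩ : ↥Q) : Ω)) hs
        simp only [cQ_apply] at h2
        have h3 : (s : Ω) * t * (s : Ω)⁻¹ = t := h2
        exact (mul_inv_eq_iff_eq_mul.mp h3).symm
      have h2 := hc.2 Q (isConj_refl hQ.1) h1
      refine ⟨⟨⟨s, h2⟩, Subgroup.mem_center_iff.mpr fun g => ?_⟩, Subtype.ext rfl⟩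
      apply Subtype.ext
      have := (mem_centralizerIn.mp h1).2 g g.2
      exact this
    hψmul := by
      intro a ha y y' hy hy'
      have hy1 : (y : Ω) ∈ NO hQ a := (mem_NO hQ).mpr ⟨y.2, hy⟩
      have hy2 : (y' : Ω) ∈ NO hQ a := (mem_NO hQ).mpr ⟨y'.2, hy'⟩
      have hy3 : ((y * y' : ↥S) : Ω) ∈ NO hQ a := (NO hQ a).mul_mem hy1 hy2
      rw [dif_pos ⟨ha, hy3⟩, dif_pos ⟨ha, hy1⟩, dif_pos ⟨ha, hy2⟩]
      exact Subtype.ext ((h₁ a ha).map_mul hy1 hy2)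
    hψc := by
      intro a ha y hy
      have hy1 : (y : Ω) ∈ NO hQ a := (mem_NO hQ).mpr ⟨y.2, hy⟩
      rw [dif_pos ⟨ha, hy1⟩]
      ext x
      obtain ⟨x₀, rfl⟩ : ∃ x₀, x = a x₀ := ⟨a⁻¹ x, by simp⟩
      show ψ₀ a y * ((a x₀ : ↥Q) : Ω) * (ψ₀ a y)⁻¹ = ((a (cQ hQ y (a⁻¹ (a x₀))) : ↥Q) : Ω)
      rw [MulAut.inv_apply_self, ← h₂ a ha (cQ hQ y x₀), ← h₂ a ha x₀]
      have hx₀ := le_NO hQ a x₀.2
      show _ = ψ₀ a ((y : Ω) * (x₀ : Ω) * (y : Ω)⁻¹)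
      rw [(h₁ a ha).map_mul ((NO hQ a).mul_mem hy1 hx₀) ((NO hQ a).inv_mem hy1), (h₁ a ha).map_mul hy1 hx₀,
        (h₁ a ha).map_inv hy1]
    hψj := by
      intro a ha x
      have hx := le_NO hQ a x.2
      have hx' : ((Subgroup.inclusion hQ.1 x : ↥S) : Ω) ∈ NO hQ a := hx
      rw [dif_pos ⟨ha, hx'⟩]
      exact Subtype.ext (h₂ a ha x) }

section Core

variable [Finite S] [Fact p.Prime] (hS : IsPGroup p S) (hF : F.IsSaturated p) (hQ : F.IsNormal Q) (hc : F.IsCentric Q)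
  (ψ₀ : MulAut ↥Q → Ω → Ω)
  (h₁ : ∀ a ∈ F.autGroup Q, Mp F (NO hQ a) (ψ₀ a)) (h₂ : ∀ a ∈ F.autGroup Q, ∀ x : ↥Q, ψ₀ a x = a x)

local notation "DD" => mkData hQ hc ψ₀ h₁ h₂

theorem psi_coe {a : MulAut ↥Q} (ha : a ∈ F.autGroup Q) {y : ↥S} (hy : y ∈ (mkData hQ hc ψ₀ h₁ h₂).N a) :
    (((mkData hQ hc ψ₀ h₁ h₂).ψ a y : ↥S) : Ω) = ψ₀ a y := by
  have hy1 : (y : Ω) ∈ NO hQ a := (mem_NO hQ).mpr ⟨y.2, hy⟩
  have h : (mkData hQ hc ψ₀ h₁ h₂).ψ a y = ⟨ψ₀ a y, (h₁ a ha).mem hy1⟩ := dif_pos ⟨ha, hy1⟩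
  rw [h]

theorem mem_N_iff_NO {a : MulAut ↥Q} {y : ↥S} : y ∈ (mkData hQ hc ψ₀ h₁ h₂).N a ↔ (y : Ω) ∈ NO hQ a := by
  constructor
  · intro hy
    exact (mem_NO hQ).mpr ⟨y.2, hy⟩
  · intro hy
    exact ((mem_NO hQ).mp hy).2

/-- The `F`-map attached to a point of the biset. -/
theorem exists_phi_map (x : (mkData hQ hc ψ₀ h₁ h₂).XX) :
    ∃ f, Mp F (NO hQ ((mkData hQ hc ψ₀ h₁ h₂).pX x)⁻¹) f ∧
      (∀ (y s : ↥S), (mkData hQ hc ψ₀ h₁ h₂).lmX y x = (mkData hQ hc ψ₀ h₁ h₂).rmX x s → f y = s) ∧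
      (∀ q : ↥Q, f q = (((mkData hQ hc ψ₀ h₁ h₂).pX x)⁻¹ q : ↥Q)) := by
  revert x
  refine MData.xx_ind _ fun d u v => ?_
  obtain ⟨r, hr⟩ : ∃ r, r = (mkData hQ hc ψ₀ h₁ h₂).rr d := ⟨_, rfl⟩
  have hrA : r ∈ F.autGroup Q := by
    rw [hr]
    exact (mkData hQ hc ψ₀ h₁ h₂).rr_mem d
  have hψ := h₁ r hrA
  obtain ⟨g, hgI, hg1, hg2⟩ := (Iso.of_mp hψ).inv
  have hpX : (mkData hQ hc ψ₀ h₁ h₂).pX ((mkData hQ hc ψ₀ h₁ h₂).xmk d u v) = cQ hQ u * r * cQ hQ v := by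
    rw [hr]
    rfl
  rw [hpX]
  have hmaps : ∀ y ∈ NO hQ (cQ hQ u * r * cQ hQ v)⁻¹, (u : Ω)⁻¹ * y * u ∈ hψ.img := by
    intro y hy
    obtain ⟨hyS, s, hs⟩ := (mem_NO hQ).mp hy
    have h3 : ((u : Ω)⁻¹ * y * u) ∈ S := S.mul_mem (S.mul_mem (S.inv_mem u.2) hyS) u.2
    have h4 : (⟨_, h3⟩ : ↥S) ∈ (mkData hQ hc ψ₀ h₁ h₂).N r⁻¹ := by
      refine ⟨v * s * v⁻¹, ?_⟩
      have e1 : cQ hQ ⟨_, h3⟩ = (cQ hQ u)⁻¹ * cQ hQ ⟨y, hyS⟩ * cQ hQ u := by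
        rw [← map_inv, ← map_mul, ← map_mul]
        rfl
      show cQ hQ (v * s * v⁻¹) = r⁻¹ * cQ hQ ⟨_, h3⟩ * r⁻¹⁻¹
      rw [e1, map_mul, map_mul, map_inv, hs, inv_inv, inv_inv]
      group
    obtain ⟨t, ht, hte⟩ := MData.ψ_surj _ hrA h4
    refine (Mp.mem_img hψ).mpr ⟨t, (mem_N_iff_NO hQ hc ψ₀ h₁ h₂).mp ht, ?_⟩
    rw [← psi_coe hQ hc ψ₀ h₁ h₂ hrA ht, hte]
  have hNS := NO_le hQ (cQ hQ u * r * cQ hQ v)⁻¹
  have hc1 : Mp F (NO hQ (cQ hQ u * r * cQ hQ v)⁻¹) (fun y => (u : Ω)⁻¹ * y * u) :=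
    (Mp.conj hNS (S.inv_mem u.2)).congr fun y _ => by simp
  have hc2 : Mp F S (fun y => (v : Ω)⁻¹ * y * v) :=
    (Mp.conj (le_refl S) (S.inv_mem v.2)).congr fun y _ => by simp
  have hc3 := hc1.comp hmaps hgI.mp
  have hc4 := hc3.comp (fun y hy => by
    exact hgI.mp.mem (hmaps y hy)) hc2
  refine ⟨_, hc4, ?_, ?_⟩
  · intro y s h
    have h5 := (MData.xmk_eq_iff _).mp h
    obtain ⟨-, t, ht, h6, h7⟩ := h5
    rw [← hr] at ht h6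
    have htN : (t : Ω) ∈ NO hQ r := (mem_N_iff_NO hQ hc ψ₀ h₁ h₂).mp ht
    have h8 : (u : Ω) = y * u * ψ₀ r t := by
      have := congrArg Subtype.val h6
      rw [Subgroup.coe_mul, psi_coe hQ hc ψ₀ h₁ h₂ hrA ht] at this
      exact this
    have h9 : (v : Ω) * s = (t : Ω)⁻¹ * v := congrArg Subtype.val h7
    have h10 : (u : Ω)⁻¹ * y * u = ψ₀ r (t : Ω)⁻¹ := by
      rw [hψ.map_inv htN]
      have : (ψ₀ r t) = ((y : Ω) * u)⁻¹ * u := by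
        rw [eq_inv_mul_iff_mul_eq]
        exact h8.symm
      rw [this]
      group
    simp only [Function.comp]
    rw [h10, hg1 _ ((NO hQ r).inv_mem htN)]
    rw [mul_assoc, ← h9]
    group
  · intro q
    simp only [Function.comp]
    have hq₁ : (u : Ω)⁻¹ * q * u = (((cQ hQ u)⁻¹ q : ↥Q) : Ω) := (cQ_inv_apply hQ u q).symm
    have hq₂ : (((cQ hQ u)⁻¹ q : ↥Q) : Ω) = ψ₀ r ((r⁻¹ ((cQ hQ u)⁻¹ q) : ↥Q) : Ω) := by
      rw [h₂ r hrA, MulAut.apply_inv_self]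
    rw [hq₁, hq₂, hg1 _ (le_NO hQ r (r⁻¹ ((cQ hQ u)⁻¹ q)).2)]
    have e : (cQ hQ u * r * cQ hQ v)⁻¹ q = (cQ hQ v)⁻¹ (r⁻¹ ((cQ hQ u)⁻¹ q)) := by
      rw [mul_inv_rev, mul_inv_rev]
      rfl
    rw [e, cQ_inv_apply]

include hS hF in
/-- The key property of the biset. -/
theorem core_holds : (DD).biset.Core := by
  intro b hb x₀
  obtain ⟨x₂, hx₂⟩ := (DD).biset.p_surj (b * (DD).biset.p x₀) (mul_mem hb ((DD).biset.p_mem x₀))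
  have hx₂' : (DD).pX x₂ = b * (DD).pX x₀ := hx₂
  obtain ⟨f₀, hf₀, hf₀s, hf₀q⟩ := exists_phi_map hQ hc ψ₀ h₁ h₂ x₀
  obtain ⟨f₂, hf₂, hf₂s, hf₂q⟩ := exists_phi_map hQ hc ψ₀ h₁ h₂ x₂
  have hψb := h₁ b hb
  have hQR : Q ≤ NO hQ b ⊓ NO hQ ((DD).pX x₀)⁻¹ := le_inf (le_NO hQ _) (le_NO hQ _)
  have hmaps : ∀ y ∈ NO hQ b ⊓ NO hQ ((DD).pX x₀)⁻¹, ψ₀ b y ∈ NO hQ ((DD).pX x₂)⁻¹ := by
    rintro y ⟨hy1, hy2⟩
    obtain ⟨hyS, hyN⟩ := (mem_NO hQ).mp hy1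
    obtain ⟨hyS', s, hs⟩ := (mem_NO hQ).mp hy2
    have h3 : (⟨y, hyS⟩ : ↥S) ∈ (DD).N b := hyN
    have h4 := (DD).hψc b hb ⟨y, hyS⟩ h3
    have h5 : ((DD).ψ b ⟨y, hyS⟩ : Ω) = ψ₀ b y := psi_coe hQ hc ψ₀ h₁ h₂ hb h3
    rw [← h5]
    refine (mem_NO hQ).mpr ⟨((DD).ψ b ⟨y, hyS⟩).2, s, ?_⟩
    have h6 : cQ hQ ((DD).ψ b ⟨y, hyS⟩) = b * cQ hQ ⟨y, hyS⟩ * b⁻¹ := h4
    have h7 : (⟨((DD).ψ b ⟨y, hyS⟩ : Ω), ((DD).ψ b ⟨y, hyS⟩).2⟩ : ↥S) = (DD).ψ b ⟨y, hyS⟩ := rfl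
    rw [h7, h6, hs, hx₂']
    group
  have hcomp := (hψb.restrict inf_le_left).comp hmaps hf₂
  have hf₀R := hf₀.restrict (R := NO hQ b ⊓ NO hQ ((DD).pX x₀)⁻¹) inf_le_right
  obtain ⟨z, hzQ, hz1, hz2⟩ := uniq_of_normal hS hF hQ hc hQR hcomp hf₀R (by
    intro x hx
    simp only [Function.comp]
    rw [h₂ b hb ⟨x, hx⟩, hf₂q, hf₀q ⟨x, hx⟩, hx₂', mul_inv_rev]
    show _ = ((((DD).pX x₀)⁻¹ ⟨x, hx⟩ : ↥Q) : Ω)
    show ((((DD).pX x₀)⁻¹ (b⁻¹ (b ⟨x, hx⟩)) : ↥Q) : Ω) = _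
    rw [MulAut.inv_apply_self])
  obtain ⟨zb, hzb⟩ : ∃ zb : ↥S, zb = ⟨z, hQ.1 hzQ⟩ := ⟨_, rfl⟩
  have hczb : cQ hQ zb = 1 := by
    ext t
    rw [hzb, cQ_apply]
    show z * (t : Ω) * z⁻¹ = t
    rw [hz1 t t.2]
    group
  refine ⟨(DD).rmX x₂ zb⁻¹, ?_, fun y hy s h => ?_⟩
  · show (DD).biset.p ((DD).biset.rm x₂ zb⁻¹) = _
    rw [(DD).biset.p_rm, hx₂]
    have : (DD).c zb⁻¹ = 1 := by
      show cQ hQ zb⁻¹ = 1
      rw [map_inv, hczb, inv_one]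
    rw [this, mul_one]
  · have hy0 := (DD).biset.mem_of_phi h
    have hyR : (y : Ω) ∈ NO hQ b ⊓ NO hQ ((DD).pX x₀)⁻¹ :=
      ⟨(mem_N_iff_NO hQ hc ψ₀ h₁ h₂).mp hy, (mem_N_iff_NO hQ hc ψ₀ h₁ h₂).mp hy0⟩
    have h3 := hf₀s y s h
    have h4 := hz2 y hyR
    simp only [Function.comp] at h4
    have hy1 : (DD).ψ b y ∈ (DD).N ((DD).pX x₂)⁻¹ := (mem_N_iff_NO hQ hc ψ₀ h₁ h₂).mpr (by
      rw [psi_coe hQ hc ψ₀ h₁ h₂ hb hy]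
      exact hmaps y hyR)
    obtain ⟨s₂, hs₂⟩ := (DD).biset.exists_phi hy1
    have h5 := hf₂s _ s₂ hs₂
    rw [psi_coe hQ hc ψ₀ h₁ h₂ hb hy] at h5
    rw [h3, h5] at h4
    have h6 : s = zb * s₂ * zb⁻¹ := by
      apply Subtype.ext
      rw [h4, hzb]
      rfl
    show (DD).biset.lm _ ((DD).biset.rm x₂ zb⁻¹) = (DD).biset.rm ((DD).biset.rm x₂ zb⁻¹) s
    rw [(DD).biset.lm_rm, hs₂, ← (DD).biset.rm_mul, ← (DD).biset.rm_mul, h6]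
    congr 1
    group

include hS hF in
/-- **Model Theorem, construction.** -/
theorem exists_model_group :
    ∃ (G : Type u) (_ : Group G) (_ : Finite G) (i : ↥S →* G) (π : G →* MulAut ↥Q),
      Function.Injective i ∧ (∀ s, π (i s) = (DD).c s) ∧ (∀ g, π g ∈ (DD).A) ∧
      (∀ g, π g = 1 → ∃ z : Subgroup.center ↥Q, g = i ((DD).j z)) ∧
      (∀ g x, g * i ((DD).j x) * g⁻¹ = i ((DD).j (π g x))) ∧
      (∀ a ∈ (DD).A, ∃ g, π g = a ∧ ∀ y ∈ (DD).N a, g * i y * g⁻¹ = i ((DD).ψ a y)) := by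
  have hfinQ : Finite ↥Q := finite_of_le hQ.1
  have hZ : IsPGroup p (Subgroup.center ↥Q) := IsPGroup.to_subgroup (hS.to_le hQ.1) _
  refine (DD).biset.exists_group hZ ?_ (core_holds hS hF hQ hc ψ₀ h₁ h₂)
  obtain ⟨-, R, hR⟩ := (far_of_normal hS hF hQ).auto
  have h1 : (DD).c.range = autInducedBy S Q := range_cQ hQ
  show ¬ p ∣ ((DD).c.range.subgroupOf (F.autGroup Q)).index
  rw [h1, ← hR]
  exact R.not_dvd_index

end Core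

theorem conj_of_mp (hQ : F.IsNormal Q) (hQR : Q ≤ R) (hf : Mp F R f) {a : MulAut ↥Q} (hfa : ∀ x : ↥Q, f x = a x) {y : Ω}
    (hy : y ∈ R) (hyS : y ∈ S) (hfy : f y ∈ S) : a * cQ hQ ⟨y, hyS⟩ * a⁻¹ = cQ hQ ⟨f y, hfy⟩ := by
  ext x
  obtain ⟨x₀, rfl⟩ : ∃ x₀, x = a x₀ := ⟨a⁻¹ x, by simp⟩
  show ((a (cQ hQ ⟨y, hyS⟩ (a⁻¹ (a x₀))) : ↥Q) : Ω) = f y * ((a x₀ : ↥Q) : Ω) * (f y)⁻¹
  rw [MulAut.inv_apply_self, ← hfa (cQ hQ ⟨y, hyS⟩ x₀), ← hfa x₀]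
  show f (y * (x₀ : Ω) * y⁻¹) = _
  rw [hf.map_mul (R.mul_mem hy (hQR x₀.2)) (R.inv_mem hy), hf.map_mul hy (hQR x₀.2), hf.map_inv hy]

/-- **The Model Theorem: existence.** -/
theorem exists_model [Finite S] [Fact p.Prime] (hS : IsPGroup p S) (hF : F.IsConstrained p) :
    ∃ (G : Type u) (_ : Group G) (ι : ↥S →* G), F.IsModel p G ι := by
  classical
  obtain ⟨hsat, Q, hQ, hc⟩ := hF
  have hex : ∀ a : MulAut ↥Q, ∃ h : Ω → Ω, a ∈ F.autGroup Q → Mp F (NO hQ a) h ∧ ∀ x : ↥Q, h x = a x := by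
    intro a
    by_cases ha : a ∈ F.autGroup Q
    · obtain ⟨h, h1, h2⟩ := exists_ext_NO hS hsat hQ ha
      exact ⟨h, fun _ => ⟨h1, h2⟩⟩
    · exact ⟨id, fun h => absurd h ha⟩
  choose ψ₀ hψ₀ using hex
  have h₁ : ∀ a ∈ F.autGroup Q, Mp F (NO hQ a) (ψ₀ a) := fun a ha => (hψ₀ a ha).1
  have h₂ : ∀ a ∈ F.autGroup Q, ∀ x : ↥Q, ψ₀ a x = a x := fun a ha => (hψ₀ a ha).2
  obtain ⟨G, inst, hfin, i, π, hi, hπc, hπA, hπ1, hconj, hlift⟩ := exists_model_group hS hsat hQ hc ψ₀ h₁ h₂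
  have hSN := normal_SN hQ
  refine ⟨G, inst, i, hfin, ⟨hi, fun P hP φ hφ => ⟨fun hφF => ?_, ?_⟩⟩, ?_, ?_⟩
  · -- a map of the system is induced by an element of `G`
    have hm := mp_of_mem hφF
    obtain ⟨fh, hfh, hfh1, hfh2⟩ := normal_ext hQ hm
    have hI : Iso F Q Q fh := ⟨hfh.restrict le_sup_right, hfh2.1, hfh2.2⟩
    have ha := autOfIso_mem hI
    have hafh : ∀ x : ↥Q, fh x = (autOfIso hI) x := fun x => (autOfIso_apply hI x).symm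
    have hle : P ⊔ Q ≤ NO hQ (autOfIso hI) := by
      intro y hy
      have hyS : y ∈ S := hfh.le hy
      refine (mem_NO hQ).mpr ⟨hyS, ⟨fh y, hfh.mem hy⟩, ?_⟩
      exact (conj_of_mp hQ le_sup_right hfh hafh hy hyS (hfh.mem hy)).symm
    obtain ⟨z, hzQ, hz1, hz2⟩ := uniq_of_normal hS hsat hQ hc le_sup_right ((h₁ _ ha).restrict hle) hfh (by
      intro x hx
      rw [h₂ _ ha ⟨x, hx⟩, hafh ⟨x, hx⟩])
    obtain ⟨g₀, hg₀, hg₀'⟩ := hlift _ ha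
    refine ⟨i ⟨z, hQ.1 hzQ⟩ * g₀, fun x => ?_⟩
    have hxN : (⟨x, hP x.2⟩ : ↥S) ∈ (mkData hQ hc ψ₀ h₁ h₂).N (autOfIso hI) :=
      (mem_N_iff_NO hQ hc ψ₀ h₁ h₂).mpr (hle (Subgroup.mem_sup_left x.2))
    have h1 := hg₀' _ hxN
    have h2 : (⟨φ x, hφ x⟩ : ↥S) = ⟨z, hQ.1 hzQ⟩ * (mkData hQ hc ψ₀ h₁ h₂).ψ (autOfIso hI) ⟨x, hP x.2⟩ * (⟨z, hQ.1 hzQ⟩)⁻¹ := by
      apply Subtype.ext
      show φ x = z * (((mkData hQ hc ψ₀ h₁ h₂).ψ (autOfIso hI) ⟨x, hP x.2⟩ : ↥S) : Ω) * z⁻¹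
      rw [psi_coe hQ hc ψ₀ h₁ h₂ ha hxN, ← toFun_coe φ x, ← hfh1 x x.2, hz2 x (Subgroup.mem_sup_left x.2)]
    rw [h2, map_mul, map_mul, map_inv, ← h1]
    group
  · rintro ⟨g, hg⟩
    have ha := hπA g
    obtain ⟨g₀, hg₀, hg₀'⟩ := hlift _ ha
    obtain ⟨z, hz⟩ := hπ1 (g * g₀⁻¹) (by rw [map_mul, map_inv, hg₀, mul_inv_cancel])
    have hgz : g = i ((mkData hQ hc ψ₀ h₁ h₂).j z) * g₀ := by rw [← hz]; group
    have hcφ : ∀ x : P, π g * cQ hQ ⟨x, hP x.2⟩ * (π g)⁻¹ = cQ hQ ⟨φ x, hφ x⟩ := by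
      intro x
      have h1 := congrArg π (hg x)
      rw [map_mul, map_mul, map_inv] at h1
      rw [hπc, hπc] at h1
      exact h1.symm
    have hxN : ∀ x : P, (⟨x, hP x.2⟩ : ↥S) ∈ (mkData hQ hc ψ₀ h₁ h₂).N (π g) := by
      intro x
      rw [MData.mem_N]
      exact ⟨⟨φ x, hφ x⟩, (hcφ x).symm⟩
    have hPN : P ≤ NO hQ (π g) := fun x hx => (mem_N_iff_NO hQ hc ψ₀ h₁ h₂).mp (hxN ⟨x, hx⟩)
    have hzS : (((mkData hQ hc ψ₀ h₁ h₂).j z : ↥S) : Ω) ∈ S := Subtype.property _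
    have hm := ((h₁ _ ha).restrict hPN).comp (fun x hx => (h₁ _ ha).mem (hPN hx)) (Mp.conj (le_refl S) hzS)
    refine hm.mem_hom fun x => ?_
    have h1 := hg₀' _ (hxN x)
    have h2 : (⟨φ x, hφ x⟩ : ↥S) = (mkData hQ hc ψ₀ h₁ h₂).j z * (mkData hQ hc ψ₀ h₁ h₂).ψ (π g) ⟨x, hP x.2⟩ * ((mkData hQ hc ψ₀ h₁ h₂).j z)⁻¹ := by
      apply hi
      rw [hg x, map_mul, map_mul, map_inv, ← h1, hgz]
      group
    have h3 := congrArg Subtype.val h2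
    rw [Subgroup.coe_mul, Subgroup.coe_mul, psi_coe hQ hc ψ₀ h₁ h₂ ha (hxN x)] at h3
    exact h3
  · -- Sylow
    have hpg : IsPGroup p i.range := hS.of_surjective i.rangeRestrict i.rangeRestrict_surjective
    have hrange : π.range = F.autGroup Q := by
      apply le_antisymm
      · rintro _ ⟨g, rfl⟩
        exact hπA g
      · intro a ha
        obtain ⟨g, hg, -⟩ := hlift a ha
        exact ⟨g, hg⟩
    have hcomap : i.range = (cQ hQ).range.comap π := by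
      apply le_antisymm
      · rintro _ ⟨s, rfl⟩
        exact ⟨s, (hπc s).symm⟩
      · rintro g ⟨s, hs⟩
        obtain ⟨z, hz⟩ := hπ1 (g * (i s)⁻¹) (by
          rw [map_mul, map_inv, hπc, ← hs]
          exact mul_inv_cancel _)
        refine ⟨(mkData hQ hc ψ₀ h₁ h₂).j z * s, ?_⟩
        rw [map_mul, ← hz]
        group
    have hidx : ¬ p ∣ i.range.index := by
      have hfinQ : Finite ↥Q := finite_of_le hQ.1
      obtain ⟨-, R, hR⟩ := (far_of_normal hS hsat hQ).auto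
      rw [hcomap, Subgroup.index_comap, hrange, range_cQ hQ, Subgroup.relIndex, ← hR]
      exact R.not_dvd_index
    exact ⟨hpg.toSylow hidx, IsPGroup.toSylow_coe hpg hidx⟩
  · -- self-centralizing
    have hj : ∀ x : ↥Q, i ((mkData hQ hc ψ₀ h₁ h₂).j x) ∈ ((mkData hQ hc ψ₀ h₁ h₂).j.comp (⊤ : Subgroup ↥Q).subtype |> i.comp).range :=
      fun x => ⟨⟨x, Subgroup.mem_top x⟩, rfl⟩
    have hnorm : ((mkData hQ hc ψ₀ h₁ h₂).j.comp (⊤ : Subgroup ↥Q).subtype |> i.comp).range.Normal := by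
      constructor
      rintro _ ⟨⟨x, -⟩, rfl⟩ g
      show g * i ((mkData hQ hc ψ₀ h₁ h₂).j x) * g⁻¹ ∈ _
      rw [hconj]
      exact hj _
    have hpc : IsPGroup p ((mkData hQ hc ψ₀ h₁ h₂).j.comp (⊤ : Subgroup ↥Q).subtype |> i.comp).range := by
      have hQp : IsPGroup p (⊤ : Subgroup ↥Q) := IsPGroup.to_subgroup (hS.to_le hQ.1) _
      exact hQp.of_surjective (MonoidHom.rangeRestrict _) (MonoidHom.rangeRestrict_surjective _)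
    have hle := le_pCore hnorm hpc
    intro g hg
    have h1 : π g = 1 := by
      ext x
      have h2 : i ((mkData hQ hc ψ₀ h₁ h₂).j x) * g = g * i ((mkData hQ hc ψ₀ h₁ h₂).j x) :=
        Subgroup.mem_centralizer_iff.mp hg _ (hle (hj x))
      have h3 := hconj g x
      rw [← h2, mul_inv_cancel_right] at h3
      have h4 := (mkData hQ hc ψ₀ h₁ h₂).hj (hi h3)
      rw [← h4]
      rfl
    obtain ⟨z, rfl⟩ := hπ1 g h1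
    exact hle (hj _)

end Cfsg.Agent.H25
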