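import Cfsg.Agent.Lib.H25.FusBad
import Cfsg.Agent.Lib.H25.FusModel

set_option autoImplicit false

/-! The induction for control of elements of the centre by a characteristic functor. -/

namespace Cfsg.Agent.H25

open Cfsg Cfsg.FusionSystem

universe u

variable {Ω : Type u} [Group Ω] {S : Subgroup Ω} {F : FusionSystem S}
variable {P Q R T : Subgroup Ω} {f g h : Ω → Ω} {p : ℕ}
variable {W : ∀ (Q : Type u) [Group Q], Subgroup Q}

/-- The local hypothesis. -/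
def LocalFix (p k : ℕ) (W : ∀ (Q : Type u) [Group Q], Subgroup Q) : Prop :=
  ∀ (G : Type u) [Group G] [Finite G] (T : Sylow p G),
    Subgroup.centralizer ((pCore p G : Subgroup G) : Set G) ≤ pCore p G →
    ∀ z ∈ pCore p G, z ∈ powerClosure p k ((T : Subgroup G) ⊓ Subgroup.centralizer ((T : Subgroup G) : Set G)) →
    (∀ g ∈ Subgroup.normalizer ((WW W (T : Subgroup G) : Subgroup G) : Set G), g * z * g⁻¹ = z) →
    (∀ R : Subgroup G, pCore p G < R → R ≤ T → (T : Subgroup G) ≤ Subgroup.normalizer (R : Set G) →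
      ∀ g ∈ Subgroup.normalizer (R : Set G), g * z * g⁻¹ = z) →
    ∀ g, g * z * g⁻¹ = z

/-- The inductive statement. -/
def MH (p k : ℕ) (W : ∀ (Q : Type u) [Group Q], Subgroup Q) (n : ℕ) : Prop :=
  ∀ (Ω' : Type u) [Group Ω'] (S' : Subgroup Ω') [Finite S'] (F' : FusionSystem S') (z' : Ω'), Nat.card S' < n → IsPGroup p S' →
    F'.IsSaturated p → z' ∈ powerClosure p k (S' ⊓ Subgroup.centralizer (S' : Set Ω')) → Moves F' z' →
      Moves (NSys F' (WW W S') (WW_le S')) z'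

theorem ne_one_of_moved {T' : Subgroup Ω} {E : FusionSystem T'} {z : Ω} (hf : Mp E P f) (hne : f z ≠ z) : z ≠ 1 := by
  rintro rfl
  exact hne hf.map_one

theorem moves_nsys_of_iso {z : Ω} (hR : R ≤ S) (hI : Iso F R R g) (hz : z ∈ R) (hne : g z ≠ z) : Moves (NSys F R hR) z :=
  ⟨R, g, mp_NSys_of_ge hR le_rfl hI.mp (le_normalizerIn hR) ⟨hI.maps, hI.surj⟩, hz, hne⟩

section Factor

variable [Finite S] [Fact p.Prime]

/-- Non-moving descends to the factor system. -/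
theorem factor_not_moves {Ω' : Type*} [Group Ω'] {S' : Subgroup Ω'} {E₀ : FusionSystem S} {E₁ : FusionSystem S'} {α : ↥S →* Ω'}
    (hmor : E₀.IsSurjectiveMorphism E₁ α) {W' : Subgroup Ω'} (hW' : W' ≤ S') (hRS : preimageAlong α W' ≤ S)
    (hRN : S ≤ Subgroup.normalizer (preimageAlong α W' : Set Ω))
    (hle : ∀ (P : Subgroup Ω) f, Mp E₀ P f → Mp F P f) {z : Ω} (hzS : z ∈ S)
    (hno : ¬ Moves (NSys F (preimageAlong α W') hRS) z) : ¬ Moves (NSys E₁ W' hW') (α ⟨z, hzS⟩) := by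
  rintro ⟨A, fb, hfb, hzA, hne⟩
  obtain ⟨hm1, hA, hA', ĥ, hĥ, hĥf, hg⟩ := (mp_NSys_iff hW').mp hfb
  have hAS' : A ≤ S' := hm1.le
  obtain ⟨φ', hφ', hφ'ĥ⟩ := hĥ
  obtain ⟨φ, hφ, hPB, hv, hP', hind⟩ := hmor.2.2 (A ⊔ W') (sup_le hAS' hW') φ' hφ'
  have hFm : Mp F (preimageAlong α (A ⊔ W')) (toFun φ) := hle _ _ (mp_of_mem hφ)
  have hmemB : ∀ x (hx : x ∈ S), α ⟨x, hx⟩ ∈ A ⊔ W' → x ∈ preimageAlong α (A ⊔ W') := fun x hx h =>
    H24.mem_preimageAlong.2 ⟨hx, h⟩
  have hindv : ∀ (x : Ω) (hx : x ∈ preimageAlong α (A ⊔ W')),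
      α ⟨toFun φ x, hFm.mem hx⟩ = ĥ (α ⟨x, hPB hx⟩) := by
    intro x hx
    have h1 := hind ⟨x, hx⟩
    have h2 : (⟨toFun φ x, hFm.mem hx⟩ : ↥S) = ⟨φ ⟨x, hx⟩, hv _⟩ := Subtype.ext (toFun_coe φ ⟨x, hx⟩)
    rw [h2, ← h1, hφ'ĥ]
  have hRB : preimageAlong α W' ≤ preimageAlong α (A ⊔ W') := by
    intro x hx
    obtain ⟨hxS, hx'⟩ := H24.mem_preimageAlong.1 hx
    exact hmemB x hxS (Subgroup.mem_sup_right hx')
  have hRm : ∀ x ∈ preimageAlong α W', toFun φ x ∈ preimageAlong α W' := by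
    intro x hx
    obtain ⟨hxS, hx'⟩ := H24.mem_preimageAlong.1 hx
    refine H24.mem_preimageAlong.2 ⟨hFm.mem (hRB hx), ?_⟩
    rw [hindv x (hRB hx)]
    exact hg.1 _ hx'
  haveI hfin2 : Finite (preimageAlong α W') := finite_of_le (hRB.trans hFm.le)
  have hRI : Iso F (preimageAlong α W') (preimageAlong α W') (toFun φ) := Iso.of_maps (hFm.restrict hRB) hRm
  have hgood : GoodN (preimageAlong α W') (toFun φ) := ⟨hRm, hRI.surj⟩
  have hzB : z ∈ preimageAlong α (A ⊔ W') := hmemB z hzS (Subgroup.mem_sup_left hzA)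
  refine hno ⟨_, toFun φ, mp_NSys_of_ge hRS hRB hFm (le_inf hFm.le (hFm.le.trans hRN)) hgood, hzB, fun heq => hne ?_⟩
  have h1 := hindv z hzB
  have h2 : (⟨toFun φ z, hFm.mem hzB⟩ : ↥S) = ⟨z, hzS⟩ := Subtype.ext heq
  rw [h2, hĥf _ hzA] at h1
  exact h1.symm

/-- A bad subgroup with `N_S(Q) < S` yields a bad subgroup with a larger normalizer. -/
theorem bad_step_lt {k : ℕ} (hW : FunctorHyp p W) (hS : IsPGroup p S) (hF : F.IsSaturated p) (hIH : MH.{u} p k W (Nat.card S)) {z : Ω}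
    (hz : z ∈ powerClosure p k (S ⊓ Subgroup.centralizer (S : Set Ω))) (hQS : Q ≤ S)
    (hQ : F.IsFullyNormalized Q) (hne : Q ≠ ⊥) (hmv : Moves (NSys F Q hQS) z) (hT : normalizerIn S Q ≠ S)
    (hlarge : ∀ (P : Subgroup Ω) (f : Ω → Ω), Mp F P f → z ∈ P → Nat.card (normalizerIn S Q) < Nat.card P → f z = z) :
    ∃ (X' : Subgroup Ω) (hX'S : X' ≤ S), X' ≠ ⊥ ∧ F.IsFullyNormalized X' ∧ Moves (NSys F X' hX'S) z ∧
      Nat.card (normalizerIn S Q) < Nat.card (normalizerIn S X') := by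
  classical
  have hZ : z ∈ S ⊓ Subgroup.centralizer (S : Set Ω) := pc_le (p := p) (k := k) _ hz
  have hzS : z ∈ S := hZ.1
  have hzc : ∀ s ∈ S, s * z = z * s := fun s hs => Subgroup.mem_centralizer_iff.mp hZ.2 s hs
  have hTS : normalizerIn S Q ≤ S := inf_le_left
  have hTlt : normalizerIn S Q < S := lt_of_le_of_ne hTS hT
  haveI hTfin : Finite (normalizerIn S Q) := finite_of_le hTS
  have hTp : IsPGroup p (normalizerIn S Q) := hS.to_le hTS
  have hfar : Far F p Q := far_of_fullyNormalized hS hF hQ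
  have hEsat : (NSys F Q hQS).IsSaturated p := NSys_saturated hS hF hfar
  have hQT : Q ≤ normalizerIn S Q := le_normalizerIn hQS
  have hcardT : Nat.card (normalizerIn S Q) < Nat.card S :=
    lt_of_le_of_ne (Subgroup.card_le_of_le hTS) fun h => hT (Subgroup.eq_of_le_of_card_ge hTS h.ge)
  have hzT : z ∈ powerClosure p k (normalizerIn S Q ⊓ Subgroup.centralizer (normalizerIn S Q : Set Ω)) := by
    refine pc_mono ?_ hz
    intro y hy
    refine ⟨mem_normalizerIn_of_central hy.1 (fun s hs => Subgroup.mem_centralizer_iff.mp hy.2 s hs) hQS, ?_⟩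
    exact Subgroup.centralizer_le (fun s hs => hTS hs) hy.2
  obtain ⟨A, f, hf, hzA, hfz⟩ := hIH Ω (normalizerIn S Q) (NSys F Q hQS) z hcardT hTp hEsat hzT hmv
  have hW₁T : WW W (normalizerIn S Q) ≤ normalizerIn S Q := WW_le _
  obtain ⟨hmE, hA, hfA, ĥ, hĥ, hĥf, hg⟩ := (mp_NSys_iff hW₁T).mp hf
  have hW₁S : WW W (normalizerIn S Q) ≤ S := hW₁T.trans hTS
  obtain ⟨W', hconj, hW'⟩ := H24.exists_fullyNormalized_conj (F := F) hW₁S
  have hFm : Mp F (A ⊔ WW W (normalizerIn S Q)) ĥ := NSys.mp_F hQS hĥ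
  have hNle : normalizerIn (normalizerIn S Q) (WW W (normalizerIn S Q)) ≤ normalizerIn S (WW W (normalizerIn S Q)) :=
    inf_le_inf_right _ hTS
  have hP : A ⊔ WW W (normalizerIn S Q) ≤ normalizerIn S (WW W (normalizerIn S Q)) :=
    sup_le (hA.trans hNle) (le_normalizerIn hW₁S)
  have hfN : ∀ x ∈ A ⊔ WW W (normalizerIn S Q), ĥ x ∈ normalizerIn S (WW W (normalizerIn S Q)) := by
    have h1 := hFm.sup_maps (A₁ := normalizerIn S (WW W (normalizerIn S Q))) (B₁ := normalizerIn S (WW W (normalizerIn S Q)))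
      (fun x hx => by rw [hĥf x hx]; exact hNle (hfA x hx)) (fun x hx => le_normalizerIn hW₁S (hg.1 x hx))
    rwa [sup_idem] at h1
  obtain ⟨χ, hχ, f', hf', hind⟩ := nsys_transport hS hF hW' hconj le_sup_right hP hFm hfN hg
  -- normalizers grow
  have hlt : Nat.card (normalizerIn S Q) < Nat.card (normalizerIn S (WW W (normalizerIn S Q))) := by
    obtain ⟨g, hg1, hg2⟩ := H24.exists_mem_normalizerIn hS hTlt
    have hle : normalizerIn S (normalizerIn S Q) ≤ normalizerIn S (WW W (normalizerIn S Q)) :=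
      inf_le_inf_left _ (fun _ hx => WW_conj hW hTp hx)
    have hlt : normalizerIn S Q < normalizerIn S (WW W (normalizerIn S Q)) := by
      refine lt_of_le_of_ne ((le_normalizerIn hTS).trans hle) fun h => hg2 ?_
      rw [h]
      exact hle hg1
    haveI : Finite (normalizerIn S (WW W (normalizerIn S Q))) := finite_of_le inf_le_left
    exact lt_of_le_of_ne (Subgroup.card_le_of_le hlt.le) fun h => hlt.ne (Subgroup.eq_of_le_of_card_ge hlt.le h.ge)
  have hzN : z ∈ normalizerIn S (WW W (normalizerIn S Q)) := mem_normalizerIn_of_central hzS hzc hW₁S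
  have hχz : χ z = z := hlarge _ _ hχ hzN hlt
  have hzP : z ∈ A ⊔ WW W (normalizerIn S Q) := Subgroup.mem_sup_left hzA
  refine ⟨W', hW'.1, ?_, hW', ⟨_, f', hf', (Mp.mem_img _).mpr ⟨z, hzP, hχz⟩, ?_⟩, hlt.trans_le (hW'.2 _ (H24.IsConj.symm' hconj))⟩
  · intro h
    have hc := H24.IsConj.card_eq hconj
    rw [h] at hc
    have hb : WW W (normalizerIn S Q) = ⊥ := Subgroup.eq_bot_of_card_eq _ (by rw [hc, Subgroup.card_bot])
    refine WW_ne_bot hW hTp ?_ hb
    intro h2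
    rw [h2] at hQT
    exact hne (le_bot_iff.mp hQT)
  · have h1 := hind z hzP
    rw [hχz] at h1
    rw [h1, hĥf z hzA]
    intro h2
    have h3 : χ (f z) = χ z := by rw [h2, hχz]
    have hfzN : f z ∈ normalizerIn S (WW W (normalizerIn S Q)) := hNle (hfA z hzA)
    exact hfz (hχ.inj hfzN hzN h3)

section Normal

/-- The case when `Q` is normal in `S`, and `z` is not in `Q`. -/
theorem normal_not_mem {k : ℕ} (hW : FunctorHyp p W) (hS : IsPGroup p S) (hF : F.IsSaturated p) (hIH : MH.{u} p k W (Nat.card S)) {z : Ω}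
    (hz : z ∈ powerClosure p k (S ⊓ Subgroup.centralizer (S : Set Ω))) (hQS : Q ≤ S) (hSN : S ≤ Subgroup.normalizer (Q : Set Ω))
    (hne : Q ≠ ⊥) (hsat : (normSys F Q S hQS le_rfl hSN).IsSaturated p)
    (hmax : ∀ (R : Subgroup Ω) (hRS : R ≤ S), Q < R → S ≤ Subgroup.normalizer (R : Set Ω) → ¬ Moves (NSys F R hRS) z)
    (hmv : Moves (normSys F Q S hQS le_rfl hSN) z) (hzQ : z ∉ Q) : False := by
  classical
  have hZ : z ∈ S ⊓ Subgroup.centralizer (S : Set Ω) := pc_le (p := p) (k := k) _ hz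
  have hzS : z ∈ S := hZ.1
  have hzc : ∀ s ∈ S, s * z = z * s := fun s hs => Subgroup.mem_centralizer_iff.mp hZ.2 s hs
  obtain ⟨E₀, hE₀⟩ : ∃ E₀, E₀ = normSys F Q S hQS le_rfl hSN := ⟨_, rfl⟩
  rw [← hE₀] at hsat hmv
  have hQn : E₀.IsNormal Q := by
    rw [hE₀]
    exact isNormal_normSys
  have hleF : ∀ (P : Subgroup Ω) f, Mp E₀ P f → Mp F P f := by
    intro P f h
    rw [hE₀] at h
    exact normSys_mp_F h
  have hQsc := H24.stronglyClosed_of_isNormal hQn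
  haveI hQnorm : (Q.subgroupOf S).Normal := by
    constructor
    intro n hn g
    rw [Subgroup.mem_subgroupOf] at hn ⊢
    exact conj_mem_of_normalizer (hSN g.2) hn
  obtain ⟨E₁, hE₁⟩ := H24.exists_factorSystem_quotient hQsc
  obtain ⟨hmor, hE₁sat, hpS⟩ := H24.factor_facts hS hsat hQsc hE₁
  obtain ⟨α, hα⟩ : ∃ α, α = QuotientGroup.mk' (Q.subgroupOf S) := ⟨_, rfl⟩
  rw [← hα] at hmor
  have hker : ∀ s : S, α s = 1 ↔ (s : Ω) ∈ Q := by
    rw [hα]
    exact hE₁.2.1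
  have hsurj : Function.Surjective α := by
    rw [hα]
    exact QuotientGroup.mk'_surjective _
  have hαrange : α.range = ⊤ := MonoidHom.range_eq_top.mpr hsurj
  have hcardlt : Nat.card (⊤ : Subgroup (S ⧸ Q.subgroupOf S)) < Nat.card S := by
    rw [Subgroup.card_top, Subgroup.card_eq_card_quotient_mul_card_subgroup (Q.subgroupOf S)]
    have h1 : 1 < Nat.card (Q.subgroupOf S) := by
      rw [Subgroup.one_lt_card_iff_ne_bot]
      intro h
      apply hne
      rw [← Subgroup.map_subgroupOf_eq_of_le hQS, h, Subgroup.map_bot]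
    have h2 : 0 < Nat.card (S ⧸ Q.subgroupOf S) := Nat.card_pos
    nlinarith
  have hz₁ : α ⟨z, hzS⟩ ≠ 1 := fun h => hzQ ((hker _).mp h)
  have htopne : (⊤ : Subgroup (S ⧸ Q.subgroupOf S)) ≠ ⊥ := by
    intro h
    have h1 : α ⟨z, hzS⟩ ∈ (⊤ : Subgroup (S ⧸ Q.subgroupOf S)) := Subgroup.mem_top _
    rw [h] at h1
    exact hz₁ (Subgroup.mem_bot.mp h1)
  have hW'ne : WW W (⊤ : Subgroup (S ⧸ Q.subgroupOf S)) ≠ ⊥ := WW_ne_bot hW hpS htopne
  have hW'le : WW W (⊤ : Subgroup (S ⧸ Q.subgroupOf S)) ≤ ⊤ := le_top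
  obtain ⟨W', hW'def⟩ : ∃ W', W' = WW W (⊤ : Subgroup (S ⧸ Q.subgroupOf S)) := ⟨_, rfl⟩
  rw [← hW'def] at hW'ne hW'le
  have hRS : preimageAlong α W' ≤ S := H24.preimageAlong_le _
  have hQR : Q < preimageAlong α W' := by
    have h1 : Q ≤ preimageAlong α W' := by
      intro x hx
      exact H24.mem_preimageAlong.2 ⟨hQS hx, by
        rw [(hker ⟨x, hQS hx⟩).mpr hx]
        exact W'.one_mem⟩
    refine lt_of_le_of_ne h1 fun h => hW'ne ?_
    rw [Subgroup.eq_bot_iff_forall]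
    intro y hy
    obtain ⟨s, rfl⟩ := hsurj y
    have hsR : (s : Ω) ∈ preimageAlong α W' := H24.mem_preimageAlong.2 ⟨s.2, hy⟩
    rw [← h] at hsR
    exact (hker s).mpr hsR
  have hRN : S ≤ Subgroup.normalizer (preimageAlong α W' : Set Ω) := by
    have key : ∀ s ∈ S, ∀ x ∈ preimageAlong α W', s * x * s⁻¹ ∈ preimageAlong α W' := by
      intro s hs x hx
      obtain ⟨hxS, hx'⟩ := H24.mem_preimageAlong.1 hx
      refine H24.mem_preimageAlong.2 ⟨S.mul_mem (S.mul_mem hs hxS) (S.inv_mem hs), ?_⟩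
      have hg : α ⟨s, hs⟩ ∈ Subgroup.normalizer (W' : Set (S ⧸ Q.subgroupOf S)) := by
        rw [hW'def]
        apply WW_conj hW hpS
        exact mem_normalizer_of_conj (fun _ _ => Subgroup.mem_top _) (fun _ _ => Subgroup.mem_top _)
      have h1 := conj_mem_of_normalizer hg hx'
      have h2 : (⟨s * x * s⁻¹, S.mul_mem (S.mul_mem hs hxS) (S.inv_mem hs)⟩ : ↥S) = ⟨s, hs⟩ * ⟨x, hxS⟩ * ⟨s, hs⟩⁻¹ := rfl
      rw [h2, map_mul, map_mul, map_inv]
      exact h1
    intro s hs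
    refine mem_normalizer_of_conj (key s hs) fun x hx => ?_
    simpa using key s⁻¹ (S.inv_mem hs) x hx
  have hno₁ := factor_not_moves hmor hW'le hRS hRN hleF hzS (hmax _ hRS hQR hRN)
  have hz₁pc : α ⟨z, hzS⟩ ∈ powerClosure p k ((⊤ : Subgroup (S ⧸ Q.subgroupOf S)) ⊓
      Subgroup.centralizer ((⊤ : Subgroup (S ⧸ Q.subgroupOf S)) : Set (S ⧸ Q.subgroupOf S))) := pc_map hαrange hz hzS
  have hE₁' : ¬ Moves E₁ (α ⟨z, hzS⟩) := by
    intro h
    have h1 := hIH (S ⧸ Q.subgroupOf S) ⊤ E₁ _ hcardlt hpS hE₁sat hz₁pc h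
    apply hno₁
    subst hW'def
    exact h1
  -- every map of `E₀` moves `z` only modulo `Q`.
  have hmod : ∀ (P : Subgroup Ω) (f : Ω → Ω), Mp E₀ P f → z ∈ P → z⁻¹ * f z ∈ Q := by
    intro P f hf hzP
    obtain ⟨φ, hφ, hφf⟩ := hf
    obtain ⟨φ', hφ', hP, hv, hP', hind⟩ := hmor.1.2 P φ hφ
    have h1 : ¬ (toFun φ' (α ⟨z, hzS⟩) ≠ α ⟨z, hzS⟩) := fun hh =>
      hE₁' ⟨_, _, mp_of_mem hφ', hP' ⟨z, hzP⟩, hh⟩
    push Not at h1
    rw [toFun_coe φ' ⟨_, hP' ⟨z, hzP⟩⟩, hind ⟨z, hzP⟩] at h1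
    have h2 : φ ⟨z, hzP⟩ = f z := hφf ⟨z, hzP⟩
    have h3 : f z ∈ S := h2 ▸ hv _
    have h4 : α ⟨f z, h3⟩ = α ⟨z, hzS⟩ := by
      rw [← h1]
      congr 1
      exact Subtype.ext h2.symm
    have h5 : α (⟨z, hzS⟩⁻¹ * ⟨f z, h3⟩) = 1 := by
      rw [map_mul, map_inv, h4, inv_mul_cancel]
    exact (hker _).mp h5
  obtain ⟨A, f, hf, hzA, hfz⟩ := hmv
  obtain ⟨ĥ, hĥ, hĥf, hg⟩ := normal_ext hQn hf
  have hR'le : Q ⊔ Subgroup.zpowers z ≤ A ⊔ Q := sup_le le_sup_right (by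
    rw [Subgroup.zpowers_le]
    exact Subgroup.mem_sup_left hzA)
  have hR'S : Q ⊔ Subgroup.zpowers z ≤ S := sup_le hQS (by
    rw [Subgroup.zpowers_le]
    exact hzS)
  have hQlt : Q < Q ⊔ Subgroup.zpowers z := lt_of_le_of_ne le_sup_left fun h => hzQ (by
    rw [h]
    exact Subgroup.mem_sup_right (Subgroup.mem_zpowers z))
  have hzmem : ĥ z ∈ Q ⊔ Subgroup.zpowers z := by
    have h1 := hmod _ _ hĥ (Subgroup.mem_sup_left hzA)
    have h2 : ĥ z = z * (z⁻¹ * ĥ z) := by group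
    rw [h2]
    exact Subgroup.mul_mem _ (Subgroup.mem_sup_right (Subgroup.mem_zpowers z)) (Subgroup.mem_sup_left h1)
  have hmaps : ∀ x ∈ Q ⊔ Subgroup.zpowers z, ĥ x ∈ Q ⊔ Subgroup.zpowers z := by
    have h1 := (hĥ.restrict hR'le).sup_maps (A₁ := Q) (B₁ := Q ⊔ Subgroup.zpowers z) hg.1 (by
      rintro _ ⟨i, rfl⟩
      rw [(hĥ.restrict hR'le).map_zpow (Subgroup.mem_sup_right (Subgroup.mem_zpowers z))]
      exact Subgroup.zpow_mem _ hzmem _)
    rwa [sup_eq_right.mpr (le_sup_left : Q ≤ Q ⊔ Subgroup.zpowers z)] at h1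
  haveI : Finite (Q ⊔ Subgroup.zpowers z : Subgroup Ω) := finite_of_le hR'S
  have hFĥ := hleF _ _ hĥ
  have hIso := Iso.of_maps (hFĥ.restrict hR'le) hmaps
  have hSN' : S ≤ Subgroup.normalizer ((Q ⊔ Subgroup.zpowers z : Subgroup Ω) : Set Ω) := by
    have key : ∀ s ∈ S, ∀ x ∈ Q ⊔ Subgroup.zpowers z, s * x * s⁻¹ ∈ Q ⊔ Subgroup.zpowers z := by
      intro s hs x hx
      have h1 : Q ⊔ Subgroup.zpowers z ≤ (Q ⊔ Subgroup.zpowers z).comap (MulAut.conj s).toMonoidHom := by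
        refine sup_le ?_ ?_
        · intro q hq
          exact Subgroup.mem_sup_left (conj_mem_of_normalizer (hSN hs) hq)
        · rw [Subgroup.zpowers_le]
          show s * z * s⁻¹ ∈ Q ⊔ Subgroup.zpowers z
          rw [hzc s hs]
          have : z * s * s⁻¹ = z := by group
          rw [this]
          exact Subgroup.mem_sup_right (Subgroup.mem_zpowers z)
      exact h1 hx
    intro s hs
    refine mem_normalizer_of_conj (key s hs) fun x hx => ?_
    simpa using key s⁻¹ (S.inv_mem hs) x hx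
  refine hmax _ hR'S hQlt hSN' ⟨A ⊔ Q, ĥ, mp_NSys_of_ge hR'S hR'le hFĥ (le_inf hFĥ.le (hFĥ.le.trans hSN')) ⟨hmaps, hIso.surj⟩,
    Subgroup.mem_sup_left hzA, ?_⟩
  rw [hĥf z hzA]
  exact hfz

/-- If `s` normalizes `Q` then so it does `C_S(Q)`. -/
theorem conj_centralizerIn_mem {s c : Ω} (hs : s ∈ S) (hsN : s ∈ Subgroup.normalizer (Q : Set Ω)) (hc : c ∈ centralizerIn S Q) :
    s * c * s⁻¹ ∈ centralizerIn S Q := by
  obtain ⟨hcS, hcc⟩ := mem_centralizerIn.mp hc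
  refine mem_centralizerIn.mpr ⟨S.mul_mem (S.mul_mem hs hcS) (S.inv_mem hs), fun y hy => ?_⟩
  have h1 := hcc _ (conj_inv_mem_of_normalizer hsN hy)
  calc y * (s * c * s⁻¹) = s * ((s⁻¹ * y * s) * c) * s⁻¹ := by group
    _ = s * (c * (s⁻¹ * y * s)) * s⁻¹ := by rw [h1]
    _ = s * c * s⁻¹ * y := by group

/-- The case when `Q` is normal in `S` and contains `z`. -/
theorem normal_mem {k : ℕ} (hW : FunctorHyp p W) (hL : LocalFix.{u} p k W) (hS : IsPGroup p S) (hF : F.IsSaturated p) {z : Ω}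
    (hz : z ∈ powerClosure p k (S ⊓ Subgroup.centralizer (S : Set Ω))) (hQS : Q ≤ S) (hSN : S ≤ Subgroup.normalizer (Q : Set Ω))
    (hsat : (normSys F Q S hQS le_rfl hSN).IsSaturated p) (hfar : Far F p Q)
    (hmax : ∀ (R : Subgroup Ω) (hRS : R ≤ S), Q < R → S ≤ Subgroup.normalizer (R : Set Ω) → ¬ Moves (NSys F R hRS) z)
    (hmv : Moves (normSys F Q S hQS le_rfl hSN) z) (hzQ : z ∈ Q) (hN : ¬ Moves (NSys F (WW W S) (WW_le S)) z) : False := by
  classical
  have hZ : z ∈ S ⊓ Subgroup.centralizer (S : Set Ω) := pc_le (p := p) (k := k) _ hz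
  have hzS : z ∈ S := hZ.1
  have hzc : ∀ s ∈ S, s * z = z * s := fun s hs => Subgroup.mem_centralizer_iff.mp hZ.2 s hs
  obtain ⟨E₀, hE₀⟩ : ∃ E₀, E₀ = normSys F Q S hQS le_rfl hSN := ⟨_, rfl⟩
  rw [← hE₀] at hsat hmv
  have hQn : E₀.IsNormal Q := by
    rw [hE₀]
    exact isNormal_normSys
  have hleF : ∀ (P : Subgroup Ω) f, Mp E₀ P f → Mp F P f := by
    intro P f h
    rw [hE₀] at h
    exact normSys_mp_F h
  obtain ⟨a, haI, haz⟩ : ∃ a, Iso E₀ Q Q a ∧ a z ≠ z := by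
    obtain ⟨A, f, hf, hzA, hfz⟩ := hmv
    obtain ⟨ĥ, hĥ, hĥf, hg⟩ := normal_ext hQn hf
    exact ⟨ĥ, ⟨hĥ.restrict le_sup_right, hg.1, hg.2⟩, by rw [hĥf z hzA]; exact hfz⟩
  have haF : Iso F Q Q a := ⟨hleF _ _ haI.mp, haI.maps, haI.surj⟩
  -- `Q` is self-centralizing
  have hC : centralizerIn S Q ≤ Q := by
    by_contra hc
    obtain ⟨â, hâ, hâa⟩ := recept_ext (K := Q ⊔ centralizerIn S Q) hfar.recep haF le_sup_left (by
      refine sup_le (fun x hx => Subgroup.subset_closure (mem_good_of_mem haF hx)) ?_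
      intro c hcc
      obtain ⟨hcS, hc'⟩ := mem_centralizerIn.mp hcc
      exact Subgroup.subset_closure (mem_good_of_centralizes haF hcS (fun x hx => (hc' x hx).symm)))
    have hlt : Q < Q ⊔ centralizerIn S Q := lt_of_le_of_ne le_sup_left fun h => hc (le_sup_right.trans (le_of_eq h.symm))
    have hle : Q ⊔ centralizerIn S Q ≤ S := sup_le hQS inf_le_left
    have hIâ : Iso F Q Q â := haF.congr fun x hx => (hâa x hx).symm
    have hmaps : ∀ x ∈ Q ⊔ centralizerIn S Q, â x ∈ Q ⊔ centralizerIn S Q := by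
      refine hâ.sup_maps hIâ.maps fun c hc => ?_
      exact maps_centralizer hâ hIâ le_sup_left (Subgroup.mem_sup_right hc) hc.2
    haveI : Finite (Q ⊔ centralizerIn S Q : Subgroup Ω) := finite_of_le hle
    have hIso := Iso.of_maps hâ hmaps
    have hSNK : S ≤ Subgroup.normalizer ((Q ⊔ centralizerIn S Q : Subgroup Ω) : Set Ω) := by
      have key : ∀ s ∈ S, ∀ x ∈ Q ⊔ centralizerIn S Q, s * x * s⁻¹ ∈ Q ⊔ centralizerIn S Q := by
        intro s hs x hx
        have h1 : Q ⊔ centralizerIn S Q ≤ (Q ⊔ centralizerIn S Q).comap (MulAut.conj s).toMonoidHom := by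
          refine sup_le ?_ ?_
          · intro q hq
            exact Subgroup.mem_sup_left (conj_mem_of_normalizer (hSN hs) hq)
          · intro c hc
            exact Subgroup.mem_sup_right (conj_centralizerIn_mem hs (hSN hs) hc)
        exact h1 hx
      intro s hs
      refine mem_normalizer_of_conj (key s hs) fun x hx => ?_
      simpa using key s⁻¹ (S.inv_mem hs) x hx
    refine hmax _ hle hlt hSNK (moves_nsys_of_iso hle hIso (Subgroup.mem_sup_left hzQ) ?_)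
    rw [hâa z hzQ]
    exact haz
  have hcon : E₀.IsConstrained p := ⟨hsat, Q, hQn, H24.centric_of_normal hQn hC⟩
  obtain ⟨G, _, ι, hG⟩ := H24.exists_model hS hcon
  have hcore := H24.preimage_eq_core hG
  have hcoreQ : E₀.core = Q := by
    by_contra hne
    have hX : E₀.IsNormal E₀.core := H24.isNormal_core
    have hQX : Q ≤ E₀.core := le_sSup hQn
    have hlt : Q < E₀.core := lt_of_le_of_ne hQX (Ne.symm hne)
    obtain ⟨A, f, hf, hzA, hfz⟩ := hmv
    obtain ⟨ψ, hψ, hψf, hg⟩ := normal_ext hX hf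
    have hψF := hleF _ _ hψ
    have hSNX := H24.normalizer_of_isNormal hX
    refine hmax _ hX.1 hlt hSNX ⟨A ⊔ E₀.core, ψ, mp_NSys_of_ge hX.1 le_sup_right hψF (le_inf hψF.le (hψF.le.trans hSNX)) hg,
      Subgroup.mem_sup_left hzA, ?_⟩
    rw [hψf z hzA]
    exact hfz
  obtain ⟨hfG, hr, ⟨T, hT⟩, hCG⟩ := hG
  haveI := hfG
  have hι := hr.1
  have hpre : ∀ x (hx : x ∈ S), ι ⟨x, hx⟩ ∈ pCore p G ↔ x ∈ Q := by
    intro x hx
    rw [← hcoreQ, ← hcore]
    constructor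
    · intro h
      exact ⟨⟨x, hx⟩, h, rfl⟩
    · rintro ⟨y, hy, rfl⟩
      exact hy
  have hOn := pCore_normal p G
  have hOT : pCore p G ≤ (T : Subgroup G) := H01.pCore_le_sylow p T
  have hrange : ι.range = (T : Subgroup G) := hT.symm
  have hzO : ι ⟨z, hzS⟩ ∈ pCore p G := (hpre z hzS).mpr hzQ
  have hzpc := pc_map hrange hz hzS
  have hlift : ∀ X : Subgroup G, X ≤ T → ∀ g ∈ Subgroup.normalizer (X : Set G), ∃ f, Mp E₀ (preimageAlong ι X) f ∧
      ∀ (y : Ω) (hy : y ∈ preimageAlong ι X), ∃ h' : f y ∈ S, ∃ h'' : y ∈ S, ι ⟨f y, h'⟩ = g * ι ⟨y, h''⟩ * g⁻¹ := by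
    intro X hX g hg
    obtain ⟨f, hf, hfι⟩ := mp_of_conj hr (H24.preimageAlong_le (θ := ι) X) g (fun y => by
      rw [hrange]
      refine hX (conj_mem_of_normalizer hg ?_)
      obtain ⟨_, hy⟩ := H24.mem_preimageAlong.1 y.2
      exact hy)
    refine ⟨f, hf, fun y hy => ?_⟩
    obtain ⟨h', e⟩ := hfι ⟨y, hy⟩
    exact ⟨h', _, e⟩
  have hall := hL G T hCG (ι ⟨z, hzS⟩) hzO hzpc ?_ ?_
  · obtain ⟨g, hg⟩ := exists_conj_of_mp hr haI.mp
    obtain ⟨h', h'', e⟩ := hg ⟨z, hzQ⟩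
    have e' : ι ⟨a z, h'⟩ = g * ι ⟨z, hzS⟩ * g⁻¹ := e
    rw [hall g] at e'
    exact haz (congrArg Subtype.val (hι e'))
  · intro g hg
    have hWT : WW W (T : Subgroup G) = (W ↥S).map ι := WW_range hW hS hι hT
    have hUT : pCore p G ⊔ WW W (T : Subgroup G) ≤ T := sup_le hOT (WW_le _)
    have hgU : g ∈ Subgroup.normalizer ((pCore p G ⊔ WW W (T : Subgroup G) : Subgroup G) : Set G) := by
      have key : ∀ g ∈ Subgroup.normalizer ((WW W (T : Subgroup G) : Subgroup G) : Set G), ∀ x ∈ pCore p G ⊔ WW W (T : Subgroup G),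
          g * x * g⁻¹ ∈ pCore p G ⊔ WW W (T : Subgroup G) := by
        intro g hg x hx
        have h1 : pCore p G ⊔ WW W (T : Subgroup G) ≤ (pCore p G ⊔ WW W (T : Subgroup G)).comap (MulAut.conj g).toMonoidHom := by
          refine sup_le ?_ ?_
          · intro q hq
            exact Subgroup.mem_sup_left (hOn.conj_mem q hq g)
          · intro c hc
            exact Subgroup.mem_sup_right (conj_mem_of_normalizer hg hc)
        exact h1 hx
      refine mem_normalizer_of_conj (key g hg) fun x hx => ?_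
      simpa using key g⁻¹ (Subgroup.inv_mem _ hg) x hx
    obtain ⟨f, hf, hfι⟩ := hlift _ hUT g hgU
    have hzU : z ∈ preimageAlong ι (pCore p G ⊔ WW W (T : Subgroup G)) :=
      H24.mem_preimageAlong.2 ⟨hzS, Subgroup.mem_sup_left hzO⟩
    have hmemWW : ∀ y (hy : y ∈ WW W S), ∃ hyS : y ∈ S, ι ⟨y, hyS⟩ ∈ WW W (T : Subgroup G) := by
      rintro _ ⟨y₀, hy₀, rfl⟩
      refine ⟨y₀.2, ?_⟩
      rw [hWT]
      exact ⟨y₀, hy₀, rfl⟩
    have hWU : WW W S ≤ preimageAlong ι (pCore p G ⊔ WW W (T : Subgroup G)) := by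
      intro y hy
      obtain ⟨hyS, h1⟩ := hmemWW y hy
      exact H24.mem_preimageAlong.2 ⟨hyS, Subgroup.mem_sup_right h1⟩
    have hfW : ∀ y ∈ WW W S, f y ∈ WW W S := by
      intro y hy
      obtain ⟨hyS, h1⟩ := hmemWW y hy
      obtain ⟨h', h'', e⟩ := hfι y (hWU hy)
      have e' : ι ⟨f y, h'⟩ = g * ι ⟨y, hyS⟩ * g⁻¹ := e
      have h2 : ι ⟨f y, h'⟩ ∈ WW W (T : Subgroup G) := by
        rw [e']
        exact conj_mem_of_normalizer hg h1
      rw [hWT] at h2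
      obtain ⟨y₁, hy₁, e₁⟩ := h2
      have h3 := hι e₁
      have h4 : (y₁ : Ω) = f y := congrArg Subtype.val h3
      rw [← h4]
      exact ⟨y₁, hy₁, rfl⟩
    have hFm := hleF _ _ hf
    haveI : Finite (WW W S : Subgroup Ω) := finite_of_le (WW_le S)
    have hIW := Iso.of_maps (hFm.restrict hWU) hfW
    have hSNW : S ≤ Subgroup.normalizer (WW W S : Set Ω) := fun s hs => WW_conj hW hS (mem_normalizer_of_conj
      (fun y hy => S.mul_mem (S.mul_mem hs hy) (S.inv_mem hs)) (fun y hy => S.mul_mem (S.mul_mem (S.inv_mem hs) hy) hs))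
    by_contra hne
    refine hN ⟨_, f, mp_NSys_of_ge (WW_le S) hWU hFm (le_inf hFm.le (hFm.le.trans hSNW)) ⟨hfW, hIW.surj⟩, hzU, fun heq => hne ?_⟩
    obtain ⟨h', h'', e⟩ := hfι z hzU
    have e' : ι ⟨f z, h'⟩ = g * ι ⟨z, hzS⟩ * g⁻¹ := e
    rw [← e']
    congr 1
    exact Subtype.ext heq
  · intro X hlt hXT hTN g hg
    obtain ⟨f, hf, hfι⟩ := hlift X hXT g hg
    have hQR : Q < preimageAlong ι X := by
      have h1 : Q ≤ preimageAlong ι X := fun x hx =>
        H24.mem_preimageAlong.2 ⟨hQS hx, hlt.le ((hpre x (hQS hx)).mpr hx)⟩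
      refine lt_of_le_of_ne h1 fun h => ?_
      apply hlt.not_ge
      intro y hy
      have hy' := hXT hy
      rw [← hrange] at hy'
      obtain ⟨x, rfl⟩ := hy'
      have hx : (x : Ω) ∈ preimageAlong ι X := H24.mem_preimageAlong.2 ⟨x.2, hy⟩
      rw [← h] at hx
      exact (hpre x x.2).mpr hx
    have hRS : preimageAlong ι X ≤ S := H24.preimageAlong_le _
    have hSNR : S ≤ Subgroup.normalizer (preimageAlong ι X : Set Ω) := by
      have key : ∀ s ∈ S, ∀ x ∈ preimageAlong ι X, s * x * s⁻¹ ∈ preimageAlong ι X := by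
        intro s hs x hx
        obtain ⟨hxS, hx'⟩ := H24.mem_preimageAlong.1 hx
        refine H24.mem_preimageAlong.2 ⟨S.mul_mem (S.mul_mem hs hxS) (S.inv_mem hs), ?_⟩
        have hg : ι ⟨s, hs⟩ ∈ Subgroup.normalizer (X : Set G) := by
          apply hTN
          rw [← hrange]
          exact ⟨_, rfl⟩
        have h1 := conj_mem_of_normalizer hg hx'
        have h2 : (⟨s * x * s⁻¹, S.mul_mem (S.mul_mem hs hxS) (S.inv_mem hs)⟩ : ↥S) = ⟨s, hs⟩ * ⟨x, hxS⟩ * ⟨s, hs⟩⁻¹ := rfl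
        rw [h2, map_mul, map_mul, map_inv]
        exact h1
      intro s hs
      refine mem_normalizer_of_conj (key s hs) fun x hx => ?_
      simpa using key s⁻¹ (S.inv_mem hs) x hx
    have hFm := hleF _ _ hf
    have hfR : ∀ y ∈ preimageAlong ι X, f y ∈ preimageAlong ι X := by
      intro y hy
      obtain ⟨hyS, h1⟩ := H24.mem_preimageAlong.1 hy
      obtain ⟨h', h'', e⟩ := hfι y hy
      have e' : ι ⟨f y, h'⟩ = g * ι ⟨y, hyS⟩ * g⁻¹ := e
      refine H24.mem_preimageAlong.2 ⟨h', ?_⟩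
      rw [e']
      exact conj_mem_of_normalizer hg h1
    haveI : Finite (preimageAlong ι X : Subgroup Ω) := finite_of_le hRS
    have hIR := Iso.of_maps hFm hfR
    have hzR : z ∈ preimageAlong ι X := H24.mem_preimageAlong.2 ⟨hzS, hlt.le hzO⟩
    by_contra hne
    refine hmax _ hRS hQR hSNR (moves_nsys_of_iso hRS hIR hzR fun heq => hne ?_)
    obtain ⟨h', h'', e⟩ := hfι z hzR
    have e' : ι ⟨f z, h'⟩ = g * ι ⟨z, hzS⟩ * g⁻¹ := e
    rw [← e']
    congr 1
    exact Subtype.ext heq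

end Normal

end Factor

/-- The inductive step. -/
theorem bad_step {k : ℕ} [Finite S] [Fact p.Prime] (hW : FunctorHyp p W) (hL : LocalFix.{u} p k W) (hS : IsPGroup p S) (hF : F.IsSaturated p)
    (hIH : MH.{u} p k W (Nat.card S)) {z : Ω}
    (hz : z ∈ powerClosure p k (S ⊓ Subgroup.centralizer (S : Set Ω))) (hm : Moves F z) :
    Moves (NSys F (WW W S) (WW_le S)) z := by
  classical
  by_contra hN
  have hZ : z ∈ S ⊓ Subgroup.centralizer (S : Set Ω) := pc_le (p := p) (k := k) _ hz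
  have hzS : z ∈ S := hZ.1
  have hzc : ∀ s ∈ S, s * z = z * s := fun s hs => Subgroup.mem_centralizer_iff.mp hZ.2 s hs
  obtain ⟨X, hXdef⟩ : ∃ X : Set (Subgroup Ω), X = {Q | ∃ hQS : Q ≤ S, Q ≠ ⊥ ∧ F.IsFullyNormalized Q ∧ Moves (NSys F Q hQS) z} := ⟨_, rfl⟩
  have hXmem : ∀ Q, Q ∈ X ↔ ∃ hQS : Q ≤ S, Q ≠ ⊥ ∧ F.IsFullyNormalized Q ∧ Moves (NSys F Q hQS) z := by
    intro Q
    rw [hXdef]
    rfl
  have hbad : ∀ (R : Subgroup Ω) (a : Ω → Ω), F.IsFullyNormalized R → z ∈ R → Iso F R R a → a z ≠ z → R ∈ X := by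
    intro R a hR hzR hI hne
    refine (hXmem R).mpr ⟨hR.1, ?_, hR, moves_nsys_of_iso hR.1 hI hzR hne⟩
    intro h
    rw [h, Subgroup.mem_bot] at hzR
    exact ne_one_of_moved hI.mp hne hzR
  have hXne : X.Nonempty := by
    by_contra hemp
    rw [Set.not_nonempty_iff_eq_empty] at hemp
    obtain ⟨P, f, hf, hzP, hfz⟩ := hm
    haveI : Finite P := finite_of_le hf.le
    refine hfz (fix_large hS hF hzS hzc 0 (fun R a hR hzR _ hI => ?_) P f hf hzP Nat.card_pos)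
    by_contra hne
    have := hbad R a hR hzR hI hne
    rw [hemp] at this
    exact this
  have hXfin : X.Finite := H24.finite_subgroups_le.subset (fun Q hQ => ((hXmem Q).mp hQ).choose)
  obtain ⟨m, hmdef⟩ : ∃ m : Subgroup Ω → ℕ, m = fun Q => Nat.card (normalizerIn S Q) * (Nat.card S + 1) + Nat.card Q := ⟨_, rfl⟩
  obtain ⟨Q, hQX, hQmax⟩ := Set.exists_max_image X m hXfin hXne
  obtain ⟨hQS, hQne, hQfn, hQmv⟩ := (hXmem Q).mp hQX
  have hcardQ : Nat.card Q ≤ Nat.card S := Subgroup.card_le_of_le hQS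
  have hlarge : ∀ (P : Subgroup Ω) (f : Ω → Ω), Mp F P f → z ∈ P → Nat.card (normalizerIn S Q) < Nat.card P → f z = z := by
    refine fix_large hS hF hzS hzc _ (fun R a hR hzR hlt hI => ?_)
    by_contra hne
    have hRX := hbad R a hR hzR hI hne
    have h1 := hQmax R hRX
    rw [hmdef] at h1
    simp only at h1
    haveI : Finite R := finite_of_le hR.1
    haveI : Finite (normalizerIn S R) := finite_of_le inf_le_left
    have h2 : Nat.card R ≤ Nat.card (normalizerIn S R) := Subgroup.card_le_of_le (le_normalizerIn hR.1)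
    have h3 : (Nat.card (normalizerIn S Q) + 1) * (Nat.card S + 1) ≤ Nat.card (normalizerIn S R) * (Nat.card S + 1) :=
      Nat.mul_le_mul_right _ (by omega)
    nlinarith
  by_cases hT : normalizerIn S Q = S
  · have hSN : S ≤ Subgroup.normalizer (Q : Set Ω) := inf_eq_left.mp hT
    have hmax : ∀ (R : Subgroup Ω) (hRS : R ≤ S), Q < R → S ≤ Subgroup.normalizer (R : Set Ω) → ¬ Moves (NSys F R hRS) z := by
      intro R hRS hQR hRN hRmv
      have hRX : R ∈ X := by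
        refine (hXmem R).mpr ⟨hRS, ?_, fullyNormalized_of_normal' hRS hRN, hRmv⟩
        intro h
        rw [h] at hQR
        exact not_lt_bot hQR
      have h1 := hQmax R hRX
      rw [hmdef] at h1
      simp only at h1
      have hR' : normalizerIn S R = S := inf_eq_left.mpr hRN
      rw [hR', hT] at h1
      haveI : Finite R := finite_of_le hRS
      have h2 : Nat.card Q < Nat.card R :=
        lt_of_le_of_ne (Subgroup.card_le_of_le hQR.le) fun h => hQR.ne (Subgroup.eq_of_le_of_card_ge hQR.le h.ge)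
      omega
    have hfar : Far F p Q := far_of_fullyNormalized hS hF hQfn
    have hsat : (normSys F Q S hQS le_rfl hSN).IsSaturated p := normSys_sat_of_eq (inf_eq_left.mpr hSN) hS hF hfar
    have hmv : Moves (normSys F Q S hQS le_rfl hSN) z := by
      obtain ⟨A, f, hf, hzA, hfz⟩ := hQmv
      refine ⟨A, f, ?_, hzA, hfz⟩
      obtain ⟨h1, h2, h3, ĥ, hĥ, hĥf, hg⟩ := (mp_NSys_iff hQS).mp hf
      exact mp_normSys_iff'.mpr ⟨h1, h2.trans inf_le_left, fun x hx => (h3 x hx).1, ĥ, hĥ, hĥf, hg⟩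
    by_cases hzQ : z ∈ Q
    · exact normal_mem hW hL hS hF hz hQS hSN hsat hfar hmax hmv hzQ hN
    · exact normal_not_mem hW hS hF hIH hz hQS hSN hQne hsat hmax hmv hzQ
  · obtain ⟨W', hW'S, hW'ne, hW'fn, hW'mv, hcard⟩ := bad_step_lt hW hS hF hIH hz hQS hQfn hQne hQmv hT hlarge
    have hW'X : W' ∈ X := (hXmem W').mpr ⟨hW'S, hW'ne, hW'fn, hW'mv⟩
    have h1 := hQmax W' hW'X
    rw [hmdef] at h1
    simp only at h1
    have h2 : (Nat.card (normalizerIn S Q) + 1) * (Nat.card S + 1) ≤ Nat.card (normalizerIn S W') * (Nat.card S + 1) :=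
      Nat.mul_le_mul_right _ hcard
    nlinarith

theorem mh_mono {k : ℕ} {m n : ℕ} (h : m ≤ n) (hn : MH.{u} p k W n) : MH.{u} p k W m :=
  fun Ω' _ S' _ F' z' hc => hn Ω' S' F' z' (hc.trans_le h)

theorem mh_all {k : ℕ} [Fact p.Prime] (hW : FunctorHyp p W) (hL : LocalFix.{u} p k W) : ∀ n, MH.{u} p k W n := by
  intro n
  induction n with
  | zero =>
    intro Ω' _ S' _ F' z' hc
    omega
  | succ n ih =>
    intro Ω' _ S' _ F' z' hc hS hF hz hm
    exact bad_step hW hL hS hF (mh_mono (Nat.lt_succ_iff.mp hc) ih) hz hm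

/-- **Control of elements of the centre by a functor.** -/
theorem bad_main {k : ℕ} [Finite S] [Fact p.Prime] (hW : FunctorHyp p W) (hL : LocalFix.{u} p k W) (hS : IsPGroup p S) (hF : F.IsSaturated p) {z : Ω}
    (hz : z ∈ powerClosure p k (S ⊓ Subgroup.centralizer (S : Set Ω))) (hN : ¬ Moves (NSys F (WW W S) (WW_le S)) z) :
    ¬ Moves F z := fun hm =>
  hN (bad_step hW hL hS hF (mh_all hW hL _) hz hm)

end Cfsg.Agent.H25
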