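import Cfsg.Agent.Lib.H25.FusGT4

set_option autoImplicit false

/-! A strengthened Frobenius criterion for fusion systems: characteristic subgroups. -/

namespace Cfsg.Agent.H25

open Cfsg Cfsg.FusionSystem

universe u

variable {Ω : Type u} [Group Ω] {S : Subgroup Ω} {F : FusionSystem S}
variable {P Q R T W : Subgroup Ω} {f f' g h : Ω → Ω} {p : ℕ}

/-- Automorphisms of nontrivial characteristic subgroups have `p`-power order. -/
def CAH (F : FusionSystem S) (p : ℕ) : Prop :=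
  ∀ Q : Subgroup Ω, Q ≤ S → Q ≠ ⊥ → (Q.subgroupOf S).Characteristic → ∀ f, Iso F Q Q f → ∃ k : ℕ, ∀ x ∈ Q, f^[p ^ k] x = x

/-- The statement for all smaller groups. -/
def CAP (p : ℕ) (n : ℕ) : Prop :=
  ∀ (Ω' : Type u) [Group Ω'] (S' : Subgroup Ω') [Finite S'] (F' : FusionSystem S'), Nat.card S' < n → IsPGroup p S' →
    F'.IsSaturated p → SF F' p → CAH F' p → PN F' p

/-- An automorphism trivial on a quotient and on the subgroup. -/
theorem stab_power {B : Type*} [Group B] (a : MulAut B) (W' : Subgroup B) {u v N : ℕ}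
    (h1 : ∀ x : B, x⁻¹ * (a ^ u) x ∈ W') (h2 : ∀ w ∈ W', (a ^ v) w = w) (h3 : ∀ w ∈ W', w ^ N = 1) :
    a ^ (u * v * N) = 1 := by
  have h4 : ∀ (n : ℕ) (x : B), x⁻¹ * ((a ^ u) ^ n) x ∈ W' := by
    intro n
    induction n with
    | zero => intro x; simp
    | succ n ih =>
      intro x
      have e : ((a ^ u) ^ (n + 1)) x = ((a ^ u) ^ n) ((a ^ u) x) := by
        rw [pow_succ]
        rfl
      have h5 := W'.mul_mem (h1 x) (ih ((a ^ u) x))
      rw [e]
      have e2 : x⁻¹ * (a ^ u) x * (((a ^ u) x)⁻¹ * ((a ^ u) ^ n) ((a ^ u) x)) = x⁻¹ * ((a ^ u) ^ n) ((a ^ u) x) := by group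
      rwa [e2] at h5
  obtain ⟨c, hc⟩ : ∃ c : MulAut B, c = a ^ (u * v) := ⟨_, rfl⟩
  have hc1 : ∀ x : B, x⁻¹ * c x ∈ W' := by
    intro x
    rw [hc, pow_mul]
    exact h4 v x
  have hc2 : ∀ w ∈ W', c w = w := by
    intro w hw
    rw [hc, mul_comm u v, pow_mul]
    have h5 : ∀ n : ℕ, ((a ^ v) ^ n) w = w := by
      intro n
      induction n with
      | zero => simp
      | succ n ih =>
        rw [pow_succ, MulAut.mul_apply, h2 w hw, ih]
    exact h5 u
  have hc3 : ∀ (n : ℕ) (x : B), (c ^ n) x = x * (x⁻¹ * c x) ^ n := by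
    intro n
    induction n with
    | zero => intro x; simp
    | succ n ih =>
      intro x
      rw [pow_succ', MulAut.mul_apply, ih x, map_mul, map_pow, hc2 _ (hc1 x)]
      rw [pow_succ', ← mul_assoc, mul_inv_cancel_left]
  rw [pow_mul, ← hc]
  apply MulEquiv.ext
  intro x
  rw [hc3, h3 _ (hc1 x), mul_one]
  rfl

section Main

variable [Finite S] [Fact p.Prime]

theorem exp_p {S : Subgroup Ω} [Finite S] (hS : IsPGroup p S) : ∃ m : ℕ, ∀ x ∈ S, x ^ p ^ m = 1 := by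
  obtain ⟨m, hm⟩ := IsPGroup.iff_card.mp hS
  refine ⟨m, fun x hx => ?_⟩
  have h1 : (⟨x, hx⟩ : ↥S) ^ Nat.card S = 1 := pow_card_eq_one'
  rw [hm] at h1
  exact congrArg Subtype.val h1

theorem char_preimage {W' : Subgroup ↥S} [W'.Normal] (hW : W'.Characteristic) {Qb : Subgroup (S ⧸ W')}
    (hQb : (Qb.subgroupOf ⊤).Characteristic) : ((preimageAlong (QuotientGroup.mk' W') Qb).subgroupOf S).Characteristic := by
  rw [Subgroup.characteristic_iff_comap_eq]
  intro σ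
  have h1 : W'.map σ.toMonoidHom = W' := by
    exact (Subgroup.characteristic_iff_map_eq.mp hW) σ
  obtain ⟨τ, hτ⟩ : ∃ τ : (S ⧸ W') ≃* (S ⧸ W'), τ = QuotientGroup.congr W' W' σ h1 := ⟨_, rfl⟩
  have hτα : ∀ s : ↥S, τ (QuotientGroup.mk' W' s) = QuotientGroup.mk' W' (σ s) := by
    intro s
    rw [hτ]
    rfl
  obtain ⟨τ', hτ'⟩ : ∃ τ' : ↥(⊤ : Subgroup (S ⧸ W')) ≃* ↥(⊤ : Subgroup (S ⧸ W')), τ' = Subgroup.topEquiv.trans (τ.trans Subgroup.topEquiv.symm) := ⟨_, rfl⟩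
  have h2 : ∀ y : S ⧸ W', τ y ∈ Qb ↔ y ∈ Qb := by
    intro y
    have h3 := (Subgroup.characteristic_iff_comap_eq.mp hQb) τ'
    have h4 : (⟨y, Subgroup.mem_top y⟩ : ↥(⊤ : Subgroup (S ⧸ W'))) ∈ (Qb.subgroupOf ⊤).comap τ'.toMonoidHom ↔
        (⟨y, Subgroup.mem_top y⟩ : ↥(⊤ : Subgroup (S ⧸ W'))) ∈ Qb.subgroupOf ⊤ := by rw [h3]
    simpa [hτ', Subgroup.mem_subgroupOf] using h4
  ext s
  simp only [Subgroup.mem_comap, Subgroup.mem_subgroupOf, H24.mem_preimageAlong]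
  constructor
  · rintro ⟨hx, h⟩
    refine ⟨s.2, ?_⟩
    have : QuotientGroup.mk' W' ⟨σ s, (σ s).2⟩ ∈ Qb := h
    rw [show (⟨σ s, (σ s).2⟩ : ↥S) = σ s from rfl, ← hτα] at this
    exact (h2 _).mp this
  · rintro ⟨hx, h⟩
    refine ⟨(σ s).2, ?_⟩
    have : QuotientGroup.mk' W' ⟨s, s.2⟩ ∈ Qb := h
    rw [show (⟨s, s.2⟩ : ↥S) = s from rfl] at this
    have h5 := (h2 _).mpr this
    rw [hτα] at h5
    exact h5

theorem IsZJ.char {W : Subgroup Ω} (hZJ : IsZJ S W) : (W.subgroupOf S).Characteristic := by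
  rw [Subgroup.characteristic_iff_comap_eq]
  intro σ
  rcases hZJ with rfl | rfl
  · ext s
    simp only [Subgroup.mem_comap, Subgroup.mem_subgroupOf]
    have key : ∀ t : ↥S, (t : Ω) ∈ ZZ S ↔ t ∈ Subgroup.center ↥S := by
      intro t
      constructor
      · rintro ⟨-, h⟩
        rw [Subgroup.mem_center_iff]
        intro r
        exact Subtype.ext (Subgroup.mem_centralizer_iff.mp h r r.2)
      · intro h
        refine ⟨t.2, Subgroup.mem_centralizer_iff.mpr fun r hr => ?_⟩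
        exact congrArg Subtype.val (Subgroup.mem_center_iff.mp h ⟨r, hr⟩)
    have hc : (Subgroup.center ↥S).Characteristic := inferInstance
    have h3 := (Subgroup.characteristic_iff_comap_eq.mp hc) σ
    rw [key, key]
    have h4 : σ.toMonoidHom s ∈ Subgroup.center ↥S ↔ s ∈ (Subgroup.center ↥S).comap σ.toMonoidHom := Iff.rfl
    rw [h4, h3]
  · obtain ⟨J₀, hJ₀⟩ : ∃ J₀ : Subgroup ↥S, J₀ = thompsonSubgroupAOf (⊤ : Subgroup ↥S) := ⟨_, rfl⟩
    have hJ₀S : J₀.map S.subtype = thompsonSubgroupAOf S := by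
      have h1 := tj_map S.subtype (⊤ : Subgroup ↥S) (fun x _ hx => Subtype.ext hx)
      rw [← MonoidHom.range_eq_map, Subgroup.range_subtype] at h1
      rw [hJ₀]
      exact h1.symm
    have h5 : (thompsonSubgroupAOf S).subgroupOf S = J₀ := by
      rw [← hJ₀S]
      ext s
      rw [Subgroup.mem_subgroupOf]
      constructor
      · rintro ⟨t, ht, e⟩
        have : t = s := Subtype.ext e
        rwa [← this]
      · intro h
        exact ⟨s, h, rfl⟩
    rw [h5]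
    have h6 := tj_map (σ.toMonoidHom) (⊤ : Subgroup ↥S) (fun x _ hx => by simpa using hx)
    have h7 : (⊤ : Subgroup ↥S).map σ.toMonoidHom = ⊤ := by
      rw [Subgroup.map_top_of_surjective]
      exact σ.surjective
    rw [h7, ← hJ₀] at h6
    ext s
    rw [Subgroup.mem_comap]
    constructor
    · intro h
      rw [h6] at h
      obtain ⟨t, ht, e⟩ := h
      have : t = s := σ.injective e
      rwa [← this]
    · intro h
      rw [h6]
      exact ⟨s, h, rfl⟩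

theorem ca_pn_of_factor {W : Subgroup Ω} (hS : IsPGroup p S) (hW : W ≤ S) (hSN : S ≤ Subgroup.normalizer (W : Set Ω))
    (h : CAH F p) (hne : W ≠ ⊥) (hchar : (W.subgroupOf S).Characteristic)
    (hfac : ∀ (P : Subgroup Ω) (f : Ω → Ω), W ≤ P → Iso (normSys F W S hW le_rfl hSN) P P f → ∃ k : ℕ, ∀ x ∈ P, x⁻¹ * f^[p ^ k] x ∈ W) :
    PN (NSys F W hW) p := by
  intro A f hf
  obtain ⟨hm1, hA, hA', ĥ, hĥ, hĥf, hg⟩ := (mp_NSys_iff hW).mp hf.mp
  have hĥm : ∀ x ∈ A ⊔ W, ĥ x ∈ A ⊔ W := by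
    refine Mp.sup_maps hĥ (fun x hx => ?_) hg.1
    rw [hĥf x hx]
    exact hf.maps x hx
  haveI hBfin : Finite (A ⊔ W : Subgroup Ω) := finite_of_le hĥ.le
  have hIF : Iso F (A ⊔ W) (A ⊔ W) ĥ := Iso.of_maps hĥ hĥm
  have hIE : Iso (normSys F W S hW le_rfl hSN) (A ⊔ W) (A ⊔ W) ĥ :=
    Iso.of_maps (mp_normSys_of_le hW hSN hĥ le_sup_right hg) hĥm
  obtain ⟨u, hu⟩ := hfac _ _ le_sup_right hIE
  haveI hWfin : Finite W := finite_of_le hW
  obtain ⟨v, hv⟩ := h W hW hne hchar ĥ (Iso.of_maps (hĥ.restrict le_sup_right) hg.1)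
  obtain ⟨m, hm⟩ := exp_p hS
  obtain ⟨W', hW'⟩ : ∃ W' : Subgroup ↥(A ⊔ W), W' = W.subgroupOf (A ⊔ W) := ⟨_, rfl⟩
  have h1 := stab_power (autOfIso hIF) W' (u := p ^ u) (v := p ^ v) (N := p ^ m)
    (fun x => by
      rw [hW', Subgroup.mem_subgroupOf]
      have h2 := hu x x.2
      rw [iterate_aut hIF] at h2
      exact h2)
    (fun w hw => by
      rw [hW', Subgroup.mem_subgroupOf] at hw
      apply Subtype.ext
      rw [← iterate_aut hIF]
      exact hv _ hw)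
    (fun w hw => by
      rw [hW', Subgroup.mem_subgroupOf] at hw
      apply Subtype.ext
      have := hm _ (hW hw)
      simpa using this)
  have hit : ∀ (n : ℕ), ∀ x ∈ A, f^[n] x = ĥ^[n] x := by
    intro n
    induction n with
    | zero => intro x _; rfl
    | succ n ih =>
      intro x hx
      rw [Function.iterate_succ_apply', Function.iterate_succ_apply', ih x hx, ← ih x hx, hĥf _ (iterate_maps hf n x hx)]
  refine ⟨u + v + m, fun x hx => ?_⟩
  rw [hit _ x hx, pow_add, pow_add, iterate_aut hIF _ ⟨x, Subgroup.mem_sup_left hx⟩, h1]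
  rfl

/-- The step of the induction. -/
theorem ca_step (hS : IsPGroup p S) (hF : F.IsSaturated p) (hsf : SF F p) (hIH : CAP.{u} p (Nat.card S)) (h : CAH F p) : PN F p := by
  classical
  by_contra hnp
  obtain ⟨W, hW, hZJ, hWnp⟩ := th_bad (thm_all (Nat.card S + 1)) (Nat.lt_succ_self _) hS hF hsf hnp
  have hSbot : S ≠ ⊥ := by
    obtain ⟨A, f, hiso, hnpf⟩ := exists_of_not_pn hnp
    intro hb
    refine not_pn_ne_bot hiso hnpf ?_
    exact le_bot_iff.mp (by rw [← hb]; exact hiso.mp.le)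
  have hne : W ≠ ⊥ := hZJ.ne_bot hS hSbot
  have hSN : S ≤ Subgroup.normalizer (W : Set Ω) := fun s hs => hZJ.conj (Subgroup.le_normalizer hs)
  have hchar := hZJ.char
  apply hWnp
  refine ca_pn_of_factor hS hW hSN h hne hchar ?_
  have hfar : Far F p W := far_of_fullyNormalized hS hF (fullyNormalized_of_normal' hW hSN)
  have hsat : (normSys F W S hW le_rfl hSN).IsSaturated p :=
    normSys_sat_of_eq (inf_eq_left.mpr hSN) hS hF hfar
  obtain ⟨E₀, hE₀⟩ : ∃ E₀, E₀ = normSys F W S hW le_rfl hSN := ⟨_, rfl⟩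
  rw [← hE₀] at hsat ⊢
  have hQn : E₀.IsNormal W := by
    rw [hE₀]
    exact isNormal_normSys
  have hleF : ∀ (P : Subgroup Ω) f, Mp E₀ P f → Mp F P f := by
    intro P f h
    rw [hE₀] at h
    exact normSys_mp_F h
  have hQsc := H24.stronglyClosed_of_isNormal hQn
  haveI hQnorm : (W.subgroupOf S).Normal := by
    constructor
    intro n hn g
    rw [Subgroup.mem_subgroupOf] at hn ⊢
    exact conj_mem_of_normalizer (hSN g.2) hn
  obtain ⟨E₁, hE₁⟩ := H24.exists_factorSystem_quotient hQsc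
  obtain ⟨hmor, hE₁sat, hpS⟩ := H24.factor_facts hS hsat hQsc hE₁
  have hsfE₁ : SF E₁ p := by
    rcases hsf with h | h
    · exact Or.inl h
    · refine Or.inr (H24.sectionFree_factor hS hsat hQn ?_ hE₁)
      rw [hE₀]
      exact sf_normSys hS hF (inf_eq_left.mpr hSN) (fullyNormalized_of_normal' hW hSN) h
  refine factor_H hmor.1 hE₁.2.1 ?_
  have hcardlt : Nat.card (⊤ : Subgroup (S ⧸ W.subgroupOf S)) < Nat.card S := by
    rw [Subgroup.card_top, Subgroup.card_eq_card_quotient_mul_card_subgroup (W.subgroupOf S)]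
    have h1 : 1 < Nat.card (W.subgroupOf S) := by
      rw [Subgroup.one_lt_card_iff_ne_bot]
      intro h
      apply hne
      rw [← Subgroup.map_subgroupOf_eq_of_le hW, h, Subgroup.map_bot]
    have h2 : 0 < Nat.card (S ⧸ W.subgroupOf S) := Nat.card_pos
    nlinarith
  refine hIH _ _ E₁ hcardlt hpS hE₁sat hsfE₁ ?_
  intro Qb hQb hQbne hQbchar fb hfb
  obtain ⟨φ', hφ', hφ'fb⟩ := hfb.mp
  obtain ⟨φ, hφ, hPB, hv, hP', hind⟩ := hmor.2.2 Qb hQb φ' hφ'
  have hFm : Mp F (preimageAlong (QuotientGroup.mk' (W.subgroupOf S)) Qb) (toFun φ) := hleF _ _ (mp_of_mem hφ)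
  have hindv : ∀ (x : Ω) (hx : x ∈ preimageAlong (QuotientGroup.mk' (W.subgroupOf S)) Qb),
      QuotientGroup.mk' (W.subgroupOf S) ⟨toFun φ x, hFm.mem hx⟩ = fb (QuotientGroup.mk' (W.subgroupOf S) ⟨x, hPB hx⟩) := by
    intro x hx
    have h1 := hind ⟨x, hx⟩
    have h2 : (⟨toFun φ x, hFm.mem hx⟩ : ↥S) = ⟨φ ⟨x, hx⟩, hv _⟩ := Subtype.ext (toFun_coe φ ⟨x, hx⟩)
    rw [h2, ← h1, hφ'fb]
  have hB₁m : ∀ x ∈ preimageAlong (QuotientGroup.mk' (W.subgroupOf S)) Qb, toFun φ x ∈ preimageAlong (QuotientGroup.mk' (W.subgroupOf S)) Qb := by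
    intro x hx
    obtain ⟨hxS, hx'⟩ := H24.mem_preimageAlong.1 hx
    refine H24.mem_preimageAlong.2 ⟨hFm.mem hx, ?_⟩
    rw [hindv x hx]
    exact hfb.maps _ hx'
  haveI hfin : Finite (preimageAlong (QuotientGroup.mk' (W.subgroupOf S)) Qb) := finite_of_le hFm.le
  have hRne : preimageAlong (QuotientGroup.mk' (W.subgroupOf S)) Qb ≠ ⊥ := by
    intro hb
    apply hne
    have h1 : W ≤ preimageAlong (QuotientGroup.mk' (W.subgroupOf S)) Qb := H24.le_preimageAlong' hE₁.2.1 hQsc _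
    rw [hb] at h1
    exact le_bot_iff.mp h1
  obtain ⟨k, hk⟩ := h _ (H24.preimageAlong_le _) hRne (char_preimage hchar hQbchar) _ (Iso.of_maps hFm hB₁m)
  refine ⟨k, fun y hy => ?_⟩
  obtain ⟨s, hs⟩ : y ∈ (QuotientGroup.mk' (W.subgroupOf S)).range := by
    rw [hmor.2.1]
    exact hQb hy
  have hsB : (s : Ω) ∈ preimageAlong (QuotientGroup.mk' (W.subgroupOf S)) Qb := H24.mem_preimageAlong.2 ⟨s.2, by
    show QuotientGroup.mk' (W.subgroupOf S) s ∈ Qb
    rw [hs]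
    exact hy⟩
  have hPS1 : preimageAlong (QuotientGroup.mk' (W.subgroupOf S)) Qb ≤ S := H24.preimageAlong_le _
  have hind2 : ∀ (x : Ω) (hx : x ∈ preimageAlong (QuotientGroup.mk' (W.subgroupOf S)) Qb),
      fb (QuotientGroup.mk' (W.subgroupOf S) ⟨x, hPS1 hx⟩) = QuotientGroup.mk' (W.subgroupOf S) ⟨toFun φ x, hPS1 (hB₁m x hx)⟩ :=
    fun x hx => (hindv x hx).symm
  have h1 := iter_induced (α := QuotientGroup.mk' (W.subgroupOf S)) (f := toFun φ) (f' := fb) hPS1 hB₁m hind2 (p ^ k) s hsB (by rw [hk _ hsB]; exact s.2)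
  have h2 : (⟨(toFun φ)^[p ^ k] s, by rw [hk _ hsB]; exact s.2⟩ : ↥S) = s := Subtype.ext (hk _ hsB)
  rw [h2] at h1
  have h3 : (⟨(s : Ω), hPS1 hsB⟩ : ↥S) = s := rfl
  rw [h3, hs] at h1
  exact h1

end Main

theorem cap_mono {m n : ℕ} (h : m ≤ n) (hn : CAP.{u} p n) : CAP.{u} p m :=
  fun Ω' _ S' _ F' hc => hn Ω' S' F' (hc.trans_le h)

theorem cap_all [Fact p.Prime] : ∀ n, CAP.{u} p n := by
  intro n
  induction n with
  | zero =>
    intro Ω' _ S' _ F' hc
    omega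
  | succ n ih =>
    intro Ω' _ S' _ F' hc hS hF hsf h
    exact ca_step hS hF hsf (cap_mono (Nat.lt_succ_iff.mp hc) ih) h

theorem ca_main [Finite S] [Fact p.Prime] (hS : IsPGroup p S) (hF : F.IsSaturated p) (hsf : SF F p) (h : CAH F p) : PN F p :=
  ca_step hS hF hsf (cap_all _) h

end Cfsg.Agent.H25
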