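import Cfsg.Agent.Lib.H25.FusBad2
import Cfsg.Agent.Lib.H24.BisetFoc

set_option autoImplicit false

/-! Control of transfer by a characteristic functor. -/

namespace Cfsg.Agent.H25

open Cfsg Cfsg.FusionSystem

universe u

variable {Ω : Type u} [Group Ω] {S : Subgroup Ω} {F : FusionSystem S}
variable {P Q R T : Subgroup Ω} {f g h : Ω → Ω} {p : ℕ}
variable {W : ∀ (Q : Type u) [Group Q], Subgroup Q}

/-- Some map of the system moves an element out of its coset of `K`. -/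
def MovK {T' : Subgroup Ω} (E : FusionSystem T') (K : Subgroup Ω) : Prop :=
  ∃ (P : Subgroup Ω) (f : Ω → Ω), Mp E P f ∧ ∃ x ∈ P, x⁻¹ * f x ∉ K

theorem mem_foc_of_mp {T' : Subgroup Ω} {E : FusionSystem T'} (hf : Mp E P f) {x : Ω} (hx : x ∈ P) : x⁻¹ * f x ∈ E.focalSubgroup := by
  obtain ⟨φ, hφ, hφf⟩ := hf
  refine Subgroup.subset_closure ⟨P, φ, ⟨x, hx⟩, hφ, ?_⟩
  rw [hφf ⟨x, hx⟩]

theorem foc_le_of {T' : Subgroup Ω} {E : FusionSystem T'} {K : Subgroup Ω}
    (h : ∀ (P : Subgroup Ω) (f : Ω → Ω), Mp E P f → ∀ x ∈ P, x⁻¹ * f x ∈ K) : E.focalSubgroup ≤ K := by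
  refine (Subgroup.closure_le _).2 ?_
  rintro y ⟨P, φ, x, hφ, rfl⟩
  have hm := mp_of_mem hφ
  have := h P _ hm x x.2
  rwa [toFun_coe φ x] at this

theorem not_movK_iff {T' : Subgroup Ω} {E : FusionSystem T'} {K : Subgroup Ω} : ¬ MovK E K ↔ E.focalSubgroup ≤ K := by
  constructor
  · intro h
    refine foc_le_of fun P f hf x hx => ?_
    by_contra hn
    exact h ⟨P, f, hf, x, hx, hn⟩
  · rintro h ⟨P, f, hf, x, hx, hn⟩
    exact hn (h (mem_foc_of_mp hf hx))

theorem foc_le_self {T' : Subgroup Ω} (E : FusionSystem T') : E.focalSubgroup ≤ T' := by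
  refine foc_le_of fun P f hf x hx => ?_
  exact T'.mul_mem (T'.inv_mem (hf.le hx)) (hf.mem hx)

section Sat

variable [Finite S] [Fact p.Prime]

/-- Maps on large subgroups preserve cosets if automorphisms of large fully normalized subgroups do. -/
theorem fixK_large (hS : IsPGroup p S) (hF : F.IsSaturated p) {K : Subgroup Ω} (m : ℕ)
    (H : ∀ (R : Subgroup Ω) (a : Ω → Ω), F.IsFullyNormalized R → m < Nat.card R → Iso F R R a → ∀ x ∈ R, x⁻¹ * a x ∈ K) :
    ∀ (P : Subgroup Ω) (f : Ω → Ω), Mp F P f → m < Nat.card P → ∀ x ∈ P, x⁻¹ * f x ∈ K := by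
  classical
  have key : ∀ n : ℕ, ∀ (P : Subgroup Ω) (f : Ω → Ω), Nat.card S - Nat.card P = n → Mp F P f → m < Nat.card P → ∀ x ∈ P, x⁻¹ * f x ∈ K := by
    intro n
    induction n using Nat.strong_induction_on with
    | _ n ih =>
      intro P f hn hf hmP x hx
      have hP := hf.le
      by_cases hPS : P = S
      · subst hPS
        exact H P f (fullyNormalized_of_normal' hP (fun x hx => mem_normalizer_of_conj
          (fun y hy => P.mul_mem (P.mul_mem hx hy) (P.inv_mem hx)) (fun y hy => P.mul_mem (P.mul_mem (P.inv_mem hx) hy) hx)))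
          hmP (Iso.of_maps hf (fun _ hx => hf.mem hx)) x hx
      have hcardP : Nat.card P < Nat.card S := card_lt_of_lt (S := S) le_rfl (lt_of_le_of_ne hP hPS)
      obtain ⟨Q, hconj, hQ⟩ := H24.exists_fullyNormalized_conj (F := F) hP
      have hfar := far_of_fullyNormalized hS hF hQ
      obtain ⟨h₁, hh₁, hI₁⟩ := exists_ext_normalizer hS hfar hconj
      have hIf := Iso.of_mp hf
      have hP'S : hf.img ≤ S := fun y hy => by
        obtain ⟨x, hx, rfl⟩ := (Mp.mem_img hf).mp hy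
        exact hf.mem hx
      have hP'Q : F.IsConj hf.img Q := isConj_trans (isConj_symm (isConj_iff.mpr ⟨f, hIf⟩)) hconj
      obtain ⟨h₂, hh₂, hI₂⟩ := exists_ext_normalizer hS hfar hP'Q
      have hcard' : Nat.card hf.img = Nat.card P := hIf.card_eq.symm
      have hcardQ : Nat.card P = Nat.card Q := hI₁.card_eq
      have hP'ne : hf.img ≠ S := fun h => by
        rw [h] at hcard'
        omega
      have hN : ∀ (A : Subgroup Ω), A ≤ S → A ≠ S → Nat.card A < Nat.card (normalizerIn S A) := by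
        intro A hA hne
        obtain ⟨g, hg, hgA⟩ := exists_normalizer_not_mem hS hA hne
        exact card_lt_of_lt normalizerIn_le (lt_of_le_of_ne (le_normalizerIn hA) fun h => hgA (h ▸ hg))
      have hleS : ∀ (A : Subgroup Ω), A ≤ S → Nat.card A ≤ Nat.card S := fun A hA => card_le_of_le (S := S) le_rfl hA
      have h1x : x⁻¹ * h₁ x ∈ K := by
        have h1 := hN P hP hPS
        have h2 := hleS _ (normalizerIn_le (S := S) (P := P))
        exact ih (Nat.card S - Nat.card (normalizerIn S P)) (by omega) _ _ rfl hh₁ (by omega) x (le_normalizerIn hP hx)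
      have hfx : f x ∈ hf.img := (Mp.mem_img hf).mpr ⟨x, hx, rfl⟩
      have h2x : (f x)⁻¹ * h₂ (f x) ∈ K := by
        have h1 := hN _ hP'S hP'ne
        have h2 := hleS _ (normalizerIn_le (S := S) (P := hf.img))
        exact ih (Nat.card S - Nat.card (normalizerIn S hf.img)) (by omega) _ _ rfl hh₂ (by omega) _ (le_normalizerIn hP'S hfx)
      obtain ⟨g₁, hg₁, hg₁1, hg₁2⟩ := hI₁.inv
      have hIa := (hg₁.comp hIf).comp hI₂
      have hxQ : h₁ x ∈ Q := hI₁.maps x hx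
      have h3 := H Q _ hQ (by omega) hIa _ hxQ
      simp only [Function.comp] at h3
      rw [hg₁1 x hx] at h3
      have e : x⁻¹ * f x = (x⁻¹ * h₁ x) * ((h₁ x)⁻¹ * h₂ (f x)) * ((f x)⁻¹ * h₂ (f x))⁻¹ := by group
      rw [e]
      exact K.mul_mem (K.mul_mem h1x h3) (K.inv_mem h2x)
  intro P f hf hmP
  exact key _ P f rfl hf hmP

end Sat

/-- The inductive statement. -/
def CT (p : ℕ) (W : ∀ (Q : Type u) [Group Q], Subgroup Q) (n : ℕ) : Prop :=
  ∀ (Ω' : Type u) [Group Ω'] (S' : Subgroup Ω') [Finite S'] (F' : FusionSystem S'), Nat.card S' < n → IsPGroup p S' →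
    F'.IsSaturated p → F'.focalSubgroup ≤ (NSys F' (WW W S') (WW_le S')).focalSubgroup

section Step

variable [Finite S] [Fact p.Prime]

theorem foc_step_lt (hW : FunctorHyp p W) (hS : IsPGroup p S) (hF : F.IsSaturated p) (hIH : CT.{u} p W (Nat.card S)) {K : Subgroup Ω}
    (hQS : Q ≤ S) (hQ : F.IsFullyNormalized Q) (hne : Q ≠ ⊥) (hmv : MovK (NSys F Q hQS) K) (hT : normalizerIn S Q ≠ S)
    (hlarge : ∀ (P : Subgroup Ω) (f : Ω → Ω), Mp F P f → Nat.card (normalizerIn S Q) < Nat.card P → ∀ x ∈ P, x⁻¹ * f x ∈ K) :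
    ∃ (X' : Subgroup Ω) (hX'S : X' ≤ S), X' ≠ ⊥ ∧ F.IsFullyNormalized X' ∧ MovK (NSys F X' hX'S) K ∧
      Nat.card (normalizerIn S Q) < Nat.card (normalizerIn S X') := by
  classical
  have hTS : normalizerIn S Q ≤ S := inf_le_left
  have hTlt : normalizerIn S Q < S := lt_of_le_of_ne hTS hT
  haveI hTfin : Finite (normalizerIn S Q) := finite_of_le hTS
  have hTp : IsPGroup p (normalizerIn S Q) := hS.to_le hTS
  have hfar : Far F p Q := far_of_fullyNormalized hS hF hQ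
  have hEsat : (NSys F Q hQS).IsSaturated p := NSys_saturated hS hF hfar
  have hQT : Q ≤ normalizerIn S Q := le_normalizerIn hQS
  have hcardT : Nat.card (normalizerIn S Q) < Nat.card S :=
    lt_of_le_of_ne (Subgroup.card_le_of_le hTS) fun h => hT (Subgroup.eq_of_le_of_card_ge hTS h.ge)
  have hCT := hIH Ω (normalizerIn S Q) (NSys F Q hQS) hcardT hTp hEsat
  have hmv2 : MovK (NSys (NSys F Q hQS) (WW W (normalizerIn S Q)) (WW_le _)) K := by
    by_contra hc
    rw [not_movK_iff] at hc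
    obtain ⟨A, f, hf, x, hx, hn⟩ := hmv
    exact hn (hc (hCT (mem_foc_of_mp hf hx)))
  obtain ⟨A, f, hf, x, hxA, hfx⟩ := hmv2
  have hW₁T : WW W (normalizerIn S Q) ≤ normalizerIn S Q := WW_le _
  obtain ⟨hmE, hA, hfA, ĥ, hĥ, hĥf, hg⟩ := (mp_NSys_iff hW₁T).mp hf
  have hW₁S : WW W (normalizerIn S Q) ≤ S := hW₁T.trans hTS
  obtain ⟨W', hconj, hW'⟩ := H24.exists_fullyNormalized_conj (F := F) hW₁S
  have hFm : Mp F (A ⊔ WW W (normalizerIn S Q)) ĥ := NSys.mp_F hQS hĥ
  have hNle : normalizerIn (normalizerIn S Q) (WW W (normalizerIn S Q)) ≤ normalizerIn S (WW W (normalizerIn S Q)) :=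
    inf_le_inf_right _ hTS
  have hP : A ⊔ WW W (normalizerIn S Q) ≤ normalizerIn S (WW W (normalizerIn S Q)) :=
    sup_le (hA.trans hNle) (le_normalizerIn hW₁S)
  have hfN : ∀ x ∈ A ⊔ WW W (normalizerIn S Q), ĥ x ∈ normalizerIn S (WW W (normalizerIn S Q)) := by
    have h1 := hFm.sup_maps (A₁ := normalizerIn S (WW W (normalizerIn S Q))) (B₁ := normalizerIn S (WW W (normalizerIn S Q)))
      (fun x hx => by rw [hĥf x hx]; exact hNle (hfA x hx)) (fun x hx => le_normalizerIn hW₁S (hg.1 x hx))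
    rwa [sup_idem] at h1
  obtain ⟨χ, hχ, f', hf', hind⟩ := nsys_transport hS hF hW' hconj le_sup_right hP hFm hfN hg
  -- normalizers grow
  have hlt : Nat.card (normalizerIn S Q) < Nat.card (normalizerIn S (WW W (normalizerIn S Q))) := by
    obtain ⟨g, hg1, hg2⟩ := H24.exists_mem_normalizerIn hS hTlt
    have hle : normalizerIn S (normalizerIn S Q) ≤ normalizerIn S (WW W (normalizerIn S Q)) :=
      inf_le_inf_left _ (fun _ hx => WW_conj hW hTp hx)
    have hlt : normalizerIn S Q < normalizerIn S (WW W (normalizerIn S Q)) := by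
      refine lt_of_le_of_ne ((le_normalizerIn hTS).trans hle) fun h => hg2 ?_
      rw [h]
      exact hle hg1
    haveI : Finite (normalizerIn S (WW W (normalizerIn S Q))) := finite_of_le inf_le_left
    exact lt_of_le_of_ne (Subgroup.card_le_of_le hlt.le) fun h => hlt.ne (Subgroup.eq_of_le_of_card_ge hlt.le h.ge)
  have hxP : x ∈ A ⊔ WW W (normalizerIn S Q) := Subgroup.mem_sup_left hxA
  have hxN : x ∈ normalizerIn S (WW W (normalizerIn S Q)) := hP hxP
  have hfxN : f x ∈ normalizerIn S (WW W (normalizerIn S Q)) := hNle (hfA x hxA)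
  have hχx : x⁻¹ * χ x ∈ K := hlarge _ _ hχ hlt x hxN
  have hχfx : (f x)⁻¹ * χ (f x) ∈ K := hlarge _ _ hχ hlt _ hfxN
  refine ⟨W', hW'.1, ?_, hW', ⟨_, f', hf', χ x, (Mp.mem_img _).mpr ⟨x, hxP, rfl⟩, ?_⟩, hlt.trans_le (hW'.2 _ (H24.IsConj.symm' hconj))⟩
  · intro h
    have hc := H24.IsConj.card_eq hconj
    rw [h] at hc
    have hb : WW W (normalizerIn S Q) = ⊥ := Subgroup.eq_bot_of_card_eq _ (by rw [hc, Subgroup.card_bot])
    refine WW_ne_bot hW hTp ?_ hb
    intro h2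
    rw [h2] at hQT
    exact hne (le_bot_iff.mp hQT)
  · rw [hind x hxP, hĥf x hxA]
    intro h2
    apply hfx
    have e : x⁻¹ * f x = (x⁻¹ * χ x) * ((χ x)⁻¹ * χ (f x)) * ((f x)⁻¹ * χ (f x))⁻¹ := by group
    rw [e]
    exact K.mul_mem (K.mul_mem hχx h2) (K.inv_mem hχfx)

end Step

section BisetInv

open H24

variable {S₀ : Type u} [Group S₀] {X : Type u} [MulAction (S₀ × S₀) X] [Finite X] {A : Type*} [CommGroup A]

/-- The orbits of a subgroup of the second factor. -/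
def kerSetoid (X : Type u) [MulAction (S₀ × S₀) X] (L : Subgroup S₀) : Setoid X where
  r ω ω' := ∃ k ∈ L, (((1 : S₀), k) : S₀ × S₀) • ω = ω'
  iseqv := by
    refine ⟨fun ω => ⟨1, L.one_mem, ?_⟩, ?_, ?_⟩
    · exact one_smul (S₀ × S₀) ω
    · rintro a b ⟨s, hs, rfl⟩
      refine ⟨s⁻¹, L.inv_mem hs, ?_⟩
      rw [smul_smul]
      have : ((1 : S₀), s⁻¹) * ((1 : S₀), s) = 1 := by ext <;> simp
      rw [this, one_smul]
    · rintro a b c ⟨s, hs, rfl⟩ ⟨t, ht, rfl⟩
      refine ⟨t * s, L.mul_mem ht hs, ?_⟩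
      rw [smul_smul]
      congr 1
      ext <;> simp

/-- The transfer at an element whose stabilizers act trivially modulo the kernel of the homomorphism. -/
theorem bisetTr_inv (hf : RFree S₀ X) (lam : S₀ →* A) {z : S₀}
    (hfix : ∀ (j : ℤ) (ω : X) (t : S₀), ((z ^ j, t) : S₀ × S₀) • ω = ω → lam t = lam (z ^ j)) :
    bisetTr hf lam z = lam z ^ Nat.card (Uq S₀ X) := by
  classical
  let L : Subgroup S₀ := lam.ker
  let st : Setoid X := kerSetoid X L
  let X' := Quotient st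
  have hmk : ∀ {ω ω' : X}, (Quotient.mk st ω : X') = Quotient.mk st ω' ↔ ∃ k ∈ L, (((1 : S₀), k) : S₀ × S₀) • ω = ω' :=
    fun {ω ω'} => Quotient.eq (r := st)
  -- the action of `(z, z)` on the quotient
  let δ : Equiv.Perm X := MulAction.toPerm ((z, z) : S₀ × S₀)
  have hδ : ∀ (j : ℤ) (ω : X), (δ ^ j) ω = ((z ^ j, z ^ j) : S₀ × S₀) • ω := by
    intro j ω
    have : δ = MulAction.toPermHom (S₀ × S₀) X (z, z) := rfl
    rw [this, ← map_zpow]
    have e : ((z, z) : S₀ × S₀) ^ j = (z ^ j, z ^ j) := by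
      apply Prod.ext <;> simp
    rw [e]
    rfl
  have hwd : ∀ (w : S₀) (a b : X), st.r a b → st.r (((w, w) : S₀ × S₀) • a) (((w, w) : S₀ × S₀) • b) := by
    rintro w a b ⟨k, hk, rfl⟩
    refine ⟨w * k * w⁻¹, (inferInstance : L.Normal).conj_mem k hk w, ?_⟩
    rw [smul_smul, smul_smul]
    congr 1
    apply Prod.ext <;> simp
  let dl : S₀ → X' → X' := fun w => Quotient.map' (s₁ := st) (s₂ := st) (fun ω => ((w, w) : S₀ × S₀) • ω) (hwd w)
  have hdl : ∀ w ω, dl w (Quotient.mk st ω) = Quotient.mk st (((w, w) : S₀ × S₀) • ω) := fun _ _ => rfl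
  have hdlinv : ∀ w (a : X'), dl w⁻¹ (dl w a) = a := by
    intro w a
    obtain ⟨ω, rfl⟩ := Quotient.exists_rep a
    rw [hdl, hdl, smul_smul]
    have e : ((w⁻¹, w⁻¹) : S₀ × S₀) * (w, w) = 1 := by
      apply Prod.ext <;> simp
    rw [e, one_smul]
  let δ' : Equiv.Perm X' :=
    { toFun := dl z
      invFun := dl z⁻¹
      left_inv := hdlinv z
      right_inv := fun a => by
        have := hdlinv z⁻¹ a
        rwa [inv_inv] at this }
  have hδ' : ∀ ω, δ' (Quotient.mk st ω) = Quotient.mk st (δ ω) := fun _ => rfl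
  let q : X' → Uq S₀ X := Quotient.lift (fun ω => (uq ω : Uq S₀ X)) (by
    rintro a b ⟨k, _, rfl⟩
    exact uq_eq.2 ⟨k, rfl⟩)
  have hq : ∀ ω, q (Quotient.mk st ω) = uq ω := fun _ => rfl
  have hqs : Function.Surjective q := by
    intro u
    obtain ⟨ω, rfl⟩ := uq_surj u
    exact ⟨Quotient.mk st ω, rfl⟩
  have huδ : ∀ ω : X, (uq (δ ω) : Uq S₀ X) = lqPerm z (uq ω) := by
    intro ω
    show (uq (((z, z) : S₀ × S₀) • ω) : Uq S₀ X) = lq z (uq ω)
    rw [lq_uq]
    refine uq_eq.2 ⟨z⁻¹, ?_⟩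
    rw [smul_smul]
    congr 1
    apply Prod.ext <;> simp
  have hc : ∀ a : X', q (δ' a) = lqPerm z (q a) := by
    intro a
    obtain ⟨ω, rfl⟩ := Quotient.exists_rep a
    rw [hδ', hq, hq, huδ]
  obtain ⟨r', hr1', hr2'⟩ := exists_equi_sec q hqs δ' (lqPerm z) hc (by
    intro j a h
    obtain ⟨ω, rfl⟩ := Quotient.exists_rep a
    have e1 : (δ' ^ j) (Quotient.mk st ω) = Quotient.mk st ((δ ^ j) ω) :=
      (semiconj_zpow (fun ω => (Quotient.mk st ω : X')) δ δ' (fun ω => (hδ' ω).symm) j ω).symm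
    rw [hq, ← semiconj_zpow _ δ _ huδ, hδ] at h
    obtain ⟨s, hs⟩ := uq_eq.1 h
    rw [smul_smul] at hs
    have e : ((1 : S₀), s) * ((z ^ j, z ^ j) : S₀ × S₀) = (z ^ j, s * z ^ j) := by
      apply Prod.ext <;> simp
    rw [e] at hs
    have h2 := hfix j ω _ hs
    rw [map_mul] at h2
    have h3 : s ∈ L := by
      show lam s = 1
      exact mul_eq_right.1 h2
    rw [e1, hδ]
    refine Quotient.sound (s := st) ⟨s, h3, ?_⟩
    rw [smul_smul, e]
    exact hs)
  let r : Uq S₀ X → X := fun u => Quotient.out (r' u)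
  have hrmk : ∀ u, (Quotient.mk st (r u) : X') = r' u := fun u => Quotient.out_eq _
  have hr1 : IsSec r := by
    intro u
    rw [← hq, hrmk, hr1']
  have hcc : ∀ u, lam (cc hr1 z u) = lam z := by
    intro u
    have h1 : δ' (r' u) = r' (lqPerm z u) := hr2' u
    rw [← hrmk, ← hrmk, hδ'] at h1
    obtain ⟨k, hk, hk2⟩ := hmk.1 h1
    have hlk : lam k = 1 := hk
    have e0 : (z, (1 : S₀)) • r u = ((1 : S₀), (k * z)⁻¹) • r (lq z u) := by
      have hk3 : ((1 : S₀), k) • ((z, z) : S₀ × S₀) • r u = r (lq z u) := hk2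
      rw [← hk3, smul_smul, smul_smul]
      congr 1
      apply Prod.ext <;> simp
    have e2 := cc_eq (hf := hf) hr1 e0
    rw [e2, map_mul, hlk, one_mul]
  rw [bisetTr_eq hf lam hr1]
  unfold trS
  simp only [hcc]
  rw [Finset.prod_const, Finset.card_univ, Nat.card_eq_fintype_card]

end BisetInv

section Inf

variable [Finite S] [Fact p.Prime]

/-- The focal subgroup meets a normal subgroup inside any subgroup containing the commutators of automorphisms. -/
theorem foc_inf_normal (hS : IsPGroup p S) {E : FusionSystem S} (hE : E.IsSaturated p) {Y K : Subgroup Ω} (hY : E.IsNormal Y)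
    (hKS : K ≤ S) (hcomm : ∀ x ∈ S, ∀ y ∈ S, x * y * x⁻¹ * y⁻¹ ∈ K) (h2 : ∀ (a : Ω → Ω), Iso E Y Y a → ∀ y ∈ Y, y⁻¹ * a y ∈ K)
    {z : Ω} (hz : z ∈ E.focalSubgroup) (hzY : z ∈ Y) : z ∈ K := by
  classical
  have hp : p.Prime := Fact.out
  obtain ⟨X, i1, i2, hX, hmark, hfree, hm⟩ := H24.exists_char hS hE
  have hnorm : (K.subgroupOf S).Normal := by
    constructor
    intro n hn g
    rw [Subgroup.mem_subgroupOf] at hn ⊢
    have h1 := hcomm g g.2 n n.2
    have e : ((g * n * g⁻¹ : ↥S) : Ω) = ((g : Ω) * n * (g : Ω)⁻¹ * (n : Ω)⁻¹) * n := by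
      simp
    rw [e]
    exact K.mul_mem h1 hn
  have hcom : ∀ a b : ↥S ⧸ K.subgroupOf S, a * b = b * a := by
    haveI : IsMulCommutative (↥S ⧸ K.subgroupOf S) := by
      apply Subgroup.Normal.quotient_commutative_iff_commutator_le.mpr
      rw [commutator_def, Subgroup.commutator_le]
      intro x _ y _
      rw [Subgroup.mem_subgroupOf]
      have := hcomm x x.2 y y.2
      simpa [commutatorElement_def] using this
    exact fun a b => mul_comm' a b
  letI inst : CommGroup (↥S ⧸ K.subgroupOf S) :=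
    { (inferInstance : Group (↥S ⧸ K.subgroupOf S)) with mul_comm := hcom }
  let lam : ↥S →* (↥S ⧸ K.subgroupOf S) := QuotientGroup.mk' (K.subgroupOf S)
  have hlam : ∀ s : ↥S, lam s = 1 ↔ (s : Ω) ∈ K := by
    intro s
    show ((s : ↥S) : ↥S ⧸ K.subgroupOf S) = 1 ↔ _
    rw [QuotientGroup.eq_one_iff, Subgroup.mem_subgroupOf]
  obtain ⟨hzS, hT⟩ := H24.foc_le_ker (hS := hS) (hF := hE) hX hmark hfree lam hz
  have hc := bisetTr_inv hfree lam (z := ⟨z, hzS⟩) (by
    intro j ω t hjt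
    obtain ⟨P, f, hf, hgr⟩ := hX ω
    have h1 := (hgr _ _).1 (MulAction.mem_stabilizer_iff.2 hjt)
    have hval : (((⟨z, hzS⟩ : ↥S) ^ j : ↥S) : Ω) = z ^ j := by simp
    rw [hval] at h1
    obtain ⟨ĥ, hĥ, hĥf, hg⟩ := normal_ext hY hf
    have hI : Iso E Y Y ĥ := ⟨hĥ.restrict le_sup_right, hg.1, hg.2⟩
    have h3 := h2 ĥ hI (z ^ j) (Subgroup.zpow_mem _ hzY j)
    rw [hĥf _ h1.1, ← h1.2] at h3
    have h4 : lam ((⟨z, hzS⟩ ^ j)⁻¹ * t) = 1 := by
      rw [hlam]
      have e : (((⟨z, hzS⟩ ^ j)⁻¹ * t : ↥S) : Ω) = (z ^ j)⁻¹ * t := by simp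
      rw [e]
      exact h3
    rw [map_mul, map_inv, inv_mul_eq_one] at h4
    exact h4.symm)
  rw [hT] at hc
  have h1 : IsPGroup p (↥S ⧸ K.subgroupOf S) := IsPGroup.of_surjective hS lam (QuotientGroup.mk'_surjective _)
  have h3 : lam ⟨z, hzS⟩ = 1 := by
    obtain ⟨k, hk⟩ := h1 (lam ⟨z, hzS⟩)
    have hcop : Nat.Coprime (p ^ k) (Nat.card (H24.Uq ↥S X)) :=
      Nat.Coprime.pow_left _ ((Nat.Prime.coprime_iff_not_dvd hp).2 hm)
    exact orderOf_eq_one_iff.1 (Nat.eq_one_of_dvd_coprimes hcop (orderOf_dvd_of_pow_eq_one hk) (orderOf_dvd_of_pow_eq_one hc.symm))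
  exact (hlam _).1 h3

end Inf

end Cfsg.Agent.H25
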