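import Cfsg.Agent.Lib.H25.FusFoc

set_option autoImplicit false

/-! Control of transfer by a characteristic functor: the normal case. -/

namespace Cfsg.Agent.H25

open Cfsg Cfsg.FusionSystem

open scoped commutatorElement

universe u

variable {Ω : Type u} [Group Ω] {S : Subgroup Ω} {F : FusionSystem S}
variable {P Q R T : Subgroup Ω} {f g h : Ω → Ω} {p : ℕ}
variable {W : ∀ (Q : Type u) [Group Q], Subgroup Q}

/-- The local hypothesis. -/
def LocalCT (p : ℕ) (W : ∀ (Q : Type u) [Group Q], Subgroup Q) : Prop :=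
  ∀ (G : Type u) [Group G] [Finite G] (P : Sylow p G), Subgroup.centralizer ((pCore p G : Subgroup G) : Set G) ≤ pCore p G →
    pCore p G ⊓ commutator G = pCore p G ⊓ (commutator ↥(Subgroup.normalizer (((W ↥(P : Subgroup G)).map (P : Subgroup G).subtype : Subgroup G) : Set G))).map
      (Subgroup.normalizer (((W ↥(P : Subgroup G)).map (P : Subgroup G).subtype : Subgroup G) : Set G)).subtype

section

variable [Finite S] [Fact p.Prime]

theorem WW_good_aut (hW : FunctorHyp p W) (hS : IsPGroup p S) {E : FusionSystem S} {a : Ω → Ω} (hI : Iso E S S a) : GoodN (WW W S) a := by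
  have h1 := hW.2 ↥S ↥S hS (autOfIso hI)
  constructor
  · rintro _ ⟨y, hy, rfl⟩
    have h2 : (autOfIso hI) y ∈ W ↥S := by
      rw [← h1]
      exact ⟨y, hy, rfl⟩
    exact ⟨_, h2, rfl⟩
  · rintro _ ⟨y, hy, rfl⟩
    have hy' := hy
    rw [← h1] at hy'
    obtain ⟨y₀, hy₀, e⟩ := hy'
    refine ⟨y₀, ⟨y₀, hy₀, rfl⟩, ?_⟩
    exact congrArg Subtype.val e

theorem S_le_norm_WW (hW : FunctorHyp p W) (hS : IsPGroup p S) : S ≤ Subgroup.normalizer (WW W S : Set Ω) :=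
  fun s hs => WW_conj hW hS (mem_normalizer_of_conj
      (fun y hy => S.mul_mem (S.mul_mem hs hy) (S.inv_mem hs)) (fun y hy => S.mul_mem (S.mul_mem (S.inv_mem hs) hy) hs))

theorem foc_nsys_mono {E E' : FusionSystem S} (h : ∀ (P : Subgroup Ω) (f : Ω → Ω), Mp E' P f → Mp E P f) :
    (NSys E' (WW W S) (WW_le S)).focalSubgroup ≤ (NSys E (WW W S) (WW_le S)).focalSubgroup := by
  refine foc_le_of fun A f hf x hx => ?_
  obtain ⟨h1, h2, h3, ĥ, hĥ, hĥf, hg⟩ := (mp_NSys_iff (WW_le S)).mp hf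
  refine mem_foc_of_mp ((mp_NSys_iff (WW_le S)).mpr ⟨h _ _ h1, h2, h3, ĥ, h _ _ hĥ, hĥf, hg⟩) hx

theorem foc_factor (hW : FunctorHyp p W) (hS : IsPGroup p S) {E : FusionSystem S} (hE : E.IsSaturated p) {Y K₀ : Subgroup Ω} (hY : E.IsNormal Y)
    (hne : Y ≠ ⊥) (hlt : Y < S) (hIH : CT.{u} p W (Nat.card S)) (hK₀S : K₀ ≤ S)
    (hup : ∀ (R : Subgroup Ω) (hRS : R ≤ S) (hRN : S ≤ Subgroup.normalizer (R : Set Ω)), Y < R →
      (normSys E R S hRS le_rfl hRN).focalSubgroup ≤ K₀) :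
    ∀ (P : Subgroup Ω) (f : Ω → Ω), Mp E P f → ∀ x ∈ P, x⁻¹ * f x ∈ K₀ ⊔ Y := by
  classical
  have hYS : Y ≤ S := hY.1
  have hSN : S ≤ Subgroup.normalizer (Y : Set Ω) := H24.normalizer_of_isNormal hY
  have hQsc := H24.stronglyClosed_of_isNormal hY
  haveI hQnorm : (Y.subgroupOf S).Normal := by
    constructor
    intro n hn g
    rw [Subgroup.mem_subgroupOf] at hn ⊢
    exact conj_mem_of_normalizer (hSN g.2) hn
  obtain ⟨E₁, hE₁⟩ := H24.exists_factorSystem_quotient hQsc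
  obtain ⟨hmor, hE₁sat, hpS⟩ := H24.factor_facts hS hE hQsc hE₁
  obtain ⟨α, hα⟩ : ∃ α, α = QuotientGroup.mk' (Y.subgroupOf S) := ⟨_, rfl⟩
  rw [← hα] at hmor
  have hker : ∀ s : S, α s = 1 ↔ (s : Ω) ∈ Y := by
    rw [hα]
    exact hE₁.2.1
  have hsurj : Function.Surjective α := by
    rw [hα]
    exact QuotientGroup.mk'_surjective _
  have hcardlt : Nat.card (⊤ : Subgroup (S ⧸ Y.subgroupOf S)) < Nat.card S := by
    rw [Subgroup.card_top, Subgroup.card_eq_card_quotient_mul_card_subgroup (Y.subgroupOf S)]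
    have h1 : 1 < Nat.card (Y.subgroupOf S) := by
      rw [Subgroup.one_lt_card_iff_ne_bot]
      intro h
      apply hne
      rw [← Subgroup.map_subgroupOf_eq_of_le hYS, h, Subgroup.map_bot]
    have h2 : 0 < Nat.card (S ⧸ Y.subgroupOf S) := Nat.card_pos
    nlinarith
  obtain ⟨s₀, hs₀, hs₀Y⟩ := Set.exists_of_ssubset hlt
  have htopne : (⊤ : Subgroup (S ⧸ Y.subgroupOf S)) ≠ ⊥ := by
    intro h
    have h1 : α ⟨s₀, hs₀⟩ ∈ (⊤ : Subgroup (S ⧸ Y.subgroupOf S)) := Subgroup.mem_top _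
    rw [h] at h1
    exact hs₀Y ((hker _).mp (Subgroup.mem_bot.mp h1))
  have hW'ne : WW W (⊤ : Subgroup (S ⧸ Y.subgroupOf S)) ≠ ⊥ := WW_ne_bot hW hpS htopne
  have hW'le : WW W (⊤ : Subgroup (S ⧸ Y.subgroupOf S)) ≤ ⊤ := le_top
  have hCT := hIH (S ⧸ Y.subgroupOf S) ⊤ E₁ hcardlt hpS hE₁sat
  obtain ⟨W', hW'def⟩ : ∃ W', W' = WW W (⊤ : Subgroup (S ⧸ Y.subgroupOf S)) := ⟨_, rfl⟩
  rw [← hW'def] at hW'ne hW'le
  have hRS : preimageAlong α W' ≤ S := H24.preimageAlong_le _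
  have hQR : Y < preimageAlong α W' := by
    have h1 : Y ≤ preimageAlong α W' := by
      intro x hx
      exact H24.mem_preimageAlong.2 ⟨hYS hx, by
        rw [(hker ⟨x, hYS hx⟩).mpr hx]
        exact W'.one_mem⟩
    refine lt_of_le_of_ne h1 fun h => hW'ne ?_
    rw [Subgroup.eq_bot_iff_forall]
    intro y hy
    obtain ⟨s, rfl⟩ := hsurj y
    have hsR : (s : Ω) ∈ preimageAlong α W' := H24.mem_preimageAlong.2 ⟨s.2, hy⟩
    rw [← h] at hsR
    exact (hker s).mpr hsR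
  have hRN : S ≤ Subgroup.normalizer (preimageAlong α W' : Set Ω) := by
    have key : ∀ s ∈ S, ∀ x ∈ preimageAlong α W', s * x * s⁻¹ ∈ preimageAlong α W' := by
      intro s hs x hx
      obtain ⟨hxS, hx'⟩ := H24.mem_preimageAlong.1 hx
      refine H24.mem_preimageAlong.2 ⟨S.mul_mem (S.mul_mem hs hxS) (S.inv_mem hs), ?_⟩
      have hg : α ⟨s, hs⟩ ∈ Subgroup.normalizer (W' : Set (S ⧸ Y.subgroupOf S)) := by
        rw [hW'def]
        apply WW_conj hW hpS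
        exact mem_normalizer_of_conj (fun _ _ => Subgroup.mem_top _) (fun _ _ => Subgroup.mem_top _)
      have h1 := conj_mem_of_normalizer hg hx'
      have h2 : (⟨s * x * s⁻¹, S.mul_mem (S.mul_mem hs hxS) (S.inv_mem hs)⟩ : ↥S) = ⟨s, hs⟩ * ⟨x, hxS⟩ * ⟨s, hs⟩⁻¹ := rfl
      rw [h2, map_mul, map_mul, map_inv]
      exact h1
    intro s hs
    refine mem_normalizer_of_conj (key s hs) fun x hx => ?_
    simpa using key s⁻¹ (S.inv_mem hs) x hx
  have hup' := hup _ hRS hRN hQR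
  -- the maps of the normalizer of `W'` in the factor system lift
  have hJ : (NSys E₁ W' hW'le).focalSubgroup ≤ (K₀.subgroupOf S).map α := by
    refine foc_le_of fun A fb hfb y hyA => ?_
    obtain ⟨hm1, hA, hA', ĥ, hĥ, hĥf, hg⟩ := (mp_NSys_iff hW'le).mp hfb
    have hAS' : A ≤ ⊤ := hm1.le
    obtain ⟨φ', hφ', hφ'ĥ⟩ := hĥ
    obtain ⟨φ, hφ, hPB, hv, hP', hind⟩ := hmor.2.2 (A ⊔ W') (sup_le hAS' hW'le) φ' hφ'
    have hFm : Mp E (preimageAlong α (A ⊔ W')) (toFun φ) := mp_of_mem hφ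
    have hmemB : ∀ x (hx : x ∈ S), α ⟨x, hx⟩ ∈ A ⊔ W' → x ∈ preimageAlong α (A ⊔ W') := fun x hx h =>
      H24.mem_preimageAlong.2 ⟨hx, h⟩
    have hindv : ∀ (x : Ω) (hx : x ∈ preimageAlong α (A ⊔ W')),
        α ⟨toFun φ x, hFm.mem hx⟩ = ĥ (α ⟨x, hPB hx⟩) := by
      intro x hx
      have h1 := hind ⟨x, hx⟩
      have h2 : (⟨toFun φ x, hFm.mem hx⟩ : ↥S) = ⟨φ ⟨x, hx⟩, hv _⟩ := Subtype.ext (toFun_coe φ ⟨x, hx⟩)
      rw [h2, ← h1, hφ'ĥ]
    have hRB : preimageAlong α W' ≤ preimageAlong α (A ⊔ W') := by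
      intro x hx
      obtain ⟨hxS, hx'⟩ := H24.mem_preimageAlong.1 hx
      exact hmemB x hxS (Subgroup.mem_sup_right hx')
    have hRm : ∀ x ∈ preimageAlong α W', toFun φ x ∈ preimageAlong α W' := by
      intro x hx
      obtain ⟨hxS, hx'⟩ := H24.mem_preimageAlong.1 hx
      refine H24.mem_preimageAlong.2 ⟨hFm.mem (hRB hx), ?_⟩
      rw [hindv x (hRB hx)]
      exact hg.1 _ hx'
    haveI hfin2 : Finite (preimageAlong α W') := finite_of_le (hRB.trans hFm.le)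
    have hRI : Iso E (preimageAlong α W') (preimageAlong α W') (toFun φ) := Iso.of_maps (hFm.restrict hRB) hRm
    have hgood : GoodN (preimageAlong α W') (toFun φ) := ⟨hRm, hRI.surj⟩
    have hMp := mp_normSys_of_le hRS hRN hFm hRB hgood
    obtain ⟨s, rfl⟩ := hsurj y
    have hsB : (s : Ω) ∈ preimageAlong α (A ⊔ W') := hmemB s s.2 (Subgroup.mem_sup_left hyA)
    have h1 := hup' (mem_foc_of_mp hMp hsB)
    have h1S : (s : Ω)⁻¹ * toFun φ s ∈ S := hK₀S h1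
    refine ⟨⟨(s : Ω)⁻¹ * toFun φ s, h1S⟩, Subgroup.mem_subgroupOf.mpr h1, ?_⟩
    have e : (⟨(s : Ω)⁻¹ * toFun φ s, h1S⟩ : ↥S) = s⁻¹ * ⟨toFun φ s, hFm.mem hsB⟩ := Subtype.ext (by simp)
    rw [e, map_mul, map_inv, hindv _ hsB, ← hĥf _ hyA]
  have hJ' : E₁.focalSubgroup ≤ (K₀.subgroupOf S).map α := by
    subst hW'def
    exact hCT.trans hJ
  intro P f hf x hx
  have hxS : x ∈ S := hf.le hx
  have hfxS : f x ∈ S := hf.mem hx
  obtain ⟨φ, hφ, hφf⟩ := hf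
  obtain ⟨φ', hφ', hP, hv, hP', hind⟩ := hmor.1.2 P φ hφ
  have h1 := mem_foc_of_mp (mp_of_mem hφ') (hP' ⟨x, hx⟩)
  rw [toFun_coe φ' ⟨_, hP' ⟨x, hx⟩⟩, hind ⟨x, hx⟩] at h1
  obtain ⟨z, hz, e⟩ := hJ' h1
  have hz' : (z : Ω) ∈ K₀ := Subgroup.mem_subgroupOf.mp hz
  have h2 : φ ⟨x, hx⟩ = f x := hφf ⟨x, hx⟩
  have h3 : (⟨φ ⟨x, hx⟩, hv _⟩ : ↥S) = ⟨f x, hfxS⟩ := Subtype.ext h2
  have e2 : α z = α (⟨x, hxS⟩⁻¹ * ⟨f x, hfxS⟩) := by
    rw [e, map_mul, map_inv, ← h3]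
  have h5 : α (z⁻¹ * (⟨x, hxS⟩⁻¹ * ⟨f x, hfxS⟩)) = 1 := by
    rw [map_mul, map_inv, ← e2, inv_mul_cancel]
  have h6 : ((z⁻¹ * (⟨x, hxS⟩⁻¹ * ⟨f x, hfxS⟩) : ↥S) : Ω) ∈ Y := (hker _).mp h5
  have e3 : x⁻¹ * f x = (z : Ω) * ((z⁻¹ * (⟨x, hxS⟩⁻¹ * ⟨f x, hfxS⟩) : ↥S) : Ω) := by
    simp
  rw [e3]
  exact Subgroup.mul_mem _ (Subgroup.mem_sup_left hz') (Subgroup.mem_sup_right h6)

/-- Automorphisms of a normal subgroup move elements inside the focal subgroup of the normalizer of `W(S)`. -/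
theorem foc_aut (hW : FunctorHyp p W) (hL : LocalCT.{u} p W) (hS : IsPGroup p S) {E : FusionSystem S} (hE : E.IsSaturated p) {Y K₀ : Subgroup Ω}
    (hK₀ : K₀ = (NSys E (WW W S) (WW_le S)).focalSubgroup) (hY : E.IsNormal Y)
    (hup : ∀ (R : Subgroup Ω) (hRS : R ≤ S) (hRN : S ≤ Subgroup.normalizer (R : Set Ω)), Y < R →
      (normSys E R S hRS le_rfl hRN).focalSubgroup ≤ K₀) {a : Ω → Ω} (haI : Iso E Y Y a) {y : Ω} (hyY : y ∈ Y) : y⁻¹ * a y ∈ K₀ := by
  classical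
  have hYS : Y ≤ S := hY.1
  have hSN : S ≤ Subgroup.normalizer (Y : Set Ω) := H24.normalizer_of_isNormal hY
  have hfar : Far E p Y := far_of_fullyNormalized hS hE (fullyNormalized_of_normal' hYS hSN)
  by_cases hc : centralizerIn S Y ≤ Y
  swap
  · obtain ⟨â, hâ, hâa⟩ := recept_ext (K := Y ⊔ centralizerIn S Y) hfar.recep haI le_sup_left (by
      refine sup_le (fun x hx => Subgroup.subset_closure (mem_good_of_mem haI hx)) ?_
      intro c hcc
      obtain ⟨hcS, hc'⟩ := mem_centralizerIn.mp hcc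
      exact Subgroup.subset_closure (mem_good_of_centralizes haI hcS (fun x hx => (hc' x hx).symm)))
    have hlt : Y < Y ⊔ centralizerIn S Y := lt_of_le_of_ne le_sup_left fun h => hc (le_sup_right.trans (le_of_eq h.symm))
    have hle : Y ⊔ centralizerIn S Y ≤ S := sup_le hYS inf_le_left
    have hIâ : Iso E Y Y â := haI.congr fun x hx => (hâa x hx).symm
    have hmaps : ∀ x ∈ Y ⊔ centralizerIn S Y, â x ∈ Y ⊔ centralizerIn S Y := by
      refine hâ.sup_maps hIâ.maps fun c hc => ?_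
      exact maps_centralizer hâ hIâ le_sup_left (Subgroup.mem_sup_right hc) hc.2
    haveI : Finite (Y ⊔ centralizerIn S Y : Subgroup Ω) := finite_of_le hle
    have hIso := Iso.of_maps hâ hmaps
    have hSNK : S ≤ Subgroup.normalizer ((Y ⊔ centralizerIn S Y : Subgroup Ω) : Set Ω) := by
      have key : ∀ s ∈ S, ∀ x ∈ Y ⊔ centralizerIn S Y, s * x * s⁻¹ ∈ Y ⊔ centralizerIn S Y := by
        intro s hs x hx
        have h1 : Y ⊔ centralizerIn S Y ≤ (Y ⊔ centralizerIn S Y).comap (MulAut.conj s).toMonoidHom := by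
          refine sup_le ?_ ?_
          · intro q hq
            exact Subgroup.mem_sup_left (conj_mem_of_normalizer (hSN hs) hq)
          · intro c hc
            exact Subgroup.mem_sup_right (conj_centralizerIn_mem hs (hSN hs) hc)
        exact h1 hx
      intro s hs
      refine mem_normalizer_of_conj (key s hs) fun x hx => ?_
      simpa using key s⁻¹ (S.inv_mem hs) x hx
    have hMp := mp_normSys_of_le hle hSNK hâ le_rfl ⟨hIso.maps, hIso.surj⟩
    have h1 := hup _ hle hSNK hlt (mem_foc_of_mp hMp (Subgroup.mem_sup_left hyY))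
    rwa [hâa y hyY] at h1
  have hcon : E.IsConstrained p := ⟨hE, Y, hY, H24.centric_of_normal hY hc⟩
  obtain ⟨G, _, ι, hG⟩ := H24.exists_model hS hcon
  have hcore := H24.preimage_eq_core hG
  by_cases hcoreQ : E.core = Y
  swap
  · have hX : E.IsNormal E.core := H24.isNormal_core
    have hQX : Y ≤ E.core := le_sSup hY
    have hlt : Y < E.core := lt_of_le_of_ne hQX (Ne.symm hcoreQ)
    obtain ⟨ψ, hψ, hψf, hg⟩ := normal_ext hX haI.mp
    have hSNX := H24.normalizer_of_isNormal hX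
    have e : Y ⊔ E.core = E.core := sup_eq_right.mpr hQX
    rw [e] at hψ
    have hMp := mp_normSys_of_le hX.1 hSNX hψ le_rfl hg
    have h1 := hup _ hX.1 hSNX hlt (mem_foc_of_mp hMp (hQX hyY))
    rwa [hψf y hyY] at h1
  obtain ⟨hfG, hr, ⟨T, hT⟩, hCG⟩ := hG
  haveI := hfG
  have hι := hr.1
  have hpre : ∀ x (hx : x ∈ S), ι ⟨x, hx⟩ ∈ pCore p G ↔ x ∈ Y := by
    intro x hx
    rw [← hcoreQ, ← hcore]
    constructor
    · intro h
      exact ⟨⟨x, hx⟩, h, rfl⟩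
    · rintro ⟨y, hy, rfl⟩
      exact hy
  have hOn := pCore_normal p G
  have hOT : pCore p G ≤ (T : Subgroup G) := H01.pCore_le_sylow p T
  have hrange : ι.range = (T : Subgroup G) := hT.symm
  obtain ⟨g, hg⟩ := exists_conj_of_mp hr haI.mp
  have hyS : y ∈ S := hYS hyY
  have hayS : a y ∈ S := haI.mp.mem hyY
  have hg2 : ι ⟨a y, hayS⟩ = g * ι ⟨y, hyS⟩ * g⁻¹ := by
    obtain ⟨h', h'', e⟩ := hg ⟨y, hyY⟩
    exact e
  have hu : ι (⟨y, hyS⟩⁻¹ * ⟨a y, hayS⟩) = ⁅(ι ⟨y, hyS⟩)⁻¹, g⁆ := by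
    rw [map_mul, map_inv, hg2, commutatorElement_def]
    group
  have hyO : ι ⟨y, hyS⟩ ∈ pCore p G := (hpre y hyS).mpr hyY
  have hayO : ι ⟨a y, hayS⟩ ∈ pCore p G := (hpre _ hayS).mpr (haI.maps y hyY)
  have hmem : ι (⟨y, hyS⟩⁻¹ * ⟨a y, hayS⟩) ∈ pCore p G ⊓ commutator G := by
    refine ⟨?_, ?_⟩
    · rw [map_mul, map_inv]
      exact Subgroup.mul_mem _ (Subgroup.inv_mem _ hyO) hayO
    · rw [hu, commutator_def]
      exact Subgroup.commutator_mem_commutator (Subgroup.mem_top _) (Subgroup.mem_top _)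
  rw [hL G T hCG] at hmem
  obtain ⟨-, n, hn, hne⟩ := hmem
  have hTp : IsPGroup p (T : Subgroup G) := T.isPGroup'
  have hWT : WW W (T : Subgroup G) = (W ↥S).map ι := WW_range hW hS hι hT
  have hTN : (T : Subgroup G) ≤ Subgroup.normalizer ((WW W (T : Subgroup G) : Subgroup G) : Set G) := S_le_norm_WW hW hTp
  have hfoc := Subgroup.commutator_inf_eq_focalSubgroup (T.subtype hTN)
  have hnT : n ∈ (T.subtype hTN : Subgroup ↥(Subgroup.normalizer ((WW W (T : Subgroup G) : Subgroup G) : Set G))) := by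
    rw [Sylow.coe_subtype, Subgroup.mem_subgroupOf]
    have h1 : (n : G) ∈ (T : Subgroup G) := by
      have h2 : (n : G) = ι (⟨y, hyS⟩⁻¹ * ⟨a y, hayS⟩) := hne
      rw [h2, ← hrange]
      exact ⟨_, rfl⟩
    exact h1
  have hnF : n ∈ Subgroup.focalSubgroup (T.subtype hTN : Subgroup ↥(Subgroup.normalizer ((WW W (T : Subgroup G) : Subgroup G) : Set G))) := by
    rw [← hfoc]
    exact ⟨hn, hnT⟩
  have hJ : Subgroup.focalSubgroup (T.subtype hTN : Subgroup ↥(Subgroup.normalizer ((WW W (T : Subgroup G) : Subgroup G) : Set G))) ≤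
      ((K₀.subgroupOf S).map ι).comap (Subgroup.normalizer ((WW W (T : Subgroup G) : Subgroup G) : Set G)).subtype := by
    refine (Subgroup.closure_le _).2 ?_
    rintro _ ⟨hg1, x, hx, u, rfl⟩
    have hxT : (x : G) ∈ (T : Subgroup G) := by
      rw [Sylow.coe_subtype, Subgroup.mem_subgroupOf] at hx
      exact hx
    have hgT : ((⁅x, u⁆ : ↥(Subgroup.normalizer ((WW W (T : Subgroup G) : Subgroup G) : Set G))) : G) ∈ (T : Subgroup G) := by
      rw [Sylow.coe_subtype, Subgroup.mem_subgroupOf] at hg1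
      exact hg1
    have hval : ((⁅x, u⁆ : ↥(Subgroup.normalizer ((WW W (T : Subgroup G) : Subgroup G) : Set G))) : G) = (x : G) * (u : G) * (x : G)⁻¹ * (u : G)⁻¹ := by
      rw [commutatorElement_def]
      rfl
    have huT : (u : G) * (x : G)⁻¹ * (u : G)⁻¹ ∈ (T : Subgroup G) := by
      have h1 := Subgroup.mul_mem _ (Subgroup.inv_mem _ hxT) hgT
      rw [hval] at h1
      have e : (x : G)⁻¹ * ((x : G) * (u : G) * (x : G)⁻¹ * (u : G)⁻¹) = (u : G) * (x : G)⁻¹ * (u : G)⁻¹ := by group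
      rwa [e] at h1
    have hxr : (x : G) ∈ ι.range := by
      rw [hrange]
      exact hxT
    obtain ⟨x₀, hx₀⟩ := hxr
    obtain ⟨x₁, hx₁⟩ : ∃ x₁ : ↥S, x₁ = x₀⁻¹ := ⟨_, rfl⟩
    have hιx₁ : ι x₁ = (x : G)⁻¹ := by
      rw [hx₁, map_inv, hx₀]
    have huWT : ∀ y ∈ W ↥S, (u : G) * ι y * (u : G)⁻¹ ∈ WW W (T : Subgroup G) := by
      intro y hy
      have h1 : ι y ∈ WW W (T : Subgroup G) := by
        rw [hWT]
        exact ⟨y, hy, rfl⟩
      exact conj_mem_of_normalizer u.2 h1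
    obtain ⟨C, hC⟩ : ∃ C : Subgroup ↥S, C = ((T : Subgroup G).comap (MulAut.conj (u : G)).toMonoidHom).comap ι := ⟨_, rfl⟩
    have hCmem : ∀ s : ↥S, s ∈ C ↔ (u : G) * ι s * (u : G)⁻¹ ∈ (T : Subgroup G) := by
      intro s
      rw [hC]
      rfl
    have hWC : W ↥S ≤ C := fun y hy => (hCmem y).mpr (WW_le _ (huWT y hy))
    have hx₁C : x₁ ∈ C := (hCmem x₁).mpr (by rw [hιx₁]; exact huT)
    obtain ⟨A, hA⟩ : ∃ A : Subgroup Ω, A = Subgroup.zpowers (x₁ : Ω) ⊔ WW W S := ⟨_, rfl⟩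
    have hAC : A ≤ C.map S.subtype := by
      rw [hA]
      refine sup_le ?_ (Subgroup.map_mono hWC)
      rw [Subgroup.zpowers_le]
      exact ⟨x₁, hx₁C, rfl⟩
    have hAS : A ≤ S := by
      rw [hA]
      refine sup_le ?_ (WW_le S)
      rw [Subgroup.zpowers_le]
      exact x₁.2
    obtain ⟨fa, hfa, hfaι⟩ := mp_of_conj hr hAS (u : G) (fun y => by
      obtain ⟨s, hs, hse⟩ := hAC y.2
      have h1 := (hCmem s).mp hs
      rw [hrange]
      have e : Subgroup.inclusion hAS y = s := Subtype.ext hse.symm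
      rw [e]
      exact h1)
    have hWA : WW W S ≤ A := by
      rw [hA]
      exact le_sup_right
    have hx₁A : (x₁ : Ω) ∈ A := by
      rw [hA]
      exact Subgroup.mem_sup_left (Subgroup.mem_zpowers _)
    have hfW : ∀ y ∈ WW W S, fa y ∈ WW W S := by
      rintro _ ⟨y₀, hy₀, rfl⟩
      obtain ⟨h', e⟩ := hfaι ⟨y₀, hWA ⟨y₀, hy₀, rfl⟩⟩
      have h2 := hWT.le (huWT y₀ hy₀)
      obtain ⟨y₁, hy₁, e₁⟩ := h2
      have e₂ : Subgroup.inclusion hAS ⟨(y₀ : Ω), hWA ⟨y₀, hy₀, rfl⟩⟩ = y₀ := rfl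
      rw [e₂] at e
      have h3 := hι (e₁.trans e.symm)
      have h4 : (y₁ : Ω) = fa y₀ := congrArg Subtype.val h3
      exact ⟨y₁, hy₁, h4⟩
    haveI : Finite (WW W S : Subgroup Ω) := finite_of_le (WW_le S)
    have hIW := Iso.of_maps (hfa.restrict hWA) hfW
    have hMp := mp_NSys_of_ge (WW_le S) hWA hfa (le_inf hAS (hAS.trans (S_le_norm_WW hW hS))) ⟨hfW, hIW.surj⟩
    have hfoc1 := mem_foc_of_mp hMp hx₁A
    rw [← hK₀] at hfoc1
    obtain ⟨h', e⟩ := hfaι ⟨x₁, hx₁A⟩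
    have e₂ : Subgroup.inclusion hAS ⟨(x₁ : Ω), hx₁A⟩ = x₁ := rfl
    rw [e₂, hιx₁] at e
    have hzS : (x₁ : Ω)⁻¹ * fa x₁ ∈ S := S.mul_mem (S.inv_mem x₁.2) h'
    refine ⟨⟨(x₁ : Ω)⁻¹ * fa x₁, hzS⟩, Subgroup.mem_subgroupOf.mpr hfoc1, ?_⟩
    have e₃ : (⟨(x₁ : Ω)⁻¹ * fa x₁, hzS⟩ : ↥S) = x₁⁻¹ * ⟨fa x₁, h'⟩ := Subtype.ext (by simp)
    show ι _ = ((⁅x, u⁆ : ↥(Subgroup.normalizer ((WW W (T : Subgroup G) : Subgroup G) : Set G))) : G)
    rw [e₃, map_mul, map_inv, e, hιx₁, hval]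
    group
  obtain ⟨z, hz, hzι⟩ := hJ hnF
  have hz' : (z : Ω) ∈ K₀ := Subgroup.mem_subgroupOf.mp hz
  have h3 : ι z = ι (⟨y, hyS⟩⁻¹ * ⟨a y, hayS⟩) := by
    rw [hzι]
    exact hne
  have h4 := hι h3
  have h5 : (z : Ω) = y⁻¹ * a y := by
    rw [h4]
    simp
  rw [← h5]
  exact hz'


/-- Systems with a nontrivial normal subgroup. -/
theorem foc_inner (hW : FunctorHyp p W) (hL : LocalCT.{u} p W) (hS : IsPGroup p S) (hIH : CT.{u} p W (Nat.card S)) :
    ∀ (d : ℕ) (E : FusionSystem S) (Y : Subgroup Ω), E.IsSaturated p → E.IsNormal Y → Y ≠ ⊥ → Nat.card S - Nat.card Y = d →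
      E.focalSubgroup ≤ (NSys E (WW W S) (WW_le S)).focalSubgroup := by
  classical
  intro d
  induction d using Nat.strong_induction_on with
  | _ d ih =>
  intro E Y hE hY hne hd
  obtain ⟨K₀, hK₀⟩ : ∃ K₀, K₀ = (NSys E (WW W S) (WW_le S)).focalSubgroup := ⟨_, rfl⟩
  rw [← hK₀]
  have hYS : Y ≤ S := hY.1
  have hSNY : S ≤ Subgroup.normalizer (Y : Set Ω) := H24.normalizer_of_isNormal hY
  have hSW := S_le_norm_WW hW hS
  have hNW : normalizerIn S (WW W S) = S := inf_eq_left.mpr hSW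
  have hK₀S : K₀ ≤ S := by
    rw [hK₀]
    exact (foc_le_self _).trans inf_le_left
  have hK₀E : K₀ ≤ E.focalSubgroup := by
    rw [hK₀]
    exact foc_le_of fun A f hf x hx => mem_foc_of_mp (NSys.mp_F (WW_le S) hf) hx
  have hup : ∀ (R : Subgroup Ω) (hRS : R ≤ S) (hRN : S ≤ Subgroup.normalizer (R : Set Ω)), Y < R →
      (normSys E R S hRS le_rfl hRN).focalSubgroup ≤ K₀ := by
    intro R hRS hRN hYR
    have hfarR : Far E p R := far_of_fullyNormalized hS hE (fullyNormalized_of_normal' hRS hRN)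
    have hsatR : (normSys E R S hRS le_rfl hRN).IsSaturated p := normSys_sat_of_eq (inf_eq_left.mpr hRN) hS hE hfarR
    have hRne : R ≠ ⊥ := by
      intro h
      rw [h] at hYR
      exact not_lt_bot hYR
    have hcard : Nat.card Y < Nat.card R := card_lt_of_lt (S := S) hRS hYR
    have hcardR : Nat.card R ≤ Nat.card S := card_le_of_le (S := S) le_rfl hRS
    have h1 := ih (Nat.card S - Nat.card R) (by omega) _ R hsatR isNormal_normSys hRne rfl
    refine h1.trans ?_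
    rw [hK₀]
    exact foc_nsys_mono fun P f hf => normSys_mp_F hf
  have hcomm : ∀ x ∈ S, ∀ y ∈ S, x * y * x⁻¹ * y⁻¹ ∈ K₀ := by
    intro x hx y hy
    have hxN : x⁻¹ ∈ normalizerIn S (WW W S) := by
      rw [hNW]
      exact S.inv_mem hx
    have hyN : y ∈ normalizerIn S (WW W S) := by
      rw [hNW]
      exact hy
    have h1 := mem_foc_of_mp (Mp.conj (F := NSys E (WW W S) (WW_le S)) (le_refl (normalizerIn S (WW W S))) hyN) hxN
    rw [← hK₀] at h1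
    have e : x * y * x⁻¹ * y⁻¹ = (x⁻¹)⁻¹ * (y * x⁻¹ * y⁻¹) := by group
    rw [e]
    exact h1
  by_cases hYeq : Y = S
  · subst hYeq
    refine foc_le_of fun A f hf x hx => ?_
    obtain ⟨ĥ, hĥ, hĥf, hg⟩ := normal_ext hY hf
    have e : A ⊔ Y = Y := sup_eq_right.mpr hf.le
    rw [e] at hĥ
    have hI : Iso E Y Y ĥ := ⟨hĥ, hg.1, hg.2⟩
    have hMp := mp_NSys_of_ge (WW_le Y) (WW_le Y) hĥ (le_inf le_rfl hSW) (WW_good_aut hW hS hI)
    have h1 := mem_foc_of_mp hMp (hf.le hx)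
    rw [← hK₀, hĥf x hx] at h1
    exact h1
  have hlt : Y < S := lt_of_le_of_ne hYS hYeq
  have h1 := foc_factor hW hS hE hY hne hlt hIH hK₀S hup
  have h2 : ∀ (a : Ω → Ω), Iso E Y Y a → ∀ y ∈ Y, y⁻¹ * a y ∈ K₀ := fun a ha y hy => foc_aut hW hL hS hE hK₀ hY hup ha hy
  intro z hz
  have h3 : z ∈ K₀ ⊔ Y := foc_le_of h1 hz
  rw [sup_comm] at h3
  obtain ⟨y, hy, k, hk, rfl⟩ := H01.exists_mul_of_mem_sup (hK₀S.trans hSNY) h3
  have h4 : y ∈ E.focalSubgroup := by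
    have e : y = (y * k) * k⁻¹ := by group
    rw [e]
    exact Subgroup.mul_mem _ hz (Subgroup.inv_mem _ (hK₀E hk))
  exact Subgroup.mul_mem _ (foc_inf_normal hS hE hY hK₀S hcomm h2 h4 hy) hk

/-- The inductive step. -/
theorem foc_step (hW : FunctorHyp p W) (hL : LocalCT.{u} p W) (hS : IsPGroup p S) (hF : F.IsSaturated p) (hIH : CT.{u} p W (Nat.card S)) :
    F.focalSubgroup ≤ (NSys F (WW W S) (WW_le S)).focalSubgroup := by
  classical
  obtain ⟨K, hK⟩ : ∃ K, K = (NSys F (WW W S) (WW_le S)).focalSubgroup := ⟨_, rfl⟩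
  rw [← hK, ← not_movK_iff]
  intro hm
  obtain ⟨X, hXdef⟩ : ∃ X : Set (Subgroup Ω), X = {Q | ∃ hQS : Q ≤ S, Q ≠ ⊥ ∧ F.IsFullyNormalized Q ∧ MovK (NSys F Q hQS) K} := ⟨_, rfl⟩
  have hXmem : ∀ Q, Q ∈ X ↔ ∃ hQS : Q ≤ S, Q ≠ ⊥ ∧ F.IsFullyNormalized Q ∧ MovK (NSys F Q hQS) K := by
    intro Q
    rw [hXdef]
    rfl
  have hbad : ∀ (R : Subgroup Ω) (a : Ω → Ω), F.IsFullyNormalized R → Iso F R R a → ∀ x ∈ R, x⁻¹ * a x ∉ K → R ∈ X := by
    intro R a hR hI x hx hne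
    refine (hXmem R).mpr ⟨hR.1, ?_, hR, R, a, mp_NSys_of_ge hR.1 le_rfl hI.mp (le_normalizerIn hR.1) ⟨hI.maps, hI.surj⟩, x, hx, hne⟩
    intro h
    rw [h, Subgroup.mem_bot] at hx
    subst hx
    apply hne
    rw [hI.mp.map_one]
    simp
  have hXne : X.Nonempty := by
    by_contra hemp
    rw [Set.not_nonempty_iff_eq_empty] at hemp
    obtain ⟨P, f, hf, x, hx, hfx⟩ := hm
    haveI : Finite P := finite_of_le hf.le
    refine hfx (fixK_large hS hF 0 (fun R a hR _ hI y hy => ?_) P f hf Nat.card_pos x hx)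
    by_contra hne
    have := hbad R a hR hI y hy hne
    rw [hemp] at this
    exact this
  have hXfin : X.Finite := H24.finite_subgroups_le.subset (fun Q hQ => ((hXmem Q).mp hQ).choose)
  obtain ⟨m, hmdef⟩ : ∃ m : Subgroup Ω → ℕ, m = fun Q => Nat.card (normalizerIn S Q) * (Nat.card S + 1) + Nat.card Q := ⟨_, rfl⟩
  obtain ⟨Q, hQX, hQmax⟩ := Set.exists_max_image X m hXfin hXne
  obtain ⟨hQS, hQne, hQfn, hQmv⟩ := (hXmem Q).mp hQX
  have hcardQ : Nat.card Q ≤ Nat.card S := Subgroup.card_le_of_le hQS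
  have hlarge : ∀ (P : Subgroup Ω) (f : Ω → Ω), Mp F P f → Nat.card (normalizerIn S Q) < Nat.card P → ∀ x ∈ P, x⁻¹ * f x ∈ K := by
    refine fixK_large hS hF _ (fun R a hR hlt hI y hy => ?_)
    by_contra hne
    have hRX := hbad R a hR hI y hy hne
    have h1 := hQmax R hRX
    rw [hmdef] at h1
    simp only at h1
    haveI : Finite R := finite_of_le hR.1
    haveI : Finite (normalizerIn S R) := finite_of_le inf_le_left
    have h2 : Nat.card R ≤ Nat.card (normalizerIn S R) := Subgroup.card_le_of_le (le_normalizerIn hR.1)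
    have h3 : (Nat.card (normalizerIn S Q) + 1) * (Nat.card S + 1) ≤ Nat.card (normalizerIn S R) * (Nat.card S + 1) :=
      Nat.mul_le_mul_right _ (by omega)
    nlinarith
  by_cases hT : normalizerIn S Q = S
  · have hSN : S ≤ Subgroup.normalizer (Q : Set Ω) := inf_eq_left.mp hT
    have hfar : Far F p Q := far_of_fullyNormalized hS hF hQfn
    have hsat : (normSys F Q S hQS le_rfl hSN).IsSaturated p := normSys_sat_of_eq (inf_eq_left.mpr hSN) hS hF hfar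
    have hmv : MovK (normSys F Q S hQS le_rfl hSN) K := by
      obtain ⟨A, f, hf, hx⟩ := hQmv
      refine ⟨A, f, ?_, hx⟩
      obtain ⟨h1, h2, h3, ĥ, hĥ, hĥf, hg⟩ := (mp_NSys_iff hQS).mp hf
      exact mp_normSys_iff'.mpr ⟨h1, h2.trans inf_le_left, fun x hx => (h3 x hx).1, ĥ, hĥ, hĥf, hg⟩
    have h1 := foc_inner hW hL hS hIH _ _ Q hsat isNormal_normSys hQne rfl
    have h2 : (NSys (normSys F Q S hQS le_rfl hSN) (WW W S) (WW_le S)).focalSubgroup ≤ K := by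
      rw [hK]
      exact foc_nsys_mono fun P f hf => normSys_mp_F hf
    exact (not_movK_iff.mpr (h1.trans h2)) hmv
  · obtain ⟨W', hW'S, hW'ne, hW'fn, hW'mv, hcard⟩ := foc_step_lt hW hS hF hIH hQS hQfn hQne hQmv hT hlarge
    have hW'X : W' ∈ X := (hXmem W').mpr ⟨hW'S, hW'ne, hW'fn, hW'mv⟩
    have h1 := hQmax W' hW'X
    rw [hmdef] at h1
    simp only at h1
    have h2 : (Nat.card (normalizerIn S Q) + 1) * (Nat.card S + 1) ≤ Nat.card (normalizerIn S W') * (Nat.card S + 1) :=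
      Nat.mul_le_mul_right _ hcard
    nlinarith

end

theorem ct_all [Fact p.Prime] (hW : FunctorHyp p W) (hL : LocalCT.{u} p W) : ∀ n, CT.{u} p W n := by
  intro n
  induction n with
  | zero =>
    intro Ω' _ S' _ F' hc
    omega
  | succ n ih =>
    intro Ω' _ S' _ F' hc hS hF
    exact foc_step hW hL hS hF (fun Ω'' _ S'' _ F'' hc'' => ih Ω'' S'' F'' (lt_of_lt_of_le hc'' (Nat.lt_succ_iff.mp hc)))

/-- **Control of transfer by a functor.** -/
theorem foc_main [Finite S] [Fact p.Prime] (hW : FunctorHyp p W) (hL : LocalCT.{u} p W) (hS : IsPGroup p S) (hF : F.IsSaturated p) :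
    (NSys F (WW W S) (WW_le S)).focalSubgroup = F.focalSubgroup := by
  apply le_antisymm
  · exact foc_le_of fun A f hf x hx => mem_foc_of_mp (NSys.mp_F (WW_le S) hf) hx
  · exact foc_step hW hL hS hF (ct_all hW hL _)

end Cfsg.Agent.H25
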