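import Cfsg.Agent.Lib.H25.FusFoc
import Cfsg.Agent.Lib.H25.FusGT2
import Cfsg.Agent.Lib.H25.FusInner
import Cfsg.Agent.Lib.H24.TateFinal

set_option autoImplicit false

/-! Systems with inner top automizer and strongly closed Frattini subgroup. -/

namespace Cfsg.Agent.H25

open Cfsg Cfsg.FusionSystem

universe u

variable {Ω : Type u} [Group Ω] {S : Subgroup Ω} {F : FusionSystem S}
variable {P Q R T K : Subgroup Ω} {f g h : Ω → Ω} {p : ℕ}

section Sat

variable [Finite S] [Fact p.Prime]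

/-- Downward induction on the order of the source, for coset preservation. -/
theorem fixK_down (hS : IsPGroup p S) (hF : F.IsSaturated p)
    (H : ∀ (R : Subgroup Ω) (a : Ω → Ω), F.IsFullyNormalized R → Iso F R R a →
      (∀ (K' : Subgroup Ω) (f : Ω → Ω), Mp F K' f → Nat.card R < Nat.card K' → ∀ x ∈ K', x⁻¹ * f x ∈ K) → ∀ x ∈ R, x⁻¹ * a x ∈ K) :
    ∀ (P : Subgroup Ω) (f : Ω → Ω), Mp F P f → ∀ x ∈ P, x⁻¹ * f x ∈ K := by
  classical
  have key : ∀ n m : ℕ, Nat.card S - m = n → ∀ (P : Subgroup Ω) (f : Ω → Ω), Mp F P f → m < Nat.card P → ∀ x ∈ P, x⁻¹ * f x ∈ K := by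
    intro n
    induction n using Nat.strong_induction_on with
    | _ n ih =>
      intro m hm
      refine fixK_large hS hF m fun R a hR hmR hI => H R a hR hI fun K' f hf hlt => ?_
      have h1 : Nat.card R ≤ Nat.card S := card_le_of_le (S := S) le_rfl hR.1
      by_cases hn0 : Nat.card R = 0
      · exact absurd hn0 (by omega)
      exact ih (Nat.card S - Nat.card R) (by omega) (Nat.card R) rfl K' f hf hlt
  intro P f hf
  haveI : Finite P := finite_of_le hf.le
  exact key _ 0 rfl P f hf Nat.card_pos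

/-- A subgroup containing the commutators of `S`, strongly closed, with all automorphisms of `S` inner, contains the focal subgroup. -/
theorem frat_fix (hS : IsPGroup p S) (hF : F.IsSaturated p) (hK : F.StronglyClosed K)
    (hcomm : ∀ g ∈ S, ∀ x ∈ S, x⁻¹ * (g * x * g⁻¹) ∈ K)
    (htop : ∀ a, Iso F S S a → ∃ s ∈ S, ∀ x ∈ S, a x = s * x * s⁻¹) :
    ∀ (P : Subgroup Ω) (f : Ω → Ω), Mp F P f → ∀ x ∈ P, x⁻¹ * f x ∈ K := by
  classical
  refine fixK_down hS hF fun R a hR ha IH x hx => ?_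
  by_cases hRS : R = S
  · subst hRS
    obtain ⟨s, hs, hsa⟩ := htop a ha
    rw [hsa x hx]
    exact hcomm s hs x hx
  have hfar := far_of_fullyNormalized hS hF hR
  have hRle : R ≤ S := hR.1
  haveI : Finite R := finite_of_le hRle
  have hsc : ∀ (b : Ω → Ω), Mp F R b → ∀ y ∈ R, y ∈ K → b y ∈ K := by
    intro b hb y hyR hyK
    obtain ⟨φ, hφ, hφb⟩ := hb.restrict (inf_le_left : R ⊓ K ≤ R)
    have := hK.2 (R ⊓ K) inf_le_right φ hφ ⟨y, hyR, hyK⟩
    rwa [hφb] at this
  let A := F.autGroup R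
  obtain ⟨T, hT⟩ := hfar.auto.2
  have hTC : ∀ β ∈ (T : Subgroup A), ∃ g ∈ S, IsC g (β : MulAut R) := by
    intro β hβ
    rw [hT, Subgroup.mem_subgroupOf] at hβ
    exact exists_of_mem_autInducedBy hβ
  have hCT : ∀ (β : A) (g : Ω), g ∈ S → IsC g (β : MulAut R) → β ∈ (T : Subgroup A) := by
    intro β g hg hβ
    rw [hT, Subgroup.mem_subgroupOf]
    exact mem_autInducedBy_of_conj hg hβ
  have hconjA : ∀ g ∈ normalizerIn S R, ∃ β : A, IsC g (β : MulAut R) := by
    intro g hg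
    have hI := Iso.conj_normalizer (F := F) hRle hg.1 hg.2
    exact ⟨⟨autOfIso hI, autOfIso_mem hI⟩, fun x => rfl⟩
  let D : Subgroup A :=
    { carrier := {α | ∀ y : R, (y : Ω)⁻¹ * (((α : MulAut R) y : R) : Ω) ∈ K}
      one_mem' := fun y => by
        show (y : Ω)⁻¹ * ((1 : MulAut R) y : R) ∈ K
        simp [K.one_mem]
      mul_mem' := by
        intro α β hα hβ y
        have h1 := hβ y
        have h2 := hα ((β : MulAut R) y)
        have h3 := K.mul_mem h1 h2
        have e : (((α * β : A) : MulAut R) y : R) = ((α : MulAut R) ((β : MulAut R) y) : R) := rfl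
        rw [e]
        have e2 : (y : Ω)⁻¹ * (((α : MulAut R) ((β : MulAut R) y) : R) : Ω) =
            (y : Ω)⁻¹ * (((β : MulAut R) y : R) : Ω) * ((((β : MulAut R) y : R) : Ω)⁻¹ * (((α : MulAut R) ((β : MulAut R) y) : R) : Ω)) := by group
        rw [e2]
        exact h3
      inv_mem' := by
        intro α hα y
        have h1 := hα (((α⁻¹ : A) : MulAut R) y)
        have e : ((α : MulAut R) (((α⁻¹ : A) : MulAut R) y) : R) = y := by
          show ((α : MulAut R) ((α : MulAut R)⁻¹ y) : R) = y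
          simp
        rw [e] at h1
        have h2 := K.inv_mem h1
        simpa using h2 }
  have hTD : (T : Subgroup A) ≤ D := by
    intro β hβ y
    obtain ⟨g, hg, hgβ⟩ := hTC β hβ
    rw [hgβ y]
    exact hcomm g hg y (hRle y.2)
  haveI hDn : D.Normal := by
    constructor
    intro α hα γ y
    have hγ := Iso.of_mem_autGroup hRle γ.2
    -- the element `γ⁻¹ y`
    have h1 := hα (((γ⁻¹ : A) : MulAut R) y)
    obtain ⟨z, hz⟩ : ∃ z : R, z = ((γ⁻¹ : A) : MulAut R) y := ⟨_, rfl⟩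
    rw [← hz] at h1
    have hyz : y = (γ : MulAut R) z := by
      rw [hz]
      show y = (γ : MulAut R) ((γ : MulAut R)⁻¹ y)
      simp
    have e : (((γ * α * γ⁻¹ : A) : MulAut R) y : R) = ((γ : MulAut R) ((α : MulAut R) z) : R) := by
      rw [hz]
      rfl
    rw [e, hyz]
    have hm : (z : Ω)⁻¹ * (((α : MulAut R) z : R) : Ω) ∈ R :=
      R.mul_mem (R.inv_mem z.2) ((α : MulAut R) z).2
    have h2 := hsc _ hγ.mp _ hm h1
    rw [hγ.mp.map_mul (R.inv_mem z.2) ((α : MulAut R) z).2, hγ.mp.map_inv z.2, toFun_aut, toFun_aut] at h2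
    exact h2
  have hsup := Cfsg.Agent.H14.frattini_inf T D
  rw [inf_eq_left.mpr hTD] at hsup
  have hαmem : (⟨autOfIso ha, autOfIso_mem ha⟩ : A) ∈ Subgroup.normalizer ((T : Subgroup A) : Set A) ⊔ D := by
    rw [hsup]; exact Subgroup.mem_top _
  rw [sup_comm] at hαmem
  obtain ⟨d, hd, n, hn, hα⟩ := Cfsg.Agent.H01.exists_mul_of_mem_sup (N := D)
    (A := Subgroup.normalizer ((T : Subgroup A) : Set A)) (le_top.trans (Subgroup.normalizer_eq_top_iff.mpr hDn).ge) hαmem
  -- the part normalizing the Sylow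
  have hb := Iso.of_mem_autGroup hRle n.2
  have hbapp : ∀ y : R, toFun (R.subtype.comp (n : MulAut R).toMonoidHom) y = (((n : MulAut R) y : R) : Ω) := toFun_aut _
  obtain ⟨b, hbdef⟩ : ∃ b, b = toFun (R.subtype.comp (n : MulAut R).toMonoidHom) := ⟨_, rfl⟩
  rw [← hbdef] at hb hbapp
  obtain ⟨e, he, heb⟩ := recept_ext hfar.recep hb (K := normalizerIn S R) (le_normalizerIn hRle) (by
    intro g hg
    apply Subgroup.subset_closure
    refine ⟨hg.1, hg.2, ?_⟩
    obtain ⟨β, hβ⟩ := hconjA g hg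
    have h1 : β ∈ (T : Subgroup A) := hCT β g hg.1 hβ
    have h2 := (Subgroup.mem_normalizer_iff.mp hn β).mp h1
    obtain ⟨s, hs, hsβ⟩ := hTC _ h2
    refine ⟨s, hs, fun x hx => ?_⟩
    have h3 := hsβ ((n : MulAut R) ⟨x, hx⟩)
    have e1 : (((n * β * n⁻¹ : A) : MulAut R) ((n : MulAut R) ⟨x, hx⟩) : R) = ((n : MulAut R) ((β : MulAut R) ⟨x, hx⟩) : R) := by
      show ((n : MulAut R) ((β : MulAut R) ((n : MulAut R)⁻¹ ((n : MulAut R) ⟨x, hx⟩))) : R) = _
      simp
    rw [e1] at h3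
    have hgx : g * x * g⁻¹ ∈ R := conj_mem_of_normalizer hg.2 hx
    have e2 : (β : MulAut R) ⟨x, hx⟩ = ⟨g * x * g⁻¹, hgx⟩ := Subtype.ext (hβ _)
    rw [e2, ← hbapp, ← hbapp] at h3
    exact h3)
  have hcard : Nat.card R < Nat.card (normalizerIn S R) := by
    obtain ⟨g, hg, hgA⟩ := exists_normalizer_not_mem hS hRle hRS
    exact card_lt_of_lt normalizerIn_le (lt_of_le_of_ne (le_normalizerIn hRle) fun h => hgA (h ▸ hg))
  have hnD : n ∈ D := by
    intro y
    have h1 := IH _ e he hcard y (le_normalizerIn hRle y.2)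
    rw [heb y y.2, hbapp] at h1
    exact h1
  have hfin : (⟨autOfIso ha, autOfIso_mem ha⟩ : A) ∈ D := by
    rw [hα]
    exact D.mul_mem hd hnD
  have := hfin ⟨x, hx⟩
  rwa [show ((((⟨autOfIso ha, autOfIso_mem ha⟩ : A) : MulAut R) ⟨x, hx⟩ : R) : Ω) = a x from autOfIso_apply ha _] at this

/-- If the hyperfocal subgroup is trivial the system is inner. -/
theorem inner_of_hyp_bot (hS : IsPGroup p S) (hF : F.IsSaturated p) (h : F.hyperfocalSubgroup p = ⊥) :
    F = innerFusionSystem S := by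
  refine H24.eq_inner_of_pGroup hS hF fun P hP => ?_
  haveI : Finite P := finite_of_le hP
  refine H24.isPGroup_of_coprime_one _ fun b hb hc => ?_
  have hmem : (⟨b, hb⟩ : F.autGroup P) ∈ pResidual p (F.autGroup P) := by
    refine Subgroup.subset_closure ?_
    show Nat.Coprime (orderOf (⟨b, hb⟩ : F.autGroup P)) p
    rw [Subgroup.orderOf_mk]
    exact hc
  apply MulEquiv.ext
  intro x
  apply Subtype.ext
  have h1 : (x : Ω)⁻¹ * ((b x : P) : Ω) ∈ F.hyperfocalSubgroup p :=
    Subgroup.subset_closure ⟨P, ⟨b, hb⟩, x, hP, hmem, rfl⟩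
  rw [h, Subgroup.mem_bot] at h1
  have h2 : ((b x : P) : Ω) = x := by
    have := congrArg (fun z => (x : Ω) * z) h1
    simpa using this
  simpa using h2

theorem hyp_inner_bot (hS : IsPGroup p S) : (innerFusionSystem S).hyperfocalSubgroup p = ⊥ := by
  rw [eq_bot_iff]
  refine (Subgroup.closure_le _).mpr ?_
  rintro y ⟨P, α, x, hP, hα, rfl⟩
  have hle : (innerFusionSystem S).autGroup P ≤ autInducedBy S P := by
    refine (Subgroup.closure_le _).mpr ?_
    rintro α ⟨-, g, hg, hα⟩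
    exact Subgroup.subset_closure ⟨g, hg, hα⟩
  haveI : Finite P := finite_of_le hP
  have hp : IsPGroup p ((innerFusionSystem S).autGroup P) := by
    intro α
    obtain ⟨g, hg, hgα⟩ := exists_of_mem_autInducedBy (hle α.2)
    obtain ⟨k, hk⟩ := hS ⟨g, hg⟩
    have hk' : g ^ p ^ k = 1 := congrArg Subtype.val hk
    refine ⟨k, ?_⟩
    apply Subtype.ext
    apply MulEquiv.ext
    intro x
    apply Subtype.ext
    have hpow : ∀ n : ℕ, ∀ x : P, (((α.1 ^ n) x : P) : Ω) = g ^ n * x * (g ^ n)⁻¹ := by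
      intro n
      induction n with
      | zero => intro x; simp
      | succ n ih =>
        intro x
        rw [pow_succ, MulAut.mul_apply, ih, hgα, pow_succ]
        group
    have := hpow (p ^ k) x
    rw [hk'] at this
    simpa using this
  have hbot : pResidual p ((innerFusionSystem S).autGroup P) = ⊥ := by
    rw [eq_bot_iff]
    refine (Subgroup.closure_le _).mpr ?_
    intro b hb
    obtain ⟨k, hk⟩ := hp b
    have hdvd : orderOf b ∣ p ^ k := orderOf_dvd_of_pow_eq_one hk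
    have hc : Nat.Coprime (orderOf b) (p ^ k) := Nat.Coprime.pow_right k hb
    have h1 : orderOf b = 1 := Nat.Coprime.eq_one_of_dvd hc hdvd
    exact orderOf_eq_one_iff.mp h1
  rw [hbot, Subgroup.mem_bot] at hα
  rw [hα]
  simp

/-- The criterion: an inner top automizer and a strongly closed Frattini subgroup make the system inner. -/
theorem inner_of_frattini (hS : IsPGroup p S) (hF : F.IsSaturated p)
    (hK : F.StronglyClosed ((frattini ↥S).map S.subtype))
    (htop : ∀ a, Iso F S S a → ∃ s ∈ S, ∀ x ∈ S, a x = s * x * s⁻¹) : F = innerFusionSystem S := by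
  have hcomm : ∀ g ∈ S, ∀ x ∈ S, x⁻¹ * (g * x * g⁻¹) ∈ (frattini ↥S).map S.subtype := by
    intro g hg x hx
    refine ⟨(⟨x, hx⟩ : S)⁻¹ * (⟨g, hg⟩ * ⟨x, hx⟩ * (⟨g, hg⟩ : S)⁻¹), ?_, rfl⟩
    apply Cfsg.Agent.H01.commutator_le_frattini_of_isPGroup hS
    have := Subgroup.commutator_mem_commutator (Subgroup.mem_top (⟨x, hx⟩ : S)⁻¹) (Subgroup.mem_top (⟨g, hg⟩ : S))
    rw [commutatorElement_def, inv_inv] at this
    have e : (⟨x, hx⟩ : S)⁻¹ * (⟨g, hg⟩ * ⟨x, hx⟩ * (⟨g, hg⟩ : S)⁻¹) = (⟨x, hx⟩ : S)⁻¹ * ⟨g, hg⟩ * ⟨x, hx⟩ * (⟨g, hg⟩ : S)⁻¹ := by group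
    rw [e]
    exact this
  have h1 := frat_fix hS hF hK hcomm htop
  have hF1 : F.focalSubgroup ≤ (frattini ↥S).map S.subtype := foc_le_of h1
  have hI : (innerFusionSystem S).focalSubgroup ≤ (frattini ↥S).map S.subtype := by
    refine foc_le_of fun P f hf x hx => ?_
    obtain ⟨hP, g, hg, hgf⟩ := inner_mp_iff.mp hf
    rw [hgf x hx]
    exact hcomm g hg x (hP hx)
  have hfoc := (H24.tate_main hS F hF (innerFusionSystem S) (inner_isSaturated hS) (inner_le le_rfl)).1.1
    (by rw [sup_eq_left.mpr hF1, sup_eq_left.mpr hI])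
  have hhyp := (H24.tate_main hS F hF (innerFusionSystem S) (inner_isSaturated hS) (inner_le le_rfl)).2.1 hfoc
  exact inner_of_hyp_bot hS hF (hhyp.trans (hyp_inner_bot hS))

/-- The statement with the Frattini criterion. -/
theorem frat_criterion (hS : IsPGroup p S) (hF : F.IsSaturated p) :
    (∀ P : Subgroup Ω, F.Hom P = (innerFusionSystem S).Hom P) ↔
      (∀ N : FusionSystem (normalizerIn S S), F.IsNormalizerSystem S N → ∀ P : Subgroup Ω,
        N.Hom P = (innerFusionSystem (normalizerIn S S)).Hom P) ∧ F.StronglyClosed ((frattini ↥S).map S.subtype) := by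
  constructor
  · intro hinner
    refine ⟨fun N hN P => ?_, ?_⟩
    · rw [eq_NSys le_rfl hN]
      exact nsys_inner hinner le_rfl P
    · refine ⟨?_, fun R hR φ hφ x => ?_⟩
      · rintro _ ⟨y, -, rfl⟩
        exact y.2
      · rw [hinner R] at hφ
        obtain ⟨hRS, g, hg, hφg⟩ := hφ
        rw [hφg x]
        obtain ⟨y, hy, hyx⟩ := hR x.2
        refine ⟨⟨g, hg⟩ * y * (⟨g, hg⟩ : S)⁻¹, ?_, ?_⟩
        · exact (inferInstance : (frattini ↥S).Normal).conj_mem y hy _
        · rw [← hyx]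
          rfl
  · rintro ⟨hN, hsc⟩ P
    have htop : ∀ a, Iso F S S a → ∃ s ∈ S, ∀ x ∈ S, a x = s * x * s⁻¹ := by
      intro a ha
      obtain ⟨N, hNN⟩ := exists_isNormalizerSystem (F := F) (Q := S) le_rfl
      have h1 := hN N hNN
      rw [eq_NSys le_rfl hNN] at h1
      have hSn : S ≤ normalizerIn S S := le_normalizerIn le_rfl
      have hm : Mp (NSys F S le_rfl) S a := by
        refine (mp_NSys_iff le_rfl).mpr ⟨ha.mp, hSn, fun x hx => hSn (ha.maps x hx), ?_⟩
        refine ⟨a, ?_, fun _ _ => rfl, ?_⟩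
        · rw [sup_idem]
          exact ha.mp
        · exact ⟨ha.maps, ha.surj⟩
      obtain ⟨φ, hφ, hφa⟩ := hm
      rw [h1 S] at hφ
      obtain ⟨-, s, hs, hφs⟩ := hφ
      refine ⟨s, hs.1, fun x hx => ?_⟩
      rw [← hφa ⟨x, hx⟩, hφs]
    rw [inner_of_frattini hS hF hsc htop]

end Sat

end Cfsg.Agent.H25
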