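import Cfsg.Agent.Lib.H25.AxGT2
import Cfsg.Agent.Lib.H25.GpTh
import Cfsg.Agent.Lib.H24.SecFree2
import Cfsg.Agent.Lib.H24.SecFree4

set_option autoImplicit false

/-! Thompson's normal `p`-complement theorem for fusion systems: the local step. -/

namespace Cfsg.Agent.H25

open Cfsg Cfsg.FusionSystem H13 H14

open scoped commutatorElement

universe u

variable {Ω : Type u} [Group Ω] {S : Subgroup Ω} {F : FusionSystem S} {p : ℕ}

/-- `p` is odd or the system is `S₄`-free. -/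
def SF (F : FusionSystem S) (p : ℕ) : Prop := p ≠ 2 ∨ F.IsSectionFree p (Equiv.Perm (Fin 4))

/-- The centre of a subgroup. -/
abbrev ZZ (S : Subgroup Ω) : Subgroup Ω := S ⊓ Subgroup.centralizer (S : Set Ω)

/-- Automorphisms with an extension fixing `Z` have `p`-power order. -/
def CPN (F : FusionSystem S) (Z : Subgroup Ω) (p : ℕ) : Prop :=
  ∀ (P : Subgroup Ω) (f : Ω → Ω), Iso F P P f → ∀ ĥ, Mp F (P ⊔ Z) ĥ → (∀ x ∈ P, ĥ x = f x) → GoodC Z ĥ →
    ∃ k : ℕ, ∀ x ∈ P, f^[p ^ k] x = x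

/-- Data relating a system to a group through conjugation. -/
structure LD (E₀ : FusionSystem S) {L : Type*} [Group L] (j : ↥S →* L) (TL : Subgroup L) : Prop where
  inj : Function.Injective j
  range : j.range = TL
  real : ∀ (X₀ : Subgroup ↥S) (g : L), g ∈ Subgroup.normalizer ((X₀.map j : Subgroup L) : Set L) →
      ∃ f, Iso E₀ (X₀.map S.subtype) (X₀.map S.subtype) f ∧ ∀ x : ↥S, x ∈ X₀ → ∃ h : f x ∈ S, j ⟨f x, h⟩ = g * j x * g⁻¹

section Gp

variable [Finite S] [Fact p.Prime]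

/-- The Frobenius condition for a subgroup normalizing the image of `W₀`. -/
theorem fc_of_good {E₀ : FusionSystem S} {L : Type*} [Group L] [Finite L] {j : ↥S →* L} {TL : Sylow p L}
    (hD : LD E₀ j (TL : Subgroup L)) (hle : ∀ (P : Subgroup Ω) f, Mp E₀ P f → Mp F P f) {W₀ : Subgroup ↥S} {H : Subgroup L}
    (hTH : (TL : Subgroup L) ≤ H) (hHN : H ≤ Subgroup.normalizer ((W₀.map j : Subgroup L) : Set L)) {Good : (Ω → Ω) → Prop}
    (hgood : ∀ y ∈ H, ∀ f, Mp F (W₀.map S.subtype) f → (∀ x ∈ W₀, ∃ h : f x ∈ S, j ⟨f x, h⟩ = y * j x * y⁻¹) → Good f)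
    (hPN : ∀ (P : Subgroup Ω) f, P ≤ S → Iso F P P f → ∀ ĥ, Mp F (P ⊔ W₀.map S.subtype) ĥ → (∀ x ∈ P, ĥ x = f x) → Good ĥ →
      ∃ k : ℕ, ∀ x ∈ P, f^[p ^ k] x = x) : FC p H := by
  classical
  have hjrange := hD.range
  have hjinj := hD.inj
  have hmemj : ∀ (X₀ : Subgroup ↥S) (s : ↥S), j s ∈ X₀.map j ↔ s ∈ X₀ := fun X₀ s =>
    ⟨fun ⟨y, hy, e⟩ => (hjinj e) ▸ hy, fun h => ⟨s, h, rfl⟩⟩
  refine FC_of_frobCond (frobCond_of_sylow (TL.subtype hTH) fun U hU y hy hco => ?_)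
  have hUT : ∀ u : H, u ∈ U → (u : L) ∈ j.range := by
    intro u hu
    rw [hjrange]
    have h1 := hU hu
    rw [Sylow.coe_subtype, Subgroup.mem_subgroupOf] at h1
    exact h1
  obtain ⟨U', hU'⟩ : ∃ U', U' = U.map H.subtype := ⟨_, rfl⟩
  have hU'range : U' ≤ j.range := by
    rw [hU']
    rintro _ ⟨u, hu, rfl⟩
    exact hUT u hu
  have hyU' : (y : L) ∈ Subgroup.normalizer ((U' : Subgroup L) : Set L) := by
    rw [hU']
    refine H09.mem_normalizer_of_conj_le ?_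
    rintro _ ⟨u, hu, rfl⟩
    exact ⟨_, conj_mem_of_normalizer hy hu, rfl⟩
  have hyW : (y : L) ∈ Subgroup.normalizer ((W₀.map j : Subgroup L) : Set L) := hHN y.2
  have hUm : (U'.comap j).map j = U' := Subgroup.map_comap_eq_self hU'range
  obtain ⟨U₀, hU₀⟩ : ∃ U₀, U₀ = U'.comap j := ⟨_, rfl⟩
  rw [← hU₀] at hUm
  rw [← hUm] at hyU'
  have hyK : (y : L) ∈ Subgroup.normalizer (((U₀ ⊔ W₀).map j : Subgroup L) : Set L) := by
    rw [Subgroup.map_sup]
    refine H09.mem_normalizer_of_conj_le fun x hx => ?_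
    have hle' : U₀.map j ⊔ W₀.map j ≤ (U₀.map j ⊔ W₀.map j).comap (MulAut.conj (y : L)).toMonoidHom := by
      refine sup_le (fun a ha => ?_) (fun a ha => ?_)
      · exact Subgroup.mem_sup_left (conj_mem_of_normalizer hyU' ha)
      · exact Subgroup.mem_sup_right (conj_mem_of_normalizer hyW ha)
    exact hle' hx
  obtain ⟨f, hfI, hfv⟩ := hD.real (U₀ ⊔ W₀) y hyK
  have hKsup : (U₀ ⊔ W₀).map S.subtype = U₀.map S.subtype ⊔ W₀.map S.subtype := Subgroup.map_sup _ _ _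
  rw [hKsup] at hfI
  have hfF : Mp F (U₀.map S.subtype ⊔ W₀.map S.subtype) f := hle _ _ hfI.mp
  have hRS : U₀.map S.subtype ≤ S := by
    rintro _ ⟨x, -, rfl⟩
    exact x.2
  have hfR : ∀ x ∈ U₀.map S.subtype, f x ∈ U₀.map S.subtype := by
    rintro _ ⟨x, hx, rfl⟩
    obtain ⟨h', e⟩ := hfv x (Subgroup.mem_sup_left hx)
    have h1 := conj_mem_of_normalizer hyU' (⟨x, hx, rfl⟩ : j x ∈ U₀.map j)
    rw [← e, hmemj] at h1
    exact ⟨_, h1, rfl⟩
  have hgoodf : Good f := by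
    refine hgood y y.2 f (hfF.restrict le_sup_right) fun x hx => hfv x (Subgroup.mem_sup_right hx)
  haveI : Finite (U₀.map S.subtype) := finite_of_le hRS
  have hIU : Iso F (U₀.map S.subtype) (U₀.map S.subtype) f := Iso.of_maps (hfF.restrict le_sup_left) hfR
  obtain ⟨k, hk⟩ := hPN _ f hRS hIU f hfF (fun _ _ => rfl) hgoodf
  rw [Subgroup.mem_centralizer_iff]
  intro u' hu'
  have hu'U : (u' : L) ∈ U' := by
    rw [hU']
    exact ⟨u', hu', rfl⟩
  rw [← hUm] at hu'U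
  obtain ⟨u, hu, e⟩ := hu'U
  have huR : (u : Ω) ∈ U₀.map S.subtype := ⟨u, hu, rfl⟩
  have hiter := iter_conj (ι := j) hRS (g := (y : L)) hfR (fun x hx => by
    obtain ⟨x₀, hx₀, rfl⟩ := hx
    obtain ⟨h', e'⟩ := hfv x₀ (Subgroup.mem_sup_left hx₀)
    exact e') (p ^ k) u huR (hRS (iterate_maps hIU _ _ huR))
  have e1 : (⟨f^[p ^ k] (u : Ω), hRS (iterate_maps hIU _ _ huR)⟩ : ↥S) = u := Subtype.ext (hk _ huR)
  rw [e1] at hiter
  have hcomm : (y : L) ^ p ^ k * j u = j u * (y : L) ^ p ^ k := by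
    have h1 : (y : L) ^ p ^ k * j u * ((y : L) ^ p ^ k)⁻¹ * (y : L) ^ p ^ k = j u * (y : L) ^ p ^ k := by rw [← hiter]
    simpa using h1
  have hco' : (orderOf (y : L)).Coprime p := by
    rw [Subgroup.orderOf_coe]
    exact hco
  have h2 := comm_of_pow_comm hco' hcomm
  apply Subtype.ext
  show (u' : L) * y = y * u'
  rw [← e]
  exact h2.symm

end Gp

section Local

variable [Finite S] [Fact p.Prime]

/-- The model of a normalizer system at a normal subgroup over all of `S` is a model of the system. -/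
theorem model_core {E₀ : FusionSystem S} {R : Subgroup Ω} (hR : E₀.IsNormal R) {N₀ : FusionSystem (normalizerIn S R)}
    (hN₀ : E₀.IsNormalizerSystem R N₀) {G : Type*} [Group G] {ι : ↥S →* G} (hM : E₀.IsModel p G ι) :
    N₀.IsModel p G (ι.comp (Subgroup.inclusion (inf_le_left : normalizerIn S R ≤ S))) := by
  have hnorm := H24.normalizer_of_isNormal hR
  have hNS : normalizerIn S R = S := inf_eq_left.2 hnorm
  obtain ⟨hfin, hr, ⟨T, hT⟩, hC⟩ := hM
  refine ⟨hfin, ⟨?_, ?_⟩, ⟨T, ?_⟩, hC⟩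
  · exact hr.1.comp (Subgroup.inclusion_injective _)
  · intro P hP φ hφ
    have hPS : P ≤ S := hP.trans inf_le_left
    have hφS : ∀ x : P, φ x ∈ S := fun x => (hφ x).1
    have h1 : φ ∈ N₀.Hom P ↔ φ ∈ E₀.Hom P := by
      rw [hN₀ P]
      constructor
      · exact fun h => h.1
      · intro h
        obtain ⟨ψ, hψ, hψ1, hψ2⟩ := hR.2 P φ h
        exact ⟨h, hP, hφ, ψ, hψ, hψ1, hψ2⟩
    rw [h1, hr.2 P hPS φ hφS]
    rfl
  · rw [hT]
    ext x
    constructor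
    · rintro ⟨s, rfl⟩
      exact ⟨⟨s, by rw [hNS]; exact s.2⟩, rfl⟩
    · rintro ⟨s, rfl⟩
      exact ⟨_, rfl⟩

/-- Models of an `A`-free constrained system do not involve `A`. -/
theorem not_involves_of_model {A : Type*} [Group A] (hS : IsPGroup p S) {E₀ : FusionSystem S} (hc : E₀.IsConstrained p) (hfree : E₀.IsSectionFree p A)
    {G : Type u} [Group G] {ι : ↥S →* G} (hM : E₀.IsModel p G ι) : ¬ Involves A G := by
  have hF := hc.1
  have hRn : E₀.IsNormal E₀.core := H24.isNormal_core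
  have hRc := H24.core_isCentric hc
  have hRf := H24.fullyNormalized_of_normal hRn
  obtain ⟨N₀, hN₀⟩ := exists_isNormalizerSystem (F := E₀) hRn.1
  exact hfree E₀.core hRf hRc N₀ hN₀ G _ (model_core hRn hN₀ hM)

theorem sf_normSys {T Q : Subgroup Ω} (hS : IsPGroup p S) (hF : F.IsSaturated p) (hQT : normalizerIn S Q = T) (hfn : F.IsFullyNormalized Q) {A : Type*} [Group A]
    (hfree : F.IsSectionFree p A) {hQS : Q ≤ S} {hT : T ≤ S} {hTN : T ≤ Subgroup.normalizer (Q : Set Ω)} :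
    (normSys F Q T hQS hT hTN).IsSectionFree p A := by
  subst hQT
  obtain ⟨N₀, hN₀⟩ := exists_isNormalizerSystem (F := F) hQS
  have h := H24.sectionFree_normalizer hS hF hfree hfn hN₀
  rwa [eq_NSys hQS hN₀] at h

/-- The local theorem. -/
theorem th_local {Q : Subgroup Ω} {E₀ : FusionSystem S} (hS : IsPGroup p S) (hcon : E₀.IsConstrained p) (hnp₀ : ¬ PN E₀ p) (hsf : SF E₀ p)
    (hQS : Q ≤ S) (hQn : E₀.IsNormal Q)
    (hfac : ∀ (P : Subgroup Ω) (f : Ω → Ω), Q ≤ P → Iso E₀ P P f → ∃ k : ℕ, ∀ x ∈ P, x⁻¹ * f^[p ^ k] x ∈ Q)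
    (hleF : ∀ (P : Subgroup Ω) f, Mp E₀ P f → Mp F P f) (hZ : CPN F (ZZ S) p)
    (hJ : ∀ hW : thompsonSubgroupAOf S ≤ S, PN (NSys F (thompsonSubgroupAOf S) hW) p) : False := by
  classical
  obtain ⟨G, _, ι, hG⟩ := H24.exists_model hS hcon
  have hcore := H24.preimage_eq_core hG
  obtain ⟨hfG, hr, ⟨T, hT⟩, hCG⟩ := hG
  haveI := hfG
  have hι := hr.1
  have hOn := pCore_normal p G
  haveI := hOn
  have hOT : pCore p G ≤ (T : Subgroup G) := H01.pCore_le_sylow p T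
  have hQO : ∀ x (hx : x ∈ Q), ι ⟨x, hQS hx⟩ ∈ pCore p G := by
    intro x hx
    have h1 : x ∈ E₀.core := (le_sSup hQn : Q ≤ E₀.core) hx
    rw [← hcore] at h1
    obtain ⟨y, hy, e⟩ := h1
    have : y = ⟨x, hQS hx⟩ := Subtype.ext e
    rw [← this]
    exact hy
  have hquot : FrobCond p (G ⧸ pCore p G) := frob_quot hr T hT hOT hQS hQO hfac
  have hnotG : ¬ FC p (⊤ : Subgroup G) := fun h => hnp₀ (pn_of_frob hS hr (FC_top_iff.mp h))
  -- a minimal subgroup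
  obtain ⟨L, ⟨hTL, hLfc⟩, hLmin⟩ := Set.exists_min_image {L : Subgroup G | (T : Subgroup G) ≤ L ∧ ¬ FC p L} (fun L => Nat.card L)
    (Set.toFinite _) ⟨⊤, le_top, hnotG⟩
  have hOL : pCore p G ≤ L := hOT.trans hTL
  have hιL : ∀ s, ι s ∈ L := fun s => hTL (by rw [hT]; exact ⟨s, rfl⟩)
  obtain ⟨j, hj⟩ : ∃ j : ↥S →* ↥L, j = ι.codRestrict L hιL := ⟨_, rfl⟩
  have hjv : ∀ s, ((j s : L) : G) = ι s := fun s => by rw [hj]; rfl
  have hjinj : Function.Injective j := by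
    intro a b h
    apply hι
    rw [← hjv, ← hjv, h]
  obtain ⟨TL, hTLdef⟩ : ∃ TL : Sylow p ↥L, TL = T.subtype hTL := ⟨_, rfl⟩
  have hTLmem : ∀ x : L, x ∈ (TL : Subgroup L) ↔ (x : G) ∈ (T : Subgroup G) := by
    intro x
    rw [hTLdef, Sylow.coe_subtype, Subgroup.mem_subgroupOf]
  have hjrange : j.range = (TL : Subgroup L) := by
    ext x
    rw [hTLmem, hT]
    constructor
    · rintro ⟨s, rfl⟩
      exact ⟨s, (hjv s).symm⟩
    · rintro ⟨s, hs⟩
      exact ⟨s, Subtype.ext ((hjv s).trans hs)⟩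
  -- conjugations
  have hreal : ∀ (X₀ : Subgroup ↥S) (g : L), g ∈ Subgroup.normalizer ((X₀.map j : Subgroup L) : Set L) →
      ∃ f, Iso E₀ (X₀.map S.subtype) (X₀.map S.subtype) f ∧ ∀ x : ↥S, x ∈ X₀ → ∃ h : f x ∈ S, j ⟨f x, h⟩ = g * j x * g⁻¹ := by
    intro X₀ g hg
    have hXS : X₀.map S.subtype ≤ S := by
      rintro _ ⟨x, -, rfl⟩
      exact x.2
    have hc : ∀ y : ↥(X₀.map S.subtype), (g : G) * ι (Subgroup.inclusion hXS y) * (g : G)⁻¹ ∈ ι.range := by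
      rintro ⟨_, x, hx, rfl⟩
      have h1 := conj_mem_of_normalizer hg (⟨x, hx, rfl⟩ : j x ∈ X₀.map j)
      obtain ⟨x₁, -, e⟩ := h1
      refine ⟨x₁, ?_⟩
      have h2 := congrArg Subtype.val e
      rw [hjv] at h2
      simp only [Subgroup.coe_mul, InvMemClass.coe_inv, hjv] at h2
      exact h2
    obtain ⟨f, hf, hfι⟩ := mp_of_conj hr hXS (g : G) hc
    have hval : ∀ x : ↥S, x ∈ X₀ → ∃ h : f x ∈ S, j ⟨f x, h⟩ = g * j x * g⁻¹ := by
      intro x hx
      obtain ⟨h', e⟩ := hfι ⟨x, ⟨x, hx, rfl⟩⟩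
      refine ⟨h', Subtype.ext ?_⟩
      rw [hjv]
      simp only [Subgroup.coe_mul, InvMemClass.coe_inv, hjv]
      exact e
    have hfm : ∀ y ∈ X₀.map S.subtype, f y ∈ X₀.map S.subtype := by
      rintro _ ⟨x, hx, rfl⟩
      obtain ⟨h', e⟩ := hval x hx
      obtain ⟨x₁, hx₁, e₁⟩ := conj_mem_of_normalizer hg (⟨x, hx, rfl⟩ : j x ∈ X₀.map j)
      rw [← e] at e₁
      have := hjinj e₁
      refine ⟨x₁, hx₁, ?_⟩
      rw [this]
      rfl
    haveI : Finite (X₀.map S.subtype) := finite_of_le hXS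
    exact ⟨f, Iso.of_maps hf hfm, hval⟩
  -- the `S₄` condition
  have hs4 : p ≠ 2 ∨ ¬ Involves (Equiv.Perm (Fin 4)) G := by
    rcases hsf with h | h
    · exact Or.inl h
    · exact Or.inr (not_involves_of_model hS hcon h ⟨hfG, hr, ⟨T, hT⟩, hCG⟩)
  -- the minimal situation
  haveI hOLn := H01.pCore_normal (G := ↥L) p
  have hcQ_L : Subgroup.centralizer (Cfsg.pCore p ↥L : Set ↥L) ≤ Cfsg.pCore p ↥L := centralizer_sub hOL hCG
  have hO₁ : ∀ x : L, (x : G) ∈ pCore p G → x ∈ Cfsg.pCore p ↥L := by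
    intro x hx
    have h1 : (Cfsg.pCore p G).subgroupOf L ≤ Cfsg.pCore p ↥L := by
      apply H01.le_pCore
      · exact Subgroup.normal_subgroupOf
      · exact (H01.pCore_isPGroup p).comap_subtype
    exact h1 (Subgroup.mem_subgroupOf.mpr hx)
  have hquot_L : FrobCond p (↥L ⧸ Cfsg.pCore p ↥L) := frob_quot_sub hquot hO₁
  have hmin_L : ∀ G₁ : Subgroup L, G₁ ≠ ⊤ → (TL : Subgroup L) ≤ G₁ → FC p G₁ := by
    intro G₁ hne₁ hTG₁
    have hcard : Nat.card (G₁.map L.subtype) = Nat.card G₁ :=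
      Nat.card_congr (G₁.equivMapOfInjective L.subtype L.subtype_injective).toEquiv.symm
    have hlt : Nat.card G₁ < Nat.card L := by
      have h1 : Nat.card G₁ ≤ Nat.card L := Subgroup.card_le_card_group G₁
      have h2 : Nat.card G₁ ≠ Nat.card L := fun e => hne₁ (Subgroup.eq_top_of_card_eq G₁ e)
      omega
    have hFC : FC p (G₁.map L.subtype) := by
      by_contra hcon'
      have h1 := hLmin (G₁.map L.subtype) ⟨fun t ht => ⟨⟨t, hTL ht⟩, hTG₁ ((hTLmem _).mpr ht), rfl⟩, hcon'⟩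
      rw [hcard] at h1
      omega
    exact FC_of_frobCond (frobCond_of_injective (G₁.equivMapOfInjective L.subtype L.subtype_injective).toMonoidHom
      (MulEquiv.injective _) (frobCond_of_FC hFC))
  have hnot_L : ¬ FrobCond p ↥L := fun h => hLfc (FC_of_frobCond h)
  have hs4_L : p ≠ 2 ∨ ¬ Involves (Equiv.Perm (Fin 4)) ↥L := by
    rcases hs4 with h | h
    · exact Or.inl h
    · exact Or.inr fun h1 => h (H09.Involves.trans' h1 (H09.involves_subgroup L))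
  have hD : LD E₀ j (TL : Subgroup L) := ⟨hjinj, hjrange, hreal⟩
  have hmemj : ∀ (X₀ : Subgroup ↥S) (s : ↥S), j s ∈ X₀.map j ↔ s ∈ X₀ := fun X₀ s =>
    ⟨fun ⟨y, hy, e⟩ => (hjinj e) ▸ hy, fun h => ⟨s, h, rfl⟩⟩
  -- the centre
  obtain ⟨Z₀, hZ₀⟩ : ∃ Z₀ : Subgroup ↥S, Z₀ = Subgroup.center ↥S := ⟨_, rfl⟩
  have hZ₀S : Z₀.map S.subtype = ZZ S := by
    ext x
    rw [hZ₀]
    constructor
    · rintro ⟨z, hz, rfl⟩
      refine ⟨z.2, Subgroup.mem_centralizer_iff.mpr fun s hs => ?_⟩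
      have h1 := Subgroup.mem_center_iff.mp hz ⟨s, hs⟩
      exact congrArg Subtype.val h1
    · rintro ⟨hx, hx'⟩
      refine ⟨⟨x, hx⟩, Subgroup.mem_center_iff.mpr fun s => Subtype.ext ?_, rfl⟩
      exact Subgroup.mem_centralizer_iff.mp hx' s s.2
  have hZ₀L : Z₀.map j = ZZ (TL : Subgroup L) := by
    ext x
    rw [hZ₀]
    constructor
    · rintro ⟨z, hz, rfl⟩
      refine ⟨by rw [← hjrange]; exact ⟨z, rfl⟩, Subgroup.mem_centralizer_iff.mpr fun s hs => ?_⟩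
      rw [← hjrange] at hs
      obtain ⟨s₀, rfl⟩ := hs
      rw [← map_mul, ← map_mul, Subgroup.mem_center_iff.mp hz s₀]
    · rintro ⟨hx, hx'⟩
      rw [← hjrange] at hx
      obtain ⟨z, rfl⟩ := hx
      refine ⟨z, Subgroup.mem_center_iff.mpr fun s => hjinj ?_, rfl⟩
      rw [map_mul, map_mul]
      exact Subgroup.mem_centralizer_iff.mp hx' _ (by rw [← hjrange]; exact ⟨s, rfl⟩)
  have hTCZ : (TL : Subgroup L) ≤ Subgroup.centralizer ((ZZ (TL : Subgroup L) : Subgroup L) : Set L) := by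
    intro t ht
    rw [Subgroup.mem_centralizer_iff]
    rintro z ⟨-, hz⟩
    exact (Subgroup.mem_centralizer_iff.mp hz t ht).symm
  have hZ_L : FC p (Subgroup.centralizer ((ZZ (TL : Subgroup L) : Subgroup L) : Set L)) := by
    refine fc_of_good (F := F) (W₀ := Z₀) (Good := GoodC (ZZ S)) hD hleF hTCZ ?_ ?_ ?_
    · rw [hZ₀L]
      intro y hy
      refine H09.mem_normalizer_of_conj_le fun z hz => ?_
      rw [← Subgroup.mem_centralizer_iff.mp hy z hz]
      simpa using hz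
    · intro y hy f _ hf z hz
      rw [← hZ₀S] at hz
      obtain ⟨z₀, hz₀, rfl⟩ := hz
      obtain ⟨h', e⟩ := hf z₀ hz₀
      have hzL : j z₀ ∈ ZZ (TL : Subgroup L) := by
        rw [← hZ₀L]
        exact ⟨z₀, hz₀, rfl⟩
      have h1 := Subgroup.mem_centralizer_iff.mp hy _ hzL
      have h2 : y * j z₀ * y⁻¹ = j z₀ := by
        rw [← h1]
        group
      rw [h2] at e
      exact congrArg Subtype.val (hjinj e)
    · intro P f _ hf ĥ hĥ hĥf hg
      rw [hZ₀S] at hĥ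
      exact hZ P f hf ĥ hĥ hĥf hg
  -- the Thompson subgroup
  obtain ⟨J₀, hJ₀⟩ : ∃ J₀ : Subgroup ↥S, J₀ = thompsonSubgroupAOf (⊤ : Subgroup ↥S) := ⟨_, rfl⟩
  have htmap : ∀ {X : Type _} [Group X] (φ : ↥S →* X), Function.Injective φ →
      thompsonSubgroupAOf ((⊤ : Subgroup ↥S).map φ) = J₀.map φ := by
    intro X _ φ hφ
    rw [hJ₀, H14.thompsonSubgroupAOf_eq_jj0, H14.thompsonSubgroupAOf_eq_jj0]
    exact H14.jj_map 0 φ ⊤ fun x _ hx => hφ (by rw [hx, map_one])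
  have hJ₀S : J₀.map S.subtype = thompsonSubgroupAOf S := by
    have h1 := htmap S.subtype S.subtype_injective
    rw [← MonoidHom.range_eq_map, Subgroup.range_subtype] at h1
    exact h1.symm
  have hJ₀L : J₀.map j = (abFam ↥L).jj (TL : Subgroup L) := by
    have h1 := htmap j hjinj
    rw [← MonoidHom.range_eq_map, hjrange] at h1
    rw [← h1]
    exact H14.thompsonSubgroupAOf_eq_jj _
  have hJS : thompsonSubgroupAOf S ≤ S := by
    rw [← hJ₀S]
    rintro _ ⟨x, -, rfl⟩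
    exact x.2
  have hJSN : S ≤ Subgroup.normalizer (thompsonSubgroupAOf S : Set Ω) := by
    intro s hs
    have key : ∀ (t : ↥S), ∀ x ∈ J₀, t * x * t⁻¹ ∈ J₀ := by
      intro t x hx
      rw [hJ₀, H14.thompsonSubgroupAOf_eq_jj] at hx ⊢
      exact ZJFam.jj_conj (Subgroup.le_normalizer (Subgroup.mem_top t)) hx
    rw [← hJ₀S]
    refine mem_normalizer_of_conj ?_ ?_
    · rintro _ ⟨x, hx, rfl⟩
      exact ⟨_, key ⟨s, hs⟩ x hx, by simp⟩
    · rintro _ ⟨x, hx, rfl⟩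
      exact ⟨_, key ⟨s, hs⟩⁻¹ x hx, by simp⟩
  have hTNJ : (TL : Subgroup L) ≤ Subgroup.normalizer ((abFam ↥L).jj (TL : Subgroup L) : Set ↥L) := by
    intro t ht
    refine H09.mem_normalizer_of_conj_le fun x hx => ZJFam.jj_conj (Subgroup.le_normalizer ht) hx
  have hJPN := hJ hJS
  have hJ_L : FC p (Subgroup.normalizer ((abFam ↥L).jj (TL : Subgroup L) : Set ↥L)) := by
    refine fc_of_good (F := F) (W₀ := J₀) (Good := GoodN (thompsonSubgroupAOf S)) hD hleF hTNJ (by rw [hJ₀L]) ?_ ?_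
    · intro y hy f hfm hf
      rw [← hJ₀L] at hy
      have hmaps : ∀ x ∈ thompsonSubgroupAOf S, f x ∈ thompsonSubgroupAOf S := by
        intro x hx
        rw [← hJ₀S] at hx ⊢
        obtain ⟨x₀, hx₀, rfl⟩ := hx
        obtain ⟨h', e⟩ := hf x₀ hx₀
        have h1 := conj_mem_of_normalizer hy (⟨x₀, hx₀, rfl⟩ : j x₀ ∈ J₀.map j)
        rw [← e, hmemj] at h1
        exact ⟨_, h1, rfl⟩
      refine ⟨hmaps, ?_⟩
      rw [hJ₀S] at hfm
      haveI : Finite (thompsonSubgroupAOf S) := finite_of_le hJS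
      exact (Iso.of_maps hfm hmaps).surj
    · intro P f hPS hf ĥ hĥ hĥf hg
      rw [hJ₀S] at hĥ
      have hPN : P ≤ normalizerIn S (thompsonSubgroupAOf S) := le_inf hPS (hPS.trans hJSN)
      have hI : Iso (NSys F (thompsonSubgroupAOf S) hJS) P P f := by
        refine ⟨(mp_NSys_iff hJS).mpr ⟨hf.mp, hPN, fun x hx => hPN (hf.maps x hx), ĥ, hĥ, hĥf, hg⟩, hf.maps, hf.surj⟩
      exact hJPN P f hI
  exact hnot_L (frob_of_local TL hquot_L hcQ_L hmin_L hs4_L hZ_L hJ_L)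

end Local

end Cfsg.Agent.H25
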