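import Cfsg.Agent.Lib.H25.FusGT3

set_option autoImplicit false

/-! Thompson's normal `p`-complement theorem for fusion systems: the induction. -/

namespace Cfsg.Agent.H25

open Cfsg Cfsg.FusionSystem

universe u

variable {Ω : Type u} [Group Ω] {S : Subgroup Ω} {F : FusionSystem S}
variable {P Q R T W : Subgroup Ω} {f f' g h : Ω → Ω} {p : ℕ}

/-- The statement for all smaller groups. -/
def THM (p : ℕ) (n : ℕ) : Prop :=
  ∀ (Ω' : Type u) [Group Ω'] (S' : Subgroup Ω') [Finite S'] (F' : FusionSystem S'), Nat.card S' < n → IsPGroup p S' →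
    F'.IsSaturated p → SF F' p → CPN F' (ZZ S') p → (∀ hJ : thompsonSubgroupAOf S' ≤ S', PN (NSys F' (thompsonSubgroupAOf S') hJ) p) → PN F' p

/-- The two characteristic subgroups of the Thompson theorem. -/
def IsZJ (S W : Subgroup Ω) : Prop := W = ZZ S ∨ W = thompsonSubgroupAOf S

theorem tj_map {G H : Type*} [Group G] [Group H] (φ : G →* H) (D : Subgroup G) (hφ : ∀ x ∈ D, φ x = 1 → x = 1) :
    thompsonSubgroupAOf (D.map φ) = (thompsonSubgroupAOf D).map φ := by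
  rw [H14.thompsonSubgroupAOf_eq_jj0, H14.thompsonSubgroupAOf_eq_jj0]
  exact H14.jj_map 0 φ D hφ

theorem tj_le (D : Subgroup Ω) : thompsonSubgroupAOf D ≤ D := by
  rintro _ ⟨y, -, rfl⟩
  exact y.2

theorem tj_conj {D : Subgroup Ω} {g : Ω} (hg : g ∈ Subgroup.normalizer (D : Set Ω)) :
    g ∈ Subgroup.normalizer (thompsonSubgroupAOf D : Set Ω) := by
  have h1 : D.map (MulAut.conj g).toMonoidHom = D := by
    ext y
    constructor
    · rintro ⟨x, hx, rfl⟩
      exact conj_mem_of_normalizer hg hx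
    · intro hy
      exact ⟨g⁻¹ * y * g, conj_inv_mem_of_normalizer hg hy, by simp [MulAut.conj_apply]; group⟩
  have h2 := tj_map (MulAut.conj g).toMonoidHom D (fun x _ hx => by simpa using hx)
  rw [h1] at h2
  apply mem_normalizer_of_conj
  · intro x hx
    rw [h2]
    exact ⟨x, hx, rfl⟩
  · intro x hx
    rw [h2] at hx
    obtain ⟨y, hy, rfl⟩ := hx
    have h3 : g⁻¹ * (MulAut.conj g).toMonoidHom y * g = y := by
      simp [MulAut.conj_apply]
      group
    rw [h3]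
    exact hy

theorem zz_conj {D : Subgroup Ω} {g : Ω} (hg : g ∈ Subgroup.normalizer (D : Set Ω)) :
    g ∈ Subgroup.normalizer (ZZ D : Set Ω) := by
  apply mem_normalizer_of_conj
  · rintro x ⟨hx, hx'⟩
    refine ⟨conj_mem_of_normalizer hg hx, Subgroup.mem_centralizer_iff.mpr fun s hs => ?_⟩
    have h1 := conj_inv_mem_of_normalizer hg hs
    have h2 := Subgroup.mem_centralizer_iff.mp hx' _ h1
    calc s * (g * x * g⁻¹) = g * (g⁻¹ * s * g * x) * g⁻¹ := by group
      _ = g * (x * (g⁻¹ * s * g)) * g⁻¹ := by rw [h2]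
      _ = g * x * g⁻¹ * s := by group
  · rintro x ⟨hx, hx'⟩
    refine ⟨conj_inv_mem_of_normalizer hg hx, Subgroup.mem_centralizer_iff.mpr fun s hs => ?_⟩
    have h1 := conj_mem_of_normalizer hg hs
    have h2 := Subgroup.mem_centralizer_iff.mp hx' _ h1
    calc s * (g⁻¹ * x * g) = g⁻¹ * (g * s * g⁻¹ * x) * g := by group
      _ = g⁻¹ * (x * (g * s * g⁻¹)) * g := by rw [h2]
      _ = g⁻¹ * x * g * s := by group

theorem IsZJ.le {S W : Subgroup Ω} (h : IsZJ S W) : W ≤ S := by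
  rcases h with rfl | rfl
  · exact inf_le_left
  · exact tj_le S

theorem IsZJ.conj {S W : Subgroup Ω} (h : IsZJ S W) {g : Ω} (hg : g ∈ Subgroup.normalizer (S : Set Ω)) :
    g ∈ Subgroup.normalizer (W : Set Ω) := by
  rcases h with rfl | rfl
  · exact zz_conj hg
  · exact tj_conj hg

theorem IsZJ.ne_bot [Finite S] [Fact p.Prime] {W : Subgroup Ω} (h : IsZJ S W) (hS : IsPGroup p S) (hne : S ≠ ⊥) : W ≠ ⊥ := by
  rcases h with rfl | rfl
  · intro hb
    haveI : Nontrivial S := by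
      rw [Subgroup.nontrivial_iff_ne_bot]
      exact hne
    haveI : Nontrivial (Subgroup.center ↥S) := IsPGroup.center_nontrivial hS
    obtain ⟨⟨z, hz⟩, hz1⟩ := exists_ne (1 : Subgroup.center ↥S)
    have h1 : (z : Ω) ∈ ZZ S := by
      refine ⟨z.2, Subgroup.mem_centralizer_iff.mpr fun s hs => ?_⟩
      exact congrArg Subtype.val (Subgroup.mem_center_iff.mp hz ⟨s, hs⟩)
    rw [hb, Subgroup.mem_bot] at h1
    exact hz1 (Subtype.ext (Subtype.ext h1))
  · intro hb
    have h1 : centerThompsonAOf S ≠ ⊥ := ct_ne_bot hS le_rfl hne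
    apply h1
    refine le_bot_iff.mp ?_
    rw [← hb]
    exact inf_le_left

theorem cpn_of_pn {hZ : ZZ S ≤ S} (h : PN (NSys F (ZZ S) hZ) p) : CPN F (ZZ S) p := by
  intro P f hf ĥ hĥ hĥf hg
  have hPS : P ≤ S := hf.mp.le
  have hSN : S ≤ Subgroup.normalizer (ZZ S : Set Ω) := fun s hs => zz_conj (Subgroup.le_normalizer hs)
  have hPN : P ≤ normalizerIn S (ZZ S) := le_inf hPS (hPS.trans hSN)
  have hgN : GoodN (ZZ S) ĥ := ⟨fun x hx => by rw [hg x hx]; exact hx, fun y hy => ⟨y, hy, hg y hy⟩⟩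
  exact h P f ⟨(mp_NSys_iff hZ).mpr ⟨hf.mp, hPN, fun x hx => hPN (hf.maps x hx), ĥ, hĥ, hĥf, hgN⟩, hf.maps, hf.surj⟩

section Main

variable [Finite S] [Fact p.Prime]

/-- A non-nilpotent system has a bad characteristic subgroup. -/
theorem th_bad {n : ℕ} (hIH : THM.{u} p n) (hc : Nat.card S < n) (hS : IsPGroup p S) (hF : F.IsSaturated p) (hsf : SF F p) (hnp : ¬ PN F p) :
    ∃ (W : Subgroup Ω) (hW : W ≤ S), IsZJ S W ∧ ¬ PN (NSys F W hW) p := by
  by_contra hcon
  push Not at hcon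
  apply hnp
  refine hIH Ω S F hc hS hF hsf ?_ ?_
  · exact cpn_of_pn (hcon _ inf_le_left (Or.inl rfl))
  · intro hJ
    exact hcon _ hJ (Or.inr rfl)

theorem factor_nil_max (hS : IsPGroup p S) (hF : F.IsSaturated p) (hsf : SF F p) (hIH : THM.{u} p (Nat.card S)) (hQS : Q ≤ S)
    (hSN : S ≤ Subgroup.normalizer (Q : Set Ω)) (hne : Q ≠ ⊥)
    (hmax : ∀ (R : Subgroup Ω) (hRS : R ≤ S), Q < R → S ≤ Subgroup.normalizer (R : Set Ω) → PN (NSys F R hRS) p) :
    ∀ (P : Subgroup Ω) (f : Ω → Ω), Q ≤ P → Iso (normSys F Q S hQS le_rfl hSN) P P f → ∃ k : ℕ, ∀ x ∈ P, x⁻¹ * f^[p ^ k] x ∈ Q := by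
  classical
  have hfar : Far F p Q := far_of_fullyNormalized hS hF (fullyNormalized_of_normal' hQS hSN)
  have hsat : (normSys F Q S hQS le_rfl hSN).IsSaturated p :=
    normSys_sat_of_eq (inf_eq_left.mpr hSN) hS hF hfar
  obtain ⟨E₀, hE₀⟩ : ∃ E₀, E₀ = normSys F Q S hQS le_rfl hSN := ⟨_, rfl⟩
  rw [← hE₀] at hsat ⊢
  have hQn : E₀.IsNormal Q := by
    rw [hE₀]
    exact isNormal_normSys
  have hleF : ∀ (P : Subgroup Ω) f, Mp E₀ P f → Mp F P f := by
    intro P f h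
    rw [hE₀] at h
    exact normSys_mp_F h
  have hQsc := H24.stronglyClosed_of_isNormal hQn
  haveI hQnorm : (Q.subgroupOf S).Normal := by
    constructor
    intro n hn g
    rw [Subgroup.mem_subgroupOf] at hn ⊢
    exact conj_mem_of_normalizer (hSN g.2) hn
  obtain ⟨E₁, hE₁⟩ := H24.exists_factorSystem_quotient hQsc
  obtain ⟨hmor, hE₁sat, hpS⟩ := H24.factor_facts hS hsat hQsc hE₁
  have hsfE₁ : SF E₁ p := by
    rcases hsf with h | h
    · exact Or.inl h
    · refine Or.inr (H24.sectionFree_factor hS hsat hQn ?_ hE₁)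
      rw [hE₀]
      exact sf_normSys hS hF (inf_eq_left.mpr hSN) (fullyNormalized_of_normal' hQS hSN) h
  refine factor_H hmor.1 hE₁.2.1 ?_
  by_cases hQtop : Q = S
  · intro P f hf
    refine ⟨0, fun x hx => ?_⟩
    obtain ⟨s, rfl⟩ := QuotientGroup.mk'_surjective _ x
    have h1 : (QuotientGroup.mk' (Q.subgroupOf S) s) = 1 := (hE₁.2.1 s).mpr (by rw [hQtop]; exact s.2)
    have hfS : ∀ y : ↥(⊤ : Subgroup (S ⧸ Q.subgroupOf S)), (y : S ⧸ Q.subgroupOf S) = 1 := by
      rintro ⟨y, -⟩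
      obtain ⟨t, rfl⟩ := QuotientGroup.mk'_surjective _ y
      exact (hE₁.2.1 t).mpr (by rw [hQtop]; exact t.2)
    have hm := hf.maps _ hx
    have := hf.mp.le (hf.maps _ hx)
    rw [pow_zero, Function.iterate_one]
    exact (hfS ⟨_, this⟩).trans (hfS ⟨_, Subgroup.mem_top _⟩).symm
  · have hcardlt : Nat.card (⊤ : Subgroup (S ⧸ Q.subgroupOf S)) < Nat.card S := by
      rw [Subgroup.card_top, Subgroup.card_eq_card_quotient_mul_card_subgroup (Q.subgroupOf S)]
      have h1 : 1 < Nat.card (Q.subgroupOf S) := by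
        rw [Subgroup.one_lt_card_iff_ne_bot]
        intro h
        apply hne
        rw [← Subgroup.map_subgroupOf_eq_of_le hQS, h, Subgroup.map_bot]
      have h2 : 0 < Nat.card (S ⧸ Q.subgroupOf S) := Nat.card_pos
      nlinarith
    by_contra hnpE
    obtain ⟨W', hW'le', hZJ, hW'np⟩ := th_bad hIH hcardlt hpS hE₁sat hsfE₁ hnpE
    have hW'le : W' ≤ ⊤ := le_top
    have hW'ne : W' ≠ ⊥ := by
      refine hZJ.ne_bot hpS ?_
      intro h
      apply hQtop
      refine le_antisymm hQS fun x hx => ?_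
      have h1 : QuotientGroup.mk' (Q.subgroupOf S) ⟨x, hx⟩ = 1 := by
        have h2 : QuotientGroup.mk' (Q.subgroupOf S) ⟨x, hx⟩ ∈ (⊤ : Subgroup (S ⧸ Q.subgroupOf S)) := Subgroup.mem_top _
        rw [h] at h2
        exact Subgroup.mem_bot.mp h2
      exact (hE₁.2.1 _).mp h1
    have hRS : preimageAlong (QuotientGroup.mk' (Q.subgroupOf S)) W' ≤ S := H24.preimageAlong_le _
    have hQR : Q < preimageAlong (QuotientGroup.mk' (Q.subgroupOf S)) W' := by
      have h1 : Q ≤ preimageAlong (QuotientGroup.mk' (Q.subgroupOf S)) W' :=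
        H24.le_preimageAlong' hE₁.2.1 hQsc _
      refine lt_of_le_of_ne h1 fun h => hW'ne ?_
      rw [Subgroup.eq_bot_iff_forall]
      intro y hy
      obtain ⟨s, rfl⟩ := QuotientGroup.mk'_surjective _ y
      have hsR : (s : Ω) ∈ preimageAlong (QuotientGroup.mk' (Q.subgroupOf S)) W' :=
        H24.mem_preimageAlong.2 ⟨s.2, hy⟩
      rw [← h] at hsR
      exact (hE₁.2.1 s).mpr hsR
    have hW'N : ∀ y : S ⧸ Q.subgroupOf S, y ∈ Subgroup.normalizer (W' : Set (S ⧸ Q.subgroupOf S)) := by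
      intro y
      apply hZJ.conj
      exact mem_normalizer_of_conj (fun _ _ => Subgroup.mem_top _) (fun _ _ => Subgroup.mem_top _)
    have hRN : S ≤ Subgroup.normalizer (preimageAlong (QuotientGroup.mk' (Q.subgroupOf S)) W' : Set Ω) := by
      have key : ∀ s ∈ S, ∀ x ∈ preimageAlong (QuotientGroup.mk' (Q.subgroupOf S)) W', s * x * s⁻¹ ∈ preimageAlong (QuotientGroup.mk' (Q.subgroupOf S)) W' := by
        intro s hs x hx
        obtain ⟨hxS, hx'⟩ := H24.mem_preimageAlong.1 hx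
        refine H24.mem_preimageAlong.2 ⟨S.mul_mem (S.mul_mem hs hxS) (S.inv_mem hs), ?_⟩
        have h1 := conj_mem_of_normalizer (hW'N (QuotientGroup.mk' (Q.subgroupOf S) ⟨s, hs⟩)) hx'
        have h2 : (⟨s * x * s⁻¹, S.mul_mem (S.mul_mem hs hxS) (S.inv_mem hs)⟩ : ↥S) = ⟨s, hs⟩ * ⟨x, hxS⟩ * ⟨s, hs⟩⁻¹ := rfl
        rw [h2, map_mul, map_mul, map_inv]
        exact h1
      intro s hs
      refine mem_normalizer_of_conj (key s hs) fun x hx => ?_
      simpa using key s⁻¹ (S.inv_mem hs) x hx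
    have hPNR := hmax _ hRS hQR hRN
    exact hW'np (factor_N hmor hW'le hRS hRN hleF hPNR)

/-- The normalizer system of a maximal bad subgroup normal in `S` is constrained. -/
theorem constrained_max (hS : IsPGroup p S) (hF : F.IsSaturated p) (hsf : SF F p) (hIH : THM.{u} p (Nat.card S)) (hQS : Q ≤ S)
    (hSN : S ≤ Subgroup.normalizer (Q : Set Ω)) (hne : Q ≠ ⊥)
    (hmax : ∀ (R : Subgroup Ω) (hRS : R ≤ S), Q < R → S ≤ Subgroup.normalizer (R : Set Ω) → PN (NSys F R hRS) p) :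
    (normSys F Q S hQS le_rfl hSN).IsConstrained p := by
  have hfar : Far F p Q := far_of_fullyNormalized hS hF (fullyNormalized_of_normal' hQS hSN)
  have hsat : (normSys F Q S hQS le_rfl hSN).IsSaturated p :=
    normSys_sat_of_eq (inf_eq_left.mpr hSN) hS hF hfar
  exact constrained_of_factor_nil hS hsat isNormal_normSys (factor_nil_max hS hF hsf hIH hQS hSN hne hmax)

/-- A bad subgroup with `N_S(Q) < S` yields a bad subgroup with a larger normalizer. -/
theorem step_lt_th (hS : IsPGroup p S) (hF : F.IsSaturated p) (hsf : SF F p) (hIH : THM.{u} p (Nat.card S)) (hQS : Q ≤ S)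
    (hQ : F.IsFullyNormalized Q) (hne : Q ≠ ⊥) (hnp : ¬ PN (NSys F Q hQS) p) (hT : normalizerIn S Q ≠ S) :
    ∃ (W' : Subgroup Ω) (hW'S : W' ≤ S), W' ≠ ⊥ ∧ F.IsFullyNormalized W' ∧ ¬ PN (NSys F W' hW'S) p ∧
      Nat.card (normalizerIn S Q) < Nat.card (normalizerIn S W') := by
  classical
  have hTS : normalizerIn S Q ≤ S := inf_le_left
  have hTlt : normalizerIn S Q < S := lt_of_le_of_ne hTS hT
  haveI hTfin : Finite (normalizerIn S Q) := finite_of_le hTS
  have hTp : IsPGroup p (normalizerIn S Q) := hS.to_le hTS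
  have hfar : Far F p Q := far_of_fullyNormalized hS hF hQ
  have hEsat : (NSys F Q hQS).IsSaturated p := NSys_saturated hS hF hfar
  have hQT : Q ≤ normalizerIn S Q := le_normalizerIn hQS
  have hcardT : Nat.card (normalizerIn S Q) < Nat.card S :=
    lt_of_le_of_ne (Subgroup.card_le_of_le hTS) fun h => hT (Subgroup.eq_of_le_of_card_ge hTS h.ge)
  have hsfE : SF (NSys F Q hQS) p := by
    rcases hsf with h | h
    · exact Or.inl h
    · obtain ⟨N₀, hN₀⟩ := exists_isNormalizerSystem (F := F) hQS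
      have h1 := H24.sectionFree_normalizer hS hF h hQ hN₀
      rw [eq_NSys hQS hN₀] at h1
      exact Or.inr h1
  obtain ⟨W₁, hW₁T, hZJ, hnp1⟩ := th_bad hIH hcardT hTp hEsat hsfE hnp
  obtain ⟨A, f, hiso, hnpf⟩ := exists_of_not_pn hnp1
  obtain ⟨hmE, hA, hfA, ĥ, hĥ, hĥf, hg⟩ := (mp_NSys_iff hW₁T).mp hiso.mp
  have hW₁S : W₁ ≤ S := hW₁T.trans hTS
  obtain ⟨W', hconj, hW'⟩ := H24.exists_fullyNormalized_conj (F := F) hW₁S
  refine ⟨W', hW'.1, ?_, hW', ?_, ?_⟩
  · intro h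
    have hc := H24.IsConj.card_eq hconj
    rw [h] at hc
    have hb : W₁ = ⊥ := Subgroup.eq_bot_of_card_eq _ (by rw [hc, Subgroup.card_bot])
    refine hZJ.ne_bot hTp ?_ hb
    intro h2
    rw [h2] at hQT
    exact hne (le_bot_iff.mp hQT)
  · exact not_pn_of_conj hS hF hW' hconj (hA.trans (inf_le_inf_right _ hTS)) ⟨NSys.mp_F hQS hmE, hiso.maps, hiso.surj⟩ (NSys.mp_F hQS hĥ) hĥf hg hnpf
  · obtain ⟨g, hg1, hg2⟩ := H24.exists_mem_normalizerIn hS hTlt
    have hle : normalizerIn S (normalizerIn S Q) ≤ normalizerIn S W₁ :=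
      inf_le_inf_left _ (fun _ hx => hZJ.conj hx)
    have hlt : normalizerIn S Q < normalizerIn S W₁ := by
      refine lt_of_le_of_ne ((le_normalizerIn hTS).trans hle) fun h => hg2 ?_
      rw [h]
      exact hle hg1
    haveI : Finite (normalizerIn S W₁) := finite_of_le inf_le_left
    have h1 : Nat.card (normalizerIn S Q) < Nat.card (normalizerIn S W₁) :=
      lt_of_le_of_ne (Subgroup.card_le_of_le hlt.le) fun h => hlt.ne (Subgroup.eq_of_le_of_card_ge hlt.le h.ge)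
    exact h1.trans_le (hW'.2 _ (H24.IsConj.symm' hconj))

theorem th_step (hS : IsPGroup p S) (hF : F.IsSaturated p) (hsf : SF F p) (hIH : THM.{u} p (Nat.card S))
    (hZ : CPN F (ZZ S) p) (hJ : ∀ hW : thompsonSubgroupAOf S ≤ S, PN (NSys F (thompsonSubgroupAOf S) hW) p) : PN F p := by
  classical
  by_contra hnp
  obtain ⟨X, hXdef⟩ : ∃ X : Set (Subgroup Ω), X = {Q | ∃ hQS : Q ≤ S, Q ≠ ⊥ ∧ F.IsFullyNormalized Q ∧ ¬ PN (NSys F Q hQS) p} := ⟨_, rfl⟩
  have hXmem : ∀ Q, Q ∈ X ↔ ∃ hQS : Q ≤ S, Q ≠ ⊥ ∧ F.IsFullyNormalized Q ∧ ¬ PN (NSys F Q hQS) p := by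
    intro Q
    rw [hXdef]
    rfl
  have hXne : X.Nonempty := by
    obtain ⟨A, f, hiso, hnpf⟩ := exists_of_not_pn hnp
    obtain ⟨W', hconj, hW'⟩ := H24.exists_fullyNormalized_conj (F := F) hiso.mp.le
    refine ⟨W', (hXmem W').mpr ⟨hW'.1, ?_, hW', ?_⟩⟩
    · intro h
      have hc := H24.IsConj.card_eq hconj
      rw [h] at hc
      have hb : A = ⊥ := Subgroup.eq_bot_of_card_eq _ (by rw [hc, Subgroup.card_bot])
      apply hnpf 0
      intro x hx
      rw [hb, Subgroup.mem_bot] at hx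
      subst hx
      obtain ⟨φ, -, hφ⟩ := hiso.mp
      rw [pow_zero, Function.iterate_one, ← hφ ⟨1, by rw [hb]; exact Subgroup.one_mem _⟩]
      exact map_one φ
    · refine not_pn_of_conj hS hF hW' hconj (le_normalizerIn hiso.mp.le) hiso (hh := f) ?_ (fun _ _ => rfl) ⟨hiso.maps, hiso.surj⟩ hnpf
      rw [sup_idem]
      exact hiso.mp
  have hXfin : X.Finite := H24.finite_subgroups_le.subset (fun Q hQ => ((hXmem Q).mp hQ).choose)
  obtain ⟨m, hm⟩ : ∃ m : Subgroup Ω → ℕ, m = fun Q => Nat.card (normalizerIn S Q) * (Nat.card S + 1) + Nat.card Q := ⟨_, rfl⟩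
  obtain ⟨Q, hQX, hQmax⟩ := Set.exists_max_image X m hXfin hXne
  obtain ⟨hQS, hQne, hQfn, hQnp⟩ := (hXmem Q).mp hQX
  have hcardQ : Nat.card Q ≤ Nat.card S := Subgroup.card_le_of_le hQS
  by_cases hT : normalizerIn S Q = S
  · have hSN : S ≤ Subgroup.normalizer (Q : Set Ω) := inf_eq_left.mp hT
    have hmax : ∀ (R : Subgroup Ω) (hRS : R ≤ S), Q < R → S ≤ Subgroup.normalizer (R : Set Ω) → PN (NSys F R hRS) p := by
      intro R hRS hQR hRN
      by_contra hRnp
      have hRX : R ∈ X := by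
        refine (hXmem R).mpr ⟨hRS, ?_, fullyNormalized_of_normal' hRS hRN, hRnp⟩
        intro h
        rw [h] at hQR
        exact not_lt_bot hQR
      have h1 := hQmax R hRX
      rw [hm] at h1
      simp only at h1
      have hR' : normalizerIn S R = S := inf_eq_left.mpr hRN
      rw [hR', hT] at h1
      haveI : Finite R := finite_of_le hRS
      have h2 : Nat.card Q < Nat.card R :=
        lt_of_le_of_ne (Subgroup.card_le_of_le hQR.le) fun h => hQR.ne (Subgroup.eq_of_le_of_card_ge hQR.le h.ge)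
      omega
    have hc := constrained_max hS hF hsf hIH hQS hSN hQne hmax
    have hfac := factor_nil_max hS hF hsf hIH hQS hSN hQne hmax
    have hnp₀ : ¬ PN (normSys F Q S hQS le_rfl hSN) p := by
      intro hPN
      apply hQnp
      refine fun A f hf => hPN A f ⟨?_, hf.maps, hf.surj⟩
      obtain ⟨h1, h2, h3, ĥ, hĥ, hĥf, hg⟩ := (mp_NSys_iff hQS).mp hf.mp
      exact mp_normSys_iff'.mpr ⟨h1, h2.trans inf_le_left, fun x hx => (h3 x hx).1, ĥ, hĥ, hĥf, hg⟩
    have hsf₀ : SF (normSys F Q S hQS le_rfl hSN) p := by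
      rcases hsf with h | h
      · exact Or.inl h
      · exact Or.inr (sf_normSys hS hF (inf_eq_left.mpr hSN) (fullyNormalized_of_normal' hQS hSN) h)
    exact (th_local hS hc hnp₀ hsf₀ hQS isNormal_normSys hfac (fun _ _ h => normSys_mp_F h) hZ hJ).elim
  · obtain ⟨W', hW'S, hW'ne, hW'fn, hW'np, hcard⟩ := step_lt_th hS hF hsf hIH hQS hQfn hQne hQnp hT
    have hW'X : W' ∈ X := (hXmem W').mpr ⟨hW'S, hW'ne, hW'fn, hW'np⟩
    have h1 := hQmax W' hW'X
    rw [hm] at h1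
    simp only at h1
    have h2 : (Nat.card (normalizerIn S Q) + 1) * (Nat.card S + 1) ≤ Nat.card (normalizerIn S W') * (Nat.card S + 1) :=
      Nat.mul_le_mul_right _ hcard
    nlinarith

end Main

theorem thm_mono {m n : ℕ} (h : m ≤ n) (hn : THM.{u} p n) : THM.{u} p m :=
  fun Ω' _ S' _ F' hc => hn Ω' S' F' (hc.trans_le h)

theorem thm_all [Fact p.Prime] : ∀ n, THM.{u} p n := by
  intro n
  induction n with
  | zero =>
    intro Ω' _ S' _ F' hc
    omega
  | succ n ih =>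
    intro Ω' _ S' _ F' hc hS hF hsf hZ hJ
    exact th_step hS hF hsf (thm_mono (Nat.lt_succ_iff.mp hc) ih) hZ hJ

/-- **Thompson's normal `p`-complement theorem for fusion systems.** -/
theorem th_fusion [Finite S] [Fact p.Prime] (hS : IsPGroup p S) (hF : F.IsSaturated p) (hsf : SF F p)
    (hZ : CPN F (ZZ S) p) (hJ : ∀ hW : thompsonSubgroupAOf S ≤ S, PN (NSys F (thompsonSubgroupAOf S) hW) p) : PN F p :=
  th_step hS hF hsf (thm_all _) hZ hJ

/-- A saturated non-nilpotent system contains a constrained non-nilpotent normalizer system over the same `S`, with `p`-power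
automorphisms modulo the normal subgroup. -/
theorem exists_constrained_sf [Finite S] [Fact p.Prime] (hS : IsPGroup p S) (hF : F.IsSaturated p) (hsf : SF F p) (hnp : ¬ PN F p) :
    ∃ (Q : Subgroup Ω) (hQS : Q ≤ S) (hSN : S ≤ Subgroup.normalizer (Q : Set Ω)), (normSys F Q S hQS le_rfl hSN).IsConstrained p ∧
      ¬ PN (normSys F Q S hQS le_rfl hSN) p ∧
      ∀ (P : Subgroup Ω) (f : Ω → Ω), Q ≤ P → Iso (normSys F Q S hQS le_rfl hSN) P P f → ∃ k : ℕ, ∀ x ∈ P, x⁻¹ * f^[p ^ k] x ∈ Q := by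
  classical
  obtain ⟨X, hXdef⟩ : ∃ X : Set (Subgroup Ω), X = {Q | ∃ hQS : Q ≤ S, Q ≠ ⊥ ∧ S ≤ Subgroup.normalizer (Q : Set Ω) ∧ ¬ PN (NSys F Q hQS) p} := ⟨_, rfl⟩
  have hXmem : ∀ Q, Q ∈ X ↔ ∃ hQS : Q ≤ S, Q ≠ ⊥ ∧ S ≤ Subgroup.normalizer (Q : Set Ω) ∧ ¬ PN (NSys F Q hQS) p := by
    intro Q
    rw [hXdef]
    rfl
  have hXne : X.Nonempty := by
    obtain ⟨W, hW, hZJ, hWnp⟩ := th_bad (thm_all (Nat.card S + 1)) (Nat.lt_succ_self _) hS hF hsf hnp
    refine ⟨W, (hXmem _).mpr ⟨hW, hZJ.ne_bot hS ?_, fun s hs => hZJ.conj (Subgroup.le_normalizer hs), hWnp⟩⟩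
    obtain ⟨A, f, hiso, hnpf⟩ := exists_of_not_pn hnp
    intro hb
    refine not_pn_ne_bot hiso hnpf ?_
    exact le_bot_iff.mp (by rw [← hb]; exact hiso.mp.le)
  have hXfin : X.Finite := H24.finite_subgroups_le.subset (fun Q hQ => ((hXmem Q).mp hQ).choose)
  obtain ⟨Q, hQX, hQmax⟩ := Set.exists_max_image X (fun Q => Nat.card Q) hXfin hXne
  obtain ⟨hQS, hQne, hSN, hQnp⟩ := (hXmem Q).mp hQX
  have hmax : ∀ (R : Subgroup Ω) (hRS : R ≤ S), Q < R → S ≤ Subgroup.normalizer (R : Set Ω) → PN (NSys F R hRS) p := by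
    intro R hRS hQR hRN
    by_contra hRnp
    have hRX : R ∈ X := by
      refine (hXmem R).mpr ⟨hRS, ?_, hRN, hRnp⟩
      intro h
      rw [h] at hQR
      exact not_lt_bot hQR
    have h1 := hQmax R hRX
    haveI : Finite R := finite_of_le hRS
    have h2 : Nat.card Q < Nat.card R :=
      lt_of_le_of_ne (Subgroup.card_le_of_le hQR.le) fun h => hQR.ne (Subgroup.eq_of_le_of_card_ge hQR.le h.ge)
    omega
  refine ⟨Q, hQS, hSN, constrained_max hS hF hsf (thm_all _) hQS hSN hQne hmax, ?_, factor_nil_max hS hF hsf (thm_all _) hQS hSN hQne hmax⟩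
  intro hPN
  apply hQnp
  refine fun A f hf => hPN A f ⟨?_, hf.maps, hf.surj⟩
  obtain ⟨h1, h2, h3, ĥ, hĥ, hĥf, hg⟩ := (mp_NSys_iff hQS).mp hf.mp
  exact mp_normSys_iff'.mpr ⟨h1, h2.trans inf_le_left, fun x hx => (h3 x hx).1, ĥ, hĥ, hĥf, hg⟩

end Cfsg.Agent.H25
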