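import Cfsg.Agent.Lib.H24.FusExt2
import Cfsg.Agent.Lib.H24.FusInduct
set_option autoImplicit false
open Cfsg Cfsg.FusionSystem
namespace Cfsg.Agent.H25
open Cfsg.Agent.H24

section
variable {Ω Ω' : Type*} [Group Ω] [Group Ω'] {S : Subgroup Ω} {F : FusionSystem S} {S' : Subgroup Ω'}
  {E : FusionSystem S'} {θ : S →* Ω'} {p : ℕ}

/-- Closure induction on the residual of an automorphism group. -/
theorem displace_of_residual {X : Type*} [Group X] {P : Subgroup Ω} {A : Subgroup (MulAut P)} {M : Subgroup X}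
    (f : P →* X) (a : A) (ha : a ∈ pResidual p A)
    (hgen : ∀ g : A, Nat.Coprime (orderOf g) p → ∀ x : P, (f x)⁻¹ * f ((g : MulAut P) x) ∈ M) (x : P) :
    (f x)⁻¹ * f ((a : MulAut P) x) ∈ M := by
  induction ha using Subgroup.closure_induction generalizing x with
  | mem g hg => exact hgen g hg x
  | one => simp [M.one_mem]
  | mul a b _ _ h1 h2 =>
    have e : (((a * b : A) : MulAut P) x) = (a : MulAut P) ((b : MulAut P) x) := rfl
    rw [e]
    have h3 := h1 ((b : MulAut P) x)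
    have h4 := h2 x
    have := M.mul_mem h4 h3
    simpa [mul_assoc] using this
  | inv a _ h1 =>
    have h3 := h1 (((a⁻¹ : A) : MulAut P) x)
    have e : (a : MulAut P) (((a⁻¹ : A) : MulAut P) x) = x := by
      show (a : MulAut P) ((a : MulAut P)⁻¹ x) = x
      exact MulAut.apply_inv_self _ _ _
    rw [e] at h3
    have := M.inv_mem h3
    simpa using this

theorem subgroup_orderOf_coprime_of_pow {X : Type*} [Group X] {g : X} {n : ℕ} (h : g ^ n = 1) (hn : Nat.Coprime n p) :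
    Nat.Coprime (orderOf g) p :=
  Nat.Coprime.coprime_dvd_left (orderOf_dvd_of_pow_eq_one h) hn

variable [Fact p.Prime]

theorem hyp_map_le [Finite S] (hmor : F.IsMorphism E θ) :
    ((F.hyperfocalSubgroup p).subgroupOf S).map θ ≤ E.hyperfocalSubgroup p := by
  classical
  have key : ∀ z ∈ F.hyperfocalSubgroup p, ∃ hz : z ∈ S, θ ⟨z, hz⟩ ∈ E.hyperfocalSubgroup p := by
    intro z hz
    induction hz using Subgroup.closure_induction with
    | mem z hz =>
      obtain ⟨P, α, x, hP, hα, rfl⟩ := hz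
      have hm : (x : Ω)⁻¹ * (((α : MulAut P) x : P) : Ω) ∈ S := S.mul_mem (S.inv_mem (hP x.2)) (hP ((α : MulAut P) x).2)
      refine ⟨hm, ?_⟩
      have e : (⟨(x : Ω)⁻¹ * (((α : MulAut P) x : P) : Ω), hm⟩ : S) = (⟨x, hP x.2⟩ : S)⁻¹ * ⟨(α : MulAut P) x, hP ((α : MulAut P) x).2⟩ := rfl
      rw [e, map_mul, map_inv]
      have := displace_of_residual (p := p) (A := F.autGroup P) (M := E.hyperfocalSubgroup p) (θ.comp (Subgroup.inclusion hP)) α hα ?_ x
      · exact this
      · intro g hg y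
        -- a generator
        have hφ := (mem_autGroup_iff hP (g : MulAut P)).mp g.2
        obtain ⟨φ', hφ', hP1, hv, hP', hind⟩ := hmor.2 P _ hφ
        have hP'S : imageAlong θ P ≤ S' := by
          rintro _ ⟨s, -, rfl⟩
          exact hmor.1 s
        have hmemP : ∀ u : P, ((((g : MulAut P) u : P) : Ω)) ∈ P := fun u => ((g : MulAut P) u).2
        have hφv : ∀ u : P, (P.subtype.comp (g : MulAut P).toMonoidHom) u = (((g : MulAut P) u : P) : Ω) := fun _ => rfl
        have hR : φ'.range = imageAlong θ P := by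
          ext w
          constructor
          · rintro ⟨⟨_, s, hs, rfl⟩, rfl⟩
            have hs' : (s : Ω) ∈ P := hs
            have h1 := hind ⟨s, hs'⟩
            have h2 : φ' ⟨θ s, _⟩ = θ ⟨_, hv ⟨s, hs'⟩⟩ := h1
            show φ' ⟨θ s, _⟩ ∈ _
            rw [h2]
            exact ⟨_, (hmemP ⟨s, hs'⟩ : _), rfl⟩
          · rintro ⟨s, hs, rfl⟩
            have hs' : (s : Ω) ∈ P := hs
            set u : P := (g : MulAut P)⁻¹ ⟨s, hs'⟩ with hu
            have hgu : (g : MulAut P) u = ⟨s, hs'⟩ := MulAut.apply_inv_self _ _ _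
            have h1 := hind u
            refine ⟨⟨_, hP' u⟩, ?_⟩
            rw [h1]
            show θ ⟨_, hv u⟩ = θ s
            congr 1
            apply Subtype.ext
            show (((g : MulAut P) u : P) : Ω) = s
            rw [hgu]
        have ha'mem : autOfHom hφ' hR ∈ E.autGroup (imageAlong θ P) := autOfHom_mem hφ' hR
        set a' := autOfHom hφ' hR with ha'
        have hact : ∀ (n : ℕ) (u : P), ((a' ^ n) ⟨θ ⟨u, hP1 u.2⟩, hP' u⟩ : imageAlong θ P) = ⟨θ ⟨(((g : MulAut P) ^ n) u : P), hP1 ((((g : MulAut P) ^ n) u : P).2)⟩, hP' _⟩ := by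
          intro n
          induction n with
          | zero => intro u; rfl
          | succ n ih =>
            intro u
            rw [pow_succ, pow_succ]
            show (a' ^ n) (a' ⟨θ ⟨u, hP1 u.2⟩, hP' u⟩) = _
            have e : a' ⟨θ ⟨u, hP1 u.2⟩, hP' u⟩ = ⟨θ ⟨((g : MulAut P) u : P), hP1 ((g : MulAut P) u).2⟩, hP' _⟩ :=
              Subtype.ext (hind u)
            rw [e, ih]
            rfl
        have hone : a' ^ (orderOf g) = 1 := by
          apply MulEquiv.ext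
          rintro ⟨_, s, hs, rfl⟩
          have hs' : (s : Ω) ∈ P := hs
          have h1 := hact (orderOf g) ⟨s, hs'⟩
          have h2 : (g : MulAut P) ^ orderOf g = 1 := by
            have := pow_orderOf_eq_one g
            exact congrArg Subtype.val this
          rw [h2] at h1
          exact h1
        have hcop : Nat.Coprime (orderOf (⟨a', ha'mem⟩ : E.autGroup (imageAlong θ P))) p := by
          refine subgroup_orderOf_coprime_of_pow (n := orderOf g) ?_ hg
          exact Subtype.ext hone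
        have hres : (⟨a', ha'mem⟩ : E.autGroup (imageAlong θ P)) ∈ pResidual p (E.autGroup (imageAlong θ P)) :=
          Subgroup.subset_closure hcop
        have h3 := mem_hyperfocal_of_gen hP'S ⟨a', ha'mem⟩ hres ⟨θ ⟨y, hP y.2⟩, hP' y⟩
        have h4 : a' ⟨θ ⟨y, hP y.2⟩, hP' y⟩ = ⟨θ ⟨((g : MulAut P) y : P), hP ((g : MulAut P) y).2⟩, hP' _⟩ :=
          Subtype.ext (hind y)
        have h5 : ((⟨a', ha'mem⟩ : E.autGroup (imageAlong θ P)) : MulAut (imageAlong θ P)) = a' := rfl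
        rw [h5, h4] at h3
        exact h3
    | one => exact ⟨S.one_mem, by
        have : (⟨1, S.one_mem⟩ : S) = 1 := rfl
        rw [this, map_one]; exact Subgroup.one_mem _⟩
    | mul x y _ _ h1 h2 =>
      obtain ⟨hx, hx'⟩ := h1
      obtain ⟨hy, hy'⟩ := h2
      refine ⟨S.mul_mem hx hy, ?_⟩
      have e : (⟨x * y, S.mul_mem hx hy⟩ : S) = ⟨x, hx⟩ * ⟨y, hy⟩ := rfl
      rw [e, map_mul]
      exact Subgroup.mul_mem _ hx' hy'
    | inv x _ h1 =>
      obtain ⟨hx, hx'⟩ := h1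
      refine ⟨S.inv_mem hx, ?_⟩
      have e : (⟨x⁻¹, S.inv_mem hx⟩ : S) = ⟨x, hx⟩⁻¹ := rfl
      rw [e, map_inv]
      exact Subgroup.inv_mem _ hx'
  rintro _ ⟨s, hs, rfl⟩
  obtain ⟨hz, h⟩ := key _ hs
  exact h

theorem le_hyp_map [Finite S] (hS : IsPGroup p S) (hmor : F.IsSurjectiveMorphism E θ) :
    E.hyperfocalSubgroup p ≤ ((F.hyperfocalSubgroup p).subgroupOf S).map θ := by
  classical
  have hp : p.Prime := Fact.out
  have hr : θ.range = S' := hmor.2.1
  refine (Subgroup.closure_le _).2 ?_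
  rintro y ⟨P', α', x', hP', hα', rfl⟩
  have := displace_of_residual (p := p) (A := E.autGroup P') (M := ((F.hyperfocalSubgroup p).subgroupOf S).map θ) P'.subtype α' hα' ?_ x'
  · exact this
  intro g hg y
  -- lift `g`
  have hφ' := (mem_autGroup_iff hP' (g : MulAut P')).mp g.2
  obtain ⟨φ, hφ, hQ1, hv, hQ', hind⟩ := hmor.2.2 P' hP' _ hφ'
  have hQS : (preimageAlong θ P') ≤ S := Cfsg.Agent.H24.preimageAlong_le P'
  haveI : Finite (preimageAlong θ P') := finite_of_le hQS
  -- `φ` is an automorphism of `(preimageAlong θ P')`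
  have hsub : φ.range ≤ (preimageAlong θ P') := by
    rintro _ ⟨u, rfl⟩
    refine Cfsg.Agent.H24.mem_preimageAlong.2 ⟨hv u, ?_⟩
    rw [← hind u]
    exact ((g : MulAut P') ⟨_, hQ' u⟩).2
  have hRφ : φ.range = (preimageAlong θ P') := by
    apply Subgroup.eq_of_le_of_card_ge hsub
    have hinj : Function.Injective φ := Cfsg.Agent.H24.hom_inj hφ
    have : Nat.card φ.range = Nat.card (preimageAlong θ P') := by
      exact (Nat.card_congr (MonoidHom.ofInjective hinj).toEquiv).symm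
    omega
  set a := autOfHom hφ hRφ with ha
  have hamem : a ∈ F.autGroup (preimageAlong θ P') := autOfHom_mem hφ hRφ
  have hact : ∀ (n : ℕ) (u : (preimageAlong θ P')), (⟨θ ⟨((a ^ n) u : (preimageAlong θ P')), hQS ((a ^ n) u).2⟩, hQ' _⟩ : P') = ((g : MulAut P') ^ n) ⟨θ ⟨u, hQS u.2⟩, hQ' u⟩ := by
    intro n
    induction n with
    | zero => intro u; rfl
    | succ n ih =>
      intro u
      rw [pow_succ, pow_succ]
      show (⟨θ ⟨((a ^ n) (a u) : (preimageAlong θ P')), hQS ((a ^ n) (a u)).2⟩, hQ' _⟩ : P') = ((g : MulAut P') ^ n) ((g : MulAut P') ⟨θ ⟨u, hQS u.2⟩, hQ' u⟩)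
      rw [ih (a u)]
      congr 1
      exact Subtype.ext (hind u).symm
  -- choose a power of `a` of order prime to `p` inducing `g`
  haveI : Finite (MulAut (preimageAlong θ P')) := inferInstance
  obtain ⟨k, m, hm, hk⟩ : ∃ k m : ℕ, Nat.Coprime m p ∧ orderOf a = p ^ k * m := by
    have hpos : orderOf a ≠ 0 := (orderOf_pos a).ne'
    obtain ⟨k, m, hnd, he⟩ := Nat.exists_eq_pow_mul_and_not_dvd hpos p hp.ne_one
    exact ⟨k, m, ((Nat.Prime.coprime_iff_not_dvd hp).mpr hnd).symm, he⟩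
  have hco2 : Nat.Coprime (orderOf (g : MulAut P')) (p ^ k) := by
    have h1 : orderOf (g : MulAut P') = orderOf g := Subgroup.orderOf_coe g
    rw [h1]
    exact Nat.Coprime.pow_right k hg
  set j := (Nat.chineseRemainder hco2 1 0 : ℕ) with hj
  have hj1 : j ≡ 1 [MOD orderOf (g : MulAut P')] := (Nat.chineseRemainder hco2 1 0).2.1
  have hj0 : j ≡ 0 [MOD p ^ k] := (Nat.chineseRemainder hco2 1 0).2.2
  have hbord : (a ^ j) ^ m = 1 := by
    rw [← pow_mul, ← orderOf_dvd_iff_pow_eq_one, hk]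
    exact Nat.mul_dvd_mul ((Nat.modEq_zero_iff_dvd).mp hj0) dvd_rfl
  have hbmem : a ^ j ∈ F.autGroup (preimageAlong θ P') := pow_mem hamem j
  have hgj : (g : MulAut P') ^ j = g := by
    have := pow_eq_pow_iff_modEq.mpr (hj1 : j ≡ 1 [MOD orderOf (g : MulAut P')])
    rwa [pow_one] at this
  have hcop : Nat.Coprime (orderOf (⟨a ^ j, hbmem⟩ : F.autGroup (preimageAlong θ P'))) p := by
    refine subgroup_orderOf_coprime_of_pow (n := m) ?_ hm
    exact Subtype.ext hbord
  have hres : (⟨a ^ j, hbmem⟩ : F.autGroup (preimageAlong θ P')) ∈ pResidual p (F.autGroup (preimageAlong θ P')) := Subgroup.subset_closure hcop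
  -- lift `y`
  obtain ⟨u, hu⟩ := Cfsg.Agent.H24.exists_lift (hr ▸ hP') y
  have h3 := mem_hyperfocal_of_gen hQS ⟨a ^ j, hbmem⟩ hres u
  refine ⟨⟨_, S.mul_mem (S.inv_mem (hQS u.2)) (hQS ((a ^ j) u).2)⟩, h3, ?_⟩
  have e : (⟨(u : Ω)⁻¹ * (((a ^ j) u : (preimageAlong θ P')) : Ω), S.mul_mem (S.inv_mem (hQS u.2)) (hQS ((a ^ j) u).2)⟩ : S) =
      (⟨u, hQS u.2⟩ : S)⁻¹ * ⟨(a ^ j) u, hQS ((a ^ j) u).2⟩ := rfl
  rw [e, map_mul, map_inv]
  have h4 := hact j u
  rw [hgj] at h4
  have h5 : θ ⟨((a ^ j) u : (preimageAlong θ P')), hQS ((a ^ j) u).2⟩ = (((g : MulAut P') ⟨θ ⟨u, hQS u.2⟩, hQ' u⟩ : P') : Ω') := congrArg Subtype.val h4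
  have h6 : (⟨θ ⟨u, hQS u.2⟩, hQ' u⟩ : P') = y := Subtype.ext hu
  rw [h5, h6, hu]
  rfl

theorem hyp_eq_map [Finite S] (hS : IsPGroup p S) (hmor : F.IsSurjectiveMorphism E θ) :
    E.hyperfocalSubgroup p = ((F.hyperfocalSubgroup p).subgroupOf S).map θ :=
  le_antisymm (le_hyp_map hS hmor) (hyp_map_le hmor.1)

end

end Cfsg.Agent.H25
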