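import Cfsg.Agent.Lib.H25.GlJ2

set_option autoImplicit false

/-! Generation of a saturated system by the centralizer of the power subgroup and the normalizer of the Thompson subgroup. -/

namespace Cfsg.Agent.H25

open Cfsg Cfsg.FusionSystem

universe u

variable {Ω : Type u} [Group Ω] {S : Subgroup Ω} {F E : FusionSystem S}
variable {P Q R T : Subgroup Ω} {f g h : Ω → Ω} {p : ℕ}

/-- The maps fixing `V` pointwise belong to `E`. -/
def GenC (F E : FusionSystem S) (V : Subgroup Ω) : Prop :=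
  ∀ (P : Subgroup Ω) (f : Ω → Ω), V ≤ P → Mp F P f → (∀ v ∈ V, f v = v) → Mp E P f

/-- The maps preserving `W` belong to `E`. -/
def GenN (F E : FusionSystem S) (W : Subgroup Ω) : Prop :=
  ∀ (P : Subgroup Ω) (f : Ω → Ω), W ≤ P → Mp F P f → GoodN W f → Mp E P f

/-- The subgroup generated by the `p`-th powers of the elements of the centre. -/
abbrev VV (p : ℕ) (S : Subgroup Ω) : Subgroup Ω := powerClosure p 1 (S ⊓ Subgroup.centralizer (S : Set Ω))

/-- The inductive statement. -/
def GenH (p : ℕ) (n : ℕ) : Prop :=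
  ∀ (Ω' : Type u) [Group Ω'] (S' : Subgroup Ω') [Finite S'] (F' E' : FusionSystem S'), Nat.card S' < n → IsPGroup p S' →
    F'.IsSaturated p → GenC F' E' (VV p S') → GenN F' E' (thompsonSubgroupAOf S') →
      ∀ (P : Subgroup Ω') (f : Ω' → Ω'), Mp F' P f → Mp E' P f

/-- The intersection of a system over `T` with a system over `S`. -/
def interSys (E₁ : FusionSystem T) (E : FusionSystem S) (hTS : T ≤ S) : FusionSystem T where
  Hom P := {φ | φ ∈ E₁.Hom P ∧ φ ∈ E.Hom P}
  le_of_mem h := E₁.le_of_mem h.1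
  injective_of_mem h := E₁.injective_of_mem h.1
  conj_mem hP hg := ⟨E₁.conj_mem hP hg, E.conj_mem (hP.trans hTS) (hTS hg)⟩
  comp_mem h1 h2 hx := ⟨E₁.comp_mem h1.1 h2.1 hx, E.comp_mem h1.2 h2.2 hx⟩
  inv_mem := by
    intro P φ h
    obtain ⟨ψ₁, hψ₁, h1⟩ := E₁.inv_mem h.1
    obtain ⟨ψ₂, hψ₂, h2⟩ := E.inv_mem h.2
    have heq : ψ₁ = ψ₂ := by
      ext y
      obtain ⟨y, x, rfl⟩ := y
      rw [h1 x, h2 x]
    exact ⟨ψ₁, ⟨hψ₁, heq ▸ hψ₂⟩, h1⟩

theorem mp_interSys_iff {E₁ : FusionSystem T} {hTS : T ≤ S} : Mp (interSys E₁ E hTS) P f ↔ Mp E₁ P f ∧ Mp E P f := by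
  constructor
  · rintro ⟨φ, hφ, hf⟩
    exact ⟨⟨φ, hφ.1, hf⟩, ⟨φ, hφ.2, hf⟩⟩
  · rintro ⟨⟨φ, hφ, hf⟩, ⟨ψ, hψ, hf'⟩⟩
    have heq : φ = ψ := by
      ext x
      rw [hf x, hf' x]
    exact ⟨φ, ⟨hφ, heq ▸ hψ⟩, hf⟩

section Large

variable [Finite S] [Fact p.Prime]

/-- Maps on large subgroups belong to `E` if automorphisms of large fully normalized subgroups do. -/
theorem gen_large (hS : IsPGroup p S) (hF : F.IsSaturated p) {E' : FusionSystem S} (m : ℕ)
    (H : ∀ (R : Subgroup Ω) (a : Ω → Ω), F.IsFullyNormalized R → m < Nat.card R → Iso F R R a → Mp E' R a) :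
    ∀ (P : Subgroup Ω) (f : Ω → Ω), Mp F P f → m < Nat.card P → Mp E' P f := by
  classical
  have key : ∀ n : ℕ, ∀ (P : Subgroup Ω) (f : Ω → Ω), Nat.card S - Nat.card P = n → Mp F P f → m < Nat.card P → Mp E' P f := by
    intro n
    induction n using Nat.strong_induction_on with
    | _ n ih =>
      intro P f hn hf hmP
      have hP := hf.le
      by_cases hPS : P = S
      · subst hPS
        exact H P f (fullyNormalized_of_normal' hP (fun x hx => mem_normalizer_of_conj
          (fun y hy => P.mul_mem (P.mul_mem hx hy) (P.inv_mem hx)) (fun y hy => P.mul_mem (P.mul_mem (P.inv_mem hx) hy) hx)))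
          hmP (Iso.of_maps hf (fun _ hx => hf.mem hx))
      have hcardP : Nat.card P < Nat.card S := card_lt_of_lt (S := S) le_rfl (lt_of_le_of_ne hP hPS)
      obtain ⟨Q, hconj, hQ⟩ := H24.exists_fullyNormalized_conj (F := F) hP
      have hfar := far_of_fullyNormalized hS hF hQ
      obtain ⟨h₁, hh₁, hI₁⟩ := exists_ext_normalizer hS hfar hconj
      have hIf := Iso.of_mp hf
      have hP'S : hf.img ≤ S := fun y hy => by
        obtain ⟨x, hx, rfl⟩ := (Mp.mem_img hf).mp hy
        exact hf.mem hx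
      have hP'Q : F.IsConj hf.img Q := isConj_trans (isConj_symm (isConj_iff.mpr ⟨f, hIf⟩)) hconj
      obtain ⟨h₂, hh₂, hI₂⟩ := exists_ext_normalizer hS hfar hP'Q
      have hcard' : Nat.card hf.img = Nat.card P := hIf.card_eq.symm
      have hcardQ : Nat.card P = Nat.card Q := hI₁.card_eq
      have hP'ne : hf.img ≠ S := fun h => by
        rw [h] at hcard'
        omega
      have hN : ∀ (A : Subgroup Ω), A ≤ S → A ≠ S → Nat.card A < Nat.card (normalizerIn S A) := by
        intro A hA hne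
        obtain ⟨g, hg, hgA⟩ := exists_normalizer_not_mem hS hA hne
        exact card_lt_of_lt normalizerIn_le (lt_of_le_of_ne (le_normalizerIn hA) fun h => hgA (h ▸ hg))
      have hleS : ∀ (A : Subgroup Ω), A ≤ S → Nat.card A ≤ Nat.card S := fun A hA => card_le_of_le (S := S) le_rfl hA
      have h1E : Mp E' (normalizerIn S P) h₁ := by
        have h1 := hN P hP hPS
        have h2 := hleS _ (normalizerIn_le (S := S) (P := P))
        exact ih (Nat.card S - Nat.card (normalizerIn S P)) (by omega) _ _ rfl hh₁ (by omega)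
      have h2E : Mp E' (normalizerIn S hf.img) h₂ := by
        have h1 := hN _ hP'S hP'ne
        have h2 := hleS _ (normalizerIn_le (S := S) (P := hf.img))
        exact ih (Nat.card S - Nat.card (normalizerIn S hf.img)) (by omega) _ _ rfl hh₂ (by omega)
      have hIE₁ : Iso E' P Q h₁ := ⟨h1E.restrict (le_normalizerIn hP), hI₁.maps, hI₁.surj⟩
      have hIE₂ : Iso E' hf.img Q h₂ := ⟨h2E.restrict (le_normalizerIn hP'S), hI₂.maps, hI₂.surj⟩
      obtain ⟨g₁, hg₁, hg₁1, hg₁2⟩ := hI₁.inv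
      have hIa := (hg₁.comp hIf).comp hI₂
      have h3 := H Q _ hQ (by omega) hIa
      have hIa' : Iso E' Q Q (h₂ ∘ f ∘ g₁) := ⟨h3, hIa.maps, hIa.surj⟩
      obtain ⟨k', hk', hk'1, hk'2⟩ := hIE₂.inv
      have hfin := (hIE₁.comp hIa').comp hk'
      refine hfin.mp.congr fun x hx => ?_
      simp only [Function.comp]
      rw [hg₁1 x hx]
      exact hk'1 _ ((Mp.mem_img hf).mpr ⟨x, hx, rfl⟩)
  intro P f hf hmP
  exact key _ P f rfl hf hmP

/-- Downward induction on the order of the source. -/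
theorem gen_large_down (hS : IsPGroup p S) (hF : F.IsSaturated p) {E' : FusionSystem S}
    (H : ∀ (R : Subgroup Ω) (a : Ω → Ω), F.IsFullyNormalized R → Iso F R R a →
      (∀ (K : Subgroup Ω) (f : Ω → Ω), Mp F K f → Nat.card R < Nat.card K → Mp E' K f) → Mp E' R a) :
    ∀ (P : Subgroup Ω) (f : Ω → Ω), Mp F P f → Mp E' P f := by
  classical
  have key : ∀ n m : ℕ, Nat.card S - m = n → ∀ (P : Subgroup Ω) (f : Ω → Ω), Mp F P f → m < Nat.card P → Mp E' P f := by
    intro n
    induction n using Nat.strong_induction_on with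
    | _ n ih =>
      intro m hm
      refine gen_large hS hF m fun R a hR hmR hI => H R a hR hI fun K f hf hlt => ?_
      have h1 : Nat.card R ≤ Nat.card S := card_le_of_le (S := S) le_rfl hR.1
      exact ih (Nat.card S - Nat.card R) (by omega) (Nat.card R) rfl K f hf hlt
  intro P f hf
  haveI : Finite P := finite_of_le hf.le
  exact key _ 0 rfl P f hf Nat.card_pos

end Large

section Lt

variable [Finite S] [Fact p.Prime]

theorem VV_mono_normalizer (hQS : Q ≤ S) : VV p S ≤ VV p (normalizerIn S Q) := by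
  refine pc_mono ?_
  intro y hy
  refine ⟨mem_normalizerIn_of_central hy.1 (fun s hs => Subgroup.mem_centralizer_iff.mp hy.2 s hs) hQS, ?_⟩
  exact Subgroup.centralizer_le (fun s hs => (inf_le_left : normalizerIn S Q ≤ S) hs) hy.2

/-- The case when `Q` is not normal in `S`. -/
theorem gen_lt (hS : IsPGroup p S) (hF : F.IsSaturated p) (hIH : GenH.{u} p (Nat.card S)) (hCg : GenC F E (VV p S)) (hQS : Q ≤ S)
    (hQ : F.IsFullyNormalized Q) (hne : Q ≠ ⊥) (hT : normalizerIn S Q ≠ S)
    (hlarge : ∀ (P : Subgroup Ω) (f : Ω → Ω), Mp F P f → Nat.card (normalizerIn S Q) < Nat.card P → Mp E P f)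
    (hnobad : ∀ (Y : Subgroup Ω) (hYS : Y ≤ S), Y ≠ ⊥ → F.IsFullyNormalized Y → Nat.card (normalizerIn S Q) < Nat.card (normalizerIn S Y) →
      ∀ (P : Subgroup Ω) (f : Ω → Ω), Mp (NSys F Y hYS) P f → Mp E P f) :
    ∀ (P : Subgroup Ω) (f : Ω → Ω), Mp (NSys F Q hQS) P f → Mp E P f := by
  classical
  have hW : FunctorHyp.{u} p WJ := functorHyp_WJ
  have hTS : normalizerIn S Q ≤ S := inf_le_left
  have hTlt : normalizerIn S Q < S := lt_of_le_of_ne hTS hT
  haveI hTfin : Finite (normalizerIn S Q) := finite_of_le hTS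
  have hTp : IsPGroup p (normalizerIn S Q) := hS.to_le hTS
  have hfar : Far F p Q := far_of_fullyNormalized hS hF hQ
  have hEsat : (NSys F Q hQS).IsSaturated p := NSys_saturated hS hF hfar
  have hQT : Q ≤ normalizerIn S Q := le_normalizerIn hQS
  have hcardT : Nat.card (normalizerIn S Q) < Nat.card S :=
    lt_of_le_of_ne (Subgroup.card_le_of_le hTS) fun h => hT (Subgroup.eq_of_le_of_card_ge hTS h.ge)
  intro P f hf
  refine (mp_interSys_iff (E₁ := NSys F Q hQS) (hTS := hTS)).mp (hIH Ω (normalizerIn S Q) (NSys F Q hQS) (interSys (NSys F Q hQS) E hTS) hcardT hTp hEsat ?_ ?_ P f hf) |>.2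
  · intro P f hVP hf hfix
    refine mp_interSys_iff.mpr ⟨hf, ?_⟩
    have hVV := VV_mono_normalizer (p := p) hQS
    exact hCg P f (hVV.trans hVP) (NSys.mp_F hQS hf) fun v hv => hfix v (hVV hv)
  · intro P f hYP hf hg
    refine mp_interSys_iff.mpr ⟨hf, ?_⟩
    obtain ⟨Y, hYd⟩ : ∃ Y, Y = thompsonSubgroupAOf (normalizerIn S Q) := ⟨_, rfl⟩
    rw [← hYd] at hYP hg
    have hYT : Y ≤ normalizerIn S Q := hYd ▸ tj_le _
    have hYS : Y ≤ S := hYT.trans hTS
    have hYne : Y ≠ ⊥ := by
      have h1 : WW WJ (normalizerIn S Q) ≠ ⊥ := WW_ne_bot hW hTp (fun h => hne (le_bot_iff.mp (h ▸ hQT)))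
      rwa [WW_WJ, ← hYd] at h1
    obtain ⟨Y', hconj, hY'⟩ := H24.exists_fullyNormalized_conj (F := F) hYS
    have hFm : Mp F P f := NSys.mp_F hQS hf
    have hTNY : normalizerIn S Q ≤ normalizerIn S Y := by
      intro t ht
      refine ⟨ht.1, ?_⟩
      rw [hYd]
      exact tj_conj (mem_normalizer_of_conj (fun y hy => Subgroup.mul_mem _ (Subgroup.mul_mem _ ht hy) (Subgroup.inv_mem _ ht))
        (fun y hy => Subgroup.mul_mem _ (Subgroup.mul_mem _ (Subgroup.inv_mem _ ht) hy) ht))
    obtain ⟨hm1, hPT, hfPT, -⟩ := (mp_NSys_iff hQS).mp hf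
    have hP : P ≤ normalizerIn S Y := hPT.trans hTNY
    obtain ⟨χ, hχ, f', hf', hind⟩ := nsys_transport hS hF hY' hconj hYP hP hFm (fun x hx => hTNY (hfPT x hx)) hg
    have hlt : Nat.card (normalizerIn S Q) < Nat.card (normalizerIn S Y) := by
      obtain ⟨g, hg1, hg2⟩ := H24.exists_mem_normalizerIn hS hTlt
      have hle : normalizerIn S (normalizerIn S Q) ≤ normalizerIn S Y := by
        refine inf_le_inf_left _ (fun x hx => ?_)
        rw [hYd]
        exact tj_conj hx
      have hlt : normalizerIn S Q < normalizerIn S Y := by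
        refine lt_of_le_of_ne hTNY fun h => hg2 ?_
        rw [h]
        exact hle hg1
      haveI : Finite (normalizerIn S Y) := finite_of_le inf_le_left
      exact lt_of_le_of_ne (Subgroup.card_le_of_le hlt.le) fun h => hlt.ne (Subgroup.eq_of_le_of_card_ge hlt.le h.ge)
    have hχE : Mp E (normalizerIn S Y) χ := hlarge _ _ hχ hlt
    have hY'ne : Y' ≠ ⊥ := by
      intro h
      have hc := H24.IsConj.card_eq hconj
      rw [h] at hc
      exact hYne (Subgroup.eq_bot_of_card_eq _ (by rw [hc, Subgroup.card_bot]))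
    have hlt' : Nat.card (normalizerIn S Q) < Nat.card (normalizerIn S Y') := hlt.trans_le (hY'.2 _ (H24.IsConj.symm' hconj))
    have hf'E := hnobad Y' hY'.1 hY'ne hY' hlt' _ _ hf'
    have hcomp : Mp E P (f' ∘ χ) := (hχE.restrict hP).comp (fun x hx => (Mp.mem_img _).mpr ⟨x, hx, rfl⟩) hf'E
    obtain ⟨k, hk, hk1, -⟩ := hχE.inv
    have hcomp2 : Mp E P (k ∘ f' ∘ χ) := hcomp.comp (fun x hx => by
      simp only [Function.comp]
      rw [hind x hx]
      exact (Mp.mem_img _).mpr ⟨_, hTNY (hfPT x hx), rfl⟩) hk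
    refine hcomp2.congr fun x hx => ?_
    simp only [Function.comp]
    rw [hind x hx]
    exact hk1 _ (hTNY (hfPT x hx))

end Lt

end Cfsg.Agent.H25
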