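import Cfsg.Agent.Lib.H25.Gen1

set_option autoImplicit false

/-! Group-level facts for the generation theorem. -/

namespace Cfsg.Agent.H25

open Cfsg Cfsg.FusionSystem

section Group

variable {L : Type*} [Group L] [Finite L] {p : ℕ} [Fact p.Prime]

/-- A normal subgroup fixing the powers of the centre of a Sylow subgroup, which is large either way. -/
theorem exists_M (T : Sylow p L) (hc : Subgroup.centralizer ((pCore p L : Subgroup L) : Set L) ≤ pCore p L) :
    ∃ M : Subgroup L, M.Normal ∧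
      (∀ m ∈ M, ∀ v ∈ powerClosure p 1 ((T : Subgroup L) ⊓ Subgroup.centralizer ((T : Subgroup L) : Set L)), m * v * m⁻¹ = v) ∧
      ((∀ A ∈ (H14.abFam L).mx (T : Subgroup L), A ≤ M) ∨ pCore p L < (T : Subgroup L) ⊓ M) := by
  classical
  have hpp : p.Prime := Fact.out
  obtain ⟨O, hO⟩ : ∃ O, O = pCore p L := ⟨_, rfl⟩
  rw [← hO] at hc ⊢
  haveI hOn : O.Normal := hO ▸ Cfsg.Agent.H01.pCore_normal p
  have hOT : O ≤ (T : Subgroup L) := hO ▸ Cfsg.Agent.H01.pCore_le_sylow p T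
  obtain ⟨Zt, hZt⟩ : ∃ Zt, Zt = (T : Subgroup L) ⊓ Subgroup.centralizer ((T : Subgroup L) : Set L) := ⟨_, rfl⟩
  rw [← hZt]
  haveI hCOn : (Subgroup.centralizer (O : Set L)).Normal := normal_centralizer_of_normal O
  have hZtC : Zt ≤ Subgroup.centralizer (O : Set L) := by
    rw [hZt]
    intro x hx
    exact Subgroup.centralizer_le (fun y hy => hOT hy) hx.2
  obtain ⟨B, hB⟩ : ∃ B, B = Subgroup.normalClosure (Zt : Set L) := ⟨_, rfl⟩
  haveI hBn : B.Normal := by
    rw [hB]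
    infer_instance
  have hBC : B ≤ Subgroup.centralizer (O : Set L) := by
    rw [hB]
    exact Subgroup.normalClosure_le_normal hZtC
  have hBO : B ≤ O := hBC.trans hc
  have hBab : ∀ a ∈ B, ∀ b ∈ B, a * b = b * a := fun a ha b hb =>
    (Subgroup.mem_centralizer_iff.mp (hBC ha) b (hBO hb)).symm
  have hZtB : Zt ≤ B := by
    rw [hB]
    exact Subgroup.subset_normalClosure
  obtain ⟨C, hC⟩ : ∃ C, C = Subgroup.centralizer (B : Set L) := ⟨_, rfl⟩
  haveI hCn : C.Normal := by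
    rw [hC]
    exact normal_centralizer_of_normal B
  have hOC : O ≤ C := by
    rw [hC]
    intro o ho
    rw [Subgroup.mem_centralizer_iff]
    intro b hb
    exact (Subgroup.mem_centralizer_iff.mp (hBC hb) o ho).symm
  have hBT : B ≤ (T : Subgroup L) := hBO.trans hOT
  have hTp : IsPGroup p (T : Subgroup L) := T.isPGroup'
  have hvB : ∀ v ∈ powerClosure p 1 Zt, v ∈ B := fun v hv => hZtB (pc_le (p := p) (k := 1) _ hv)
  by_cases hcase : ∀ A ∈ (H14.abFam L).mx (T : Subgroup L), A ≤ C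
  · refine ⟨C, hCn, fun m hm v hv => ?_, Or.inl hcase⟩
    rw [hC] at hm
    have := Subgroup.mem_centralizer_iff.mp hm v (hvB v hv)
    rw [← this]
    group
  · push Not at hcase
    obtain ⟨A, hA, hAC⟩ := hcase
    obtain ⟨A', hA', hA'C, hA'n⟩ := exists_offender hTp hBT
      (fun t _ v hv => hBn.conj_mem v hv t) hBab hA (by rwa [← hC])
    rw [← hC] at hA'C
    have hA'ab : ∀ a ∈ A', ∀ b ∈ A', a * b = b * a := hA'.2.1
    have hA'T : A' ≤ (T : Subgroup L) := hA'.1
    obtain ⟨g₀, hg₀A, hg₀C, hg₀p⟩ : ∃ g₀ ∈ A', g₀ ∉ C ∧ g₀ ^ p ∈ C := by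
      obtain ⟨a, haA, haC⟩ := SetLike.not_le_iff_exists.mp hA'C
      obtain ⟨k, hk⟩ := (hTp.to_le hA'T) ⟨a, haA⟩
      have hex : ∃ m, a ^ (p ^ m) ∈ C := by
        refine ⟨k, ?_⟩
        have := congrArg Subtype.val hk
        have h4 : a ^ (p ^ k) = 1 := by simpa using this
        rw [h4]
        exact C.one_mem
      have hm := Nat.find_spec hex
      have hmin := fun n (hn : n < Nat.find hex) => Nat.find_min hex hn
      obtain ⟨m, hm'⟩ : ∃ m, Nat.find hex = m + 1 := by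
        refine Nat.exists_eq_succ_of_ne_zero fun h0 => ?_
        rw [h0] at hm
        exact haC (by simpa using hm)
      rw [hm'] at hm hmin
      refine ⟨a ^ (p ^ m), A'.pow_mem haA _, hmin m (Nat.lt_succ_self m), ?_⟩
      rw [← pow_mul, ← pow_succ]
      exact hm
    have hg₀T : g₀ ∈ (T : Subgroup L) := hA'T hg₀A
    have hg₀O : g₀ ∉ O := fun h => hg₀C (hOC h)
    -- the conjugates of `g₀` fix the `p`-th powers of `B`
    have hfix : ∀ g' : L, ∀ w ∈ B, (g' * g₀ * g'⁻¹) * w ^ (p ^ 1) * (g' * g₀ * g'⁻¹)⁻¹ = w ^ (p ^ 1) := by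
      intro g'
      refine conj_pow_fix hpp hBab (g' * g₀ * g'⁻¹) (fun b hb => hBn.conj_mem b hb _) ?_ (n := 1) ?_
      · intro b hb
        have h3 : g' * g₀ ^ p * g'⁻¹ ∈ C := hCn.conj_mem _ hg₀p g'
        have h4 : (g' * g₀ * g'⁻¹) ^ p = g' * g₀ ^ p * g'⁻¹ := conj_pow (a := g') (b := g₀) (i := p)
        rw [h4]
        rw [hC] at h3
        exact (Subgroup.mem_centralizer_iff.mp h3 b hb).symm
      · intro x hx
        have h2 : dl (g' * g₀ * g'⁻¹) (dl (g' * g₀ * g'⁻¹) x) = 1 := by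
          have hx' : g'⁻¹ * x * g' ∈ B := by simpa using hBn.conj_mem x hx g'⁻¹
          obtain ⟨x', hx'd⟩ : ∃ x', x' = g'⁻¹ * x * g' := ⟨_, rfl⟩
          rw [← hx'd] at hx'
          have hxx : x = g' * x' * g'⁻¹ := by rw [hx'd]; group
          obtain ⟨u, hu⟩ : ∃ u, u = g₀ * x' * g₀⁻¹ * x'⁻¹ := ⟨_, rfl⟩
          have huA : u ∈ A' := by
            have h3 : u = g₀ * (x' * g₀⁻¹ * x'⁻¹) := by rw [hu]; group
            rw [h3]
            exact A'.mul_mem hg₀A (hA'n x' hx' _ (A'.inv_mem hg₀A))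
          have hug : g₀ * u * g₀⁻¹ = u := by
            rw [hA'ab g₀ hg₀A u huA]
            group
          have hval : dl (g' * g₀ * g'⁻¹) x = g' * u * g'⁻¹ := by
            unfold dl
            rw [hxx, hu]
            group
          rw [hval]
          unfold dl
          calc g' * g₀ * g'⁻¹ * (g' * u * g'⁻¹) * (g' * g₀ * g'⁻¹)⁻¹ * (g' * u * g'⁻¹)⁻¹
              = g' * (g₀ * u * g₀⁻¹) * u⁻¹ * g'⁻¹ := by group
            _ = 1 := by rw [hug]; group
        have hk : 1 * (p - 1) + 1 = (p - 2) + 2 := by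
          have := hpp.two_le
          omega
        show (dl (g' * g₀ * g'⁻¹))^[1 * (p - 1) + 1] x = 1
        rw [hk]
        exact dl_iterate_of_two h2 _
    obtain ⟨M, hM⟩ : ∃ M : Subgroup L, M = Subgroup.normalClosure ({g₀} : Set L) ⊔ O := ⟨_, rfl⟩
    haveI hMn : M.Normal := by
      rw [hM]
      infer_instance
    refine ⟨M, hMn, ?_, Or.inr ?_⟩
    · have hle : M ≤ Subgroup.centralizer ((powerClosure p 1 Zt : Subgroup L) : Set L) := by
        rw [hM]
        refine sup_le ?_ fun o ho => ?_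
        · unfold Subgroup.normalClosure
          rw [Subgroup.closure_le]
          intro y hy
          rw [Group.mem_conjugatesOfSet_iff] at hy
          obtain ⟨a, ha, hay⟩ := hy
          rw [Set.mem_singleton_iff] at ha
          subst ha
          obtain ⟨c, hc'⟩ := _root_.isConj_iff.mp hay
          subst hc'
          rw [SetLike.mem_coe, Subgroup.mem_centralizer_iff]
          have hle2 : powerClosure p 1 Zt ≤ Subgroup.centralizer ({c * a * c⁻¹} : Set L) := by
            unfold powerClosure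
            rw [Subgroup.closure_le]
            rintro _ ⟨z, hz, rfl⟩
            rw [SetLike.mem_coe, Subgroup.mem_centralizer_iff]
            intro w hw
            rw [show w = c * a * c⁻¹ from hw]
            have h3 := hfix c z (hZtB hz)
            calc c * a * c⁻¹ * z ^ p ^ 1 = (c * a * c⁻¹ * z ^ p ^ 1 * (c * a * c⁻¹)⁻¹) * (c * a * c⁻¹) := by group
              _ = z ^ p ^ 1 * (c * a * c⁻¹) := by rw [h3]
          intro v hv
          exact (Subgroup.mem_centralizer_iff.mp (hle2 hv) _ rfl).symm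
        · rw [Subgroup.mem_centralizer_iff]
          intro v hv
          exact (Subgroup.mem_centralizer_iff.mp (hBC (hvB v hv)) o ho).symm
      intro m hm v hv
      have := Subgroup.mem_centralizer_iff.mp (hle hm) v hv
      rw [← this]
      group
    · refine lt_of_le_of_ne (le_inf hOT (by rw [hM]; exact le_sup_right)) fun h => hg₀O ?_
      rw [h]
      refine ⟨hg₀T, ?_⟩
      rw [hM]
      exact (le_sup_left : Subgroup.normalClosure ({g₀} : Set L) ≤ _) (Subgroup.subset_normalClosure rfl)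

/-- In a group, normalizers of fully normalized subgroups have large Sylow intersections. -/
theorem eq_of_fn (T : Sylow p L) {R : Subgroup L} (hR : R ≤ (T : Subgroup L))
    (hfn : ∀ g : L, (∀ r ∈ R, g * r * g⁻¹ ∈ (T : Subgroup L)) →
      Nat.card ↥((T : Subgroup L) ⊓ Subgroup.normalizer ((R.map (MulAut.conj g).toMonoidHom : Subgroup L) : Set L)) ≤
        Nat.card ↥((T : Subgroup L) ⊓ Subgroup.normalizer (R : Set L)))
    {P₁ : Subgroup L} (hP₁ : IsPGroup p P₁) (hle : (T : Subgroup L) ⊓ Subgroup.normalizer (R : Set L) ≤ P₁)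
    (hle2 : P₁ ≤ Subgroup.normalizer (R : Set L)) : P₁ = (T : Subgroup L) ⊓ Subgroup.normalizer (R : Set L) := by
  obtain ⟨g, -, hg⟩ := exists_conj_le_sylow T (X := ⊤) le_top le_top hP₁
  have hRN : R ≤ (T : Subgroup L) ⊓ Subgroup.normalizer (R : Set L) := le_inf hR Subgroup.le_normalizer
  have h1 := hfn g fun r hr => hg r (hle (hRN hr))
  have h2 : Nat.card P₁ ≤ Nat.card ↥((T : Subgroup L) ⊓ Subgroup.normalizer ((R.map (MulAut.conj g).toMonoidHom : Subgroup L) : Set L)) := by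
    have h3 : P₁.map (MulAut.conj g).toMonoidHom ≤ (T : Subgroup L) ⊓ Subgroup.normalizer ((R.map (MulAut.conj g).toMonoidHom : Subgroup L) : Set L) := by
      rintro _ ⟨q, hq, rfl⟩
      refine ⟨hg q hq, H09.mem_normalizer_of_conj_le ?_⟩
      rintro _ ⟨r, hr, rfl⟩
      refine ⟨q * r * q⁻¹, ?_, ?_⟩
      · exact (Subgroup.mem_normalizer_iff.mp (hle2 hq) r).mp hr
      · simp [MulAut.conj_apply, mul_assoc]
    have h4 := Subgroup.card_le_of_le h3
    rwa [H09.card_map_conj] at h4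
  exact (Subgroup.eq_of_le_of_card_ge hle (h2.trans h1)).symm

/-- The Frattini argument in a normalizer. -/
theorem frat_norm (T : Sylow p L) (M : Subgroup L) [hM : M.Normal] {R : Subgroup L}
    (hmax : ∀ P₁ : Subgroup L, IsPGroup p P₁ → (T : Subgroup L) ⊓ Subgroup.normalizer (R : Set L) ≤ P₁ →
      P₁ ≤ Subgroup.normalizer (R : Set L) → P₁ = (T : Subgroup L) ⊓ Subgroup.normalizer (R : Set L))
    {g : L} (hg : g ∈ Subgroup.normalizer (R : Set L)) :
    ∃ n m : L, g = n * m ∧ m ∈ M ∧ m ∈ Subgroup.normalizer (R : Set L) ∧ n ∈ Subgroup.normalizer (R : Set L) ∧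
      n ∈ Subgroup.normalizer ((((T : Subgroup L) ⊓ Subgroup.normalizer (R : Set L)) ⊓ M : Subgroup L) : Set L) := by
  classical
  obtain ⟨Y, hY⟩ : ∃ Y, Y = Subgroup.normalizer (R : Set L) := ⟨_, rfl⟩
  rw [← hY] at hmax hg ⊢
  have hP₀ : IsPGroup p (((T : Subgroup L) ⊓ Y).subgroupOf Y) :=
    (T.isPGroup'.to_le (inf_le_left : (T : Subgroup L) ⊓ Y ≤ T)).comap_subtype
  obtain ⟨PY, hPY⟩ := hP₀.exists_le_sylow
  have hP₁ : (PY : Subgroup Y).map Y.subtype = (T : Subgroup L) ⊓ Y := by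
    refine hmax _ ?_ ?_ ?_
    · exact PY.isPGroup'.map _
    · intro x hx
      exact ⟨⟨x, hx.2⟩, hPY (Subgroup.mem_subgroupOf.mpr hx), rfl⟩
    · rintro _ ⟨x, -, rfl⟩
      exact x.2
  have hPYm : ∀ y : Y, y ∈ (PY : Subgroup Y) ↔ (y : L) ∈ (T : Subgroup L) ⊓ Y := by
    intro y
    rw [← hP₁]
    constructor
    · intro h
      exact ⟨y, h, rfl⟩
    · rintro ⟨y', hy', h⟩
      have : y' = y := Subtype.ext h
      rwa [← this]
  have hfr := H14.frattini_inf PY (M.subgroupOf Y)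
  have hmem : (⟨g, hg⟩ : Y) ∈ ((Subgroup.normalizer (((PY : Subgroup Y) ⊓ M.subgroupOf Y : Subgroup Y) : Set Y) ⊔ M.subgroupOf Y : Subgroup Y) : Set Y) := by
    rw [hfr]
    exact Set.mem_univ _
  rw [Subgroup.mul_normal, Set.mem_mul] at hmem
  obtain ⟨n, hn, m, hm, hnm⟩ := hmem
  refine ⟨n, m, ?_, Subgroup.mem_subgroupOf.mp hm, m.2, n.2, ?_⟩
  · have := congrArg Subtype.val hnm
    exact this.symm
  · refine H09.mem_normalizer_of_conj_le ?_
    rintro x ⟨⟨hxT, hxY⟩, hxM⟩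
    have h1 : (⟨x, hxY⟩ : Y) ∈ (PY : Subgroup Y) ⊓ M.subgroupOf Y :=
      ⟨(hPYm _).mpr ⟨hxT, hxY⟩, Subgroup.mem_subgroupOf.mpr hxM⟩
    have h2 := (Subgroup.mem_normalizer_iff.mp hn _).mp h1
    obtain ⟨h3, h4⟩ := h2
    exact ⟨(hPYm _).mp h3, Subgroup.mem_subgroupOf.mp h4⟩

/-- If `N_T(R) ∩ M ≤ R` then `T ∩ M ≤ R`. -/
theorem inf_le_of_normalizer (T : Sylow p L) (M : Subgroup L) [hM : M.Normal] {R : Subgroup L} (hR : R ≤ (T : Subgroup L))
    (h : ∀ y, y ∈ (T : Subgroup L) → y ∈ Subgroup.normalizer (R : Set L) → y ∈ M → y ∈ R) : (T : Subgroup L) ⊓ M ≤ R := by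
  classical
  by_contra hne
  have hRA : R < ((T : Subgroup L) ⊓ M) ⊔ R := lt_of_le_of_ne le_sup_right fun h2 => hne (by
    rw [h2]
    exact le_sup_left)
  have hAT : ((T : Subgroup L) ⊓ M) ⊔ R ≤ (T : Subgroup L) := sup_le inf_le_left hR
  obtain ⟨g, hg, hgR⟩ := H24.exists_mem_normalizerIn (T.isPGroup'.to_le hAT) hRA
  have hRN : R ≤ Subgroup.normalizer (((T : Subgroup L) ⊓ M : Subgroup L) : Set L) := fun r hr =>
    H09.mem_normalizer_of_conj_le fun a ha =>
      ⟨Subgroup.mul_mem _ (Subgroup.mul_mem _ (hR hr) ha.1) (Subgroup.inv_mem _ (hR hr)), hM.conj_mem a ha.2 r⟩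
  obtain ⟨t, ht, r, hr, rfl⟩ := Cfsg.Agent.H01.exists_mul_of_mem_sup hRN hg.1
  have htN : t ∈ Subgroup.normalizer (R : Set L) := by
    have h1 : t = t * r * r⁻¹ := by group
    rw [h1]
    exact Subgroup.mul_mem _ hg.2 (Subgroup.inv_mem _ (Subgroup.le_normalizer hr))
  exact hgR (R.mul_mem (h t ht.1 htN ht.2) hr)

end Group

end Cfsg.Agent.H25
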