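import Cfsg.Agent.Lib.H25.Gen2

set_option autoImplicit false

/-! The normal case of the generation theorem: the non-centric and the quotient cases. -/

namespace Cfsg.Agent.H25

open Cfsg Cfsg.FusionSystem

universe u

variable {Ω : Type u} [Group Ω] {S : Subgroup Ω} {F E : FusionSystem S}
variable {P Q R T V : Subgroup Ω} {f g h : Ω → Ω} {p : ℕ}

/-- The maximality hypothesis. -/
def GenMax (F E : FusionSystem S) (Q : Subgroup Ω) : Prop :=
  ∀ (R : Subgroup Ω) (hRS : R ≤ S), Q < R → S ≤ Subgroup.normalizer (R : Set Ω) →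
    ∀ (P : Subgroup Ω) (f : Ω → Ω), Mp (NSys F R hRS) P f → Mp E P f

theorem GenMax.good (hmax : GenMax F E Q) {R K : Subgroup Ω} (hRS : R ≤ S) (hQR : Q < R)
    (hRN : S ≤ Subgroup.normalizer (R : Set Ω)) (hRK : R ≤ K) (hf : Mp F K f) (hg : GoodN R f) : Mp E K f :=
  hmax R hRS hQR hRN K f (mp_NSys_of_ge hRS hRK hf (le_inf hf.le (hf.le.trans hRN)) hg)

theorem goodN_of_maps [Finite R] {K : Subgroup Ω} (hf : Mp F K f) (hRK : R ≤ K) (hmaps : ∀ x ∈ R, f x ∈ R) : GoodN R f :=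
  ⟨hmaps, (Iso.of_maps (hf.restrict hRK) hmaps).surj⟩

theorem elt_sup_normalizer {A B : Subgroup Ω} {s : Ω} (hA : s ∈ Subgroup.normalizer (A : Set Ω))
    (hB : s ∈ Subgroup.normalizer (B : Set Ω)) : s ∈ Subgroup.normalizer ((A ⊔ B : Subgroup Ω) : Set Ω) := by
  have key : ∀ s, s ∈ Subgroup.normalizer (A : Set Ω) → s ∈ Subgroup.normalizer (B : Set Ω) →
      ∀ x ∈ A ⊔ B, s * x * s⁻¹ ∈ A ⊔ B := by
    intro s hA hB x hx
    have h1 : A ⊔ B ≤ (A ⊔ B).comap (MulAut.conj s).toMonoidHom :=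
      sup_le (fun q hq => Subgroup.mem_sup_left (conj_mem_of_normalizer hA hq))
        (fun q hq => Subgroup.mem_sup_right (conj_mem_of_normalizer hB hq))
    exact h1 hx
  refine mem_normalizer_of_conj (key s hA hB) fun x hx => ?_
  simpa using key s⁻¹ (Subgroup.inv_mem _ hA) (Subgroup.inv_mem _ hB) x hx

theorem sup_normalizer {X A B : Subgroup Ω} (hA : X ≤ Subgroup.normalizer (A : Set Ω))
    (hB : X ≤ Subgroup.normalizer (B : Set Ω)) : X ≤ Subgroup.normalizer ((A ⊔ B : Subgroup Ω) : Set Ω) :=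
  fun _ hs => elt_sup_normalizer (hA hs) (hB hs)

section Main

variable [Finite S] [Fact p.Prime]

/-- The non-centric case. -/
theorem gen_noncentric (hQS : Q ≤ S) (hSN : S ≤ Subgroup.normalizer (Q : Set Ω)) (hfar : Far F p Q)
    (hC : ¬ centralizerIn S Q ≤ Q) (hVQ : V ≤ Q) (hCg : GenC F E V) (hmax : GenMax F E Q)
    {P' : Subgroup Ω} {ĥ : Ω → Ω} (hQP' : Q ≤ P') (hĥ : Mp F P' ĥ) (hg : GoodN Q ĥ) : Mp E P' ĥ := by
  classical
  have hIĥ : Iso F Q Q ĥ := ⟨hĥ.restrict hQP', hg.1, hg.2⟩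
  have hP'S : P' ≤ S := hĥ.le
  obtain ⟨K, hK⟩ : ∃ K, K = P' ⊔ centralizerIn S Q := ⟨_, rfl⟩
  have hP'K : P' ≤ K := hK ▸ le_sup_left
  have hCK : centralizerIn S Q ≤ K := hK ▸ le_sup_right
  have hQK : Q ≤ K := hQP'.trans hP'K
  obtain ⟨ā, hā, hāĥ⟩ := recept_ext (K := K) hfar.recep hIĥ hQK (by
    rw [hK]
    refine sup_le (fun x hx => Subgroup.subset_closure ⟨hP'S hx, hSN (hP'S hx), ĥ x, hĥ.mem hx, fun y hy => ?_⟩) ?_
    · rw [hĥ.map_mul (P'.mul_mem hx (hQP' hy)) (P'.inv_mem hx), hĥ.map_mul hx (hQP' hy), hĥ.map_inv hx]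
    · intro c hcc
      obtain ⟨hcS, hc'⟩ := mem_centralizerIn.mp hcc
      exact Subgroup.subset_closure (mem_good_of_centralizes hIĥ hcS (fun x hx => (hc' x hx).symm)))
  have hIā : Iso F Q Q ā := hIĥ.congr fun x hx => (hāĥ x hx).symm
  have hRS : Q ⊔ centralizerIn S Q ≤ S := sup_le hQS inf_le_left
  have hRK : Q ⊔ centralizerIn S Q ≤ K := sup_le hQK hCK
  have hQR : Q < Q ⊔ centralizerIn S Q := lt_of_le_of_ne le_sup_left fun h => hC (le_sup_right.trans (le_of_eq h.symm))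
  have hCN : S ≤ Subgroup.normalizer ((centralizerIn S Q : Subgroup Ω) : Set Ω) := by
    intro s hs
    refine mem_normalizer_of_conj (fun c hc => conj_centralizerIn_mem hs (hSN hs) hc) fun c hc => ?_
    exact conj_centralizerIn_mem (S.inv_mem hs) (Subgroup.inv_mem _ (hSN hs)) (by simpa using hc) |> fun h => by simpa using h
  have hRN : S ≤ Subgroup.normalizer ((Q ⊔ centralizerIn S Q : Subgroup Ω) : Set Ω) := sup_normalizer hSN hCN
  have hmapsC : ∀ c ∈ centralizerIn S Q, ā c ∈ centralizerIn S Q := fun c hc =>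
    maps_centralizer hā hIā hQK (hCK hc) hc.2
  have hmapsR : ∀ x ∈ Q ⊔ centralizerIn S Q, ā x ∈ Q ⊔ centralizerIn S Q :=
    (hā.restrict hRK).sup_maps hIā.maps hmapsC
  haveI : Finite (Q ⊔ centralizerIn S Q : Subgroup Ω) := finite_of_le hRS
  have hāE : Mp E K ā := hmax.good hRS hQR hRN hRK hā (goodN_of_maps hā hRK hmapsR)
  haveI : Finite (centralizerIn S Q : Subgroup Ω) := finite_of_le inf_le_left
  have hIC := Iso.of_maps (hā.restrict hCK) hmapsC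
  have hmem : ∀ x ∈ P', ∃ w ∈ K, ā w = ĥ x := by
    intro x hx
    have hxK : x ∈ K := hP'K hx
    have hz : (ā x)⁻¹ * ĥ x ∈ centralizerIn S Q := by
      refine mem_centralizerIn.mpr ⟨S.mul_mem (S.inv_mem (hā.mem hxK)) (hĥ.mem hx), fun y hy => ?_⟩
      obtain ⟨u, hu, rfl⟩ := hIĥ.surj y hy
      have hxu : x * u * x⁻¹ ∈ Q := conj_mem_of_normalizer (hSN (hP'S hx)) hu
      have h1 := hāĥ _ hxu
      rw [hā.map_mul (K.mul_mem hxK (hQK hu)) (K.inv_mem hxK), hā.map_mul hxK (hQK hu), hā.map_inv hxK, hāĥ u hu,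
        hĥ.map_mul (P'.mul_mem hx (hQP' hu)) (P'.inv_mem hx), hĥ.map_mul hx (hQP' hu), hĥ.map_inv hx] at h1
      calc ĥ u * ((ā x)⁻¹ * ĥ x) = (ā x)⁻¹ * (ā x * ĥ u * (ā x)⁻¹) * ĥ x := by group
        _ = (ā x)⁻¹ * (ĥ x * ĥ u * (ĥ x)⁻¹) * ĥ x := by rw [h1]
        _ = (ā x)⁻¹ * ĥ x * ĥ u := by group
    obtain ⟨c, hc, hcz⟩ := hIC.surj _ hz
    refine ⟨x * c, K.mul_mem hxK (hCK hc), ?_⟩
    rw [hā.map_mul hxK (hCK hc), hcz]
    group
  obtain ⟨k, hk, hk1, hk2⟩ := hā.inv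
  have hκ : Mp F P' (k ∘ ĥ) := hĥ.comp (fun x hx => (Mp.mem_img _).mpr (hmem x hx)) hk
  have hκE : Mp E P' (k ∘ ĥ) := hCg P' _ (hVQ.trans hQP') hκ (fun v hv => by
    simp only [Function.comp]
    rw [← hāĥ v (hVQ hv)]
    exact hk1 v (hQK (hVQ hv)))
  have hκK : ∀ x ∈ P', (k ∘ ĥ) x ∈ K := by
    intro x hx
    obtain ⟨w, hw, e⟩ := hmem x hx
    simp only [Function.comp]
    rw [← e, hk1 w hw]
    exact hw
  refine (hκE.comp hκK hāE).congr fun x hx => ?_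
  obtain ⟨w, hw, e⟩ := hmem x hx
  simp only [Function.comp]
  rw [← e, hk1 w hw]

end Main

section Factor

variable [Finite S] [Fact p.Prime]

/-- The case when the powers of the centre are not in `Q`. -/
theorem gen_factor (hS : IsPGroup p S) (hIH : GenH.{u} p (Nat.card S)) (hQS : Q ≤ S) (hSN : S ≤ Subgroup.normalizer (Q : Set Ω))
    (hne : Q ≠ ⊥) (hsat : (normSys F Q S hQS le_rfl hSN).IsSaturated p) (hmax : GenMax F E Q) (hVQ : ¬ VV p S ≤ Q) :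
    ∀ (P : Subgroup Ω) (f : Ω → Ω), Mp (normSys F Q S hQS le_rfl hSN) P f → Mp E P f := by
  classical
  obtain ⟨V, hV⟩ : ∃ V, V = VV p S := ⟨_, rfl⟩
  rw [← hV] at hVQ
  have hVZ : ∀ v ∈ V, v ∈ S ∧ ∀ s ∈ S, s * v = v * s := by
    intro v hv
    have h1 := pc_le (p := p) (k := 1) _ (hV ▸ hv : v ∈ VV p S)
    exact ⟨h1.1, fun s hs => Subgroup.mem_centralizer_iff.mp h1.2 s hs⟩
  have hVm : ∀ v ∈ V, v ∈ VV p S := fun v hv => hV ▸ hv
  have hVS : V ≤ S := fun v hv => (hVZ v hv).1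
  have hVN : S ≤ Subgroup.normalizer (V : Set Ω) := by
    intro s hs
    have h1 : ∀ v ∈ V, s * v * s⁻¹ = v := fun v hv => by
      rw [(hVZ v hv).2 s hs]
      group
    refine mem_normalizer_of_conj (fun v hv => by rw [h1 v hv]; exact hv) fun v hv => ?_
    have h2 := h1 v hv
    have h3 : s⁻¹ * v * s = v := by
      calc s⁻¹ * v * s = s⁻¹ * (s * v * s⁻¹) * s := by rw [h2]
        _ = v := by group
    rw [h3]
    exact hv
  obtain ⟨E₀, hE₀⟩ : ∃ E₀, E₀ = normSys F Q S hQS le_rfl hSN := ⟨_, rfl⟩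
  rw [← hE₀] at hsat ⊢
  have hQn : E₀.IsNormal Q := by
    rw [hE₀]
    exact isNormal_normSys
  have hleF : ∀ (P : Subgroup Ω) f, Mp E₀ P f → Mp F P f := by
    intro P f h
    rw [hE₀] at h
    exact normSys_mp_F h
  have hQsc := H24.stronglyClosed_of_isNormal hQn
  haveI hQnorm : (Q.subgroupOf S).Normal := by
    constructor
    intro n hn g
    rw [Subgroup.mem_subgroupOf] at hn ⊢
    exact conj_mem_of_normalizer (hSN g.2) hn
  obtain ⟨E₁, hE₁⟩ := H24.exists_factorSystem_quotient hQsc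
  obtain ⟨hmor, hE₁sat, hpS⟩ := H24.factor_facts hS hsat hQsc hE₁
  obtain ⟨E₂, hE₂⟩ : ∃ E₂, E₂ = interSys E₀ E le_rfl := ⟨_, rfl⟩
  have hmE₂ : ∀ {P : Subgroup Ω} {f : Ω → Ω}, Mp E₂ P f ↔ Mp E₀ P f ∧ Mp E P f := by
    intro P f
    rw [hE₂]
    exact mp_interSys_iff
  have hQsc₂ : E₂.StronglyClosed Q := by
    refine ⟨hQS, fun R hR φ hφ x => ?_⟩
    rw [hE₂] at hφ
    exact hQsc.2 R hR φ hφ.1 x
  obtain ⟨Ē, hĒ⟩ := H24.exists_factorSystem_quotient hQsc₂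
  obtain ⟨α, hα⟩ : ∃ α, α = QuotientGroup.mk' (Q.subgroupOf S) := ⟨_, rfl⟩
  rw [← hα] at hmor hE₁ hĒ
  have hker : ∀ s : S, α s = 1 ↔ (s : Ω) ∈ Q := hE₁.2.1
  have hsurj : Function.Surjective α := by
    rw [hα]
    exact QuotientGroup.mk'_surjective _
  have hαrange : α.range = ⊤ := MonoidHom.range_eq_top.mpr hsurj
  have hcardlt : Nat.card (⊤ : Subgroup (S ⧸ Q.subgroupOf S)) < Nat.card S := by
    rw [Subgroup.card_top, Subgroup.card_eq_card_quotient_mul_card_subgroup (Q.subgroupOf S)]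
    have h1 : 1 < Nat.card (Q.subgroupOf S) := by
      rw [Subgroup.one_lt_card_iff_ne_bot]
      intro h
      apply hne
      rw [← Subgroup.map_subgroupOf_eq_of_le hQS, h, Subgroup.map_bot]
    have h2 : 0 < Nat.card (S ⧸ Q.subgroupOf S) := Nat.card_pos
    nlinarith
  -- the quotient system is nontrivial
  obtain ⟨v₀, hv₀V, hv₀Q⟩ := SetLike.not_le_iff_exists.mp hVQ
  have hv₀S := hVS hv₀V
  have htopne : (⊤ : Subgroup (S ⧸ Q.subgroupOf S)) ≠ ⊥ := by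
    intro h
    have h1 : α ⟨v₀, hv₀S⟩ ∈ (⊤ : Subgroup (S ⧸ Q.subgroupOf S)) := Subgroup.mem_top _
    rw [h] at h1
    exact hv₀Q ((hker _).mp (Subgroup.mem_bot.mp h1))
  have hQpre : ∀ P' : Subgroup (S ⧸ Q.subgroupOf S), Q ≤ preimageAlong α P' := by
    intro P' x hx
    exact H24.mem_preimageAlong.2 ⟨hQS hx, by
      rw [(hker ⟨x, hQS hx⟩).mpr hx]
      exact P'.one_mem⟩
  have hfQ : ∀ {A : Subgroup Ω} {f : Ω → Ω}, Q ≤ A → Mp E₀ A f → ∀ x ∈ Q, f x ∈ Q := by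
    intro A f hQA hf x hx
    obtain ⟨φ, hφ, hφf⟩ := hf.restrict hQA
    have := hQsc.2 Q le_rfl φ hφ ⟨x, hx⟩
    rwa [hφf] at this
  -- transferring maps
  have htransfer : ∀ (P' : Subgroup (S ⧸ Q.subgroupOf S)) (f' : (S ⧸ Q.subgroupOf S) → (S ⧸ Q.subgroupOf S)), Mp E₁ P' f' →
      (∀ f : Ω → Ω, Mp E₀ (preimageAlong α P') f →
        (∀ (x : Ω) (hx : x ∈ preimageAlong α P'), ∃ (h₁ : f x ∈ S) (h₂ : x ∈ S), α ⟨f x, h₁⟩ = f' (α ⟨x, h₂⟩)) →
        Mp E (preimageAlong α P') f) → Mp Ē P' f' := by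
    intro P' f' hf' hkey
    obtain ⟨φ', hφ', hφ'f'⟩ := hf'
    obtain ⟨-, φ, hφ, hP, hv, hP', hind⟩ := (hE₁.2.2.2 P' φ').mp hφ'
    have hm : Mp E₀ (preimageAlong α P') (toFun φ) := mp_of_mem hφ
    have hmE := hkey _ hm (fun x hx => by
      have h1 := hind ⟨x, hx⟩
      have h2 : (⟨toFun φ x, hm.mem hx⟩ : ↥S) = ⟨φ ⟨x, hx⟩, hv _⟩ := Subtype.ext (toFun_coe φ ⟨x, hx⟩)
      refine ⟨hm.mem hx, hP hx, ?_⟩
      rw [h2, ← h1, hφ'f'])
    have hφE : φ ∈ E.Hom _ := mem_hom_iff.mpr hmE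
    refine ⟨φ', (hĒ.2.2.2 P' φ').mpr ⟨le_top, φ, ?_, hP, hv, hP', hind⟩, hφ'f'⟩
    rw [hE₂]
    exact ⟨hφ, hφE⟩
  have hbar : ∀ (P' : Subgroup (S ⧸ Q.subgroupOf S)) (f' : (S ⧸ Q.subgroupOf S) → (S ⧸ Q.subgroupOf S)), Mp E₁ P' f' → Mp Ē P' f' := by
    refine hIH (S ⧸ Q.subgroupOf S) ⊤ E₁ Ē hcardlt hpS hE₁sat ?_ ?_
    · intro P' f' hVP' hf' hfix
      refine htransfer P' f' hf' fun f hf hrel => ?_
      have hVA : V ≤ preimageAlong α P' := fun v hv =>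
        H24.mem_preimageAlong.2 ⟨hVS hv, hVP' (pc_map hαrange (hVm v hv) (hVS hv))⟩
      have hQA := hQpre P'
      have hmodV : ∀ v ∈ V, f v ∈ Q ⊔ V := by
        intro v hv
        obtain ⟨h₁, h₂, e⟩ := hrel v (hVA hv)
        rw [hfix _ (pc_map hαrange (hVm v hv) h₂)] at e
        have h3 : α (⟨v, h₂⟩⁻¹ * ⟨f v, h₁⟩) = 1 := by
          rw [map_mul, map_inv, e, inv_mul_cancel]
        have h4 : v⁻¹ * f v ∈ Q := (hker _).mp h3
        have h5 : f v = v * (v⁻¹ * f v) := by group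
        rw [h5]
        exact Subgroup.mul_mem _ (Subgroup.mem_sup_right hv) (Subgroup.mem_sup_left h4)
      have hRA : Q ⊔ V ≤ preimageAlong α P' := sup_le hQA hVA
      have hmaps : ∀ x ∈ Q ⊔ V, f x ∈ Q ⊔ V := by
        have h1 := (hf.restrict hRA).sup_maps (A₁ := Q) (B₁ := Q ⊔ V) (hfQ hQA hf) hmodV
        rwa [sup_eq_right.mpr (le_sup_left : Q ≤ Q ⊔ V)] at h1
      have hRS : Q ⊔ V ≤ S := sup_le hQS hVS
      haveI : Finite (Q ⊔ V : Subgroup Ω) := finite_of_le hRS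
      have hQR : Q < Q ⊔ V := lt_of_le_of_ne le_sup_left fun h => hVQ (le_sup_right.trans (le_of_eq h.symm))
      exact hmax.good hRS hQR (sup_normalizer hSN hVN) hRA (hleF _ _ hf) (goodN_of_maps (hleF _ _ hf) hRA hmaps)
    · intro P' f' hWP' hf' hg'
      refine htransfer P' f' hf' fun f hf hrel => ?_
      obtain ⟨W', hW'⟩ : ∃ W', W' = thompsonSubgroupAOf (⊤ : Subgroup (S ⧸ Q.subgroupOf S)) := ⟨_, rfl⟩
      rw [← hW'] at hWP' hg'
      have hW'ne : W' ≠ ⊥ := by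
        rw [hW', ← WW_WJ]
        exact WW_ne_bot functorHyp_WJ hpS htopne
      have hRA : preimageAlong α W' ≤ preimageAlong α P' := by
        intro x hx
        obtain ⟨hxS, hx'⟩ := H24.mem_preimageAlong.1 hx
        exact H24.mem_preimageAlong.2 ⟨hxS, hWP' hx'⟩
      have hRS : preimageAlong α W' ≤ S := H24.preimageAlong_le _
      have hQR : Q < preimageAlong α W' := by
        refine lt_of_le_of_ne (hQpre W') fun h => hW'ne ?_
        rw [Subgroup.eq_bot_iff_forall]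
        intro y hy
        obtain ⟨s, rfl⟩ := hsurj y
        have hsR : (s : Ω) ∈ preimageAlong α W' := H24.mem_preimageAlong.2 ⟨s.2, hy⟩
        rw [← h] at hsR
        exact (hker s).mpr hsR
      have hRN : S ≤ Subgroup.normalizer (preimageAlong α W' : Set Ω) := by
        have key : ∀ s ∈ S, ∀ x ∈ preimageAlong α W', s * x * s⁻¹ ∈ preimageAlong α W' := by
          intro s hs x hx
          obtain ⟨hxS, hx'⟩ := H24.mem_preimageAlong.1 hx
          refine H24.mem_preimageAlong.2 ⟨S.mul_mem (S.mul_mem hs hxS) (S.inv_mem hs), ?_⟩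
          have hg : α ⟨s, hs⟩ ∈ Subgroup.normalizer (W' : Set (S ⧸ Q.subgroupOf S)) := by
            rw [hW']
            apply tj_conj
            exact mem_normalizer_of_conj (fun _ _ => Subgroup.mem_top _) (fun _ _ => Subgroup.mem_top _)
          have h1 := conj_mem_of_normalizer hg hx'
          have h2 : (⟨s * x * s⁻¹, S.mul_mem (S.mul_mem hs hxS) (S.inv_mem hs)⟩ : ↥S) = ⟨s, hs⟩ * ⟨x, hxS⟩ * ⟨s, hs⟩⁻¹ := rfl
          rw [h2, map_mul, map_mul, map_inv]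
          exact h1
        intro s hs
        refine mem_normalizer_of_conj (key s hs) fun x hx => ?_
        simpa using key s⁻¹ (S.inv_mem hs) x hx
      have hmaps : ∀ x ∈ preimageAlong α W', f x ∈ preimageAlong α W' := by
        intro x hx
        obtain ⟨h₀, hx'⟩ := H24.mem_preimageAlong.1 hx
        obtain ⟨h₁, h₂, e⟩ := hrel x (hRA hx)
        refine H24.mem_preimageAlong.2 ⟨h₁, ?_⟩
        rw [e]
        exact hg'.1 _ hx'
      haveI : Finite (preimageAlong α W' : Subgroup Ω) := finite_of_le hRS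
      exact hmax.good hRS hQR hRN hRA (hleF _ _ hf) (goodN_of_maps (hleF _ _ hf) hRA hmaps)
  -- the main argument
  refine gen_large_down hS hsat fun R a hR ha hlarge' => ?_
  have hRS : R ≤ S := hR.1
  haveI : Finite R := finite_of_le hRS
  by_cases hQR : Q ≤ R
  swap
  · obtain ⟨ĥ, hĥ, hĥa, -⟩ := normal_ext hQn ha.mp
    have hlt : Nat.card R < Nat.card (R ⊔ Q : Subgroup Ω) :=
      card_lt_of_lt (sup_le hRS hQS) (lt_of_le_of_ne le_sup_left fun h => hQR (le_sup_right.trans (le_of_eq h.symm)))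
    exact ((hlarge' _ ĥ hĥ hlt).restrict le_sup_left).congr hĥa
  obtain ⟨φ, hφ, hφa⟩ := ha.mp
  obtain ⟨φ', hφ', hP, hv, hP', hind⟩ := hmor.1.2 R φ hφ
  have hb : Mp Ē (imageAlong α R) (toFun φ') := hbar _ _ (mp_of_mem hφ')
  obtain ⟨φ₂', hφ₂', e⟩ := hb
  obtain ⟨-, φ₂, hφ₂, hP₂, hv₂, hP₂', hind₂⟩ := (hĒ.2.2.2 _ φ₂').mp hφ₂'
  have hpi : preimageAlong α (imageAlong α R) = R := by
    refine H24.preimage_image_of_le hRS ?_
    rintro _ ⟨s, hs, rfl⟩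
    exact hQR ((hker s).mp hs)
  obtain ⟨ĝ, hĝ, hĝrel⟩ : ∃ ĝ, Mp E₂ (preimageAlong α (imageAlong α R)) ĝ ∧
      ∀ x ∈ preimageAlong α (imageAlong α R), ∀ h₀ : x ∈ R, ∃ h₁ : ĝ x ∈ S, α ⟨ĝ x, h₁⟩ = α ⟨a x, ha.mp.mem h₀⟩ := by
    refine ⟨toFun φ₂, mp_of_mem hφ₂, fun x hx h₀ => ?_⟩
    have h1 := hind₂ ⟨x, hx⟩
    have h2 : (⟨toFun φ₂ x, (mp_of_mem hφ₂).mem hx⟩ : ↥S) = ⟨φ₂ ⟨x, hx⟩, hv₂ _⟩ := Subtype.ext (toFun_coe φ₂ ⟨x, hx⟩)
    refine ⟨(mp_of_mem hφ₂).mem hx, ?_⟩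
    rw [h2, ← h1, e]
    have h3 := hind ⟨x, h₀⟩
    have h4 : (⟨a x, ha.mp.mem h₀⟩ : ↥S) = ⟨φ ⟨x, h₀⟩, hv _⟩ := Subtype.ext (hφa ⟨x, h₀⟩).symm
    rw [h4, ← h3]
    exact toFun_coe φ' _
  rw [hpi] at hĝ hĝrel
  have hgm := hmE₂.mp hĝ
  have hrelQ : ∀ x ∈ R, (ĝ x)⁻¹ * a x ∈ Q := by
    intro x hx
    obtain ⟨h₁, e'⟩ := hĝrel x hx hx
    have h3 : α (⟨ĝ x, h₁⟩⁻¹ * ⟨a x, ha.mp.mem hx⟩) = 1 := by
      rw [map_mul, map_inv, e', inv_mul_cancel]
    exact (hker _).mp h3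
  have hĝR : ∀ x ∈ R, ĝ x ∈ R := by
    intro x hx
    have h1 : ĝ x = a x * ((ĝ x)⁻¹ * a x)⁻¹ := by group
    rw [h1]
    exact R.mul_mem (ha.maps x hx) (R.inv_mem (hQR (hrelQ x hx)))
  have hIg : Iso E₀ R R ĝ := Iso.of_maps hgm.1 hĝR
  obtain ⟨k, hkI, hk1, hk2⟩ := hIg.inv
  have hI' : Iso E₀ R R (a ∘ k) := hkI.comp ha
  have hmod' : ∀ y ∈ R, y⁻¹ * (a ∘ k) y ∈ Q := by
    intro y hy
    have h1 := hrelQ (k y) (hkI.maps y hy)
    rwa [hk2 y hy] at h1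
  have hh'E : Mp E R (a ∘ k) := by
    by_cases hVR : V ≤ R
    · have hRA : Q ⊔ V ≤ R := sup_le hQR hVR
      have hmodV : ∀ v ∈ V, (a ∘ k) v ∈ Q ⊔ V := by
        intro v hv
        have h5 : (a ∘ k) v = v * (v⁻¹ * (a ∘ k) v) := by group
        rw [h5]
        exact Subgroup.mul_mem _ (Subgroup.mem_sup_right hv) (Subgroup.mem_sup_left (hmod' v (hVR hv)))
      have hmaps : ∀ x ∈ Q ⊔ V, (a ∘ k) x ∈ Q ⊔ V := by
        have h1 := (hI'.mp.restrict hRA).sup_maps (A₁ := Q) (B₁ := Q ⊔ V) (hfQ hQR hI'.mp) hmodV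
        rwa [sup_eq_right.mpr (le_sup_left : Q ≤ Q ⊔ V)] at h1
      have hRS' : Q ⊔ V ≤ S := sup_le hQS hVS
      haveI : Finite (Q ⊔ V : Subgroup Ω) := finite_of_le hRS'
      have hlt : Q < Q ⊔ V := lt_of_le_of_ne le_sup_left fun h => hVQ (le_sup_right.trans (le_of_eq h.symm))
      exact hmax.good hRS' hlt (sup_normalizer hSN hVN) hRA (hleF _ _ hI'.mp) (goodN_of_maps (hleF _ _ hI'.mp) hRA hmaps)
    · have hfar₀ := far_of_fullyNormalized hS hsat hR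
      obtain ⟨ĥ, hĥ, hĥa⟩ := recept_ext (K := R ⊔ V) hfar₀.recep hI' le_sup_left
        (sup_le (fun x hx => Subgroup.subset_closure (mem_good_of_mem hI' hx))
          (fun v hv => Subgroup.subset_closure (mem_good_of_centralizes hI' (hVS hv) (fun x hx => ((hVZ v hv).2 x (hRS hx)).symm))))
      have hlt : Nat.card R < Nat.card (R ⊔ V : Subgroup Ω) :=
        card_lt_of_lt (sup_le hRS hVS) (lt_of_le_of_ne le_sup_left fun h => hVR (le_sup_right.trans (le_of_eq h.symm)))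
      exact ((hlarge' _ ĥ hĥ hlt).restrict le_sup_left).congr hĥa
  refine (hgm.2.comp hĝR hh'E).congr fun x hx => ?_
  simp only [Function.comp]
  rw [hk1 x hx]

end Factor

end Cfsg.Agent.H25
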