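import Cfsg.Agent.Lib.H25.Gen3

set_option autoImplicit false

/-! The constrained case of the generation theorem. -/

namespace Cfsg.Agent.H25

open Cfsg Cfsg.FusionSystem

universe u

variable {Ω : Type u} [Group Ω] {S : Subgroup Ω} {F E : FusionSystem S}
variable {P Q R T V : Subgroup Ω} {f g h : Ω → Ω} {p : ℕ}

section Model

variable {G : Type*} [Group G] {ι : ↥S →* G} {T' : Subgroup G}

theorem preimage_image_inj (hι : Function.Injective ι) (hRS : R ≤ S) : preimageAlong ι (imageAlong ι R) = R := by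
  refine H24.preimage_image_of_le hRS ?_
  rintro _ ⟨s, hs, rfl⟩
  have : s = 1 := hι (by rw [hs, map_one])
  rw [this]
  exact R.one_mem

theorem card_image (hι : Function.Injective ι) (hRS : R ≤ S) : Nat.card (imageAlong ι R) = Nat.card R := by
  unfold imageAlong
  rw [Subgroup.card_map_of_injective hι]
  exact Nat.card_congr (Subgroup.subgroupOfEquivOfLe hRS).toEquiv

theorem image_normalizer_eq [Finite S] (hι : Function.Injective ι) (hrange : ι.range = T') (X : Subgroup Ω) (hX : X ≤ S) :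
    T' ⊓ Subgroup.normalizer ((imageAlong ι X : Subgroup G) : Set G) = imageAlong ι (normalizerIn S X) := by
  ext y
  constructor
  · rintro ⟨hyT, hyN⟩
    rw [← hrange] at hyT
    obtain ⟨s, rfl⟩ := hyT
    refine ⟨s, Subgroup.mem_subgroupOf.mpr ⟨s.2, mem_normalizer_of_conj (fun x hx => ?_) (fun x hx => ?_)⟩, rfl⟩
    · have hxS := hX hx
      have h1 : ι ⟨x, hxS⟩ ∈ imageAlong ι X := ⟨⟨x, hxS⟩, Subgroup.mem_subgroupOf.mpr hx, rfl⟩
      have h2 := conj_mem_of_normalizer hyN h1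
      obtain ⟨u, hu, hue⟩ := h2
      have h3 : u = s * ⟨x, hxS⟩ * s⁻¹ := hι (by rw [hue]; simp)
      have h4 : ((s * ⟨x, hxS⟩ * s⁻¹ : ↥S) : Ω) = s * x * (s : Ω)⁻¹ := rfl
      rw [← h4, ← h3]
      exact Subgroup.mem_subgroupOf.mp hu
    · have hxS := hX hx
      have h1 : ι ⟨x, hxS⟩ ∈ imageAlong ι X := ⟨⟨x, hxS⟩, Subgroup.mem_subgroupOf.mpr hx, rfl⟩
      have h2 := conj_inv_mem_of_normalizer hyN h1
      obtain ⟨u, hu, hue⟩ := h2
      have h3 : u = s⁻¹ * ⟨x, hxS⟩ * s := hι (by rw [hue]; simp)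
      have h4 : ((s⁻¹ * ⟨x, hxS⟩ * s : ↥S) : Ω) = (s : Ω)⁻¹ * x * s := rfl
      rw [← h4, ← h3]
      exact Subgroup.mem_subgroupOf.mp hu
  · rintro ⟨s, hs, rfl⟩
    have hs' := Subgroup.mem_subgroupOf.mp hs
    refine ⟨by rw [← hrange]; exact ⟨s, rfl⟩, mem_normalizer_of_conj ?_ ?_⟩
    · rintro _ ⟨u, hu, rfl⟩
      exact ⟨s * u * s⁻¹, Subgroup.mem_subgroupOf.mpr (conj_mem_of_normalizer hs'.2 (Subgroup.mem_subgroupOf.mp hu)), by simp⟩
    · rintro _ ⟨u, hu, rfl⟩
      exact ⟨s⁻¹ * u * s, Subgroup.mem_subgroupOf.mpr (conj_inv_mem_of_normalizer hs'.2 (Subgroup.mem_subgroupOf.mp hu)), by simp⟩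

theorem card_inf_normalizer [Finite S] (hι : Function.Injective ι) (hrange : ι.range = T') (X : Subgroup Ω) (hX : X ≤ S) :
    Nat.card ↥(T' ⊓ Subgroup.normalizer ((imageAlong ι X : Subgroup G) : Set G)) = Nat.card (normalizerIn S X) := by
  rw [image_normalizer_eq hι hrange X hX]
  exact card_image hι inf_le_left

end Model

section Main

variable [Finite S] [Fact p.Prime]

/-- The case when `Q` is centric in `S` and contains the powers of the centre. -/
theorem gen_model (hS : IsPGroup p S) (hQS : Q ≤ S) (hSN : S ≤ Subgroup.normalizer (Q : Set Ω))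
    (hsat : (normSys F Q S hQS le_rfl hSN).IsSaturated p) (hC : centralizerIn S Q ≤ Q) (hVQ : VV p S ≤ Q)
    (hCg : GenC F E (VV p S)) (hNg : GenN F E (thompsonSubgroupAOf S)) (hmax : GenMax F E Q) :
    ∀ (P : Subgroup Ω) (f : Ω → Ω), Mp (normSys F Q S hQS le_rfl hSN) P f → Mp E P f := by
  classical
  obtain ⟨E₀, hE₀⟩ : ∃ E₀, E₀ = normSys F Q S hQS le_rfl hSN := ⟨_, rfl⟩
  rw [← hE₀] at hsat ⊢
  have hQn : E₀.IsNormal Q := by
    rw [hE₀]
    exact isNormal_normSys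
  have hleF : ∀ (P : Subgroup Ω) f, Mp E₀ P f → Mp F P f := by
    intro P f h
    rw [hE₀] at h
    exact normSys_mp_F h
  have hcon : E₀.IsConstrained p := ⟨hsat, Q, hQn, H24.centric_of_normal hQn hC⟩
  obtain ⟨G, _, ι, hG⟩ := H24.exists_model hS hcon
  have hcore := H24.preimage_eq_core hG
  by_cases hcoreQ : E₀.core = Q
  swap
  · intro A f hf
    have hX : E₀.IsNormal E₀.core := H24.isNormal_core
    have hQX : Q ≤ E₀.core := le_sSup hQn
    have hlt : Q < E₀.core := lt_of_le_of_ne hQX (Ne.symm hcoreQ)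
    obtain ⟨ψ, hψ, hψf, hg⟩ := normal_ext hX hf
    have hψF := hleF _ _ hψ
    have hSNX := H24.normalizer_of_isNormal hX
    exact ((hmax.good hX.1 hlt hSNX le_sup_right hψF hg).restrict le_sup_left).congr hψf
  obtain ⟨hfG, hr, ⟨T, hT⟩, hCG⟩ := hG
  haveI := hfG
  have hι := hr.1
  have hpre : ∀ x (hx : x ∈ S), ι ⟨x, hx⟩ ∈ pCore p G ↔ x ∈ Q := by
    intro x hx
    rw [← hcoreQ, ← hcore]
    constructor
    · intro h
      exact ⟨⟨x, hx⟩, h, rfl⟩
    · rintro ⟨y, hy, rfl⟩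
      exact hy
  have hOn := Cfsg.Agent.H01.pCore_normal p (G := G)
  have hOT : pCore p G ≤ (T : Subgroup G) := H01.pCore_le_sylow p T
  have hrange : ι.range = (T : Subgroup G) := hT.symm
  have hlift : ∀ X : Subgroup G, X ≤ T → ∀ g ∈ Subgroup.normalizer (X : Set G), ∃ f, Mp E₀ (preimageAlong ι X) f ∧
      ∀ (y : Ω) (hy : y ∈ preimageAlong ι X), ∃ h' : f y ∈ S, ∃ h'' : y ∈ S, ι ⟨f y, h'⟩ = g * ι ⟨y, h''⟩ * g⁻¹ := by
    intro X hX g hg
    obtain ⟨f, hf, hfι⟩ := mp_of_conj hr (H24.preimageAlong_le (θ := ι) X) g (fun y => by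
      rw [hrange]
      refine hX (conj_mem_of_normalizer hg ?_)
      obtain ⟨_, hy⟩ := H24.mem_preimageAlong.1 y.2
      exact hy)
    refine ⟨f, hf, fun y hy => ?_⟩
    obtain ⟨h', e⟩ := hfι ⟨y, hy⟩
    exact ⟨h', _, e⟩
  have hmemT : ∀ x (hx : x ∈ S), ι ⟨x, hx⟩ ∈ (T : Subgroup G) := fun x hx => by
    rw [← hrange]
    exact ⟨_, rfl⟩
  -- a subgroup of `T` containing the core lifts
  have hSNpre : ∀ X : Subgroup G, (T : Subgroup G) ≤ Subgroup.normalizer (X : Set G) → S ≤ Subgroup.normalizer (preimageAlong ι X : Set Ω) := by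
    intro X hTN
    have key : ∀ s ∈ S, ∀ x ∈ preimageAlong ι X, s * x * s⁻¹ ∈ preimageAlong ι X := by
      intro s hs x hx
      obtain ⟨hxS, hx'⟩ := H24.mem_preimageAlong.1 hx
      refine H24.mem_preimageAlong.2 ⟨S.mul_mem (S.mul_mem hs hxS) (S.inv_mem hs), ?_⟩
      have hg : ι ⟨s, hs⟩ ∈ Subgroup.normalizer (X : Set G) := hTN (hmemT s hs)
      have h1 := conj_mem_of_normalizer hg hx'
      have h2 : (⟨s * x * s⁻¹, S.mul_mem (S.mul_mem hs hxS) (S.inv_mem hs)⟩ : ↥S) = ⟨s, hs⟩ * ⟨x, hxS⟩ * ⟨s, hs⟩⁻¹ := rfl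
      rw [h2, map_mul, map_mul, map_inv]
      exact h1
    intro s hs
    refine mem_normalizer_of_conj (key s hs) fun x hx => ?_
    simpa using key s⁻¹ (S.inv_mem hs) x hx
  obtain ⟨M, hMn, hMfix, hMcase⟩ := exists_M T hCG
  haveI := hMn
  refine gen_large_down hS hsat fun R a hR ha hlarge' => ?_
  have hRS : R ≤ S := hR.1
  haveI : Finite R := finite_of_le hRS
  by_cases hQR : Q ≤ R
  swap
  · obtain ⟨ĥ, hĥ, hĥa, -⟩ := normal_ext hQn ha.mp
    have hlt : Nat.card R < Nat.card (R ⊔ Q : Subgroup Ω) :=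
      card_lt_of_lt (sup_le hRS hQS) (lt_of_le_of_ne le_sup_left fun h => hQR (le_sup_right.trans (le_of_eq h.symm)))
    exact ((hlarge' _ ĥ hĥ hlt).restrict le_sup_left).congr hĥa
  obtain ⟨X, hX⟩ : ∃ X, X = imageAlong ι R := ⟨_, rfl⟩
  have hXT : X ≤ (T : Subgroup G) := by
    rw [hX]
    rintro _ ⟨s, -, rfl⟩
    rw [← hrange]
    exact ⟨_, rfl⟩
  have hRpre : preimageAlong ι X = R := by
    rw [hX]
    exact preimage_image_inj hι hRS
  have hmemR : ∀ x (hx : x ∈ S), ι ⟨x, hx⟩ ∈ X ↔ x ∈ R := by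
    intro x hx
    rw [← hRpre]
    constructor
    · intro h
      exact H24.mem_preimageAlong.2 ⟨hx, h⟩
    · intro h
      obtain ⟨_, h'⟩ := H24.mem_preimageAlong.1 h
      exact h'
  -- fully normalized
  have hfn : ∀ g : G, (∀ r ∈ X, g * r * g⁻¹ ∈ (T : Subgroup G)) →
      Nat.card ↥((T : Subgroup G) ⊓ Subgroup.normalizer ((X.map (MulAut.conj g).toMonoidHom : Subgroup G) : Set G)) ≤
        Nat.card ↥((T : Subgroup G) ⊓ Subgroup.normalizer (X : Set G)) := by
    intro g hg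
    obtain ⟨f, hf, hfι⟩ := mp_of_conj hr hRS g (fun y => by
      rw [hrange]
      exact hg _ ((hmemR _ _).mpr y.2))
    have hIf := Iso.of_mp hf
    have hconj : E₀.IsConj R hf.img := isConj_iff.mpr ⟨f, hIf⟩
    have hle := hR.2 _ hconj
    have himgS : hf.img ≤ S := fun y hy => by
      obtain ⟨x, hx, rfl⟩ := (Mp.mem_img hf).mp hy
      exact hf.mem hx
    have hmap : X.map (MulAut.conj g).toMonoidHom = imageAlong ι hf.img := by
      ext y
      constructor
      · rintro ⟨w, hw, rfl⟩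
        rw [hX] at hw
        obtain ⟨s, hs, rfl⟩ := hw
        have hs' := Subgroup.mem_subgroupOf.mp hs
        obtain ⟨h', e⟩ := hfι ⟨s, hs'⟩
        exact ⟨⟨f s, h'⟩, Subgroup.mem_subgroupOf.mpr ((Mp.mem_img hf).mpr ⟨s, hs', rfl⟩), e⟩
      · rintro ⟨s, hs, rfl⟩
        obtain ⟨x, hx, hxe⟩ := (Mp.mem_img hf).mp (Subgroup.mem_subgroupOf.mp hs)
        obtain ⟨h', e⟩ := hfι ⟨x, hx⟩
        refine ⟨ι ⟨x, hRS hx⟩, (hmemR _ _).mpr hx, ?_⟩
        have e' : (⟨f x, h'⟩ : ↥S) = s := Subtype.ext hxe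
        rw [e'] at e
        exact e.symm
    rw [hmap, card_inf_normalizer hι hrange _ himgS, hX, card_inf_normalizer hι hrange _ hRS]
    exact hle
  have hmaxP := fun (P₁ : Subgroup G) (h1 : IsPGroup p P₁) (h2 : (T : Subgroup G) ⊓ Subgroup.normalizer (X : Set G) ≤ P₁)
    (h3 : P₁ ≤ Subgroup.normalizer (X : Set G)) => eq_of_fn T hXT hfn h1 h2 h3
  obtain ⟨g, hg⟩ := exists_conj_of_mp hr ha.mp
  have hgx : ∀ (y : Ω) (hy : y ∈ R), ι ⟨a y, ha.mp.mem hy⟩ = g * ι ⟨y, hRS hy⟩ * g⁻¹ := by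
    intro y hy
    obtain ⟨h', h'', e⟩ := hg ⟨y, hy⟩
    exact e
  have hgN : g ∈ Subgroup.normalizer (X : Set G) := by
    refine H09.mem_normalizer_of_conj_le fun x hx => ?_
    have hx' := hXT hx
    rw [← hrange] at hx'
    obtain ⟨s, rfl⟩ := hx'
    have hsR : (s : Ω) ∈ R := (hmemR s s.2).mp hx
    have h1 := hgx s hsR
    have h2 : ι s = ι ⟨s, hRS hsR⟩ := rfl
    rw [h2, ← h1]
    exact (hmemR _ _).mpr (ha.maps _ hsR)
  obtain ⟨n, m, hgnm, hmM, hmN, hnN, hnY⟩ := frat_norm T M hmaxP hgN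
  have hlift' : ∀ u ∈ Subgroup.normalizer (X : Set G), ∃ f, Mp E₀ R f ∧ ∀ (y : Ω) (hy : y ∈ R), ∃ h' : f y ∈ S, ι ⟨f y, h'⟩ = u * ι ⟨y, hRS hy⟩ * u⁻¹ := by
    intro u hu
    obtain ⟨f, hf, hfι⟩ := hlift X hXT u hu
    rw [hRpre] at hf hfι
    refine ⟨f, hf, fun y hy => ?_⟩
    obtain ⟨h', h'', e⟩ := hfι y hy
    exact ⟨h', e⟩
  obtain ⟨fm, hfm, hfmι⟩ := hlift' m hmN
  obtain ⟨fn, hfn', hfnι⟩ := hlift' n hnN
  have hfmR : ∀ y ∈ R, fm y ∈ R := by
    intro y hy
    obtain ⟨h', e⟩ := hfmι y hy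
    refine (hmemR _ h').mp ?_
    rw [e]
    exact conj_mem_of_normalizer hmN ((hmemR _ _).mpr hy)
  have hfmE : Mp E R fm := by
    refine hCg R fm (hVQ.trans hQR) (hleF _ _ hfm) fun v hv => ?_
    have hvS : v ∈ S := (pc_le (p := p) (k := 1) _ hv).1
    have h1 := hMfix m hmM _ (pc_map hrange hv hvS)
    obtain ⟨h', e⟩ := hfmι v (hQR (hVQ hv))
    rw [h1] at e
    exact congrArg Subtype.val (hι e)
  have hfnE : Mp E R fn := by
    by_cases hex : ∃ y, y ∈ (T : Subgroup G) ∧ y ∈ Subgroup.normalizer (X : Set G) ∧ y ∈ M ∧ y ∉ X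
    · obtain ⟨y, hyT, hyN, hyM, hyX⟩ := hex
      obtain ⟨Y, hY⟩ : ∃ Y, Y = ((T : Subgroup G) ⊓ Subgroup.normalizer (X : Set G)) ⊓ M := ⟨_, rfl⟩
      rw [← hY] at hnY
      have hyY : y ∈ Y := by
        rw [hY]
        exact ⟨⟨hyT, hyN⟩, hyM⟩
      have hYT : Y ≤ (T : Subgroup G) := by
        rw [hY]
        exact inf_le_left.trans inf_le_left
      have hnX : n ∈ Subgroup.normalizer ((X ⊔ Y : Subgroup G) : Set G) := elt_sup_normalizer hnN hnY
      obtain ⟨fp, hfp, hfpι⟩ := hlift (X ⊔ Y) (sup_le hXT hYT) n hnX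
      have hRle : R ≤ preimageAlong ι (X ⊔ Y) := by
        intro x hx
        exact H24.mem_preimageAlong.2 ⟨hRS hx, Subgroup.mem_sup_left ((hmemR _ _).mpr hx)⟩
      have hRlt : R < preimageAlong ι (X ⊔ Y) := by
        refine lt_of_le_of_ne hRle fun h => hyX ?_
        have hy' := hyT
        rw [← hrange] at hy'
        obtain ⟨s, rfl⟩ := hy'
        have hs : (s : Ω) ∈ preimageAlong ι (X ⊔ Y) := H24.mem_preimageAlong.2 ⟨s.2, Subgroup.mem_sup_right hyY⟩
        rw [← h] at hs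
        exact (hmemR s s.2).mpr hs
      have hlt := card_lt_of_lt (H24.preimageAlong_le (θ := ι) (X ⊔ Y)) hRlt
      refine ((hlarge' _ fp hfp hlt).restrict hRle).congr fun x hx => ?_
      obtain ⟨h', h'', e⟩ := hfpι x (hRle hx)
      obtain ⟨h'2, e2⟩ := hfnι x hx
      exact congrArg Subtype.val (hι (e.trans e2.symm))
    · push Not at hex
      have hTM : (T : Subgroup G) ⊓ M ≤ X := inf_le_of_normalizer T M hXT hex
      have hYeq : ((T : Subgroup G) ⊓ Subgroup.normalizer (X : Set G)) ⊓ M = (T : Subgroup G) ⊓ M := by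
        apply le_antisymm
        · exact inf_le_inf_right _ inf_le_left
        · intro y hy
          exact ⟨⟨hy.1, Subgroup.le_normalizer (hTM hy)⟩, hy.2⟩
      rw [hYeq] at hnY
      have hfnFm := hleF _ _ hfn'
      rcases hMcase with hA | hO
      · -- the Thompson case
        have hmxeq : (H14.abFam G).mx ((T : Subgroup G) ⊓ M) = (H14.abFam G).mx (T : Subgroup G) := by
          ext A
          constructor
          · rintro ⟨h3, h4, h5⟩
            refine ⟨h3.trans inf_le_left, h4, fun B' hB' hF => ?_⟩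
            obtain ⟨A₀, hA₀⟩ := H14.ZJFam.exists_mx (H14.abFam G) (T : Subgroup G)
            exact (hA₀.2.2 B' hB' hF).trans (h5 A₀ (le_inf hA₀.1 (hA A₀ hA₀)) hA₀.2.1)
          · rintro ⟨h3, h4, h5⟩
            exact ⟨le_inf h3 (hA A ⟨h3, h4, h5⟩), h4, fun B' hB' hF => h5 B' (hB'.trans inf_le_left) hF⟩
        have hjjeq : (H14.abFam G).jj ((T : Subgroup G) ⊓ M) = (H14.abFam G).jj (T : Subgroup G) := by
          unfold H14.ZJFam.jj
          rw [hmxeq]
        have hJ : WW WJ (T : Subgroup G) = (H14.abFam G).jj (T : Subgroup G) := by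
          rw [WW_WJ, H14.thompsonSubgroupAOf_eq_jj]
        have hnJ : n ∈ Subgroup.normalizer ((WW WJ (T : Subgroup G) : Subgroup G) : Set G) := by
          rw [hJ, ← hjjeq]
          exact H09.mem_normalizer_of_conj_le fun x hx => H14.ZJFam.jj_conj hnY hx
        have hJTM : WW WJ (T : Subgroup G) ≤ (T : Subgroup G) ⊓ M := by
          rw [hJ, ← hjjeq]
          exact H14.ZJFam.jj_le _
        have hWT : WW WJ (T : Subgroup G) = (WJ ↥S).map ι := WW_range functorHyp_WJ hS hι hT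
        have hWWS : WW WJ S = thompsonSubgroupAOf S := WW_WJ S
        have hmemWW : ∀ y (hy : y ∈ thompsonSubgroupAOf S), ∃ hyS : y ∈ S, ι ⟨y, hyS⟩ ∈ WW WJ (T : Subgroup G) := by
          intro y hy
          rw [← hWWS] at hy
          obtain ⟨y₀, hy₀, rfl⟩ := hy
          refine ⟨y₀.2, ?_⟩
          rw [hWT]
          exact ⟨y₀, hy₀, rfl⟩
        have hJR : thompsonSubgroupAOf S ≤ R := by
          intro y hy
          obtain ⟨hyS, h1⟩ := hmemWW y hy
          exact (hmemR y hyS).mp (hTM (hJTM h1))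
        have hfW : ∀ y ∈ thompsonSubgroupAOf S, fn y ∈ thompsonSubgroupAOf S := by
          intro y hy
          obtain ⟨hyS, h1⟩ := hmemWW y hy
          obtain ⟨h', e⟩ := hfnι y (hJR hy)
          have h2 : ι ⟨fn y, h'⟩ ∈ WW WJ (T : Subgroup G) := by
            rw [e]
            exact conj_mem_of_normalizer hnJ h1
          rw [hWT] at h2
          obtain ⟨y₁, hy₁, e₁⟩ := h2
          have h3 := hι e₁
          have h4 : (y₁ : Ω) = fn y := congrArg Subtype.val h3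
          rw [← h4, ← hWWS]
          exact ⟨y₁, hy₁, rfl⟩
        haveI : Finite (thompsonSubgroupAOf S : Subgroup Ω) := finite_of_le (tj_le S)
        exact hNg R fn hJR hfnFm (goodN_of_maps hfnFm hJR hfW)
      · -- the offender case
        have hR₁S : preimageAlong ι ((T : Subgroup G) ⊓ M) ≤ S := H24.preimageAlong_le _
        have hQR₁ : Q < preimageAlong ι ((T : Subgroup G) ⊓ M) := by
          have h1 : Q ≤ preimageAlong ι ((T : Subgroup G) ⊓ M) := fun x hx =>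
            H24.mem_preimageAlong.2 ⟨hQS hx, hO.le ((hpre x (hQS hx)).mpr hx)⟩
          refine lt_of_le_of_ne h1 fun h => ?_
          apply hO.not_ge
          intro y hy
          have hy' : y ∈ (T : Subgroup G) := hy.1
          rw [← hrange] at hy'
          obtain ⟨x, rfl⟩ := hy'
          have hx : (x : Ω) ∈ preimageAlong ι ((T : Subgroup G) ⊓ M) := H24.mem_preimageAlong.2 ⟨x.2, hy⟩
          rw [← h] at hx
          exact (hpre x x.2).mpr hx
        have hTN : (T : Subgroup G) ≤ Subgroup.normalizer (((T : Subgroup G) ⊓ M : Subgroup G) : Set G) := by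
          intro t ht
          refine H09.mem_normalizer_of_conj_le fun x hx => ?_
          exact ⟨Subgroup.mul_mem _ (Subgroup.mul_mem _ ht hx.1) (Subgroup.inv_mem _ ht), hMn.conj_mem x hx.2 t⟩
        have hR₁R : preimageAlong ι ((T : Subgroup G) ⊓ M) ≤ R := by
          intro x hx
          obtain ⟨hxS, hx'⟩ := H24.mem_preimageAlong.1 hx
          exact (hmemR x hxS).mp (hTM hx')
        have hmaps : ∀ y ∈ preimageAlong ι ((T : Subgroup G) ⊓ M), fn y ∈ preimageAlong ι ((T : Subgroup G) ⊓ M) := by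
          intro y hy
          obtain ⟨hyS, h1⟩ := H24.mem_preimageAlong.1 hy
          obtain ⟨h', e⟩ := hfnι y (hR₁R hy)
          refine H24.mem_preimageAlong.2 ⟨h', ?_⟩
          rw [e]
          exact conj_mem_of_normalizer hnY h1
        haveI : Finite (preimageAlong ι ((T : Subgroup G) ⊓ M) : Subgroup Ω) := finite_of_le hR₁S
        exact hmax.good hR₁S hQR₁ (hSNpre _ hTN) hR₁R hfnFm (goodN_of_maps hfnFm hR₁R hmaps)
  refine (hfmE.comp hfmR hfnE).congr fun x hx => ?_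
  simp only [Function.comp]
  have key : (⟨fn (fm x), hfn'.mem (hfmR x hx)⟩ : ↥S) = ⟨a x, ha.mp.mem hx⟩ := by
    apply hι
    obtain ⟨h₁, e₁⟩ := hfnι _ (hfmR x hx)
    obtain ⟨h₂, e₂⟩ := hfmι x hx
    rw [e₁, e₂, hgx x hx, hgnm]
    group
  exact congrArg Subtype.val key

end Main

end Cfsg.Agent.H25
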