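import Cfsg.Agent.Lib.H25.Gen4

set_option autoImplicit false

/-! The generation theorem. -/

namespace Cfsg.Agent.H25

open Cfsg Cfsg.FusionSystem

universe u

variable {Ω : Type u} [Group Ω] {S : Subgroup Ω} {F E : FusionSystem S}
variable {P Q R T V : Subgroup Ω} {f g h : Ω → Ω} {p : ℕ}

section Step

variable [Finite S] [Fact p.Prime]

/-- The inductive step of the generation theorem. -/
theorem gen_step (hS : IsPGroup p S) (hF : F.IsSaturated p) (hIH : GenH.{u} p (Nat.card S))
    (hCg : GenC F E (VV p S)) (hNg : GenN F E (thompsonSubgroupAOf S)) :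
    ∀ (P : Subgroup Ω) (f : Ω → Ω), Mp F P f → Mp E P f := by
  classical
  by_contra hcon
  obtain ⟨X, hXdef⟩ : ∃ X : Set (Subgroup Ω), X = {Q | ∃ hQS : Q ≤ S, Q ≠ ⊥ ∧ F.IsFullyNormalized Q ∧
      ∃ (P : Subgroup Ω) (f : Ω → Ω), Mp (NSys F Q hQS) P f ∧ ¬ Mp E P f} := ⟨_, rfl⟩
  have hXmem : ∀ Q, Q ∈ X ↔ ∃ hQS : Q ≤ S, Q ≠ ⊥ ∧ F.IsFullyNormalized Q ∧
      ∃ (P : Subgroup Ω) (f : Ω → Ω), Mp (NSys F Q hQS) P f ∧ ¬ Mp E P f := by
    intro Q
    rw [hXdef]
    rfl
  have hbad : ∀ (R : Subgroup Ω) (a : Ω → Ω), F.IsFullyNormalized R → R ≠ ⊥ → Iso F R R a → ¬ Mp E R a → R ∈ X := by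
    intro R a hR hne hI hna
    exact (hXmem R).mpr ⟨hR.1, hne, hR, R, a, mp_NSys_of_ge hR.1 le_rfl hI.mp (le_normalizerIn hR.1) ⟨hI.maps, hI.surj⟩, hna⟩
  have hXne : X.Nonempty := by
    by_contra hemp
    rw [Set.not_nonempty_iff_eq_empty] at hemp
    apply hcon
    intro P f hf
    haveI : Finite P := finite_of_le hf.le
    refine gen_large hS hF 0 (fun R a hR _ hI => ?_) P f hf Nat.card_pos
    by_contra hna
    by_cases hRb : R = ⊥
    · subst hRb
      refine hna ((Mp.conj (F := E) (s := 1) bot_le S.one_mem).congr fun x hx => ?_)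
      rw [Subgroup.mem_bot] at hx
      subst hx
      simp [hI.mp.map_one]
    · have := hbad R a hR hRb hI hna
      rw [hemp] at this
      exact this
  have hXfin : X.Finite := H24.finite_subgroups_le.subset (fun Q hQ => ((hXmem Q).mp hQ).choose)
  obtain ⟨m, hmdef⟩ : ∃ m : Subgroup Ω → ℕ, m = fun Q => Nat.card (normalizerIn S Q) * (Nat.card S + 1) + Nat.card Q := ⟨_, rfl⟩
  obtain ⟨Q, hQX, hQmax⟩ := Set.exists_max_image X m hXfin hXne
  obtain ⟨hQS, hQne, hQfn, P₀, f₀, hf₀, hn₀⟩ := (hXmem Q).mp hQX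
  have hcardQ : Nat.card Q ≤ Nat.card S := Subgroup.card_le_of_le hQS
  have hlarge : ∀ (P : Subgroup Ω) (f : Ω → Ω), Mp F P f → Nat.card (normalizerIn S Q) < Nat.card P → Mp E P f := by
    refine gen_large hS hF _ (fun R a hR hlt hI => ?_)
    by_contra hna
    have hRne : R ≠ ⊥ := by
      intro h
      rw [h, Subgroup.card_bot] at hlt
      have : 0 < Nat.card (normalizerIn S Q) := by
        haveI : Finite (normalizerIn S Q) := finite_of_le inf_le_left
        exact Nat.card_pos
      omega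
    have hRX := hbad R a hR hRne hI hna
    have h1 := hQmax R hRX
    rw [hmdef] at h1
    simp only at h1
    haveI : Finite R := finite_of_le hR.1
    haveI : Finite (normalizerIn S R) := finite_of_le inf_le_left
    have h2 : Nat.card R ≤ Nat.card (normalizerIn S R) := Subgroup.card_le_of_le (le_normalizerIn hR.1)
    have h3 : (Nat.card (normalizerIn S Q) + 1) * (Nat.card S + 1) ≤ Nat.card (normalizerIn S R) * (Nat.card S + 1) :=
      Nat.mul_le_mul_right _ (by omega)
    nlinarith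
  by_cases hT : normalizerIn S Q = S
  · have hSN : S ≤ Subgroup.normalizer (Q : Set Ω) := inf_eq_left.mp hT
    have hmax : GenMax F E Q := by
      intro R hRS hQR hRN P f hf
      by_contra hna
      have hRX : R ∈ X := by
        refine (hXmem R).mpr ⟨hRS, ?_, fullyNormalized_of_normal' hRS hRN, P, f, hf, hna⟩
        intro h
        rw [h] at hQR
        exact not_lt_bot hQR
      have h1 := hQmax R hRX
      rw [hmdef] at h1
      simp only at h1
      have hR' : normalizerIn S R = S := inf_eq_left.mpr hRN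
      rw [hR', hT] at h1
      haveI : Finite R := finite_of_le hRS
      have h2 : Nat.card Q < Nat.card R :=
        lt_of_le_of_ne (Subgroup.card_le_of_le hQR.le) fun h => hQR.ne (Subgroup.eq_of_le_of_card_ge hQR.le h.ge)
      omega
    have hfar : Far F p Q := far_of_fullyNormalized hS hF hQfn
    have hsat : (normSys F Q S hQS le_rfl hSN).IsSaturated p := normSys_sat_of_eq (inf_eq_left.mpr hSN) hS hF hfar
    have hf₀' : Mp (normSys F Q S hQS le_rfl hSN) P₀ f₀ := by
      obtain ⟨h1, h2, h3, ĥ, hĥ, hĥf, hg⟩ := (mp_NSys_iff hQS).mp hf₀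
      exact mp_normSys_iff'.mpr ⟨h1, h2.trans inf_le_left, fun x hx => (h3 x hx).1, ĥ, hĥ, hĥf, hg⟩
    apply hn₀
    by_cases hVQ : VV p S ≤ Q
    · by_cases hC : centralizerIn S Q ≤ Q
      · exact gen_model hS hQS hSN hsat hC hVQ hCg hNg hmax _ _ hf₀'
      · obtain ⟨h1, h2, h3, ĥ, hĥ, hĥf, hg⟩ := (mp_NSys_iff hQS).mp hf₀
        exact ((gen_noncentric hQS hSN hfar hC hVQ hCg hmax le_sup_right hĥ hg).restrict le_sup_left).congr hĥf
    · exact gen_factor hS hIH hQS hSN hQne hsat hmax hVQ _ _ hf₀'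
  · refine hn₀ (gen_lt hS hF hIH hCg hQS hQfn hQne hT hlarge (fun Y hYS hYne hYfn hlt P f hf => ?_) _ _ hf₀)
    by_contra hna
    have hYX : Y ∈ X := (hXmem Y).mpr ⟨hYS, hYne, hYfn, P, f, hf, hna⟩
    have h1 := hQmax Y hYX
    rw [hmdef] at h1
    simp only at h1
    have h2 : (Nat.card (normalizerIn S Q) + 1) * (Nat.card S + 1) ≤ Nat.card (normalizerIn S Y) * (Nat.card S + 1) :=
      Nat.mul_le_mul_right _ hlt
    nlinarith

end Step

theorem gen_all [Fact p.Prime] : ∀ n, GenH.{u} p n := by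
  intro n
  induction n with
  | zero =>
    intro Ω' _ S' _ F' E' hc
    omega
  | succ n ih =>
    intro Ω' _ S' _ F' E' hc hS hF hC hN
    refine gen_step hS hF (fun Ω'' _ S'' _ F'' E'' hc' => ih Ω'' S'' F'' E'' ?_) hC hN
    omega

/-- **A saturated system is generated by the centralizer of the powers of the centre and the normalizer of the Thompson subgroup.** -/
theorem gen_main [Finite S] [Fact p.Prime] (hS : IsPGroup p S) (hF : F.IsSaturated p)
    (hC : GenC F E (VV p S)) (hN : GenN F E (thompsonSubgroupAOf S)) :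
    ∀ (P : Subgroup Ω) (f : Ω → Ω), Mp F P f → Mp E P f :=
  gen_all _ Ω S F E (Nat.lt_succ_self _) hS hF hC hN

end Cfsg.Agent.H25
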