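import Cfsg.Agent.Lib.H25.GlOrb
import Cfsg.Agent.Lib.H25.FusGT4
import Cfsg.Agent.Lib.H25.FusBad3
import Cfsg.Agent.Lib.H25.ThRep

set_option autoImplicit false

/-! The local theorem for the Thompson subgroup at odd primes. -/

namespace Cfsg.Agent.H25

open Cfsg Cfsg.FusionSystem

universe u

section Sylow

variable {G : Type*} [Group G] [Finite G] {p : ℕ} [Fact p.Prime]

theorem exists_conj_le_sylow (T : Sylow p G) {X Q : Subgroup G} (hTX : (T : Subgroup G) ≤ X) (hQX : Q ≤ X)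
    (hQ : IsPGroup p Q) : ∃ c ∈ X, ∀ q ∈ Q, c * q * c⁻¹ ∈ (T : Subgroup G) := by
  let T' : Sylow p X := T.subtype hTX
  have hQ' : IsPGroup p (Q.subgroupOf X) := hQ.comap_subtype
  obtain ⟨S', hS'⟩ := hQ'.exists_le_sylow
  obtain ⟨c, hc⟩ := MulAction.exists_smul_eq X S' T'
  refine ⟨c, c.2, fun q hq => ?_⟩
  have h1 : (⟨q, hQX hq⟩ : X) ∈ (S' : Subgroup X) := hS' (Subgroup.mem_subgroupOf.mpr hq)
  have h2 : c * (⟨q, hQX hq⟩ : X) * c⁻¹ ∈ (T' : Subgroup X) := by
    rw [← hc, Sylow.coe_subgroup_smul]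
    exact ⟨_, h1, rfl⟩
  rw [Sylow.coe_subtype] at h2
  exact Subgroup.mem_subgroupOf.mp h2

end Sylow

section Core

variable {A G : Type*} [CommGroup A] [Finite A] [Group G] [Finite G] {p : ℕ} [Fact p.Prime]

/-- The abstract core of the local argument. -/
theorem core_fix (hp2 : p ≠ 2) (Φ : G →* MulAut A) (T : Sylow p G) (z : A) (hzT : ∀ t ∈ (T : Subgroup G), Φ t z = z)
    (D : Set G) (hDc : ∀ g, ∀ y ∈ D, g * y * g⁻¹ ∈ D) (hDq : ∀ y ∈ D, ∀ x, Φ y (Φ y x * x⁻¹) = Φ y x * x⁻¹)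
    (hDp : ∀ y ∈ D, ∀ x, Φ (y ^ p) x = x)
    (hN : ∀ k : G, (∀ y ∈ D, y ∈ (T : Subgroup G) → k * y * k⁻¹ ∈ (T : Subgroup G)) → Φ k z = z) :
    ∀ y ∈ D, Φ y z = z := by
  classical
  obtain ⟨H, hH⟩ : ∃ H, H = Subgroup.closure (D ∩ (T : Subgroup G) : Set G) := ⟨_, rfl⟩
  have hHT : H ≤ (T : Subgroup G) := by
    rw [hH, Subgroup.closure_le]
    exact fun x hx => hx.2
  have hHp : IsPGroup p H := T.isPGroup'.to_le hHT
  obtain ⟨φ, hφ⟩ : ∃ φ : H →* MulAut A, φ = Φ.comp H.subtype := ⟨_, rfl⟩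
  have hφa : ∀ (h : H) x, φ h x = Φ (h : G) x := fun h x => by rw [hφ]; rfl
  -- the orbit of `z`
  obtain ⟨X, hX⟩ : ∃ X, X = orbK Φ ⊤ z := ⟨_, rfl⟩
  have hXm : ∀ x, x ∈ X ↔ ∃ l : G, Φ l z = x := fun x => by
    rw [hX, mem_orbK]
    exact ⟨fun ⟨k, _, hk⟩ => ⟨k, hk⟩, fun ⟨k, hk⟩ => ⟨k, Subgroup.mem_top _, hk⟩⟩
  have hzX : z ∈ X := (hXm z).mpr ⟨1, by simp⟩
  have hXst : ∀ g, ∀ x ∈ X, Φ g x ∈ X := by
    intro g x hx
    obtain ⟨l, rfl⟩ := (hXm x).mp hx
    exact (hXm _).mpr ⟨g * l, by rw [map_mul, MulAut.mul_apply]⟩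
  -- unique fixed point
  have hfix : ∀ x ∈ X, (∀ h : H, φ h x = x) → x = z := by
    intro x hx hxf
    obtain ⟨l, rfl⟩ := (hXm x).mp hx
    obtain ⟨X₀, hX₀⟩ : ∃ X₀ : Subgroup G, X₀ = (MulAction.stabilizer (MulAut A) z).comap Φ := ⟨_, rfl⟩
    have hX₀m : ∀ g, g ∈ X₀ ↔ Φ g z = z := fun g => by
      rw [hX₀, Subgroup.mem_comap, MulAction.mem_stabilizer_iff]
      rfl
    have hTX : (T : Subgroup G) ≤ X₀ := fun t ht => (hX₀m t).mpr (hzT t ht)
    obtain ⟨Q, hQ⟩ : ∃ Q : Subgroup G, Q = H.map (MulAut.conj l⁻¹).toMonoidHom := ⟨_, rfl⟩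
    have hQX : Q ≤ X₀ := by
      rw [hQ]
      rintro _ ⟨h, hh, rfl⟩
      rw [hX₀m]
      have h1 := hxf ⟨h, hh⟩
      rw [hφa] at h1
      show Φ (l⁻¹ * h * l⁻¹⁻¹) z = z
      rw [inv_inv, map_mul, map_mul, MulAut.mul_apply, MulAut.mul_apply, h1, map_inv, MulAut.inv_apply_self]
    have hQp : IsPGroup p Q := by
      rw [hQ]
      exact hHp.map _
    obtain ⟨c, hc, hcq⟩ := exists_conj_le_sylow T hTX hQX hQp
    have hk := hN (c * l⁻¹) (by
      intro y hy hyT
      have hyH : y ∈ H := by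
        rw [hH]
        exact Subgroup.subset_closure ⟨hy, hyT⟩
      have := hcq (l⁻¹ * y * l⁻¹⁻¹) (by rw [hQ]; exact ⟨y, hyH, rfl⟩)
      convert this using 1
      group)
    have hc' := (hX₀m c).mp hc
    have h2 : Φ l⁻¹ z = z := by
      have h3 : Φ c⁻¹ z = z := by
        rw [map_inv]
        nth_rewrite 1 [← hc']
        simp
      rw [map_mul, MulAut.mul_apply] at hk
      have h4 := congrArg (Φ c⁻¹) hk
      rw [h3, map_inv, MulAut.inv_apply_self] at h4
      exact h4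
    have h5 := congrArg (Φ l) h2
    rw [map_inv, MulAut.apply_inv_self] at h5
    exact h5.symm
  -- quadratic action of generators
  have hΓ : Subgroup.closure (((↑) : H → G) ⁻¹' (D ∩ (T : Subgroup G) : Set G)) = ⊤ := by
    subst hH
    exact Subgroup.closure_closure_coe_preimage
  obtain ⟨w, hw⟩ := stable_prod_pow hp2 hHp φ _ hΓ
    (fun γ hγ x => by rw [hφa, hφa]; exact hDq _ hγ.1 x)
    (fun γ hγ x => by rw [hφa]; exact hDp _ hγ.1 x)
    (X.erase z)
    (fun h x hx => by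
      rw [Finset.mem_erase] at hx ⊢
      refine ⟨fun h1 => hx.1 ?_, hXst _ x hx.2 |> fun h2 => by rw [hφa]; exact h2⟩
      rw [hφa] at h1
      have h3 : Φ (h : G) z = z := hzT _ (hHT h.2)
      exact (Φ (h : G)).injective (h1.trans h3.symm))
    (fun x hx => by
      rw [Finset.mem_erase] at hx
      by_contra hall
      push Not at hall
      exact hx.1 (hfix x hx.2 hall))
  have hprod : ∏ y ∈ X, y = z * w ^ p := by
    rw [← Finset.mul_prod_erase X (fun y => y) hzX, hw]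
  have hν : ∀ g : G, Φ g (∏ y ∈ X, y) = ∏ y ∈ X, y := by
    intro g
    rw [map_prod]
    have himg : X.image (Φ g) = X := by
      refine Finset.eq_of_subset_of_card_le ?_ ?_
      · intro y hy
        obtain ⟨x, hx, rfl⟩ := Finset.mem_image.mp hy
        exact hXst g x hx
      · rw [Finset.card_image_of_injective _ (Φ g).injective]
    conv_rhs => rw [← himg]
    rw [Finset.prod_image (fun a _ b _ h => (Φ g).injective h)]
  intro y hy
  have hup : (Φ y w * w⁻¹) ^ p = 1 := by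
    refine quad_pth _ (hDq y hy) (fun x => ?_) w
    rw [← map_pow]
    exact hDp y hy x
  have hwp : Φ y (w ^ p) = w ^ p := by
    rw [map_pow]
    have h1 : Φ y w = (Φ y w * w⁻¹) * w := by simp
    rw [h1, mul_pow, hup, one_mul]
  have hzeq : z = (∏ y ∈ X, y) * (w ^ p)⁻¹ := by rw [hprod]; simp
  rw [hzeq, map_mul, hν, map_inv, hwp]

end Core

section Local

variable {p : ℕ} [Fact p.Prime]

/-- The Thompson functor. -/
noncomputable def WJ (Q : Type u) [Group Q] : Subgroup Q := thompsonSubgroupAOf (⊤ : Subgroup Q)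

theorem WW_WJ {G : Type u} [Group G] (T : Subgroup G) : WW WJ T = thompsonSubgroupAOf T := by
  unfold WW WJ
  have h1 := tj_map T.subtype (⊤ : Subgroup T) (fun x _ hx => by
    apply Subtype.ext
    simpa using hx)
  rw [← MonoidHom.range_eq_map, Subgroup.range_subtype] at h1
  exact h1.symm

theorem normal_centralizer_of_normal {G : Type*} [Group G] (B : Subgroup G) [hB : B.Normal] :
    (Subgroup.centralizer (B : Set G)).Normal := by
  refine ⟨fun c hc g => ?_⟩
  rw [Subgroup.mem_centralizer_iff] at hc ⊢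
  intro v hv
  have h1 := hc (g⁻¹ * v * g) (by simpa using hB.conj_mem v hv g⁻¹)
  calc v * (g * c * g⁻¹) = g * ((g⁻¹ * v * g) * c) * g⁻¹ := by group
    _ = g * (c * (g⁻¹ * v * g)) * g⁻¹ := by rw [h1]
    _ = g * c * g⁻¹ * v := by group

/-- The local theorem at odd primes. -/
theorem localFix_J (hp2 : p ≠ 2) : LocalFix.{u} p 0 WJ := by
  classical
  intro G _ _ T hc z hzO hzpc h1 h2 g
  have hpp : p.Prime := Fact.out
  have hZ : z ∈ (T : Subgroup G) ⊓ Subgroup.centralizer ((T : Subgroup G) : Set G) := pc_le (p := p) (k := 0) _ hzpc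
  obtain ⟨O, hO⟩ : ∃ O, O = pCore p G := ⟨_, rfl⟩
  rw [← hO] at hc hzO h2
  haveI hOn : O.Normal := hO ▸ Cfsg.Agent.H01.pCore_normal p
  have hOT : O ≤ (T : Subgroup G) := hO ▸ Cfsg.Agent.H01.pCore_le_sylow p T
  obtain ⟨Zt, hZt⟩ : ∃ Zt, Zt = (T : Subgroup G) ⊓ Subgroup.centralizer ((T : Subgroup G) : Set G) := ⟨_, rfl⟩
  haveI hCOn : (Subgroup.centralizer (O : Set G)).Normal := normal_centralizer_of_normal O
  have hZtC : Zt ≤ Subgroup.centralizer (O : Set G) := by
    rw [hZt]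
    intro x hx
    exact Subgroup.centralizer_le (fun y hy => hOT hy) hx.2
  obtain ⟨B, hB⟩ : ∃ B, B = Subgroup.normalClosure (Zt : Set G) := ⟨_, rfl⟩
  haveI hBn : B.Normal := by
    rw [hB]
    infer_instance
  have hBC : B ≤ Subgroup.centralizer (O : Set G) := by
    rw [hB]
    exact Subgroup.normalClosure_le_normal hZtC
  have hBO : B ≤ O := hBC.trans hc
  have hBab : ∀ a ∈ B, ∀ b ∈ B, a * b = b * a := fun a ha b hb =>
    (Subgroup.mem_centralizer_iff.mp (hBC ha) b (hBO hb)).symm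
  have hzB : z ∈ B := by
    rw [hB]
    exact Subgroup.subset_normalClosure (by rw [hZt]; exact hZ)
  obtain ⟨C, hC⟩ : ∃ C, C = Subgroup.centralizer (B : Set G) := ⟨_, rfl⟩
  haveI hCn : C.Normal := by
    rw [hC]
    exact normal_centralizer_of_normal B
  have hOC : O ≤ C := by
    rw [hC]
    intro o ho
    rw [Subgroup.mem_centralizer_iff]
    intro b hb
    exact (Subgroup.mem_centralizer_iff.mp (hBC hb) o ho).symm
  have hCz : ∀ c ∈ C, c * z * c⁻¹ = z := by
    intro c hc'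
    rw [hC] at hc'
    have := Subgroup.mem_centralizer_iff.mp hc' z hzB
    rw [← this]
    group
  have hBT : B ≤ (T : Subgroup G) := hBO.trans hOT
  have hTp : IsPGroup p (T : Subgroup G) := T.isPGroup'
  have hJ : WW WJ (T : Subgroup G) = (H14.abFam G).jj (T : Subgroup G) := by
    rw [WW_WJ, H14.thompsonSubgroupAOf_eq_jj]
  by_cases hcase : ∀ A ∈ (H14.abFam G).mx (T : Subgroup G), A ≤ C
  · -- the Frattini case
    have hfr := H14.frattini_inf T C
    have hmem : g ∈ ((Subgroup.normalizer (((T : Subgroup G) ⊓ C : Subgroup G) : Set G) ⊔ C : Subgroup G) : Set G) := by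
      rw [hfr]
      exact Set.mem_univ _
    rw [Subgroup.mul_normal, Set.mem_mul] at hmem
    obtain ⟨n, hn, c, hc', rfl⟩ := hmem
    have hmxeq : (H14.abFam G).mx ((T : Subgroup G) ⊓ C) = (H14.abFam G).mx (T : Subgroup G) := by
      ext A
      constructor
      · rintro ⟨h3, h4, h5⟩
        refine ⟨h3.trans inf_le_left, h4, fun B' hB' hF => ?_⟩
        obtain ⟨A₀, hA₀⟩ := H14.ZJFam.exists_mx (H14.abFam G) (T : Subgroup G)
        exact (hA₀.2.2 B' hB' hF).trans (h5 A₀ (le_inf hA₀.1 (hcase A₀ hA₀)) hA₀.2.1)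
      · rintro ⟨h3, h4, h5⟩
        exact ⟨le_inf h3 (hcase A ⟨h3, h4, h5⟩), h4, fun B' hB' hF => h5 B' (hB'.trans inf_le_left) hF⟩
    have hjjeq : (H14.abFam G).jj ((T : Subgroup G) ⊓ C) = (H14.abFam G).jj (T : Subgroup G) := by
      unfold H14.ZJFam.jj
      rw [hmxeq]
    have hnJ : n ∈ Subgroup.normalizer ((WW WJ (T : Subgroup G) : Subgroup G) : Set G) := by
      rw [hJ, ← hjjeq]
      exact H09.mem_normalizer_of_conj_le fun x hx => H14.ZJFam.jj_conj hn hx
    have h3 := h1 n hnJ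
    calc n * c * z * (n * c)⁻¹ = n * (c * z * c⁻¹) * n⁻¹ := by group
      _ = z := by rw [hCz c hc', h3]
  · -- the offender case
    push Not at hcase
    obtain ⟨A, hA, hAC⟩ := hcase
    obtain ⟨A', hA', hA'C, hA'n⟩ := exists_offender hTp hBT
      (fun t _ v hv => hBn.conj_mem v hv t) hBab hA (by rwa [← hC])
    rw [← hC] at hA'C
    have hA'ab : ∀ a ∈ A', ∀ b ∈ A', a * b = b * a := hA'.2.1
    have hA'T : A' ≤ (T : Subgroup G) := hA'.1
    -- an element of order `p` modulo `C`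
    obtain ⟨g₀, hg₀A, hg₀C, hg₀p⟩ : ∃ g₀ ∈ A', g₀ ∉ C ∧ g₀ ^ p ∈ C := by
      obtain ⟨a, haA, haC⟩ := SetLike.not_le_iff_exists.mp hA'C
      obtain ⟨k, hk⟩ := (hTp.to_le hA'T) ⟨a, haA⟩
      have hex : ∃ m, a ^ (p ^ m) ∈ C := by
        refine ⟨k, ?_⟩
        have := congrArg Subtype.val hk
        have h4 : a ^ (p ^ k) = 1 := by simpa using this
        rw [h4]
        exact C.one_mem
      have hm := Nat.find_spec hex
      have hmin := fun n (hn : n < Nat.find hex) => Nat.find_min hex hn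
      obtain ⟨m, hm'⟩ : ∃ m, Nat.find hex = m + 1 := by
        refine Nat.exists_eq_succ_of_ne_zero fun h0 => ?_
        rw [h0] at hm
        exact haC (by simpa using hm)
      rw [hm'] at hm hmin
      refine ⟨a ^ (p ^ m), A'.pow_mem haA _, hmin m (Nat.lt_succ_self m), ?_⟩
      rw [← pow_mul, ← pow_succ]
      exact hm
    have hg₀T : g₀ ∈ (T : Subgroup G) := hA'T hg₀A
    have hg₀O : g₀ ∉ O := fun h => hg₀C (hOC h)
    obtain ⟨D, hD⟩ : ∃ D : Set G, D = {y | ∃ g, y = g * g₀ * g⁻¹} := ⟨_, rfl⟩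
    have hDm : ∀ y, y ∈ D ↔ ∃ g, y = g * g₀ * g⁻¹ := fun y => by rw [hD]; rfl
    have hg₀D : g₀ ∈ D := (hDm _).mpr ⟨1, by simp⟩
    have hDc : ∀ g, ∀ y ∈ D, g * y * g⁻¹ ∈ D := by
      intro g y hy
      obtain ⟨g', rfl⟩ := (hDm y).mp hy
      exact (hDm _).mpr ⟨g * g', by group⟩
    letI cB : CommGroup B := { (inferInstance : Group B) with mul_comm := fun a b => Subtype.ext (hBab a a.2 b b.2) }
    haveI hfB : Finite B := inferInstance
    obtain ⟨Φ, hΦ⟩ : ∃ Φ : G →* MulAut B, Φ = MulAut.conjNormal := ⟨_, rfl⟩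
    have hΦa : ∀ (g : G) (b : B), ((Φ g b : B) : G) = g * (b : G) * g⁻¹ := fun g b => by
      rw [hΦ]
      exact MulAut.conjNormal_apply g b
    have hDfix : ∀ y ∈ D, Φ y ⟨z, hzB⟩ = ⟨z, hzB⟩ := by
      refine core_fix hp2 Φ T ⟨z, hzB⟩ ?_ D hDc ?_ ?_ ?_
      · intro t ht
        apply Subtype.ext
        rw [hΦa]
        have := Subgroup.mem_centralizer_iff.mp hZ.2 t ht
        show t * z * t⁻¹ = z
        rw [this]
        group
      · intro y hy x
        obtain ⟨g', rfl⟩ := (hDm y).mp hy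
        apply Subtype.ext
        have hx' : g'⁻¹ * (x : G) * g' ∈ B := by simpa using hBn.conj_mem x x.2 g'⁻¹
        obtain ⟨x', hx'd⟩ : ∃ x', x' = g'⁻¹ * (x : G) * g' := ⟨_, rfl⟩
        rw [← hx'd] at hx'
        have hxx : (x : G) = g' * x' * g'⁻¹ := by rw [hx'd]; group
        obtain ⟨u, hu⟩ : ∃ u, u = g₀ * x' * g₀⁻¹ * x'⁻¹ := ⟨_, rfl⟩
        have huA : u ∈ A' := by
          have h3 : u = g₀ * (x' * g₀⁻¹ * x'⁻¹) := by rw [hu]; group
          rw [h3]
          exact A'.mul_mem hg₀A (hA'n x' hx' _ (A'.inv_mem hg₀A))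
        have hug : g₀ * u * g₀⁻¹ = u := by
          rw [hA'ab g₀ hg₀A u huA]
          group
        have hval : ((Φ (g' * g₀ * g'⁻¹) x * x⁻¹ : B) : G) = g' * u * g'⁻¹ := by
          show ((Φ (g' * g₀ * g'⁻¹) x : B) : G) * ((x : G))⁻¹ = _
          rw [hΦa, hxx, hu]
          group
        rw [hΦa, hval]
        calc g' * g₀ * g'⁻¹ * (g' * u * g'⁻¹) * (g' * g₀ * g'⁻¹)⁻¹ = g' * (g₀ * u * g₀⁻¹) * g'⁻¹ := by group
          _ = g' * u * g'⁻¹ := by rw [hug]
      · intro y hy x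
        obtain ⟨g', rfl⟩ := (hDm y).mp hy
        apply Subtype.ext
        rw [hΦa]
        have h3 : g' * g₀ ^ p * g'⁻¹ ∈ C := hCn.conj_mem _ hg₀p g'
        have h4 : (g' * g₀ * g'⁻¹) ^ p = g' * g₀ ^ p * g'⁻¹ := by
          have := conj_pow (a := g') (b := g₀) (i := p)
          exact this
        rw [h4]
        have h5 : g' * g₀ ^ p * g'⁻¹ * (x : G) = (x : G) * (g' * g₀ ^ p * g'⁻¹) := by
          rw [hC] at h3
          exact (Subgroup.mem_centralizer_iff.mp h3 x x.2).symm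
        rw [h5]
        group
      · intro k hk
        apply Subtype.ext
        rw [hΦa]
        obtain ⟨R, hR⟩ : ∃ R : Subgroup G, R = Subgroup.closure (D ∩ (T : Subgroup G) : Set G) ⊔ O := ⟨_, rfl⟩
        have hconj : ∀ k' : G, (∀ y ∈ D, y ∈ (T : Subgroup G) → k' * y * k'⁻¹ ∈ (T : Subgroup G)) → ∀ a ∈ R, k' * a * k'⁻¹ ∈ R := by
          intro k' hk' a ha
          have hle : R ≤ R.comap (MulAut.conj k').toMonoidHom := by
            rw [hR]
            refine sup_le ((Subgroup.closure_le _).mpr fun y hy => ?_) fun o ho => ?_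
            · rw [Subgroup.coe_comap, Set.mem_preimage]
              exact (le_sup_left : Subgroup.closure (D ∩ (T : Subgroup G) : Set G) ≤ _)
                (Subgroup.subset_closure ⟨hDc k' y hy.1, hk' y hy.1 hy.2⟩)
            · exact (le_sup_right : O ≤ _) (hOn.conj_mem o ho k')
          exact hle ha
        have hOR : O < R := by
          refine lt_of_le_of_ne (by rw [hR]; exact le_sup_right) fun h => hg₀O ?_
          rw [h, hR]
          exact (le_sup_left : Subgroup.closure (D ∩ (T : Subgroup G) : Set G) ≤ _)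
            (Subgroup.subset_closure ⟨hg₀D, hg₀T⟩)
        have hRT : R ≤ (T : Subgroup G) := by
          rw [hR]
          refine sup_le ((Subgroup.closure_le _).mpr fun y hy => hy.2) hOT
        have hTR : (T : Subgroup G) ≤ Subgroup.normalizer (R : Set G) := fun t ht =>
          H09.mem_normalizer_of_conj_le (hconj t fun y _ hy => Subgroup.mul_mem _ (Subgroup.mul_mem _ ht hy) (Subgroup.inv_mem _ ht))
        exact h2 R hOR hRT hTR k (H09.mem_normalizer_of_conj_le (hconj k hk))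
    have hDfix' : ∀ y ∈ D, y * z * y⁻¹ = z := by
      intro y hy
      have h3 := congrArg Subtype.val (hDfix y hy)
      rwa [hΦa] at h3
    -- the normal subgroup generated by `D` and `O`
    obtain ⟨M, hM⟩ : ∃ M : Subgroup G, M = Subgroup.normalClosure ({g₀} : Set G) ⊔ O := ⟨_, rfl⟩
    haveI hMn : M.Normal := by
      rw [hM]
      infer_instance
    have hMfix : ∀ m ∈ M, m * z * m⁻¹ = z := by
      have hle : M ≤ Subgroup.centralizer ({z} : Set G) := by
        rw [hM]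
        refine sup_le ?_ fun o ho => ?_
        · unfold Subgroup.normalClosure
          rw [Subgroup.closure_le]
          intro y hy
          rw [Group.mem_conjugatesOfSet_iff] at hy
          obtain ⟨a, ha, hay⟩ := hy
          rw [Set.mem_singleton_iff] at ha
          subst ha
          obtain ⟨c, hc'⟩ := _root_.isConj_iff.mp hay
          have hyD : y ∈ D := (hDm y).mpr ⟨c, hc'.symm⟩
          have h3 := hDfix' y hyD
          rw [SetLike.mem_coe, Subgroup.mem_centralizer_iff]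
          intro w hw
          rw [show w = z from hw]
          calc z * y = (y * z * y⁻¹) * y := by rw [h3]
            _ = y * z := by group
        · rw [Subgroup.mem_centralizer_iff]
          intro w hw
          rw [show w = z from hw]
          exact (Subgroup.mem_centralizer_iff.mp (hBC hzB) o ho).symm
      intro m hm
      have := Subgroup.mem_centralizer_iff.mp (hle hm) z rfl
      rw [← this]
      group
    have hfr := H14.frattini_inf T M
    have hmem : g ∈ ((Subgroup.normalizer (((T : Subgroup G) ⊓ M : Subgroup G) : Set G) ⊔ M : Subgroup G) : Set G) := by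
      rw [hfr]
      exact Set.mem_univ _
    rw [Subgroup.mul_normal, Set.mem_mul] at hmem
    obtain ⟨n, hn, m, hm, rfl⟩ := hmem
    have hOR : O < (T : Subgroup G) ⊓ M := by
      refine lt_of_le_of_ne (le_inf hOT (by rw [hM]; exact le_sup_right)) fun h => hg₀O ?_
      rw [h]
      refine ⟨hg₀T, ?_⟩
      rw [hM]
      exact (le_sup_left : Subgroup.normalClosure ({g₀} : Set G) ≤ _) (Subgroup.subset_normalClosure rfl)
    have hTn : (T : Subgroup G) ≤ Subgroup.normalizer (((T : Subgroup G) ⊓ M : Subgroup G) : Set G) := fun t ht =>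
      H09.mem_normalizer_of_conj_le fun a ha => ⟨Subgroup.mul_mem _ (Subgroup.mul_mem _ ht ha.1) (Subgroup.inv_mem _ ht), hMn.conj_mem a ha.2 t⟩
    have h3 := h2 _ hOR inf_le_left hTn n hn
    calc n * m * z * (n * m)⁻¹ = n * (m * z * m⁻¹) * n⁻¹ := by group
      _ = z := by rw [hMfix m hm, h3]

end Local

end Cfsg.Agent.H25
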