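import Cfsg.Agent.Lib.H25.GlJ
import Cfsg.Agent.Lib.H25.FusFoc2

set_option autoImplicit false

/-! Functor properties of the Thompson subgroup; a transfer to the centre of a model. -/

namespace Cfsg.Agent.H25

open Cfsg Cfsg.FusionSystem

universe u

section Hyp

variable {p : ℕ} [Fact p.Prime]

theorem functorHyp_WJ : FunctorHyp.{u} p WJ := by
  constructor
  · intro Q _ _ hQ hnt h
    obtain ⟨x, hx⟩ := exists_ne (1 : Q)
    obtain ⟨A, hA⟩ := H14.ZJFam.exists_mx (H14.abFam Q) ⊤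
    have hA1 : A ≤ (H14.abFam Q).jj ⊤ := H14.ZJFam.le_jj hA
    have hbot : (H14.abFam Q).jj ⊤ = ⊥ := by
      rw [← H14.thompsonSubgroupAOf_eq_jj]
      exact h
    rw [hbot] at hA1
    have hAb : A = ⊥ := le_bot_iff.mp hA1
    have hcomm : (H14.abFam Q).F (Subgroup.zpowers x) := by
      rintro _ ⟨i, rfl⟩ _ ⟨j, rfl⟩
      exact (Commute.refl x).zpow_zpow i j
    have h1 := hA.2.2 (Subgroup.zpowers x) le_top hcomm
    rw [hAb, Subgroup.card_bot] at h1
    have h2 : Subgroup.zpowers x = ⊥ := by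
      haveI : Finite (Subgroup.zpowers x) := inferInstance
      exact Subgroup.eq_bot_of_card_eq _ (le_antisymm h1 Nat.card_pos)
    exact hx (Subgroup.zpowers_eq_bot.mp h2)
  · intro Q R _ _ _ hQ φ
    unfold WJ
    have h1 := tj_map φ.toMonoidHom (⊤ : Subgroup Q) (fun x _ hx => by simpa using hx)
    have h2 : (⊤ : Subgroup Q).map φ.toMonoidHom = ⊤ := by
      rw [← MonoidHom.range_eq_map]
      exact MonoidHom.range_eq_top.mpr φ.surjective
    rw [h2] at h1
    exact h1.symm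

end Hyp

section Transfer

variable {A G : Type*} [CommGroup A] [Group G] [Finite G]

/-- A transfer map. -/
noncomputable def trHom (Φ : G →* MulAut A) (T : Subgroup G) : A →* A :=
  letI : Fintype (G ⧸ T) := Fintype.ofFinite _
  { toFun := fun u => ∏ q : G ⧸ T, Φ q.out u
    map_one' := by simp
    map_mul' := fun u v => by simp [Finset.prod_mul_distrib] }

theorem trHom_fixed (Φ : G →* MulAut A) (T : Subgroup G) {u : A} (hu : ∀ t ∈ T, Φ t u = u) (g : G) :
    Φ g (trHom Φ T u) = trHom Φ T u := by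
  classical
  letI : Fintype (G ⧸ T) := Fintype.ofFinite _
  show Φ g (∏ q : G ⧸ T, Φ q.out u) = ∏ q : G ⧸ T, Φ q.out u
  rw [map_prod]
  have h1 : ∀ q : G ⧸ T, Φ g (Φ q.out u) = Φ (MulAction.toPerm g q).out u := by
    intro q
    rw [← MulAut.mul_apply, ← map_mul]
    have h2 : ((g * q.out : G) : G ⧸ T) = (MulAction.toPerm g q) := by
      conv_rhs => rw [MulAction.toPerm_apply, ← QuotientGroup.out_eq' q]
      rfl
    obtain ⟨t, ht⟩ : ∃ t ∈ T, g * q.out = (MulAction.toPerm g q).out * t := by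
      have h3 : (((MulAction.toPerm g q).out : G) : G ⧸ T) = ((g * q.out : G) : G ⧸ T) := by
        rw [h2, QuotientGroup.out_eq']
      rw [QuotientGroup.eq] at h3
      exact ⟨_, h3, by group⟩
    rw [ht.2, map_mul, MulAut.mul_apply, hu _ ht.1]
  simp_rw [h1]
  exact Equiv.prod_comp (MulAction.toPerm g) (fun q : G ⧸ T => Φ q.out u)

theorem trHom_of_fixed (Φ : G →* MulAut A) (T : Subgroup G) {u : A} (hu : ∀ g, Φ g u = u) :
    trHom Φ T u = u ^ T.index := by
  classical
  letI : Fintype (G ⧸ T) := Fintype.ofFinite _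
  show ∏ q : G ⧸ T, Φ q.out u = _
  simp_rw [hu]
  rw [Finset.prod_const, Finset.card_univ, ← Nat.card_eq_fintype_card]
  rfl

end Transfer

section Cent

theorem centralizer_jj_le {G : Type*} [Group G] [Finite G] {X : Subgroup G} {x : G} (hx : x ∈ X)
    (hxc : x ∈ Subgroup.centralizer ((H14.abFam G).jj X : Set G)) : x ∈ (H14.abFam G).jj X := by
  obtain ⟨A, hA⟩ := H14.ZJFam.exists_mx (H14.abFam G) X
  have hAJ := H14.ZJFam.le_jj hA
  have hzc : ∀ a ∈ A, a * x = x * a := fun a ha => Subgroup.mem_centralizer_iff.mp hxc a (hAJ ha)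
  have hF := (H14.abFam G).F_sup A x hA.2.1 trivial hzc
  have hle : A ⊔ Subgroup.zpowers x ≤ X := sup_le hA.1 ((Subgroup.zpowers_le).mpr hx)
  have h1 := hA.2.2 _ hle hF
  have h2 := Subgroup.eq_of_le_of_card_ge (le_sup_left : A ≤ A ⊔ Subgroup.zpowers x) h1
  apply hAJ
  rw [h2]
  exact (le_sup_right : Subgroup.zpowers x ≤ _) (Subgroup.mem_zpowers x)

variable {Ω : Type*} [Group Ω] {S : Subgroup Ω} [Finite S]

theorem centralizer_thompson_le {x : Ω} (hx : x ∈ S) (hxc : x ∈ Subgroup.centralizer (thompsonSubgroupAOf S : Set Ω)) :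
    x ∈ thompsonSubgroupAOf S := by
  have h1 := tj_map S.subtype (⊤ : Subgroup S) (fun x _ hx => by
    apply Subtype.ext
    simpa using hx)
  rw [← MonoidHom.range_eq_map, Subgroup.range_subtype] at h1
  rw [h1] at hxc ⊢
  rw [H14.thompsonSubgroupAOf_eq_jj] at hxc ⊢
  refine ⟨⟨x, hx⟩, centralizer_jj_le (Subgroup.mem_top _) ?_, rfl⟩
  rw [Subgroup.mem_centralizer_iff]
  intro h hh
  apply Subtype.ext
  exact Subgroup.mem_centralizer_iff.mp hxc _ ⟨h, hh, rfl⟩

end Cent

end Cfsg.Agent.H25
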