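import Mathlib
import Cfsg.Agent.Lib.H01.Basic

set_option autoImplicit false

/-! Orbit products for quadratic actions of p-groups on abelian groups. -/

namespace Cfsg.Agent.H25

section Orbit

variable {H A : Type*} [Group H] [CommGroup A] {p : ℕ}

/-- The iterates of a quadratic automorphism. -/
theorem quad_pow (f : MulAut A) (hf : ∀ x, f (f x * x⁻¹) = f x * x⁻¹) (n : ℕ) (x : A) :
    (f ^ n) x = (f x * x⁻¹) ^ n * x := by
  induction n with
  | zero => simp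
  | succ n ih =>
    rw [pow_succ', MulAut.mul_apply, ih, map_mul, map_pow, hf]
    rw [pow_succ]
    simp only [mul_assoc, inv_mul_cancel, mul_one]

theorem quad_pth {q : ℕ} (f : MulAut A) (hf : ∀ x, f (f x * x⁻¹) = f x * x⁻¹) (hq : ∀ x, (f ^ q) x = x) (x : A) :
    (f x * x⁻¹) ^ q = 1 := by
  have h1 := quad_pow f hf q x
  rw [hq x] at h1
  exact (mul_eq_right.mp h1.symm)

theorem zpow_mem_of_coprime {K : Subgroup H} {γ : H} {d e : ℤ} (hd : γ ^ d ∈ K) (he : γ ^ e ∈ K) (hc : IsCoprime d e) : γ ∈ K := by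
  obtain ⟨a, b, hab⟩ := hc
  have : γ = (γ ^ d) ^ a * (γ ^ e) ^ b := by
    rw [← zpow_mul, ← zpow_mul, ← zpow_add, mul_comm d, mul_comm e, hab, zpow_one]
  rw [this]
  exact K.mul_mem (K.zpow_mem hd _) (K.zpow_mem he _)

variable [Finite A]

open Classical in
/-- An orbit as a finite set. -/
noncomputable def orbK (φ : H →* MulAut A) (K : Subgroup H) (σ : A) : Finset A :=
  (Set.toFinite {y | ∃ k ∈ K, φ k σ = y}).toFinset

theorem mem_orbK {φ : H →* MulAut A} {K : Subgroup H} {σ y : A} : y ∈ orbK φ K σ ↔ ∃ k ∈ K, φ k σ = y := by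
  simp [orbK]

theorem orb_top_prod [hp : Fact p.Prime] (φ : H →* MulAut A) (K : Subgroup H) {γ : H} (hγ : γ ∉ K) (hγp : γ ^ p ∈ K)
    (hcov : ∀ h, ∃ i < p, ∃ k ∈ K, h = γ ^ i * k) (σ : A) (hSt : ∀ h, φ h σ = σ → h ∈ K) :
    ∏ y ∈ orbK φ ⊤ σ, y = ∏ i ∈ Finset.range p, φ (γ ^ i) (∏ y ∈ orbK φ K σ, y) := by
  classical
  have h1 : orbK φ ⊤ σ = (Finset.range p).biUnion (fun i => (orbK φ K σ).image (φ (γ ^ i))) := by
    ext y
    simp only [mem_orbK, Finset.mem_biUnion, Finset.mem_image, Finset.mem_range]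
    constructor
    · rintro ⟨h, -, rfl⟩
      obtain ⟨i, hi, k, hk, rfl⟩ := hcov h
      exact ⟨i, hi, φ k σ, ⟨k, hk, rfl⟩, by rw [map_mul, MulAut.mul_apply]⟩
    · rintro ⟨i, -, _, ⟨k, -, rfl⟩, rfl⟩
      exact ⟨γ ^ i * k, Subgroup.mem_top _, by rw [map_mul, MulAut.mul_apply]⟩
  have hdisj : Set.PairwiseDisjoint (↑(Finset.range p)) (fun i => (orbK φ K σ).image (φ (γ ^ i))) := by
    intro i hi j hj hij
    rw [Function.onFun, Finset.disjoint_left]
    intro y hy hy'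
    simp only [mem_orbK, Finset.mem_image] at hy hy'
    obtain ⟨_, ⟨k, hk, rfl⟩, rfl⟩ := hy
    obtain ⟨_, ⟨k', hk', rfl⟩, heq⟩ := hy'
    have hi' : i < p := by simpa using hi
    have hj' : j < p := by simpa using hj
    have h2 : φ ((γ ^ i * k)⁻¹ * (γ ^ j * k')) σ = σ := by
      have h2a : φ (γ ^ j * k') σ = φ (γ ^ i * k) σ := by
        rw [map_mul, map_mul, MulAut.mul_apply, MulAut.mul_apply, heq]
      rw [map_mul, MulAut.mul_apply, h2a, map_inv, MulAut.inv_apply_self]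
    have h3 := hSt _ h2
    have h4 : γ ^ ((j : ℤ) - i) ∈ K := by
      have h5 : γ ^ ((j : ℤ) - i) = k * ((γ ^ i * k)⁻¹ * (γ ^ j * k')) * k'⁻¹ := by
        rw [zpow_sub, zpow_natCast, zpow_natCast]
        have hc : γ ^ j * (γ ^ i)⁻¹ = (γ ^ i)⁻¹ * γ ^ j :=
          ((Commute.refl γ).pow_pow j i).inv_right.eq
        rw [hc]
        group
      rw [h5]
      exact K.mul_mem (K.mul_mem hk h3) (K.inv_mem hk')
    have hpp : (p : ℕ).Prime := hp.out
    refine hγ (zpow_mem_of_coprime h4 (e := (p : ℤ)) (by rwa [zpow_natCast]) ?_)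
    rw [Int.isCoprime_iff_gcd_eq_one, Int.gcd_eq_natAbs, Int.natAbs_natCast]
    have hnd : ¬ p ∣ ((j : ℤ) - i).natAbs := by
      intro hd
      have hne : ((j : ℤ) - i).natAbs ≠ 0 := by
        intro h0
        apply hij
        omega
      have := Nat.le_of_dvd (Nat.pos_of_ne_zero hne) hd
      omega
    exact ((Nat.Prime.coprime_iff_not_dvd hpp).mpr hnd).symm
  rw [h1, Finset.prod_biUnion hdisj]
  refine Finset.prod_congr rfl fun i _ => ?_
  rw [Finset.prod_image (fun a _ b _ h => (φ (γ ^ i)).injective h), map_prod]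

/-- The product over a nontrivial orbit is a `p`-th power. -/
theorem orbit_prod_pow [Finite H] [hp : Fact p.Prime] (hp2 : p ≠ 2) (hH : IsPGroup p H) (φ : H →* MulAut A) (Γ : Set H)
    (hΓ : Subgroup.closure Γ = ⊤) (hq : ∀ γ ∈ Γ, ∀ x : A, φ γ (φ γ x * x⁻¹) = φ γ x * x⁻¹)
    (hpow : ∀ γ ∈ Γ, ∀ x : A, φ (γ ^ p) x = x) (σ : A) (hσ : ∃ h, φ h σ ≠ σ) :
    ∃ w : A, ∏ y ∈ orbK φ ⊤ σ, y = w ^ p := by
  classical
  have hpp : p.Prime := hp.out
  let St : Subgroup H :=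
    { carrier := {h | φ h σ = σ}
      mul_mem' := by
        intro a b ha hb
        simp only [Set.mem_setOf_eq] at ha hb ⊢
        rw [map_mul, MulAut.mul_apply, hb, ha]
      one_mem' := by simp
      inv_mem' := by
        intro a ha
        simp only [Set.mem_setOf_eq] at ha ⊢
        rw [map_inv]
        nth_rewrite 1 [← ha]
        simp }
  have hSt : St ≠ ⊤ := by
    intro h
    obtain ⟨h₀, hh₀⟩ := hσ
    exact hh₀ (show h₀ ∈ St from h ▸ Subgroup.mem_top h₀)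
  obtain ⟨K, hK, hStK⟩ := (eq_top_or_exists_le_coatom St).resolve_left hSt
  obtain ⟨hKn, hKi⟩ := Cfsg.Agent.H01.isCoatom_normal_index hH hK
  obtain ⟨γ, hγΓ, hγ⟩ : ∃ γ ∈ Γ, γ ∉ K := by
    by_contra hall
    push Not at hall
    have h1 : Subgroup.closure Γ ≤ K := (Subgroup.closure_le _).mpr hall
    rw [hΓ] at h1
    exact hK.1 (top_le_iff.mp h1)
  have hγp : γ ^ p ∈ K := by
    have := Subgroup.pow_index_mem K γ
    rwa [hKi] at this
  have hcov : ∀ h, ∃ i < p, ∃ k ∈ K, h = γ ^ i * k := by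
    intro h
    have htop : Subgroup.zpowers γ ⊔ K = ⊤ := by
      rw [sup_comm]
      refine hK.2 _ (lt_of_le_of_ne le_sup_left fun h => hγ ?_)
      rw [h]
      exact (le_sup_right : Subgroup.zpowers γ ≤ _) (Subgroup.mem_zpowers γ)
    have hmem : h ∈ ((Subgroup.zpowers γ ⊔ K : Subgroup H) : Set H) := by
      rw [htop]
      exact Set.mem_univ _
    rw [Subgroup.mul_normal, Set.mem_mul] at hmem
    obtain ⟨_, ⟨n, rfl⟩, k, hk, rfl⟩ := hmem
    have hppos : (0 : ℤ) < p := by exact_mod_cast hpp.pos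
    refine ⟨(n % p).toNat, ?_, (γ ^ p) ^ (n / p) * k, K.mul_mem (K.zpow_mem hγp _) hk, ?_⟩
    · have h1 := Int.emod_lt_of_pos n hppos
      have h2 := Int.emod_nonneg n hppos.ne'
      omega
    · have h1 : ((n % p).toNat : ℤ) = n % p := Int.toNat_of_nonneg (Int.emod_nonneg n hppos.ne')
      have h2 : n = n % p + p * (n / p) := (Int.emod_add_mul_ediv n p).symm
      show γ ^ n * k = γ ^ (n % p).toNat * ((γ ^ p) ^ (n / p) * k)
      rw [← mul_assoc, ← zpow_natCast γ (n % p).toNat, h1, ← zpow_natCast γ p, ← zpow_mul, ← zpow_add, ← h2]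
  obtain ⟨τ, hτ⟩ : ∃ τ, τ = ∏ y ∈ orbK φ K σ, y := ⟨_, rfl⟩
  rw [orb_top_prod φ K hγ hγp hcov σ (fun h hh => hStK hh), ← hτ]
  have hf := hq γ hγΓ
  have hpi : ∀ i : ℕ, φ (γ ^ i) τ = (φ γ τ * τ⁻¹) ^ i * τ := by
    intro i
    rw [map_pow]
    exact quad_pow _ hf i τ
  have hup : (φ γ τ * τ⁻¹) ^ p = 1 := quad_pth _ hf (fun x => by rw [← map_pow]; exact hpow γ hγΓ x) τ
  obtain ⟨m, hm⟩ : ∃ m, p = 2 * m + 1 := by
    obtain h | h := hpp.eq_two_or_odd'
    · exact absurd h hp2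
    · exact h
  refine ⟨τ, ?_⟩
  simp_rw [hpi]
  rw [Finset.prod_mul_distrib, Finset.prod_pow_eq_pow_sum, Finset.prod_const, Finset.card_range]
  have hsum : ∑ i ∈ Finset.range p, i = p * m := by
    have h1 := Finset.sum_range_id_mul_two p
    have h2 : p - 1 = 2 * m := by omega
    rw [h2] at h1
    have h3 : p * (2 * m) = (p * m) * 2 := by ring
    rw [h3] at h1
    exact Nat.eq_of_mul_eq_mul_right (by norm_num) h1
  rw [hsum, pow_mul, hup, one_pow, one_mul]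

/-- The product over a stable set without fixed points is a `p`-th power. -/
theorem stable_prod_pow [Finite H] [hp : Fact p.Prime] (hp2 : p ≠ 2) (hH : IsPGroup p H) (φ : H →* MulAut A) (Γ : Set H)
    (hΓ : Subgroup.closure Γ = ⊤) (hq : ∀ γ ∈ Γ, ∀ x : A, φ γ (φ γ x * x⁻¹) = φ γ x * x⁻¹)
    (hpow : ∀ γ ∈ Γ, ∀ x : A, φ (γ ^ p) x = x) (X : Finset A) (hst : ∀ h, ∀ x ∈ X, φ h x ∈ X)
    (hnf : ∀ x ∈ X, ∃ h, φ h x ≠ x) : ∃ w : A, ∏ y ∈ X, y = w ^ p := by
  classical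
  induction X using Finset.strongInduction with
  | H X ih =>
    by_cases hX : X = ∅
    · exact ⟨1, by simp [hX]⟩
    obtain ⟨σ, hσ⟩ := Finset.nonempty_iff_ne_empty.mpr hX
    obtain ⟨w₁, hw₁⟩ := orbit_prod_pow hp2 hH φ Γ hΓ hq hpow σ (hnf σ hσ)
    have hOX : orbK φ ⊤ σ ⊆ X := by
      intro y hy
      obtain ⟨h, -, rfl⟩ := mem_orbK.mp hy
      exact hst h σ hσ
    have hσO : σ ∈ orbK φ ⊤ σ := mem_orbK.mpr ⟨1, Subgroup.mem_top _, by simp⟩
    have hss : X \ orbK φ ⊤ σ ⊂ X := by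
      rw [Finset.ssubset_iff_of_subset Finset.sdiff_subset]
      exact ⟨σ, hσ, by simp [hσO]⟩
    have hst' : ∀ h, ∀ x ∈ X \ orbK φ ⊤ σ, φ h x ∈ X \ orbK φ ⊤ σ := by
      intro h x hx
      rw [Finset.mem_sdiff] at hx ⊢
      refine ⟨hst h x hx.1, fun hmem => hx.2 ?_⟩
      obtain ⟨k, -, hk⟩ := mem_orbK.mp hmem
      refine mem_orbK.mpr ⟨h⁻¹ * k, Subgroup.mem_top _, ?_⟩
      rw [map_mul, MulAut.mul_apply, hk, map_inv, MulAut.inv_apply_self]
    obtain ⟨w₂, hw₂⟩ := ih (X \ orbK φ ⊤ σ) hss hst' (fun x hx => hnf x (Finset.mem_sdiff.mp hx).1)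
    refine ⟨w₂ * w₁, ?_⟩
    rw [← Finset.prod_sdiff hOX, hw₁, hw₂, mul_pow]

end Orbit

end Cfsg.Agent.H25
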