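import Cfsg.Agent.Lib.H25.TvE
import Cfsg.Agent.Lib.H25.FusNormSat
import Cfsg.Agent.Lib.H25.FusModel
import Cfsg.Agent.Lib.H24.FusAG3
import Cfsg.Agent.Lib.H24.FusNorm
set_option autoImplicit false
set_option linter.style.haveILetI false

/-! Tools for invariant subsystems. -/

namespace Cfsg.Agent.H25

open Cfsg Cfsg.FusionSystem

variable {Ω : Type*} [Group Ω] {S T : Subgroup Ω} {F : FusionSystem S} {E : FusionSystem T} {p : ℕ}
variable {P Q R U H : Subgroup Ω} {f g : Ω → Ω} {α : MulAut T}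

/-- The function attached to an automorphism of `T`. -/
noncomputable abbrev tf (α : MulAut T) : Ω → Ω := toFun (T.subtype.comp α.toMonoidHom)

theorem tf_apply (α : MulAut T) {x : Ω} (hx : x ∈ T) : tf α x = ((α ⟨x, hx⟩ : T) : Ω) := toFun_aut α ⟨x, hx⟩

/-- The image of a subgroup under an automorphism of `T`. -/
abbrev imT (α : MulAut T) (P : Subgroup Ω) : Subgroup Ω := (P.subgroupOf T).map (T.subtype.comp α.toMonoidHom)

theorem mem_imT {y : Ω} (hP : P ≤ T) : y ∈ imT α P ↔ ∃ x ∈ P, tf α x = y := by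
  constructor
  · rintro ⟨x, hx, rfl⟩
    exact ⟨x, Subgroup.mem_subgroupOf.mp hx, tf_apply α x.2⟩
  · rintro ⟨x, hx, rfl⟩
    exact ⟨⟨x, hP hx⟩, Subgroup.mem_subgroupOf.mpr hx, (tf_apply α (hP hx)).symm⟩

theorem tf_mem {x : Ω} (hx : x ∈ T) : tf α x ∈ T := by
  rw [tf_apply α hx]
  exact Subtype.coe_prop _

theorem tf_inv {x : Ω} (hx : x ∈ T) : tf α (tf α⁻¹ x) = x := by
  rw [tf_apply α⁻¹ hx, tf_apply α (Subtype.coe_prop _)]
  simp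

theorem tf_inv' {x : Ω} (hx : x ∈ T) : tf α⁻¹ (tf α x) = x := by
  rw [tf_apply α hx, tf_apply α⁻¹ (Subtype.coe_prop _)]
  simp

section Inv

variable (hI : E.IsInvariantIn F)

include hI

theorem inv_le : T ≤ S := hI.2.1.1

theorem inv_mp_sub (h : Mp E P f) : Mp F P f := by
  obtain ⟨φ, hφ, e⟩ := h
  exact ⟨φ, hI.1 P hφ, e⟩

theorem inv_frat (hP : P ≤ T) (hf : Mp F P f) : ∃ α ∈ F.autGroup T, ∃ f₀, Mp E P f₀ ∧ ∀ x ∈ P, f x = tf α (f₀ x) := by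
  obtain ⟨φ, hφ, e⟩ := hf
  obtain ⟨α, hα, φ₀, hφ₀, h⟩ := hI.2.2.2 P hP φ hφ
  refine ⟨α, hα, toFun φ₀, mp_of_mem hφ₀, fun x hx => ?_⟩
  have hm : φ₀ ⟨x, hx⟩ ∈ T := (mp_of_mem hφ₀).mem hx |> fun h1 => by
    rw [toFun_coe φ₀ ⟨x, hx⟩] at h1
    exact h1
  rw [← e ⟨x, hx⟩, h ⟨x, hx⟩ hm, toFun_coe φ₀ ⟨x, hx⟩, tf_apply α hm]

theorem inv_mp (hα : α ∈ F.autGroup T) (hP : P ≤ T) (hf : Mp E P f) :
    ∃ g, Mp E (imT α P) g ∧ ∀ x ∈ P, g (tf α x) = tf α (f x) := by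
  obtain ⟨φ, hφ, e⟩ := hf
  obtain ⟨χ, hχ, h⟩ := hI.2.2.1 P hP φ hφ α hα
  refine ⟨toFun χ, mp_of_mem hχ, fun x hx => ?_⟩
  have hm : φ ⟨x, hx⟩ ∈ T := by
    have h1 := Mp.mem (mp_of_mem hφ) hx
    rw [toFun_coe φ ⟨x, hx⟩] at h1
    exact h1
  have hm2 : ((α ⟨x, hP hx⟩ : T) : Ω) ∈ imT α P := (mem_imT hP).2 ⟨x, hx, tf_apply α (hP hx)⟩
  have h2 := h ⟨x, hx⟩ hm hm2
  rw [tf_apply α (hP hx), toFun_coe χ ⟨_, hm2⟩, h2, ← e ⟨x, hx⟩, tf_apply α hm]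

/-- A normal subgroup of an invariant subsystem is carried to a normal subgroup by `Aut_F(T)`. -/
theorem isNormal_transport (hα : α ∈ F.autGroup T) (hQ : E.IsNormal Q) : E.IsNormal (imT α Q) := by
  have hQT := hQ.1
  have hiT : imT α Q ≤ T := by
    rintro _ ⟨x, -, rfl⟩
    exact Subtype.coe_prop _
  refine ⟨hiT, fun P' φ hφ => ?_⟩
  have hf := mp_of_mem hφ
  have hP' : P' ≤ T := hf.le
  obtain ⟨g₁, hg₁, he₁⟩ := inv_mp hI (inv_mem hα) hP' hf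
  have hPT : imT α⁻¹ P' ≤ T := by
    rintro _ ⟨x, -, rfl⟩
    exact Subtype.coe_prop _
  obtain ⟨ĝ, hĝ, hĝe, hĝQ⟩ := normal_ext hQ hg₁
  have hsupT : imT α⁻¹ P' ⊔ Q ≤ T := sup_le hPT hQT
  obtain ⟨g₂, hg₂, he₂⟩ := inv_mp hI hα hsupT hĝ
  have hsub : imT α (imT α⁻¹ P' ⊔ Q) = P' ⊔ imT α Q := by
    apply le_antisymm
    · rintro y hy
      obtain ⟨z, hz, rfl⟩ := (mem_imT hsupT).1 hy
      have hA : Q ≤ Subgroup.normalizer ((imT α⁻¹ P' ⊔ Q : Subgroup Ω) : Set Ω) := le_sup_right.trans Subgroup.le_normalizer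
      refine (Subgroup.closure_induction (p := fun w _ => w ∈ T ∧ tf α w ∈ P' ⊔ imT α Q) ?_ ?_ ?_ ?_ (?_ : z ∈ Subgroup.closure ((imT α⁻¹ P' : Set Ω) ∪ (Q : Set Ω)))).2
      · rintro w (hw | hw)
        · refine ⟨hPT hw, Subgroup.mem_sup_left ?_⟩
          obtain ⟨v, hv, rfl⟩ := (mem_imT hP').1 hw
          rw [tf_inv (hP' hv)]
          exact hv
        · exact ⟨hQT hw, Subgroup.mem_sup_right ((mem_imT hQT).2 ⟨w, hw, rfl⟩)⟩
      · refine ⟨T.one_mem, ?_⟩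
        rw [tf_apply α T.one_mem]
        have : (⟨1, T.one_mem⟩ : T) = 1 := rfl
        rw [this, map_one]
        exact Subgroup.one_mem _
      · rintro a b - - ⟨ha, ha'⟩ ⟨hb, hb'⟩
        refine ⟨T.mul_mem ha hb, ?_⟩
        rw [tf_apply α (T.mul_mem ha hb)]
        have : (⟨a * b, T.mul_mem ha hb⟩ : T) = ⟨a, ha⟩ * ⟨b, hb⟩ := rfl
        rw [this, map_mul]
        rw [tf_apply α ha] at ha'
        rw [tf_apply α hb] at hb'
        exact Subgroup.mul_mem _ ha' hb'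
      · rintro a - ⟨ha, ha'⟩
        refine ⟨T.inv_mem ha, ?_⟩
        rw [tf_apply α (T.inv_mem ha)]
        have : (⟨a⁻¹, T.inv_mem ha⟩ : T) = (⟨a, ha⟩ : T)⁻¹ := rfl
        rw [this, map_inv]
        rw [tf_apply α ha] at ha'
        exact Subgroup.inv_mem _ ha'
      · rw [Subgroup.closure_union, Subgroup.closure_eq, Subgroup.closure_eq]
        exact hz
    · refine sup_le ?_ ?_
      · intro y hy
        refine (mem_imT hsupT).2 ⟨tf α⁻¹ y, Subgroup.mem_sup_left ((mem_imT hP').2 ⟨y, hy, rfl⟩), tf_inv (hP' hy)⟩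
      · intro y hy
        obtain ⟨q, hq, rfl⟩ := (mem_imT hQT).1 hy
        exact (mem_imT hsupT).2 ⟨q, Subgroup.mem_sup_right hq, rfl⟩
  rw [hsub] at hg₂
  refine normalExt_iff.mpr ⟨g₂, hg₂, fun x => ?_, ?_, ?_⟩
  · have hx : (x : Ω) ∈ P' := x.2
    have h1 : tf α⁻¹ x ∈ imT α⁻¹ P' := (mem_imT hP').2 ⟨x, hx, rfl⟩
    have h2 := he₂ (tf α⁻¹ x) (Subgroup.mem_sup_left h1)
    rw [tf_inv (hP' hx), hĝe _ h1, he₁ x hx, tf_inv ?_] at h2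
    · rw [h2, toFun_coe φ x]
    · have h3 := Mp.mem hf hx
      exact h3
  · intro y hy
    obtain ⟨q, hq, rfl⟩ := (mem_imT hQT).1 hy
    rw [he₂ q (Subgroup.mem_sup_right hq)]
    exact (mem_imT hQT).2 ⟨_, hĝQ.1 q hq, rfl⟩
  · intro y hy
    obtain ⟨q, hq, rfl⟩ := (mem_imT hQT).1 hy
    obtain ⟨q₁, hq₁, rfl⟩ := hĝQ.2 q hq
    exact ⟨tf α q₁, (mem_imT hQT).2 ⟨q₁, hq₁, rfl⟩, he₂ q₁ (Subgroup.mem_sup_right hq₁)⟩

end Inv

/-- A supremum of normal subgroups is normal. -/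
theorem isNormal_sSup [Finite T] {𝓡 : Set (Subgroup Ω)} (h : ∀ Q ∈ 𝓡, E.IsNormal Q) : E.IsNormal (sSup 𝓡) := by
  have hfin : {Q : Subgroup Ω | E.IsNormal Q ∧ Q ≤ sSup 𝓡}.Finite :=
    (Cfsg.Agent.H24.finite_subgroups_le (S := T)).subset (fun Q hQ => hQ.1.1)
  obtain ⟨Q₀, hQ₀⟩ := hfin.exists_maximal ⟨⊥, Cfsg.Agent.H24.isNormal_bot, bot_le⟩
  have hmax : sSup 𝓡 = Q₀ := by
    apply le_antisymm
    · refine sSup_le fun Q hQ => ?_
      have h1 := Cfsg.Agent.H24.isNormal_sup hQ₀.prop.1 (h Q hQ)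
      have h2 := hQ₀.le_of_ge ⟨h1, sup_le hQ₀.prop.2 (le_sSup hQ)⟩ le_sup_left
      exact le_trans le_sup_right h2
    · exact hQ₀.prop.2
  rw [hmax]
  exact hQ₀.prop.1

/-- Automorphisms of `P` stabilizing `U` and acting on it as an element of `H`. -/
def DD (P U H : Subgroup Ω) : Subgroup (MulAut P) where
  carrier := {δ | (∀ t : P, (t : Ω)⁻¹ * (δ t : P) ∈ U) ∧ ∃ y ∈ H, ∀ u : P, (u : Ω) ∈ U → ((δ u : P) : Ω) = y * u * y⁻¹}
  mul_mem' := by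
    rintro a b ⟨ha, y₁, hy₁, ha'⟩ ⟨hb, y₂, hy₂, hb'⟩
    refine ⟨fun t => ?_, y₁ * y₂, H.mul_mem hy₁ hy₂, fun u hu => ?_⟩
    · show (t : Ω)⁻¹ * (a (b t) : P) ∈ U
      have e : (t : Ω)⁻¹ * (a (b t) : P) = ((t : Ω)⁻¹ * (b t : P)) * (((b t : P) : Ω)⁻¹ * (a (b t) : P)) := by group
      rw [e]
      exact U.mul_mem (hb t) (ha _)
    · show ((a (b u) : P) : Ω) = _
      have hbu : ((b u : P) : Ω) ∈ U := by
        have e : ((b u : P) : Ω) = (u : Ω) * ((u : Ω)⁻¹ * (b u : P)) := by group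
        rw [e]
        exact U.mul_mem hu (hb u)
      rw [ha' _ hbu, hb' u hu]
      group
  one_mem' := by
    refine ⟨fun t => ?_, 1, H.one_mem, fun u _ => ?_⟩
    · show (t : Ω)⁻¹ * (t : Ω) ∈ U
      rw [inv_mul_cancel]
      exact U.one_mem
    · show (u : Ω) = _
      group
  inv_mem' := by
    rintro a ⟨ha, y, hy, ha'⟩
    have h1 : ∀ t : P, (t : Ω)⁻¹ * (a⁻¹ t : P) ∈ U := by
      intro t
      have h2 := U.inv_mem (ha (a⁻¹ t))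
      have e : a (a⁻¹ t) = t := by simp
      rw [e] at h2
      simpa using h2
    refine ⟨h1, y⁻¹, H.inv_mem hy, fun u hu => ?_⟩
    have hu' : ((a⁻¹ u : P) : Ω) ∈ U := by
      have e : ((a⁻¹ u : P) : Ω) = (u : Ω) * ((u : Ω)⁻¹ * (a⁻¹ u : P)) := by group
      rw [e]
      exact U.mul_mem hu (h1 u)
    have h2 := ha' _ hu'
    have e : a (a⁻¹ u) = u := by simp
    rw [e] at h2
    rw [h2]
    group

theorem DD_pow {δ : MulAut P} {y : Ω} (hδ : ∀ t : P, (t : Ω)⁻¹ * (δ t : P) ∈ U) (hy : ∀ u : P, (u : Ω) ∈ U → ((δ u : P) : Ω) = y * u * y⁻¹) (n : ℕ) :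
    ∀ u : P, (u : Ω) ∈ U → (((δ ^ n) u : P) : Ω) = y ^ n * u * (y ^ n)⁻¹ := by
  induction n with
  | zero =>
    intro u _
    simp
  | succ n ih =>
    intro u hu
    have hbu : ((δ u : P) : Ω) ∈ U := by
      have e : ((δ u : P) : Ω) = (u : Ω) * ((u : Ω)⁻¹ * (δ u : P)) := by group
      rw [e]
      exact U.mul_mem hu (hδ u)
    rw [pow_succ]
    show (((δ ^ n) (δ u) : P) : Ω) = _
    rw [ih _ hbu, hy u hu]
    group

theorem DD_isPGroup [Fact p.Prime] [Finite U] (hU : IsPGroup p U) (hH : IsPGroup p H) : IsPGroup p (DD P U H) := by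
  rintro ⟨δ, hδ, y, hy, hy'⟩
  obtain ⟨m, hm⟩ := hH ⟨y, hy⟩
  have hm' : y ^ p ^ m = 1 := congrArg Subtype.val hm
  have h1 : δ ^ p ^ m ∈ stabCh P U := by
    refine ⟨fun t ht => Subtype.ext ?_, fun t => ?_⟩
    · rw [DD_pow hδ hy' _ t ht, hm']
      group
    · have hmem : δ ^ p ^ m ∈ DD P U H := (DD P U H).pow_mem ⟨hδ, y, hy, hy'⟩ _
      exact hmem.1 t
  obtain ⟨k, hk⟩ := (stabCh_isPGroup (Q := P) hU) ⟨_, h1⟩
  refine ⟨m + k, Subtype.ext ?_⟩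
  have hk' : (δ ^ p ^ m) ^ p ^ k = 1 := congrArg Subtype.val hk
  show δ ^ p ^ (m + k) = 1
  rw [pow_add, pow_mul, hk']

end Cfsg.Agent.H25
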