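import Cfsg.Agent.Lib.H25.InvA
set_option autoImplicit false
set_option linter.style.haveILetI false

/-! Subgroups normal in an invariant subsystem and stable under `Aut_F(T)` are normal. -/

namespace Cfsg.Agent.H25

open Cfsg Cfsg.FusionSystem

variable {Ω : Type*} [Group Ω] {S T : Subgroup Ω} {F : FusionSystem S} {E : FusionSystem T} {p : ℕ}
variable {P Q R U H : Subgroup Ω} {f g : Ω → Ω} {α : MulAut T}

section

variable (hI : E.IsInvariantIn F) (hHE : E.IsNormal H) (hHα : ∀ α ∈ F.autGroup T, ∀ h ∈ H, tf α h ∈ H)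

include hI hHE hHα

/-- `H` is strongly closed. -/
theorem inv_sc {Y : Subgroup Ω} (hY : Y ≤ T) (hf : Mp F Y f) {x : Ω} (hx : x ∈ Y) (hxH : x ∈ H) : f x ∈ H := by
  obtain ⟨α, hα, f₀, hf₀, e⟩ := inv_frat hI hY hf
  obtain ⟨ĥ, hĥ, hĥe, hĥg⟩ := normal_ext hHE hf₀
  rw [e x hx, ← hĥe x hx]
  exact hHα α hα _ (hĥg.1 x hxH)

/-- Extension to `YH`. -/
theorem inv_ext {Y : Subgroup Ω} (hY : Y ≤ T) (hf : Mp F Y f) :
    ∃ b, Mp F (Y ⊔ H) b ∧ (∀ y ∈ Y, b y = f y) ∧ ∀ h ∈ H, b h ∈ H := by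
  obtain ⟨α, hα, f₀, hf₀, e⟩ := inv_frat hI hY hf
  obtain ⟨ĥ, hĥ, hĥe, hĥg⟩ := normal_ext hHE hf₀
  have hαm : Mp F T (tf α) := Mp.of_mem_autGroup (inv_le hI) hα
  refine ⟨tf α ∘ ĥ, (inv_mp_sub hI hĥ).comp (fun x hx => hĥ.mem hx) hαm, fun y hy => ?_, fun h hh => ?_⟩
  · show tf α (ĥ y) = f y
    rw [hĥe y hy, e y hy]
  · exact hHα α hα _ (hĥg.1 h hh)

theorem inv_conj [Finite S] {s h : Ω} (hs : s ∈ S) (hh : h ∈ H) : s * h * s⁻¹ ∈ H :=
  inv_sc hI hHE hHα hHE.1 (Mp.conj (hHE.1.trans (inv_le hI)) hs) hh hh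

/-- The subgroup lies in every essential subgroup. -/
theorem inv_le_ess [Finite S] [Fact p.Prime] (hS : IsPGroup p S) (hF : F.IsSaturated p) (hE : F.IsEssential p P) : H ≤ P := by
  classical
  have hPS : P ≤ S := hE.1.1
  have hTS := inv_le hI
  have hHT := hHE.1
  have hHS := hHT.trans hTS
  by_contra hne
  -- an element of `H` normalizing `P`
  obtain ⟨x, hxH, hxN, hxP⟩ : ∃ x ∈ H, x ∈ Subgroup.normalizer (P : Set Ω) ∧ x ∉ P := by
    have hLS : P ⊔ H ≤ S := sup_le hPS hHS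
    haveI : Finite ↥(P ⊔ H) := finite_of_le hLS
    have hne' : P ≠ P ⊔ H := fun h => hne (h ▸ le_sup_right)
    obtain ⟨g₁, hg₁, hg₁P⟩ := exists_normalizer_not_mem (hS.to_le hLS) le_sup_left hne'
    have hA : P ≤ Subgroup.normalizer (H : Set Ω) := fun t ht =>
      mem_normalizer_of_conj (fun y hy => inv_conj hI hHE hHα (hPS ht) hy) (fun y hy => by
        have := inv_conj hI hHE hHα (S.inv_mem (hPS ht)) hy
        simpa using this)
    have hg₁' : g₁ ∈ H ⊔ P := by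
      rw [sup_comm]
      exact hg₁.1
    obtain ⟨n, hn, a, ha, e⟩ := Cfsg.Agent.H01.exists_mul_of_mem_sup hA hg₁'
    have hna : n = g₁ * a⁻¹ := by
      rw [e]
      group
    have haN : a ∈ Subgroup.normalizer (P : Set Ω) := (le_normalizerIn hPS ha).2
    refine ⟨n, hn, ?_, fun h => hg₁P ?_⟩
    · rw [hna]
      exact Subgroup.mul_mem _ hg₁.2 (Subgroup.inv_mem _ haN)
    · rw [e]
      exact P.mul_mem h ha
  have hxS : x ∈ S := hHS hxH
  obtain ⟨Γ, hΓle, hΓne, -, hΓ⟩ := ess_gamma hS hF hE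
  obtain ⟨g₀, hg₀, hg₀Γ⟩ : ∃ a ∈ F.autGroup P, a ∉ Γ := by
    by_contra hcon
    push Not at hcon
    exact hΓne (le_antisymm hΓle hcon)
  obtain ⟨c, hcC, -⟩ := exists_isC (F := F) hPS hxS hxN
  have hsc_T : ∀ {Y : Subgroup Ω} {f : Ω → Ω}, Y ≤ T → Mp F Y f → ∀ y ∈ Y, f y ∈ T := by
    intro Y f hY hf y hy
    obtain ⟨φ, hφ, e⟩ := hf
    rw [← e ⟨y, hy⟩]
    exact hI.2.1.2 Y hY φ hφ ⟨y, hy⟩
  have hUinv : ∀ (a : MulAut P), a ∈ F.autGroup P → ∀ t : P, (t : Ω) ∈ P ⊓ T → ((a t : P) : Ω) ∈ P ⊓ T := by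
    intro a ha t ht
    refine ⟨(a t).2, ?_⟩
    have h1 := hsc_T (Y := P ⊓ T) inf_le_right ((Mp.of_mem_autGroup hPS ha).restrict inf_le_left) t ht
    rwa [toFun_aut] at h1
  have hcD : c ∈ DD P (P ⊓ T) H := by
    refine ⟨fun t => ?_, x, hxH, fun u _ => hcC u⟩
    rw [hcC t]
    refine ⟨P.mul_mem (P.inv_mem t.2) (conj_mem_of_normalizer hxN t.2), hHT ?_⟩
    have e : (t : Ω)⁻¹ * (x * (t : Ω) * x⁻¹) = ((t : Ω)⁻¹ * x * (t : Ω)⁻¹⁻¹) * x⁻¹ := by group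
    rw [e]
    exact H.mul_mem (inv_conj hI hHE hHα (S.inv_mem (hPS t.2)) hxH) (H.inv_mem hxH)
  have hvD : g₀ * c * g₀⁻¹ ∈ DD P (P ⊓ T) H := by
    obtain ⟨b, hb, hbe, hbH⟩ := inv_ext hI hHE hHα (Y := P ⊓ T) inf_le_right ((Mp.of_mem_autGroup hPS hg₀).restrict inf_le_left)
    refine ⟨fun t => ?_, b x, hbH x hxH, fun u hu => ?_⟩
    · obtain ⟨s, hs⟩ : ∃ s : P, s = g₀⁻¹ t := ⟨_, rfl⟩
      have ht : t = g₀ s := by
        rw [hs]
        simp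
      have e : (g₀ * c * g₀⁻¹) t = g₀ (c s) := by
        show g₀ (c (g₀⁻¹ t)) = _
        rw [hs]
      rw [e]
      have e2 : (((g₀ (((s⁻¹ : P) * c s)) : P)) : Ω) = (t : Ω)⁻¹ * (g₀ (c s) : P) := by
        rw [map_mul, map_inv, ← ht]
        rfl
      have h2 : ((((s⁻¹ : P) * c s : P)) : Ω) ∈ P ⊓ T := hcD.1 s
      have h3 := hUinv g₀ hg₀ _ h2
      rwa [e2] at h3
    · obtain ⟨s, hs⟩ : ∃ s : P, s = g₀⁻¹ u := ⟨_, rfl⟩
      have hu' : u = g₀ s := by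
        rw [hs]
        simp
      have hsU : (s : Ω) ∈ P ⊓ T := by
        rw [hs]
        exact hUinv g₀⁻¹ (inv_mem hg₀) u hu
      have e : (g₀ * c * g₀⁻¹) u = g₀ (c s) := by
        show g₀ (c (g₀⁻¹ u)) = _
        rw [hs]
      rw [e]
      have hcs : ((c s : P) : Ω) ∈ P ⊓ T := hUinv c (conj_mem_autGroup hPS hxS hcC) s hsU
      have h1 := hbe _ hcs
      have h2 := hbe _ hsU
      rw [toFun_aut] at h2
      have h3 : b ((c s : P) : Ω) = ((g₀ (c s) : P) : Ω) := by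
        rw [h1]
        exact toFun_aut g₀ _
      rw [← h3, hcC s]
      have hxL : x ∈ (P ⊓ T) ⊔ H := Subgroup.mem_sup_right hxH
      have hsL : (s : Ω) ∈ (P ⊓ T) ⊔ H := Subgroup.mem_sup_left hsU
      rw [hb.map_mul (Subgroup.mul_mem _ hxL hsL) (Subgroup.inv_mem _ hxL), hb.map_mul hxL hsL, hb.map_inv hxL, h2, ← hu']
  haveI hfinU : Finite ↥(P ⊓ T) := finite_of_le (inf_le_left.trans hPS)
  have hpg : IsPGroup p (DD P (P ⊓ T) H) := DD_isPGroup (hS.to_le (inf_le_left.trans hPS)) (hS.to_le hHS)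
  apply hg₀Γ
  refine hΓ g₀ hg₀ x x c c hxS hxS hxP hxP hcC hcC (hpg.to_le ?_)
  rw [Subgroup.closure_le]
  rintro z (rfl | rfl)
  · exact hcD
  · exact hvD

/-- **A subgroup normal in an invariant subsystem and stable under `Aut_F(T)` is normal.** -/
theorem isNormal_of_inv [Finite S] [Fact p.Prime] (hS : IsPGroup p S) (hF : F.IsSaturated p) : F.IsNormal H := by
  have hTS := inv_le hI
  have hHT := hHE.1
  have hHS := hHT.trans hTS
  refine Cfsg.Agent.H24.isNormal_of_aut hS hF hHS ?_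
  have hmain : ∀ P : Subgroup Ω, H ≤ P → P ≤ S → ∀ a ∈ F.autGroup P, ∀ y : P, (y : Ω) ∈ H → ((a y : P) : Ω) ∈ H := by
    intro P hHP hPS a ha y hy
    have h1 := inv_sc hI hHE hHα (Y := H) hHT ((Mp.of_mem_autGroup hPS ha).restrict hHP) hy hy
    rwa [toFun_aut] at h1
  rintro P (rfl | hE)
  · exact ⟨hHS, fun a ha => map_eq_of_stable (hmain _ hHS le_rfl a ha) (hmain _ hHS le_rfl a⁻¹ (inv_mem ha))⟩
  · have hle := inv_le_ess hI hHE hHα hS hF hE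
    exact ⟨hle, fun a ha => map_eq_of_stable (hmain _ hle hE.1.1 a ha) (hmain _ hle hE.1.1 a⁻¹ (inv_mem ha))⟩

end

end Cfsg.Agent.H25
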