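import Mathlib

set_option autoImplicit false

/-! An abstract construction behind the Model Theorem: a biset with a map to a group of automorphisms
yields a finite group extending `S`. -/

namespace Cfsg.Agent.H25

universe u

open scoped IsMulCommutative

/-- Data of the construction: `Q` embedded in `S` by `j`, `S` acting on `Q` by `c`, a group `A` of automorphisms
of `Q` containing the image of `c`, and for each `a` in `A` a partial lift `ψ a`. -/
structure MData (S Q : Type u) [Group S] [Group Q] where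
  j : Q →* S
  c : S →* MulAut Q
  A : Subgroup (MulAut Q)
  ψ : MulAut Q → S → S
  hj : Function.Injective j
  hc : ∀ s x, j (c s x) = s * j x * s⁻¹
  hcA : ∀ s, c s ∈ A
  hker : ∀ s, c s = 1 → ∃ z : Subgroup.center Q, s = j z
  hψmul : ∀ a ∈ A, ∀ y y', a * c y * a⁻¹ ∈ c.range → a * c y' * a⁻¹ ∈ c.range → ψ a (y * y') = ψ a y * ψ a y'
  hψc : ∀ a ∈ A, ∀ y, a * c y * a⁻¹ ∈ c.range → c (ψ a y) = a * c y * a⁻¹
  hψj : ∀ a ∈ A, ∀ x, ψ a (j x) = j (a x)

namespace MData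

variable {S Q : Type u} [Group S] [Group Q] (D : MData S Q)

/-- The source of the lift `ψ a`. -/
def N (a : MulAut Q) : Subgroup S where
  carrier := {y | a * D.c y * a⁻¹ ∈ D.c.range}
  mul_mem' := by
    intro x y hx hy
    have : a * D.c (x * y) * a⁻¹ = (a * D.c x * a⁻¹) * (a * D.c y * a⁻¹) := by
      rw [map_mul]; group
    show a * D.c (x * y) * a⁻¹ ∈ D.c.range
    rw [this]
    exact mul_mem hx hy
  one_mem' := by
    show a * D.c 1 * a⁻¹ ∈ D.c.range
    simp [one_mem]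
  inv_mem' := by
    intro x hx
    have : a * D.c x⁻¹ * a⁻¹ = (a * D.c x * a⁻¹)⁻¹ := by
      rw [map_inv]; group
    show a * D.c x⁻¹ * a⁻¹ ∈ D.c.range
    rw [this]
    exact inv_mem hx

theorem mem_N {a : MulAut Q} {y : S} : y ∈ D.N a ↔ a * D.c y * a⁻¹ ∈ D.c.range := Iff.rfl

theorem c_j (x y : Q) : D.c (D.j x) y = x * y * x⁻¹ := by
  apply D.hj
  rw [D.hc]
  simp

theorem c_j_conj (a : MulAut Q) (x : Q) : a * D.c (D.j x) * a⁻¹ = D.c (D.j (a x)) := by
  ext y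
  rw [D.c_j]
  show a (D.c (D.j x) (a⁻¹ y)) = _
  rw [D.c_j, map_mul, map_mul, map_inv, MulAut.apply_inv_self]

theorem j_mem_N (a : MulAut Q) (x : Q) : D.j x ∈ D.N a := by
  rw [mem_N, c_j_conj]
  exact ⟨_, rfl⟩

theorem c_j_center (z : Subgroup.center Q) : D.c (D.j z) = 1 := by
  ext y
  rw [D.c_j]
  have := (Subgroup.mem_center_iff.mp z.2 y)
  simp [← this]

theorem ψ_one {a : MulAut Q} (ha : a ∈ D.A) : D.ψ a 1 = 1 := by
  have := D.hψj a ha 1
  simpa using this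

theorem ψ_inv {a : MulAut Q} (ha : a ∈ D.A) {y : S} (hy : y ∈ D.N a) : D.ψ a y⁻¹ = (D.ψ a y)⁻¹ := by
  have h := D.hψmul a ha y y⁻¹ hy ((D.N a).inv_mem hy)
  rw [mul_inv_cancel, D.ψ_one ha] at h
  exact eq_inv_of_mul_eq_one_right h.symm

theorem ψ_mem {a : MulAut Q} (ha : a ∈ D.A) {y : S} (hy : y ∈ D.N a) : D.ψ a y ∈ D.N a⁻¹ := by
  rw [mem_N, D.hψc a ha y hy]
  refine ⟨y, ?_⟩
  group

theorem ψ_inj {a : MulAut Q} (ha : a ∈ D.A) {y : S} (hy : y ∈ D.N a) (h : D.ψ a y = 1) : y = 1 := by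
  have h1 := D.hψc a ha y hy
  rw [h, map_one] at h1
  have h2 : D.c y = 1 := by
    have : D.c y = a⁻¹ * (a * D.c y * a⁻¹) * a := by group
    rw [this, ← h1]
    group
  obtain ⟨z, rfl⟩ := D.hker y h2
  rw [D.hψj a ha] at h
  have h3 : a (z : Q) = 1 := D.hj (by rw [h, map_one])
  have h4 : (z : Q) = 1 := by simpa using h3
  rw [h4, map_one]

theorem ψ_surj {a : MulAut Q} (ha : a ∈ D.A) {w : S} (hw : w ∈ D.N a⁻¹) : ∃ t ∈ D.N a, D.ψ a t = w := by
  obtain ⟨t₀, ht₀⟩ := hw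
  rw [inv_inv] at ht₀
  have ht₀N : t₀ ∈ D.N a := by
    rw [mem_N, ht₀]
    exact ⟨w, by group⟩
  have h1 : D.c ((D.ψ a t₀)⁻¹ * w) = 1 := by
    rw [map_mul, map_inv, D.hψc a ha t₀ ht₀N, ht₀]
    group
  obtain ⟨z, hz⟩ := D.hker _ h1
  have hq : D.j (a⁻¹ z) ∈ D.N a := D.j_mem_N _ _
  refine ⟨t₀ * D.j (a⁻¹ z), mul_mem ht₀N hq, ?_⟩
  rw [D.hψmul a ha _ _ ht₀N hq, D.hψj a ha, MulAut.apply_inv_self, ← hz]
  group

end MData

/-- The biset structure needed. -/
structure MBiset {S Q : Type u} [Group S] [Group Q] (D : MData S Q) (X : Type u) where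
  lm : S → X → X
  rm : X → S → X
  p : X → MulAut Q
  lm_one : ∀ x, lm 1 x = x
  lm_mul : ∀ s t x, lm (s * t) x = lm s (lm t x)
  rm_one : ∀ x, rm x 1 = x
  rm_mul : ∀ x s t, rm x (s * t) = rm (rm x s) t
  lm_rm : ∀ s x t, lm s (rm x t) = rm (lm s x) t
  p_lm : ∀ s x, p (lm s x) = D.c s * p x
  p_rm : ∀ x s, p (rm x s) = p x * D.c s
  p_mem : ∀ x, p x ∈ D.A
  p_surj : ∀ a ∈ D.A, ∃ x, p x = a
  fib : ∀ x x', p x = p x' → ∃ z : Subgroup.center Q, x' = lm (D.j z) x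
  free : ∀ (z : Subgroup.center Q) x, lm (D.j z) x = x → z = 1
  lm_j : ∀ (q : Q) y, lm (D.j q) y = rm y (D.j ((p y)⁻¹ q))

namespace MBiset

variable {S Q X : Type u} [Group S] [Group Q] {D : MData S Q} (B : MBiset D X)

/-- The group of right-equivariant permutations covering left translation by an element of `A`. -/
def E : Subgroup (Equiv.Perm X) where
  carrier := {e | (∀ x v, e (B.rm x v) = B.rm (e x) v) ∧ ∃ a ∈ D.A, ∀ x, B.p (e x) = a * B.p x}
  mul_mem' := by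
    rintro e e' ⟨h1, a, ha, h2⟩ ⟨h1', a', ha', h2'⟩
    refine ⟨fun x v => ?_, a * a', mul_mem ha ha', fun x => ?_⟩
    · show e (e' _) = B.rm (e (e' x)) v
      rw [h1', h1]
    · show B.p (e (e' x)) = _
      rw [h2, h2', mul_assoc]
  one_mem' := ⟨fun _ _ => rfl, 1, one_mem _, fun x => by simp⟩
  inv_mem' := by
    rintro e ⟨h1, a, ha, h2⟩
    have h3 : ∀ x, e (e⁻¹ x) = x := fun x => e.apply_symm_apply x
    refine ⟨fun x v => ?_, a⁻¹, inv_mem ha, fun x => ?_⟩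
    · apply e.injective
      rw [h1, h3, h3]
    · have h4 := h2 (e⁻¹ x)
      rw [h3] at h4
      rw [h4]
      group

/-- The subgroup of `E` lying over the identity of `A`. -/
def Y : Subgroup (Equiv.Perm X) where
  carrier := {f | (∀ x v, f (B.rm x v) = B.rm (f x) v) ∧ ∀ x, B.p (f x) = B.p x}
  mul_mem' := by
    rintro e e' ⟨h1, h2⟩ ⟨h1', h2'⟩
    refine ⟨fun x v => ?_, fun x => ?_⟩
    · show e (e' _) = B.rm (e (e' x)) v
      rw [h1', h1]
    · show B.p (e (e' x)) = _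
      rw [h2, h2']
  one_mem' := ⟨fun _ _ => rfl, fun _ => rfl⟩
  inv_mem' := by
    rintro e ⟨h1, h2⟩
    have h3 : ∀ x, e (e⁻¹ x) = x := fun x => e.apply_symm_apply x
    refine ⟨fun x v => ?_, fun x => ?_⟩
    · apply e.injective
      rw [h1, h3, h3]
    · have h4 := h2 (e⁻¹ x)
      rw [h3] at h4
      exact h4.symm

theorem Y_le_E : B.Y ≤ B.E := fun _ hf => ⟨hf.1, 1, one_mem _, fun x => by rw [hf.2, one_mul]⟩

/-- Left multiplication as a permutation. -/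
def lmPerm : S →* Equiv.Perm X :=
  MonoidHom.mk' (fun s => ⟨B.lm s, B.lm s⁻¹, fun x => by rw [← B.lm_mul]; simp [B.lm_one],
    fun x => by rw [← B.lm_mul]; simp [B.lm_one]⟩) (fun s t => by
      ext x
      exact B.lm_mul s t x)

@[simp] theorem lmPerm_apply (s : S) (x : X) : B.lmPerm s x = B.lm s x := rfl

theorem lmPerm_mem (s : S) : B.lmPerm s ∈ B.E :=
  ⟨fun x v => B.lm_rm s x v, D.c s, D.hcA s, fun x => B.p_lm s x⟩

/-- central elements act in the same way on the left and on the right -/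
theorem comm_lm {f : Equiv.Perm X} (hf : f ∈ B.Y) (q : Q) (x : X) : f (B.lm (D.j q) x) = B.lm (D.j q) (f x) := by
  rw [B.lm_j, hf.1, B.lm_j, hf.2]

/-- The conjugation formula. -/
theorem E_conj {e : Equiv.Perm X} (he1 : ∀ x v, e (B.rm x v) = B.rm (e x) v) {a : MulAut Q}
    (he2 : ∀ x, B.p (e x) = a * B.p x) (q : Q) (x : X) :
    e (B.lm (D.j q) x) = B.lm (D.j (a q)) (e x) := by
  rw [B.lm_j, he1, B.lm_j, he2]
  congr 2
  show (B.p x)⁻¹ q = ((a * B.p x)⁻¹) (a q)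
  rw [mul_inv_rev]
  show _ = (B.p x)⁻¹ (a⁻¹ (a q))
  rw [MulAut.inv_apply_self]

section Fin

variable [Finite Q]

/-- The action of an automorphism on the center -/
def centerMap (a : MulAut Q) : Subgroup.center Q →* Subgroup.center Q :=
  (a.toMonoidHom.comp (Subgroup.center Q).subtype).codRestrict (Subgroup.center Q) (fun z => by
    rw [Subgroup.mem_center_iff]
    intro g
    obtain ⟨g', rfl⟩ := a.surjective g
    show a g' * a z = a z * a g'
    rw [← map_mul, ← map_mul, (Subgroup.mem_center_iff.mp z.2 g')])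

@[simp] theorem centerMap_coe (a : MulAut Q) (z : Subgroup.center Q) : ((centerMap a z : Subgroup.center Q) : Q) = a z := rfl

omit [Finite Q] in
/-- the value of an element of `Y` at a point. -/
theorem exists_nu (f : B.Y) (x : X) : ∃ z : Subgroup.center Q, (f : Equiv.Perm X) x = B.lm (D.j z) x :=
  B.fib x _ (f.2.2 x).symm

/-- The value of `f` at `x`. -/
noncomputable def nu (f : B.Y) (x : X) : Subgroup.center Q := Classical.choose (B.exists_nu f x)

omit [Finite Q] in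
theorem nu_spec (f : B.Y) (x : X) : (f : Equiv.Perm X) x = B.lm (D.j (B.nu f x)) x :=
  Classical.choose_spec (B.exists_nu f x)

omit [Finite Q] in
theorem lm_j_inj {z z' : Subgroup.center Q} {x : X} (h : B.lm (D.j z) x = B.lm (D.j z') x) : z = z' := by
  have h1 : B.lm (D.j ((z' : Subgroup.center Q)⁻¹ * z : Subgroup.center Q)) x = x := by
    have : D.j (((z' : Subgroup.center Q)⁻¹ * z : Subgroup.center Q) : Q) = (D.j z')⁻¹ * D.j z := by
      simp [map_mul, map_inv]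
    rw [this, B.lm_mul, h, ← B.lm_mul, inv_mul_cancel, B.lm_one]
  have h2 := B.free _ _ h1
  exact (inv_mul_eq_one.mp h2).symm

omit [Finite Q] in
theorem nu_eq {f : B.Y} {x : X} {z : Subgroup.center Q} (h : (f : Equiv.Perm X) x = B.lm (D.j z) x) : B.nu f x = z :=
  B.lm_j_inj ((B.nu_spec f x).symm.trans h)

omit [Finite Q] in
theorem nu_mul (f f' : B.Y) (x : X) : B.nu (f * f') x = B.nu f x * B.nu f' x := by
  apply B.nu_eq
  show (f : Equiv.Perm X) ((f' : Equiv.Perm X) x) = _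
  rw [B.nu_spec f' x, B.comm_lm f.2, B.nu_spec f x, ← B.lm_mul, ← map_mul]
  congr 2
  rw [mul_comm (B.nu f x), Subgroup.coe_mul]

omit [Finite Q] in
theorem nu_rm (f : B.Y) (x : X) (v : S) : B.nu f (B.rm x v) = B.nu f x := by
  apply B.nu_eq
  rw [f.2.1, B.nu_spec f x, B.lm_rm]

/-- Set of cosets. -/
abbrev Tq (D : MData S Q) : Type u := ↥D.A ⧸ (D.c.range.subgroupOf D.A)

/-- The coset of a point. -/
def P (x : X) : Tq D := QuotientGroup.mk ⟨B.p x, B.p_mem x⟩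

omit [Finite Q] in
theorem P_surj : Function.Surjective B.P := by
  intro C
  obtain ⟨⟨a, ha⟩, rfl⟩ := QuotientGroup.mk_surjective C
  obtain ⟨x, hx⟩ := B.p_surj a ha
  refine ⟨x, ?_⟩
  show QuotientGroup.mk _ = QuotientGroup.mk _
  congr 1
  exact Subtype.ext hx

omit [Finite Q] in
theorem exists_rm_of_P {x x' : X} (h : B.P x = B.P x') : ∃ v, x' = B.rm x v := by
  have h1 := QuotientGroup.eq.mp h
  rw [Subgroup.mem_subgroupOf] at h1
  obtain ⟨v, hv⟩ := h1
  have h2 : B.p (B.rm x v) = B.p x' := by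
    rw [B.p_rm, hv]
    show B.p x * ((B.p x)⁻¹ * B.p x') = _
    group
  obtain ⟨z, hz⟩ := B.fib _ _ h2
  rw [hz, B.lm_j, B.p_rm, ← B.rm_mul]
  exact ⟨_, rfl⟩

omit [Finite Q] in
theorem nu_of_P (f : B.Y) {x x' : X} (h : B.P x = B.P x') : B.nu f x = B.nu f x' := by
  obtain ⟨v, rfl⟩ := B.exists_rm_of_P h
  rw [B.nu_rm]

/-- Representatives. -/
noncomputable def rep (C : Tq D) : X := Function.surjInv B.P_surj C

omit [Finite Q] in
theorem P_rep (C : Tq D) : B.P (B.rep C) = C := Function.surjInv_eq B.P_surj C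

noncomputable instance instFintypeTq : Fintype (Tq D) := Fintype.ofFinite _

/-- The product over all cosets. -/
noncomputable def tau : B.Y →* Subgroup.center Q :=
  MonoidHom.mk' (fun f => ∏ C : Tq D, B.nu f (B.rep C)) (fun f f' => by
    simp only [B.nu_mul]
    exact Finset.prod_mul_distrib)

theorem tau_apply (f : B.Y) : B.tau f = ∏ C : Tq D, B.nu f (B.rep C) := rfl

theorem lmPerm_j_mem_Y (z : Subgroup.center Q) : B.lmPerm (D.j z) ∈ B.Y := by
  refine ⟨fun x v => B.lm_rm _ x v, fun x => ?_⟩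
  show B.p (B.lm _ x) = _
  rw [B.p_lm, D.c_j_center, one_mul]

theorem tau_lm (z : Subgroup.center Q) : B.tau ⟨B.lmPerm (D.j z), B.lmPerm_j_mem_Y z⟩ = z ^ (D.c.range.subgroupOf D.A).index := by
  rw [tau_apply]
  have : ∀ C : Tq D, B.nu ⟨B.lmPerm (D.j z), B.lmPerm_j_mem_Y z⟩ (B.rep C) = z := fun C => B.nu_eq rfl
  simp only [this, Finset.prod_const, Finset.card_univ, Subgroup.index, Nat.card_eq_fintype_card]

theorem conj_mem_Y {e f : Equiv.Perm X} (he : e ∈ B.E) (hf : f ∈ B.Y) : e * f * e⁻¹ ∈ B.Y := by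
  obtain ⟨h1, a, ha, h2⟩ := he
  have h3 : e⁻¹ ∈ B.E := B.E.inv_mem ⟨h1, a, ha, h2⟩
  refine ⟨fun x v => ?_, fun x => ?_⟩
  · show e (f (e⁻¹ (B.rm x v))) = B.rm (e (f (e⁻¹ x))) v
    rw [h3.1, hf.1, h1]
  · show B.p (e (f (e⁻¹ x))) = _
    rw [h2, hf.2, ← h2]
    exact congrArg B.p (e.apply_symm_apply x)

omit [Finite Q] in
theorem P_smul {e : Equiv.Perm X} {a : MulAut Q} (ha : a ∈ D.A) (h2 : ∀ x, B.p (e x) = a * B.p x) (x : X) :
    B.P (e x) = (⟨a, ha⟩ : D.A) • B.P x := by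
  show QuotientGroup.mk _ = QuotientGroup.mk _
  congr 1
  exact Subtype.ext (h2 x)

theorem tau_conj {e : Equiv.Perm X} (he : e ∈ B.E) {a : MulAut Q} (ha : a ∈ D.A) (h2 : ∀ x, B.p (e x) = a * B.p x)
    (f : B.Y) : B.tau ⟨e * f * e⁻¹, B.conj_mem_Y he f.2⟩ = centerMap a (B.tau f) := by
  have h3 : e⁻¹ ∈ B.E := B.E.inv_mem he
  have h4 : ∀ x, B.p (e⁻¹ x) = a⁻¹ * B.p x := by
    intro x
    have h5 := h2 (e⁻¹ x)
    rw [show e (e⁻¹ x) = x from e.apply_symm_apply x] at h5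
    rw [h5]
    group
  have hnu : ∀ x, B.nu ⟨e * f * e⁻¹, B.conj_mem_Y he f.2⟩ x = centerMap a (B.nu f (e⁻¹ x)) := by
    intro x
    apply B.nu_eq
    show e ((f : Equiv.Perm X) (e⁻¹ x)) = _
    rw [B.nu_spec f (e⁻¹ x), B.E_conj he.1 h2]
    rw [show e (e⁻¹ x) = x from e.apply_symm_apply x]
    rfl
  rw [tau_apply, tau_apply, map_prod]
  simp only [hnu]
  refine Fintype.prod_equiv (MulAction.toPerm ((⟨a, ha⟩ : D.A)⁻¹)) _ _ fun C => ?_
  congr 1
  apply B.nu_of_P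
  rw [B.P_rep, B.P_smul (inv_mem ha) h4, B.P_rep]
  rfl

/-- The kernel of the averaging map, as a group of permutations. -/
noncomputable def K : Subgroup (Equiv.Perm X) := (B.tau.ker).map B.Y.subtype

theorem K_le_Y : B.K ≤ B.Y := by
  rintro _ ⟨f, -, rfl⟩
  exact f.2

theorem mem_K_iff {f : Equiv.Perm X} : f ∈ B.K ↔ ∃ h : f ∈ B.Y, B.tau ⟨f, h⟩ = 1 := by
  constructor
  · rintro ⟨f', hf', rfl⟩
    exact ⟨f'.2, hf'⟩
  · rintro ⟨h, h1⟩
    exact ⟨⟨f, h⟩, h1, rfl⟩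

theorem K_conj {e f : Equiv.Perm X} (he : e ∈ B.E) (hf : f ∈ B.K) : e * f * e⁻¹ ∈ B.K := by
  obtain ⟨hf, h1⟩ := B.mem_K_iff.mp hf
  obtain ⟨-, a, ha, h2⟩ := id he
  refine B.mem_K_iff.mpr ⟨B.conj_mem_Y he hf, ?_⟩
  have := B.tau_conj he ha h2 ⟨f, hf⟩
  rw [this, h1, map_one]

instance K_normal : (B.K.subgroupOf B.E).Normal := by
  refine ⟨fun f hf e => ?_⟩
  rw [Subgroup.mem_subgroupOf] at hf ⊢
  exact B.K_conj e.2 hf

/-- A base point. -/
noncomputable def x0 : X := Classical.choose (B.p_surj 1 (one_mem _))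

/-- The element of `A` covered by an element of `E`. -/
noncomputable def aOf (e : B.E) : MulAut Q := B.p ((e : Equiv.Perm X) B.x0) * (B.p B.x0)⁻¹

omit [Finite Q] in
theorem aOf_spec (e : B.E) (x : X) : B.p ((e : Equiv.Perm X) x) = B.aOf e * B.p x := by
  obtain ⟨-, a, -, h2⟩ := e.2
  rw [h2, aOf, h2]
  simp

omit [Finite Q] in
theorem aOf_mem (e : B.E) : B.aOf e ∈ D.A := by
  obtain ⟨-, a, ha, h2⟩ := e.2
  rw [aOf, h2]
  simpa using ha

/-- The map onto `A`. -/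
noncomputable def cbar : B.E →* MulAut Q :=
  MonoidHom.mk' B.aOf (fun e e' => by
    have h := B.aOf_spec (e * e') B.x0
    have h' : B.p (((e * e' : B.E) : Equiv.Perm X) B.x0) = B.aOf e * (B.aOf e' * B.p B.x0) := by
      show B.p ((e : Equiv.Perm X) ((e' : Equiv.Perm X) B.x0)) = _
      rw [B.aOf_spec, B.aOf_spec]
    rw [h] at h'
    have := mul_right_cancel (b := B.p B.x0) (a := B.aOf (e * e')) (c := B.aOf e * B.aOf e') (by rw [h', mul_assoc])
    exact this)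

omit [Finite Q] in
theorem cbar_spec (e : B.E) (x : X) : B.p ((e : Equiv.Perm X) x) = B.cbar e * B.p x := B.aOf_spec e x

omit [Finite Q] in
theorem cbar_mem (e : B.E) : B.cbar e ∈ D.A := B.aOf_mem e

omit [Finite Q] in
theorem mem_Y_of_cbar {e : B.E} (h : B.cbar e = 1) : (e : Equiv.Perm X) ∈ B.Y := by
  refine ⟨e.2.1, fun x => ?_⟩
  rw [B.cbar_spec, h, one_mul]

omit [Finite Q] in
theorem cbar_eq_of {e : B.E} {a : MulAut Q} (h : ∀ x, B.p ((e : Equiv.Perm X) x) = a * B.p x) : B.cbar e = a := by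
  have h1 := h B.x0
  rw [B.cbar_spec] at h1
  exact mul_right_cancel h1

/-- the embedding of `S` in `E`. -/
noncomputable def iE : S →* B.E := B.lmPerm.codRestrict B.E B.lmPerm_mem

@[simp] theorem iE_coe (s : S) (x : X) : ((B.iE s : B.E) : Equiv.Perm X) x = B.lm s x := rfl

omit [Finite Q] in
theorem cbar_iE (s : S) : B.cbar (B.iE s) = D.c s :=
  B.cbar_eq_of fun x => B.p_lm s x

theorem K_le_ker : B.K.subgroupOf B.E ≤ B.cbar.ker := by
  intro e he
  rw [Subgroup.mem_subgroupOf] at he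
  rw [MonoidHom.mem_ker]
  apply B.cbar_eq_of
  intro x
  rw [one_mul]
  exact (B.K_le_Y he).2 x

/-- Elements over a given automorphism, satisfying the lifting property -/
def Core : Prop :=
  ∀ b ∈ D.A, ∀ x₀ : X, ∃ x₁, B.p x₁ = b * B.p x₀ ∧ ∀ y ∈ D.N b, ∀ s, B.lm y x₀ = B.rm x₀ s →
    B.lm (D.ψ b y) x₁ = B.rm x₁ s

omit [Finite Q] in
theorem exists_e [Finite X] (hcore : B.Core) {b : MulAut Q} (hb : b ∈ D.A) :
    ∃ e : B.E, B.cbar e = b ∧ ∀ y ∈ D.N b, ∀ x, (e : Equiv.Perm X) (B.lm y x) = B.lm (D.ψ b y) ((e : Equiv.Perm X) x) := by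
  classical
  -- orbits of `N b × S`
  let st : Setoid X :=
    { r := fun x x' => ∃ y ∈ D.N b, ∃ s, x' = B.lm y (B.rm x s)
      iseqv := by
        refine ⟨fun x => ⟨1, one_mem _, 1, by rw [B.rm_one, B.lm_one]⟩, ?_, ?_⟩
        · rintro x x' ⟨y, hy, s, rfl⟩
          refine ⟨y⁻¹, inv_mem hy, s⁻¹, ?_⟩
          rw [← B.lm_rm, ← B.rm_mul, mul_inv_cancel, B.rm_one, ← B.lm_mul, inv_mul_cancel, B.lm_one]
        · rintro x x' x'' ⟨y, hy, s, rfl⟩ ⟨y', hy', s', rfl⟩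
          refine ⟨y' * y, mul_mem hy' hy, s * s', ?_⟩
          rw [B.rm_mul, ← B.lm_rm, B.lm_mul] }
  let rp : Quotient st → X := Quotient.out
  have hrp : ∀ x : X, ∃ y ∈ D.N b, ∃ s, x = B.lm y (B.rm (rp (Quotient.mk st x)) s) := fun x =>
    Quotient.exact (Quotient.out_eq (Quotient.mk st x))
  choose x₁ hx₁ hx₁' using fun o : Quotient st => hcore b hb (rp o)
  have hind : ∀ (o : Quotient st) (y y' : S) (s s' : S), y ∈ D.N b → y' ∈ D.N b →
      B.lm y (B.rm (rp o) s) = B.lm y' (B.rm (rp o) s') →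
      B.lm (D.ψ b y) (B.rm (x₁ o) s) = B.lm (D.ψ b y') (B.rm (x₁ o) s') := by
    intro o y y' s s' hy hy' h
    have h1 : B.lm (y'⁻¹ * y) (rp o) = B.rm (rp o) (s' * s⁻¹) := by
      have h2 : B.lm (y'⁻¹ * y) (B.rm (rp o) s) = B.rm (rp o) s' := by
        rw [B.lm_mul, h, ← B.lm_mul, inv_mul_cancel, B.lm_one]
      rw [B.rm_mul, ← h2, ← B.lm_rm, ← B.rm_mul, mul_inv_cancel, B.rm_one]
    have h3 := hx₁' o _ (mul_mem (inv_mem hy') hy) _ h1
    rw [D.hψmul b hb _ _ (inv_mem hy') hy, D.ψ_inv hb hy'] at h3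
    have h4 : B.lm (D.ψ b y) (x₁ o) = B.lm (D.ψ b y') (B.rm (x₁ o) (s' * s⁻¹)) := by
      rw [← h3, ← B.lm_mul]
      simp
    rw [B.lm_rm, h4, ← B.lm_rm, ← B.rm_mul]
    simp
  -- the map
  choose yy hyy ss hss using hrp
  let e₀ : X → X := fun x => B.lm (D.ψ b (yy x)) (B.rm (x₁ (Quotient.mk st x)) (ss x))
  have he₀ : ∀ (o : Quotient st) (y : S) (s : S), y ∈ D.N b →
      e₀ (B.lm y (B.rm (rp o) s)) = B.lm (D.ψ b y) (B.rm (x₁ o) s) := by
    intro o y s hy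
    have ho : Quotient.mk st (B.lm y (B.rm (rp o) s)) = o :=
      ((Quotient.out_eq o).symm.trans (Quotient.sound (show st.r _ _ from ⟨y, hy, s, rfl⟩))).symm
    have h1 := hss (B.lm y (B.rm (rp o) s))
    rw [ho] at h1
    show B.lm (D.ψ b (yy _)) (B.rm (x₁ (Quotient.mk st _)) (ss _)) = _
    rw [ho]
    exact hind o _ _ _ _ (hyy _) hy h1.symm
  have hxrep : ∀ x, x = B.lm (yy x) (B.rm (rp (Quotient.mk st x)) (ss x)) := hss
  have h1 : ∀ x v, e₀ (B.rm x v) = B.rm (e₀ x) v := by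
    intro x v
    have h2 : B.rm x v = B.lm (yy x) (B.rm (rp (Quotient.mk st x)) (ss x * v)) := by
      conv_lhs => rw [hxrep x]
      rw [← B.lm_rm, B.rm_mul]
    rw [h2, he₀ _ _ _ (hyy x), B.rm_mul, B.lm_rm]
  have h2 : ∀ x, B.p (e₀ x) = b * B.p x := by
    intro x
    show B.p (B.lm _ (B.rm _ _)) = _
    rw [B.p_lm, B.p_rm, hx₁, D.hψc b hb _ (hyy x)]
    conv_rhs => rw [hxrep x, B.p_lm, B.p_rm]
    group
  have h3 : ∀ y ∈ D.N b, ∀ x, e₀ (B.lm y x) = B.lm (D.ψ b y) (e₀ x) := by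
    intro y hy x
    have h4 : B.lm y x = B.lm (y * yy x) (B.rm (rp (Quotient.mk st x)) (ss x)) := by
      conv_lhs => rw [hxrep x]
      rw [B.lm_mul]
    rw [h4, he₀ _ _ _ (mul_mem hy (hyy x)), D.hψmul b hb _ _ hy (hyy x), B.lm_mul]
  have hinj : Function.Injective e₀ := by
    intro x x' h
    have h4 : B.p x = B.p x' := by
      have := congrArg B.p h
      rw [h2, h2] at this
      exact mul_left_cancel this
    obtain ⟨z, rfl⟩ := B.fib _ _ h4
    rw [h3 _ (D.j_mem_N b _), D.hψj b hb] at h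
    have h5 : (⟨b z, (centerMap b z).2⟩ : Subgroup.center Q) = 1 := B.free _ _ h.symm
    have h6 : b (z : Q) = 1 := congrArg Subtype.val h5
    have h7 : (z : Q) = 1 := by simpa using h6
    rw [h7, map_one, B.lm_one]
  have hbij := Finite.injective_iff_bijective.mp hinj
  let e : Equiv.Perm X := Equiv.ofBijective e₀ hbij
  have hE : e ∈ B.E := ⟨h1, b, hb, h2⟩
  refine ⟨⟨e, hE⟩, B.cbar_eq_of h2, fun y hy x => h3 y hy x⟩

/-- **Main construction**. -/
theorem exists_group [Finite X] {r : ℕ} [Fact r.Prime] (hZ : IsPGroup r (Subgroup.center Q))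
    (hidx : ¬ r ∣ (D.c.range.subgroupOf D.A).index) (hcore : B.Core) :
    ∃ (G : Type u) (_ : Group G) (_ : Finite G) (i : S →* G) (π : G →* MulAut Q),
      Function.Injective i ∧ (∀ s, π (i s) = D.c s) ∧ (∀ g, π g ∈ D.A) ∧
      (∀ g, π g = 1 → ∃ z : Subgroup.center Q, g = i (D.j z)) ∧
      (∀ g x, g * i (D.j x) * g⁻¹ = i (D.j (π g x))) ∧
      (∀ a ∈ D.A, ∃ g, π g = a ∧ ∀ y ∈ D.N a, g * i y * g⁻¹ = i (D.ψ a y)) := by
  classical
  have : Finite (Equiv.Perm X) := inferInstance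
  have hcop : (Nat.card (Subgroup.center Q)).Coprime (D.c.range.subgroupOf D.A).index := by
    obtain ⟨k, hk⟩ := IsPGroup.iff_card.mp hZ
    rw [hk]
    exact Nat.Coprime.pow_left k ((Nat.Prime.coprime_iff_not_dvd Fact.out).mpr hidx)
  refine ⟨↥B.E ⧸ (B.K.subgroupOf B.E), inferInstance, inferInstance,
    (QuotientGroup.mk' (B.K.subgroupOf B.E)).comp B.iE, QuotientGroup.lift _ B.cbar B.K_le_ker, ?_, ?_, ?_, ?_, ?_, ?_⟩
  · -- injectivity
    rw [injective_iff_map_eq_one]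
    intro s hs
    have h1 : B.iE s ∈ B.K.subgroupOf B.E := by
      have : (QuotientGroup.mk' (B.K.subgroupOf B.E)) (B.iE s) = 1 := hs
      rwa [QuotientGroup.mk'_apply, QuotientGroup.eq_one_iff] at this
    rw [Subgroup.mem_subgroupOf] at h1
    have h2 : D.c s = 1 := by
      rw [← B.cbar_iE]
      exact B.K_le_ker h1
    obtain ⟨z, rfl⟩ := D.hker s h2
    obtain ⟨h3, h4⟩ := B.mem_K_iff.mp h1
    have h5 : z ^ (D.c.range.subgroupOf D.A).index = 1 := by
      rw [← B.tau_lm z]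
      exact h4
    have h6 : z = 1 := by
      have := (powCoprime hcop).injective (a₁ := z) (a₂ := 1) (by simpa [powCoprime_apply] using h5)
      exact this
    rw [h6]
    simp
  · intro s
    exact B.cbar_iE s
  · intro g
    obtain ⟨e, rfl⟩ := QuotientGroup.mk_surjective g
    exact B.cbar_mem e
  · intro g hg
    obtain ⟨e, rfl⟩ := QuotientGroup.mk_surjective g
    have h1 : B.cbar e = 1 := hg
    have h2 := B.mem_Y_of_cbar h1
    obtain ⟨w, hw⟩ := (powCoprime hcop).surjective (B.tau ⟨e, h2⟩)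
    rw [powCoprime_apply] at hw
    refine ⟨w, ?_⟩
    show (QuotientGroup.mk e : ↥B.E ⧸ (B.K.subgroupOf B.E)) = QuotientGroup.mk (B.iE (D.j w))
    rw [QuotientGroup.eq, Subgroup.mem_subgroupOf]
    refine B.mem_K_iff.mpr ⟨?_, ?_⟩
    · exact B.Y.mul_mem (B.Y.inv_mem h2) (B.lmPerm_j_mem_Y w)
    · have h3 : B.tau ⟨_, B.Y.mul_mem (B.Y.inv_mem h2) (B.lmPerm_j_mem_Y w)⟩ =
          (B.tau ⟨e, h2⟩)⁻¹ * B.tau ⟨B.lmPerm (D.j w), B.lmPerm_j_mem_Y w⟩ := by
        rw [← map_inv, ← map_mul]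
        rfl
      have h4 := B.tau_lm w
      refine Eq.trans ?_ (h3.trans (by rw [h4, hw, inv_mul_cancel]))
      rfl
  · intro g x
    obtain ⟨e, rfl⟩ := QuotientGroup.mk_surjective g
    show (QuotientGroup.mk (e * B.iE (D.j x) * e⁻¹) : ↥B.E ⧸ (B.K.subgroupOf B.E)) =
      QuotientGroup.mk (B.iE (D.j (B.cbar e x)))
    congr 1
    apply Subtype.ext
    ext y
    show (e : Equiv.Perm X) (B.lm (D.j x) ((e : Equiv.Perm X)⁻¹ y)) = B.lm (D.j (B.cbar e x)) y
    rw [B.E_conj e.2.1 (B.cbar_spec e)]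
    rw [show (e : Equiv.Perm X) ((e : Equiv.Perm X)⁻¹ y) = y from (e : Equiv.Perm X).apply_symm_apply y]
  · intro a ha
    obtain ⟨e, he, he'⟩ := B.exists_e hcore ha
    refine ⟨QuotientGroup.mk e, he, fun y hy => ?_⟩
    show (QuotientGroup.mk (e * B.iE y * e⁻¹) : ↥B.E ⧸ (B.K.subgroupOf B.E)) = QuotientGroup.mk (B.iE (D.ψ a y))
    congr 1
    apply Subtype.ext
    ext x
    show (e : Equiv.Perm X) (B.lm y ((e : Equiv.Perm X)⁻¹ x)) = B.lm (D.ψ a y) x
    rw [he' y hy]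
    rw [show (e : Equiv.Perm X) ((e : Equiv.Perm X)⁻¹ x) = x from (e : Equiv.Perm X).apply_symm_apply x]

omit [Finite Q] in
theorem rm_inj {x : X} {s s' : S} (h : B.rm x s = B.rm x s') : s = s' := by
  have h1 : B.rm x (s' * s⁻¹) = x := by
    rw [B.rm_mul, ← h, ← B.rm_mul, mul_inv_cancel, B.rm_one]
  have h2 : D.c (s' * s⁻¹) = 1 := by
    have := congrArg B.p h1
    rw [B.p_rm] at this
    exact mul_left_cancel (a := B.p x) (by rw [this, mul_one])
  obtain ⟨z, hz⟩ := D.hker _ h2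
  have hq : B.lm (D.j (centerMap (B.p x) z)) x = x := by
    rw [B.lm_j]
    have h6 : (B.p x)⁻¹ ((centerMap (B.p x) z : Subgroup.center Q) : Q) = z := MulAut.inv_apply_self _ _ _
    rw [h6, ← hz, h1]
  have h3 := B.free _ _ hq
  have h4 : (B.p x) (z : Q) = 1 := congrArg Subtype.val h3
  have h5 : (z : Q) = 1 := by simpa using h4
  rw [h5, map_one] at hz
  exact (mul_inv_eq_one.mp hz).symm

omit [Finite Q] in
theorem exists_phi {x : X} {y : S} (hy : y ∈ D.N (B.p x)⁻¹) : ∃ s, B.lm y x = B.rm x s := by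
  obtain ⟨s, hs⟩ := hy
  have h1 : B.p (B.rm x s) = B.p (B.lm y x) := by
    rw [B.p_rm, hs, B.p_lm]
    group
  obtain ⟨z, hz⟩ := B.fib _ _ h1
  rw [hz, B.lm_rm, B.lm_j, ← B.rm_mul]
  exact ⟨_, rfl⟩

omit [Finite Q] in
theorem mem_of_phi {x : X} {y s : S} (h : B.lm y x = B.rm x s) : y ∈ D.N (B.p x)⁻¹ := by
  have h1 := congrArg B.p h
  rw [B.p_lm, B.p_rm] at h1
  refine ⟨s, ?_⟩
  rw [inv_inv, mul_assoc, h1]
  group

end Fin

end MBiset

namespace MData

variable {S Q : Type u} [Group S] [Group Q] (D : MData S Q)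

/-- Double cosets in `A`. -/
def dbl : Setoid D.A where
  r a a' := ∃ u v, (a' : MulAut Q) = D.c u * a * D.c v
  iseqv := by
    refine ⟨fun a => ⟨1, 1, by simp⟩, ?_, ?_⟩
    · rintro a a' ⟨u, v, h⟩
      refine ⟨u⁻¹, v⁻¹, ?_⟩
      rw [h, map_inv, map_inv]
      group
    · rintro a a' a'' ⟨u, v, h⟩ ⟨u', v', h'⟩
      refine ⟨u' * u, v * v', ?_⟩
      rw [h', h, map_mul, map_mul]
      group

/-- The double cosets. -/
abbrev Dc : Type u := Quotient D.dbl

/-- A representative of a double coset. -/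
noncomputable def rr (d : D.Dc) : MulAut Q := ((Quotient.out d : D.A) : MulAut Q)

theorem rr_mem (d : D.Dc) : D.rr d ∈ D.A := (Quotient.out d : D.A).2

theorem exists_rr (a : D.A) : ∃ u v, (a : MulAut Q) = D.c u * D.rr (Quotient.mk D.dbl a) * D.c v :=
  Quotient.exact (Quotient.out_eq (Quotient.mk D.dbl a))

theorem eq_of_rr {d d' : D.Dc} {u v : S} (h : D.rr d' = D.c u * D.rr d * D.c v) : d = d' := by
  rw [← Quotient.out_eq d, ← Quotient.out_eq d']
  exact Quotient.sound (show D.dbl.r _ _ from ⟨u, v, h⟩)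

/-- The relation defining the biset. -/
def trel : Setoid (D.Dc × S × S) where
  r x y := x.1 = y.1 ∧ ∃ t ∈ D.N (D.rr x.1), y.2.1 = x.2.1 * D.ψ (D.rr x.1) t ∧ y.2.2 = t⁻¹ * x.2.2
  iseqv := by
    refine ⟨fun x => ⟨rfl, 1, one_mem _, ?_, ?_⟩, ?_, ?_⟩
    · rw [D.ψ_one (D.rr_mem _), mul_one]
    · simp
    · rintro ⟨d, u, v⟩ ⟨d', u', v'⟩ ⟨h, t, ht, h1, h2⟩
      obtain rfl : d = d' := h
      refine ⟨rfl, t⁻¹, inv_mem ht, ?_, ?_⟩
      · show u = u' * D.ψ (D.rr d) t⁻¹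
        have h1' : u' = u * D.ψ (D.rr d) t := h1
        rw [h1', D.ψ_inv (D.rr_mem d) ht]
        group
      · show v = t⁻¹⁻¹ * v'
        have h2' : v' = t⁻¹ * v := h2
        rw [h2']
        group
    · rintro ⟨d, u, v⟩ ⟨d', u', v'⟩ ⟨d'', u'', v''⟩ ⟨h, t, ht, h1, h2⟩ ⟨h', t', ht', h1', h2'⟩
      obtain rfl : d = d' := h
      obtain rfl : d = d'' := h'
      have h1a : u' = u * D.ψ (D.rr d) t := h1
      have h2a : v' = t⁻¹ * v := h2
      have h1b : u'' = u' * D.ψ (D.rr d) t' := h1'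
      have h2b : v'' = t'⁻¹ * v' := h2'
      refine ⟨rfl, t * t', mul_mem ht ht', ?_, ?_⟩
      · show u'' = u * D.ψ (D.rr d) (t * t')
        rw [h1b, h1a, D.hψmul _ (D.rr_mem d) _ _ ht ht', mul_assoc]
      · show v'' = (t * t')⁻¹ * v
        rw [h2b, h2a]
        group

/-- The biset. -/
abbrev XX : Type u := Quotient D.trel

/-- Classes. -/
def xmk (d : D.Dc) (u v : S) : D.XX := Quotient.mk D.trel (d, u, v)

theorem xmk_eq_iff {d d' : D.Dc} {u v u' v' : S} : D.xmk d u v = D.xmk d' u' v' ↔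
    d = d' ∧ ∃ t ∈ D.N (D.rr d), u' = u * D.ψ (D.rr d) t ∧ v' = t⁻¹ * v := by
  constructor
  · intro h
    exact Quotient.exact h
  · intro h
    exact Quotient.sound h

/-- Left multiplication. -/
def lmX (s : S) : D.XX → D.XX :=
  Quotient.map (fun x => (x.1, s * x.2.1, x.2.2)) (by
    rintro ⟨d, u, v⟩ ⟨d', u', v'⟩ ⟨h, t, ht, h1, h2⟩
    refine ⟨h, t, ht, ?_, h2⟩
    have h1' : u' = u * D.ψ (D.rr d) t := h1
    show s * u' = s * u * D.ψ (D.rr d) t
    rw [h1', mul_assoc])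

/-- Right multiplication. -/
def rmX (x : D.XX) (s : S) : D.XX :=
  Quotient.map (fun x => (x.1, x.2.1, x.2.2 * s)) (by
    rintro ⟨d, u, v⟩ ⟨d', u', v'⟩ ⟨h, t, ht, h1, h2⟩
    refine ⟨h, t, ht, h1, ?_⟩
    have h2' : v' = t⁻¹ * v := h2
    show v' * s = t⁻¹ * (v * s)
    rw [h2', mul_assoc]) x

/-- The map to `A`. -/
noncomputable def pX : D.XX → MulAut Q :=
  Quotient.lift (fun x => D.c x.2.1 * D.rr x.1 * D.c x.2.2) (by
    rintro ⟨d, u, v⟩ ⟨d', u', v'⟩ ⟨h, t, ht, h1, h2⟩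
    obtain rfl : d = d' := h
    have h1' : u' = u * D.ψ (D.rr d) t := h1
    have h2' : v' = t⁻¹ * v := h2
    show D.c u * D.rr d * D.c v = D.c u' * D.rr d * D.c v'
    rw [h1', h2', map_mul, map_mul, map_inv, D.hψc _ (D.rr_mem d) t ht]
    group)

@[simp] theorem lmX_xmk (s : S) (d : D.Dc) (u v : S) : D.lmX s (D.xmk d u v) = D.xmk d (s * u) v := rfl
@[simp] theorem rmX_xmk (s : S) (d : D.Dc) (u v : S) : D.rmX (D.xmk d u v) s = D.xmk d u (v * s) := rfl
@[simp] theorem pX_xmk (d : D.Dc) (u v : S) : D.pX (D.xmk d u v) = D.c u * D.rr d * D.c v := rfl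

theorem xx_ind {P : D.XX → Prop} (h : ∀ d u v, P (D.xmk d u v)) (x : D.XX) : P x := by
  obtain ⟨⟨d, u, v⟩, rfl⟩ := Quotient.exists_rep x
  exact h d u v

/-- The biset structure. -/
noncomputable def biset : MBiset D D.XX where
  lm := D.lmX
  rm := D.rmX
  p := D.pX
  lm_one := D.xx_ind fun d u v => by simp
  lm_mul := fun s t => D.xx_ind fun d u v => by simp [mul_assoc]
  rm_one := D.xx_ind fun d u v => by simp
  rm_mul := fun x s t => by
    revert x
    exact D.xx_ind fun d u v => by simp [mul_assoc]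
  lm_rm := fun s x t => by
    revert x
    exact D.xx_ind fun d u v => by simp
  p_lm := fun s => D.xx_ind fun d u v => by simp [mul_assoc]
  p_rm := fun x s => by
    revert x
    exact D.xx_ind fun d u v => by simp [mul_assoc]
  p_mem := D.xx_ind fun d u v => by
    rw [pX_xmk]
    exact mul_mem (mul_mem (D.hcA u) (D.rr_mem d)) (D.hcA v)
  p_surj := fun a ha => by
    obtain ⟨u, v, h⟩ := D.exists_rr ⟨a, ha⟩
    exact ⟨D.xmk _ u v, h.symm⟩
  fib := by
    intro x x'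
    revert x
    refine D.xx_ind fun d u v => ?_
    revert x'
    refine D.xx_ind fun d' u' v' => ?_
    intro h
    rw [pX_xmk, pX_xmk] at h
    have hdd : d = d' := by
      apply D.eq_of_rr (u := u'⁻¹ * u) (v := v * v'⁻¹)
      rw [map_mul, map_mul, map_inv, map_inv]
      have : D.rr d' = (D.c u')⁻¹ * (D.c u' * D.rr d' * D.c v') * (D.c v')⁻¹ := by group
      rw [this, ← h]
      group
    subst hdd
    obtain ⟨y, hy⟩ : ∃ y, y = v' * v⁻¹ := ⟨_, rfl⟩
    have h1 : D.rr d * D.c y * (D.rr d)⁻¹ = D.c (u'⁻¹ * u) := by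
      rw [hy, map_mul, map_mul, map_inv, map_inv]
      have : D.rr d * (D.c v' * (D.c v)⁻¹) * (D.rr d)⁻¹ =
          (D.c u')⁻¹ * (D.c u' * D.rr d * D.c v') * (D.c v)⁻¹ * (D.rr d)⁻¹ := by group
      rw [this, ← h]
      group
    have hyN : y ∈ D.N (D.rr d) := by
      rw [mem_N, h1]
      exact ⟨_, rfl⟩
    have h2 : D.c (u' * D.ψ (D.rr d) y * u⁻¹) = 1 := by
      rw [map_mul, map_mul, D.hψc _ (D.rr_mem d) y hyN, h1, map_mul, map_inv, map_inv]
      group
    obtain ⟨z, hz⟩ := D.hker _ h2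
    refine ⟨z, ?_⟩
    rw [lmX_xmk, xmk_eq_iff]
    refine ⟨rfl, y, hyN, ?_, ?_⟩
    · rw [← hz]
      group
    · rw [hy]
      group
  free := by
    intro z x
    revert x
    refine D.xx_ind fun d u v => ?_
    intro h
    rw [lmX_xmk, xmk_eq_iff] at h
    obtain ⟨-, t, ht, h1, h2⟩ := h
    have h3 : t = 1 := by
      have : t⁻¹ = 1 := by simpa using h2
      simpa using this
    rw [h3, D.ψ_one (D.rr_mem d), mul_one] at h1
    have h4 : D.j z = 1 := by simpa using h1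
    exact Subtype.ext (D.hj (by show D.j (z : Q) = D.j 1; rw [h4, map_one]))
  lm_j := by
    intro q x
    revert x
    refine D.xx_ind fun d u v => ?_
    rw [lmX_xmk, rmX_xmk, pX_xmk, xmk_eq_iff]
    obtain ⟨q₁, hq₁⟩ : ∃ q₁, q₁ = (D.rr d)⁻¹ ((D.c u)⁻¹ q) := ⟨_, rfl⟩
    have hj1 : D.j q₁ ∈ D.N (D.rr d) := D.j_mem_N _ _
    refine ⟨rfl, (D.j q₁)⁻¹, inv_mem hj1, ?_, ?_⟩
    · rw [D.ψ_inv (D.rr_mem d) hj1, D.hψj _ (D.rr_mem d), hq₁, MulAut.apply_inv_self]
      have : D.j ((D.c u)⁻¹ q) = u⁻¹ * D.j q * u := by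
        rw [← map_inv, D.hc]
        group
      rw [this]
      group
    · have : D.j (((D.c u * D.rr d * D.c v)⁻¹) q) = v⁻¹ * D.j q₁ * v := by
        have h5 : ((D.c u * D.rr d * D.c v)⁻¹) q = (D.c v)⁻¹ q₁ := by
          rw [hq₁, mul_inv_rev, mul_inv_rev]
          rfl
        rw [h5, ← map_inv, D.hc]
        group
      rw [this]
      group

@[simp] theorem biset_lm : D.biset.lm = D.lmX := rfl
@[simp] theorem biset_rm : D.biset.rm = D.rmX := rfl
@[simp] theorem biset_p : D.biset.p = D.pX := rfl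

instance [Finite S] [Finite Q] : Finite D.XX := by
  have : Finite (MulAut Q) := inferInstance
  have : Finite D.A := inferInstance
  have : Finite D.Dc := Quotient.finite _
  exact Quotient.finite _

end MData

end Cfsg.Agent.H25
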