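import Cfsg.Agent.Lib.H25.InvC
import Cfsg.Agent.Lib.H25.RealS2
set_option autoImplicit false
set_option linter.style.haveILetI false

/-! Normal subsystems of the fusion system of a constrained group: group level. -/

namespace Cfsg.Agent.H25

open Cfsg Cfsg.FusionSystem

section Coprime
variable {X : Type*} [Group X]

theorem conj_pow_chain {y v w : X} (h1 : y * v * y⁻¹ = w * v) (h2 : y * w * y⁻¹ = w) (k : ℕ) :
    y ^ k * v * (y ^ k)⁻¹ = w ^ k * v := by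
  induction k with
  | zero => simp
  | succ n ih =>
    have hw : y * w ^ n * y⁻¹ = w ^ n := by
      have := conj_pow (a := y) (b := w) (i := n)
      rw [h2] at this
      exact this.symm
    calc y ^ (n + 1) * v * (y ^ (n + 1))⁻¹ = y * (y ^ n * v * (y ^ n)⁻¹) * y⁻¹ := by
          rw [pow_succ' y n]; group
      _ = y * (w ^ n * v) * y⁻¹ := by rw [ih]
      _ = (y * w ^ n * y⁻¹) * (y * v * y⁻¹) := by group
      _ = w ^ n * (w * v) := by rw [hw, h1]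
      _ = w ^ (n + 1) * v := by rw [pow_succ]; group

theorem chain_trivial {p : ℕ} [Fact p.Prime] {y v w : X} (hy : Nat.Coprime (orderOf y) p)
    (h1 : y * v * y⁻¹ = w * v) (h2 : y * w * y⁻¹ = w) (hw : ∃ n : ℕ, w ^ p ^ n = 1) : w = 1 := by
  have h3 := conj_pow_chain h1 h2 (orderOf y)
  rw [pow_orderOf_eq_one, one_mul, inv_one, mul_one] at h3
  have h4 : w ^ orderOf y = 1 := by
    have h9 : 1 * v = w ^ orderOf y * v := by rw [one_mul]; exact h3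
    exact (mul_right_cancel h9).symm
  obtain ⟨n, hn⟩ := hw
  have h5 : orderOf w ∣ orderOf y := orderOf_dvd_of_pow_eq_one h4
  have h6 : orderOf w ∣ p ^ n := orderOf_dvd_of_pow_eq_one hn
  have h7 : Nat.Coprime (orderOf y) (p ^ n) := Nat.Coprime.pow_right n hy
  have h8 : orderOf w ∣ 1 := by
    have := Nat.dvd_gcd h5 h6
    rwa [h7] at this
  exact orderOf_eq_one_iff.1 (Nat.dvd_one.1 h8)

/-- Decomposition of an element into powers of coprime and `p`-power order. -/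
theorem exists_parts {p : ℕ} [Fact p.Prime] [Finite X] (g : X) :
    ∃ m₁ m₂ : ℕ, g ^ m₁ * g ^ m₂ = g ∧ Nat.Coprime (orderOf (g ^ m₁)) p ∧ (∃ k : ℕ, (g ^ m₂) ^ p ^ k = 1) ∧
      ∀ r : ℕ, Nat.Coprime r p → r ∣ orderOf g → m₁ ≡ 1 [MOD r] := by
  have hp : p.Prime := Fact.out
  obtain ⟨e, b, hb, hg⟩ := Nat.exists_eq_pow_mul_and_not_dvd (orderOf_pos g).ne' p hp.ne_one
  have hb' : Nat.Coprime b p := ((Nat.Prime.coprime_iff_not_dvd hp).2 hb).symm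
  have hco : Nat.Coprime (p ^ e) b := (Nat.Coprime.pow_right e hb').symm
  obtain ⟨m₁, h10, h11⟩ := Nat.chineseRemainder hco 0 1
  obtain ⟨m₂, h21, h20⟩ := Nat.chineseRemainder hco 1 0
  refine ⟨m₁, m₂, ?_, ?_, ⟨e, ?_⟩, ?_⟩
  · rw [← pow_add]
    have h : m₁ + m₂ ≡ 1 [MOD orderOf g] := by
      rw [hg]
      refine (Nat.modEq_and_modEq_iff_modEq_mul hco).1 ⟨?_, ?_⟩
      · simpa using h10.add h21
      · simpa using h11.add h20
    have := pow_eq_pow_iff_modEq.2 h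
    rwa [pow_one] at this
  · have h1 : (g ^ m₁) ^ b = 1 := by
      rw [← pow_mul]
      apply orderOf_dvd_iff_pow_eq_one.1
      rw [hg]
      exact Nat.mul_dvd_mul ((Nat.modEq_zero_iff_dvd).1 h10) dvd_rfl
    exact Nat.Coprime.coprime_dvd_left (orderOf_dvd_of_pow_eq_one h1) hb'
  · rw [← pow_mul]
    apply orderOf_dvd_iff_pow_eq_one.1
    rw [hg, mul_comm]
    exact Nat.mul_dvd_mul ((Nat.modEq_zero_iff_dvd).1 h20) dvd_rfl
  · intro r hr hrg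
    rw [hg] at hrg
    have h1 : r ∣ b := by
      have hc : Nat.Coprime r (p ^ e) := Nat.Coprime.pow_right e hr
      exact hc.dvd_of_dvd_mul_left hrg
    exact h11.of_dvd h1

/-- A subgroup with no nontrivial elements of order prime to `p` is a `p`-group. -/
theorem isPGroup_of_no_coprime {p : ℕ} [Fact p.Prime] [Finite X] (N : Subgroup X)
    (h : ∀ y ∈ N, Nat.Coprime (orderOf y) p → y = 1) : IsPGroup p N := by
  intro y
  obtain ⟨m₁, m₂, e, hc, ⟨k, hk⟩, -⟩ := exists_parts (p := p) (y : X)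
  have h1 := h _ (N.pow_mem y.2 m₁) hc
  rw [h1, one_mul] at e
  refine ⟨k, Subtype.ext ?_⟩
  rw [e] at hk
  simpa using hk

end Coprime

section Ctx
variable {G : Type*} [Group G]

/-- `A = Q ∩ T`. -/
def nA (Q T : Subgroup G) : Subgroup G := Q ⊓ T
/-- `D = C_G(A)`. -/
def nD (Q T : Subgroup G) : Subgroup G := Subgroup.centralizer ((nA Q T : Subgroup G) : Set G)
/-- `Z = Z(A)`. -/
def nZ (Q T : Subgroup G) : Subgroup G := nA Q T ⊓ nD Q T
/-- `U = C_Q(A)`. -/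
def nU (Q T : Subgroup G) : Subgroup G := Q ⊓ nD Q T

/-- The stabilizer of the section `V/W`. -/
def stabSec (V W : Subgroup G) (hV : V.Normal) (hW : W.Normal) : Subgroup G where
  carrier := {g | ∀ v ∈ V, g * v * g⁻¹ * v⁻¹ ∈ W}
  mul_mem' := by
    intro a b ha hb v hv
    have h1 := hb v hv
    have h2 := ha v hv
    have h3 := hW.conj_mem _ h1 a
    have e : a * b * v * (a * b)⁻¹ * v⁻¹ = (a * (b * v * b⁻¹ * v⁻¹) * a⁻¹) * (a * v * a⁻¹ * v⁻¹) := by group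
    rw [e]
    exact W.mul_mem h3 h2
  one_mem' := by
    intro v _
    simp
  inv_mem' := by
    intro a ha v hv
    have hv' : a⁻¹ * v * a⁻¹⁻¹ ∈ V := hV.conj_mem _ hv _
    have h1 := ha _ hv'
    have h2 := W.inv_mem h1
    have e : a⁻¹ * v * a⁻¹⁻¹ * v⁻¹ = (a * (a⁻¹ * v * a⁻¹⁻¹) * a⁻¹ * (a⁻¹ * v * a⁻¹⁻¹)⁻¹)⁻¹ := by group
    rw [e]
    exact h2

theorem mem_stabSec {V W : Subgroup G} {hV : V.Normal} {hW : W.Normal} {g : G} :
    g ∈ stabSec V W hV hW ↔ ∀ v ∈ V, g * v * g⁻¹ * v⁻¹ ∈ W := Iff.rfl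

theorem stabSec_normal {V W : Subgroup G} {hV : V.Normal} {hW : W.Normal} : (stabSec V W hV hW).Normal := by
  constructor
  intro g hg x v hv
  have hv' : x⁻¹ * v * x⁻¹⁻¹ ∈ V := hV.conj_mem _ hv _
  have h1 := hW.conj_mem _ (hg _ hv') x
  have e : x * (g * (x⁻¹ * v * x⁻¹⁻¹) * g⁻¹ * (x⁻¹ * v * x⁻¹⁻¹)⁻¹) * x⁻¹ = x * g * x⁻¹ * v * (x * g * x⁻¹)⁻¹ * v⁻¹ := by group
  rwa [e] at h1

variable [Finite G] {p : ℕ} [Fact p.Prime]

/-- The group-level context. -/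
structure NCtx (p : ℕ) (S Q T : Subgroup G) : Prop where
  hQn : Q.Normal
  hQp : IsPGroup p Q
  hQS : Q ≤ S
  hTS : T ≤ S
  hG : Subgroup.centralizer (Q : Set G) ≤ Q
  hQmax : ∀ N : Subgroup G, N.Normal → IsPGroup p N → N ≤ Q
  hsc : ∀ t ∈ T, ∀ g, g * t * g⁻¹ ∈ S → g * t * g⁻¹ ∈ T

variable {S Q T : Subgroup G}

namespace NCtx

theorem S_norm (c : NCtx p S Q T) {s t : G} (hs : s ∈ S) (ht : t ∈ T) : s * t * s⁻¹ ∈ T :=
  c.hsc t ht s (S.mul_mem (S.mul_mem hs (c.hTS ht)) (S.inv_mem hs))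

theorem A_le_S (c : NCtx p S Q T) : nA Q T ≤ S := inf_le_left.trans c.hQS

theorem A_normal (c : NCtx p S Q T) : (nA Q T).Normal := by
  constructor
  intro a ha g
  have hQ : g * a * g⁻¹ ∈ Q := c.hQn.conj_mem _ ha.1 g
  exact ⟨hQ, c.hsc a ha.2 g (c.hQS hQ)⟩

theorem D_normal (c : NCtx p S Q T) : (nD Q T).Normal := by
  haveI := c.A_normal
  exact Subgroup.normal_centralizer

theorem Z_normal (c : NCtx p S Q T) : (nZ Q T).Normal := by
  haveI := c.A_normal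
  haveI := c.D_normal
  exact Subgroup.normal_inf_normal _ _

theorem U_normal (c : NCtx p S Q T) : (nU Q T).Normal := by
  haveI := c.hQn
  haveI := c.D_normal
  exact Subgroup.normal_inf_normal _ _

theorem Z_le_A : nZ Q T ≤ nA Q T := inf_le_left
theorem Z_le_D : nZ Q T ≤ nD Q T := inf_le_right
theorem U_le_Q : nU Q T ≤ Q := inf_le_left
theorem U_le_D : nU Q T ≤ nD Q T := inf_le_right
theorem A_le_Q : nA Q T ≤ Q := inf_le_left
theorem A_le_T : nA Q T ≤ T := inf_le_right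
theorem Z_le_U : nZ Q T ≤ nU Q T := fun _ h => ⟨A_le_Q h.1, h.2⟩

theorem mem_D {d : G} : d ∈ nD Q T ↔ ∀ a ∈ nA Q T, a * d = d * a := Subgroup.mem_centralizer_iff

theorem D_fix {d a : G} (hd : d ∈ nD Q T) (ha : a ∈ nA Q T) : d * a * d⁻¹ = a := by
  rw [← mem_D.1 hd a ha]
  group

theorem Z_fix {d z : G} (hd : d ∈ nD Q T) (hz : z ∈ nZ Q T) : d * z * d⁻¹ = z := D_fix hd hz.1

/-- `[T, U] ≤ Z`. -/
theorem TU (c : NCtx p S Q T) {t u : G} (ht : t ∈ T) (hu : u ∈ nU Q T) : t * u * t⁻¹ * u⁻¹ ∈ nZ Q T := by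
  have hQ : t * u * t⁻¹ * u⁻¹ ∈ Q := Q.mul_mem (c.hQn.conj_mem _ hu.1 t) (Q.inv_mem hu.1)
  have hT : t * u * t⁻¹ * u⁻¹ ∈ T := by
    have h1 := c.S_norm (c.hQS hu.1) (T.inv_mem ht)
    have e : t * u * t⁻¹ * u⁻¹ = t * (u * t⁻¹ * u⁻¹) := by group
    rw [e]
    exact T.mul_mem ht h1
  have hD : t * u * t⁻¹ * u⁻¹ ∈ nD Q T :=
    (nD Q T).mul_mem (c.D_normal.conj_mem _ hu.2 t) ((nD Q T).inv_mem hu.2)
  exact ⟨⟨hQ, hT⟩, hD⟩

/-- The main rigidity statement. -/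
theorem Y_eq_one (c : NCtx p S Q T) {y : G} (hy : Nat.Coprime (orderOf y) p)
    (h1 : ∀ q ∈ Q, y * q * y⁻¹ * q⁻¹ ∈ nU Q T) (h2 : ∀ u ∈ nU Q T, y * u * y⁻¹ * u⁻¹ ∈ nZ Q T)
    (h3 : ∀ z ∈ nZ Q T, y * z * y⁻¹ = z) : y = 1 := by
  have hpel : ∀ q ∈ Q, ∃ n : ℕ, q ^ p ^ n = 1 := by
    intro q hq
    obtain ⟨n, hn⟩ := c.hQp ⟨q, hq⟩
    exact ⟨n, by simpa using congrArg Subtype.val hn⟩
  have hU : ∀ u ∈ nU Q T, y * u * y⁻¹ = u := by
    intro u hu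
    have hw := h2 u hu
    have e : y * u * y⁻¹ = (y * u * y⁻¹ * u⁻¹) * u := by group
    have h4 := chain_trivial hy e (h3 _ hw) (hpel _ hw.1.1)
    rw [h4, one_mul] at e
    exact e
  have hQ : ∀ q ∈ Q, y * q * y⁻¹ = q := by
    intro q hq
    have hw := h1 q hq
    have e : y * q * y⁻¹ = (y * q * y⁻¹ * q⁻¹) * q := by group
    have h4 := chain_trivial hy e (hU _ hw) (hpel _ (U_le_Q hw))
    rw [h4, one_mul] at e
    exact e
  have hyQ : y ∈ Q := by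
    apply c.hG
    rw [Subgroup.mem_centralizer_iff]
    intro q hq
    have := hQ q hq
    calc q * y = (y * q * y⁻¹) * y := by rw [this]
      _ = y * q := by group
  obtain ⟨n, hn⟩ := hpel y hyQ
  have h5 : orderOf y ∣ p ^ n := orderOf_dvd_of_pow_eq_one hn
  have h6 : Nat.Coprime (orderOf y) (p ^ n) := Nat.Coprime.pow_right n hy
  have h7 : orderOf y = 1 := Nat.Coprime.eq_one_of_dvd h6 h5
  exact orderOf_eq_one_iff.1 h7

/-- Elements of `D` move `Q` into `U`. -/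
theorem D_Q (c : NCtx p S Q T) {y q : G} (hy : y ∈ nD Q T) (hq : q ∈ Q) : y * q * y⁻¹ * q⁻¹ ∈ nU Q T := by
  refine ⟨Q.mul_mem (c.hQn.conj_mem _ hq y) (Q.inv_mem hq), ?_⟩
  have e : y * q * y⁻¹ * q⁻¹ = y * (q * y⁻¹ * q⁻¹) := by group
  rw [e]
  exact (nD Q T).mul_mem hy (c.D_normal.conj_mem _ ((nD Q T).inv_mem hy) q)

/-- A coprime element of `D` acting trivially on `U/Z` is trivial. -/
theorem Y_D (c : NCtx p S Q T) {y : G} (hy : Nat.Coprime (orderOf y) p) (hyD : y ∈ nD Q T)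
    (h2 : ∀ u ∈ nU Q T, y * u * y⁻¹ * u⁻¹ ∈ nZ Q T) : y = 1 :=
  c.Y_eq_one hy (fun _ hq => c.D_Q hyD hq) h2 (fun _ hz => Z_fix hyD hz)

/-- `K = C_G(U/Z)`. -/
def nK (c : NCtx p S Q T) : Subgroup G := stabSec (nU Q T) (nZ Q T) c.U_normal c.Z_normal

theorem nK_normal (c : NCtx p S Q T) : c.nK.Normal := stabSec_normal

theorem T_le_K (c : NCtx p S Q T) : T ≤ c.nK := fun _ ht _ hu => c.TU ht hu

/-- Elements of `D ∩ K` lie in `U`. -/
theorem mem_U_of (c : NCtx p S Q T) {y : G} (hyD : y ∈ nD Q T) (hyK : y ∈ c.nK) : y ∈ nU Q T := by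
  haveI := c.D_normal
  haveI := c.nK_normal
  have hp : IsPGroup p ↥(nD Q T ⊓ c.nK) := isPGroup_of_no_coprime _ (fun x hx hco => c.Y_D hco hx.1 hx.2)
  have hle := c.hQmax _ (Subgroup.normal_inf_normal _ _) hp
  exact ⟨hle ⟨hyD, hyK⟩, hyD⟩

/-- `[T, D] ≤ Z`. -/
theorem TD (c : NCtx p S Q T) {t d : G} (ht : t ∈ T) (hd : d ∈ nD Q T) : d * t * d⁻¹ * t⁻¹ ∈ nZ Q T := by
  have hxD : d * t * d⁻¹ * t⁻¹ ∈ nD Q T := by
    have e : d * t * d⁻¹ * t⁻¹ = d * (t * d⁻¹ * t⁻¹) := by group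
    rw [e]
    exact (nD Q T).mul_mem hd (c.D_normal.conj_mem _ ((nD Q T).inv_mem hd) t)
  have hxK : d * t * d⁻¹ * t⁻¹ ∈ c.nK :=
    c.nK.mul_mem (c.nK_normal.conj_mem _ (c.T_le_K ht) d) (c.nK.inv_mem (c.T_le_K ht))
  have hxU := c.mem_U_of hxD hxK
  have hS : d * t * d⁻¹ ∈ S := by
    have e : d * t * d⁻¹ = (d * t * d⁻¹ * t⁻¹) * t := by group
    rw [e]
    exact S.mul_mem (c.hQS hxU.1) (c.hTS ht)
  have hT := c.hsc t ht d hS
  exact ⟨⟨hxU.1, T.mul_mem hT (T.inv_mem ht)⟩, hxD⟩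

/-- `C_T(A) = Z`. -/
theorem T_D (c : NCtx p S Q T) {t : G} (ht : t ∈ T) (hd : t ∈ nD Q T) : t ∈ nZ Q T := by
  have h := c.mem_U_of hd (c.T_le_K ht)
  exact ⟨⟨h.1, ht⟩, hd⟩

end NCtx

end Ctx

end Cfsg.Agent.H25
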