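import Cfsg.Agent.Lib.H25.NS1
set_option autoImplicit false
set_option linter.style.haveILetI false

/-! Normal subsystems of the fusion system of a constrained group: the subgroup `H₁`. -/

namespace Cfsg.Agent.H25

open Cfsg Cfsg.FusionSystem

section E
variable {G : Type*} [Group G] [Finite G] {p : ℕ} [Fact p.Prime] {S : Sylow p G} {Q T : Subgroup G} {E : FusionSystem T}

/-- Conjugation as a function. -/
def cj (g : G) : G → G := fun x => g * x * g⁻¹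

theorem cj_apply (g x : G) : cj g x = g * x * g⁻¹ := rfl

theorem mp_F_cj {Y : Subgroup G} {g : G} (hY : Y ≤ (S : Subgroup G)) (h : ∀ y ∈ Y, g * y * g⁻¹ ∈ (S : Subgroup G)) :
    Mp (groupFusionSystem (S : Subgroup G)) Y (cj g) :=
  ⟨conjHom Y g, ⟨hY, fun x => h x x.2, g, fun _ => rfl⟩, fun _ => rfl⟩

theorem exists_of_mp_F {Y : Subgroup G} {f : G → G} (h : Mp (groupFusionSystem (S : Subgroup G)) Y f) :
    ∃ g, ∀ y ∈ Y, f y = g * y * g⁻¹ := by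
  obtain ⟨φ, ⟨-, -, g, hg⟩, hf⟩ := h
  refine ⟨g, fun y hy => ?_⟩
  rw [← hf ⟨y, hy⟩, hg]

/-- The strong closure in group terms. -/
theorem sc_of_inv (hI : E.IsInvariantIn (groupFusionSystem (S : Subgroup G))) {t g : G} (ht : t ∈ T)
    (h : g * t * g⁻¹ ∈ (S : Subgroup G)) : g * t * g⁻¹ ∈ T := by
  have hR : Subgroup.zpowers t ≤ T := by
    rw [Subgroup.zpowers_le]
    exact ht
  have hRS : Subgroup.zpowers t ≤ (S : Subgroup G) := hR.trans hI.2.1.1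
  have hm : Mp (groupFusionSystem (S : Subgroup G)) (Subgroup.zpowers t) (cj g) := by
    refine mp_F_cj hRS ?_
    rintro _ ⟨n, rfl⟩
    have e : g * t ^ n * g⁻¹ = (g * t * g⁻¹) ^ n := by rw [conj_zpow]
    simp only
    rw [e]
    exact Subgroup.zpow_mem _ h n
  obtain ⟨φ, hφ, hf⟩ := hm
  have h1 := hI.2.1.2 _ hR φ hφ ⟨t, Subgroup.mem_zpowers t⟩
  rwa [hf] at h1

/-- The context from the hypotheses of the theorem. -/
theorem mkCtx (hI : E.IsInvariantIn (groupFusionSystem (S : Subgroup G)))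
    (hG : Subgroup.centralizer ((pCore p G : Subgroup G) : Set G) ≤ pCore p G) : NCtx p (S : Subgroup G) (pCore p G) T where
  hQn := Cfsg.Agent.H01.pCore_normal p
  hQp := Cfsg.Agent.H01.pCore_isPGroup p
  hQS := Cfsg.Agent.H01.pCore_le_sylow p S
  hTS := hI.2.1.1
  hG := hG
  hQmax := fun _ hN hp => Cfsg.Agent.H01.le_pCore hN hp
  hsc := fun _ ht _ h => sc_of_inv hI ht h

theorem mp_cj_inv {Y : Subgroup G} {g : G} (h : Mp E Y (cj g)) (hm : ∀ y ∈ Y, g * y * g⁻¹ ∈ Y) : Mp E Y (cj g⁻¹) := by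
  haveI : Finite Y := inferInstance
  obtain ⟨k, hk, -, h2⟩ := (Iso.of_maps h hm).inv
  refine hk.mp.congr fun y hy => ?_
  have h3 : g * k y * g⁻¹ = y := h2 y hy
  show k y = g⁻¹ * y * g⁻¹⁻¹
  calc k y = g⁻¹ * (g * k y * g⁻¹) * g := by group
    _ = g⁻¹ * y * g := by rw [h3]
    _ = g⁻¹ * y * g⁻¹⁻¹ := by group

theorem mp_cj_mul {Y : Subgroup G} {g h : G} (hg : Mp E Y (cj g)) (hm : ∀ y ∈ Y, g * y * g⁻¹ ∈ Y) (hh : Mp E Y (cj h)) :
    Mp E Y (cj (h * g)) := by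
  refine (hg.comp hm hh).congr fun y _ => ?_
  show h * (g * y * g⁻¹) * h⁻¹ = (h * g) * y * (h * g)⁻¹
  group

theorem mp_cj_one {Y : Subgroup G} (hY : Y ≤ T) : Mp E Y (cj (1 : G)) :=
  (Mp.id hY).congr fun y _ => by simp [cj]

/-- Invariance under `N_G(T)`. -/
theorem inv_norm (hI : E.IsInvariantIn (groupFusionSystem (S : Subgroup G))) {n g : G} (hn : n ∈ Subgroup.normalizer (T : Set G))
    {P P' : Subgroup G} (hPT : P ≤ T) (hP' : ∀ y, y ∈ P' ↔ n⁻¹ * y * n ∈ P) (h : Mp E P (cj g)) :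
    Mp E P' (cj (n * g * n⁻¹)) := by
  have hTS : T ≤ (S : Subgroup G) := hI.2.1.1
  let α : MulAut T := Cfsg.Agent.H24.autOfNormalizer T hn
  have hαv : ∀ x : T, ((α x : T) : G) = n * x * n⁻¹ := fun _ => rfl
  have hα : α ∈ (groupFusionSystem (S : Subgroup G)).autGroup T :=
    mem_autGroup_of_mp (mp_F_cj (g := n) hTS (fun y hy => hTS (conj_mem_of_normalizer hn hy))) hαv
  obtain ⟨φ, hφ, hφf⟩ := h
  obtain ⟨χ, hχ, hχv⟩ := hI.2.2.1 P hPT φ hφ α hα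
  have e : (P.subgroupOf T).map (T.subtype.comp α.toMonoidHom) = P' := by
    ext y
    constructor
    · rintro ⟨x, hx, rfl⟩
      refine (hP' _).2 ?_
      have hx' : (x : G) ∈ P := hx
      have e2 : n⁻¹ * (n * (x : G) * n⁻¹) * n = x := by group
      show n⁻¹ * (n * (x : G) * n⁻¹) * n ∈ P
      rwa [e2]
    · intro hy
      have h1 := (hP' y).1 hy
      refine ⟨⟨_, hPT h1⟩, h1, ?_⟩
      show n * (n⁻¹ * y * n) * n⁻¹ = y
      group
  subst e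
  refine ⟨χ, hχ, ?_⟩
  rintro ⟨_, x, hx, rfl⟩
  have hx' : (x : G) ∈ P := hx
  have hφx : φ ⟨x, hx'⟩ ∈ T := by
    rw [hφf ⟨x, hx'⟩]
    have h2 := (mp_of_mem hφ).mem hx'
    rw [toFun_coe φ ⟨x, hx'⟩, hφf ⟨x, hx'⟩] at h2
    exact h2
  have h3 := hχv ⟨x, hx'⟩ hφx ⟨x, hx, rfl⟩
  show χ ⟨_, _⟩ = (n * g * n⁻¹) * (n * (x : G) * n⁻¹) * (n * g * n⁻¹)⁻¹
  refine h3.trans ?_
  rw [hαv]
  have e3 : (((⟨φ ⟨x, hx'⟩, hφx⟩ : T) : G)) = g * (x : G) * g⁻¹ := hφf ⟨x, hx'⟩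
  rw [e3]
  group

/-- The Frattini condition in group terms. -/
theorem exists_frat (hI : E.IsInvariantIn (groupFusionSystem (S : Subgroup G))) {A : Subgroup G} (hAT : A ≤ T) {x : G}
    (hA : ∀ a ∈ A, x * a * x⁻¹ ∈ A) : ∃ n ∈ Subgroup.normalizer (T : Set G), Mp E A (cj (n⁻¹ * x)) := by
  have hTS : T ≤ (S : Subgroup G) := hI.2.1.1
  obtain ⟨φ, hφ, hφf⟩ := mp_F_cj (S := S) (g := x) (hAT.trans hTS) (fun a ha => hTS (hAT (hA a ha)))
  obtain ⟨α, hα, φ₀, hφ₀, h⟩ := hI.2.2.2 A hAT φ hφ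
  obtain ⟨n, hn⟩ := exists_of_mp_F (Mp.of_mem_autGroup hTS hα)
  have hn' : ∀ t : T, ((α t : T) : G) = n * t * n⁻¹ := by
    intro t
    have := hn t t.2
    rwa [toFun_aut] at this
  refine ⟨n, normalizer_of_aut hn', (mp_of_mem hφ₀).congr fun a ha => ?_⟩
  have hv : φ₀ ⟨a, ha⟩ ∈ T := by
    have := (mp_of_mem hφ₀).mem ha
    rwa [toFun_coe φ₀ ⟨a, ha⟩] at this
  have h1 := h ⟨a, ha⟩ hv
  rw [hφf ⟨a, ha⟩, hn'] at h1
  rw [toFun_coe φ₀ ⟨a, ha⟩]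
  have h2 : x * a * x⁻¹ = n * φ₀ ⟨a, ha⟩ * n⁻¹ := h1
  show φ₀ ⟨a, ha⟩ = (n⁻¹ * x) * a * (n⁻¹ * x)⁻¹
  have e : (n⁻¹ * x) * a * (n⁻¹ * x)⁻¹ = n⁻¹ * (x * a * x⁻¹) * n := by group
  rw [e, h2]
  group

namespace NCtx

variable (c : NCtx p (S : Subgroup G) Q T) (hI : E.IsInvariantIn (groupFusionSystem (S : Subgroup G)))

include c in
theorem A_conj (x a : G) (ha : a ∈ nA Q T) : x * a * x⁻¹ ∈ nA Q T := c.A_normal.conj_mem _ ha x

include c hI in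
/-- `Aut_E(A)` is normal in the image of `G`. -/
theorem B_conj {g : G} (h : Mp E (nA Q T) (cj g)) (x : G) : Mp E (nA Q T) (cj (x * g * x⁻¹)) := by
  obtain ⟨n, hn, he⟩ := exists_frat hI A_le_T (fun a ha => c.A_conj x a ha)
  obtain ⟨e, rfl⟩ : ∃ e, x = n * e := ⟨n⁻¹ * x, by group⟩
  have e1 : n⁻¹ * (n * e) = e := by group
  rw [e1] at he
  have hinv := mp_cj_inv he (fun a ha => c.A_conj e a ha)
  have h1 := mp_cj_mul hinv (fun a ha => c.A_conj e⁻¹ a ha) h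
  have h2 := mp_cj_mul (h := e) h1 (fun a ha => by
    have : (g * e⁻¹) * a * (g * e⁻¹)⁻¹ = g * (e⁻¹ * a * e⁻¹⁻¹) * g⁻¹ := by group
    show (g * e⁻¹) * a * (g * e⁻¹)⁻¹ ∈ nA Q T
    rw [this]
    exact c.A_conj g _ (c.A_conj e⁻¹ a ha)) he
  have h3 := inv_norm hI hn A_le_T (P' := nA Q T) (fun y => ⟨fun hy => by
    have := c.A_conj n⁻¹ y hy
    simpa using this, fun hy => by
    have := c.A_conj n _ hy
    have e2 : n * (n⁻¹ * y * n) * n⁻¹ = y := by group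
    rwa [e2] at this⟩) h2
  have e3 : n * (e * (g * e⁻¹)) * n⁻¹ = n * e * g * (n * e)⁻¹ := by group
  rwa [e3] at h3

include c hI in
/-- The carrier of `H₁` is a subgroup. -/
theorem H1_mul {a b : G} (ha : Mp E (nA Q T) (cj a)) (hb : Mp E (nA Q T) (cj b)) : Mp E (nA Q T) (cj (a * b)) :=
  mp_cj_mul hb (fun y hy => c.A_conj b y hy) ha

/-- The subgroup `H₁`. -/
def nH1 (c : NCtx p (S : Subgroup G) Q T) (E : FusionSystem T) (hI : E.IsInvariantIn (groupFusionSystem (S : Subgroup G))) : Subgroup G where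
  carrier := {g | Mp E (nA Q T) (cj g) ∧ g ∈ stabSec (nD Q T) (nZ Q T) c.D_normal c.Z_normal}
  mul_mem' := fun ha hb => ⟨c.H1_mul hI ha.1 hb.1, Subgroup.mul_mem _ ha.2 hb.2⟩
  one_mem' := ⟨mp_cj_one A_le_T, Subgroup.one_mem _⟩
  inv_mem' := fun ha => ⟨mp_cj_inv ha.1 (fun y hy => c.A_conj _ y hy), Subgroup.inv_mem _ ha.2⟩

theorem mem_nH1 {g : G} : g ∈ c.nH1 E hI ↔ Mp E (nA Q T) (cj g) ∧ ∀ d ∈ nD Q T, g * d * g⁻¹ * d⁻¹ ∈ nZ Q T := Iff.rfl

theorem nH1_normal : (c.nH1 E hI).Normal := by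
  constructor
  intro g hg x
  exact ⟨c.B_conj hI hg.1 x, stabSec_normal.conj_mem _ hg.2 x⟩

theorem T_le_H1 : T ≤ c.nH1 E hI := by
  intro t ht
  refine ⟨Mp.conj A_le_T ht, fun d hd => ?_⟩
  have h1 := (nZ Q T).inv_mem (c.TD ht hd)
  have e : (d * t * d⁻¹ * t⁻¹)⁻¹ = t * d * t⁻¹ * d⁻¹ := by group
  rwa [e] at h1

theorem W_isP : IsPGroup p ↥(c.nH1 E hI ⊓ nD Q T) :=
  isPGroup_of_no_coprime _ (fun _ hy hco => c.Y_D hco hy.2 (fun u hu => hy.1.2 u (U_le_D hu)))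

theorem W_le_U : c.nH1 E hI ⊓ nD Q T ≤ nU Q T := by
  haveI := c.nH1_normal hI
  haveI := c.D_normal
  intro y hy
  exact ⟨c.hQmax _ (Subgroup.normal_inf_normal _ _) (c.W_isP hI) hy, hy.2⟩

end NCtx

/-- A `p`-element of `Aut_E(A)` normalizing `Aut_T(A)` lies in it. -/
theorem mem_autInduced_of_pelt {A : Subgroup G} (hauto : E.IsFullyAutomized p A) {α : MulAut A} (hα : α ∈ E.autGroup A)
    (hpe : ∃ k : ℕ, α ^ p ^ k = 1) (hn : ∀ r ∈ autInducedBy T A, α * r * α⁻¹ ∈ autInducedBy T A)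
    (hn' : ∀ r ∈ autInducedBy T A, α⁻¹ * r * α ∈ autInducedBy T A) : α ∈ autInducedBy T A := by
  classical
  haveI : Finite A := inferInstance
  haveI : Finite (MulAut A) := MulEquiv.finite_left
  obtain ⟨-, D, hD⟩ := hauto
  let α' : E.autGroup A := ⟨α, hα⟩
  have hp₁ : IsPGroup p (Subgroup.zpowers α') := by
    obtain ⟨k, hk⟩ := hpe
    have h1 : α' ^ p ^ k = 1 := Subtype.ext hk
    refine IsPGroup.of_card (n := (orderOf α').factorization p) ?_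
    rw [Nat.card_zpowers]
    obtain ⟨j, -, hj⟩ := (Nat.dvd_prime_pow Fact.out).1 (orderOf_dvd_of_pow_eq_one h1)
    rw [hj, Nat.Prime.factorization_pow Fact.out]
    simp
  have hle : Subgroup.zpowers α' ≤ Subgroup.normalizer ((D : Subgroup (E.autGroup A)) : Set (E.autGroup A)) := by
    rw [Subgroup.zpowers_le]
    apply mem_normalizer_of_conj
    · intro r hr
      have hr' : r ∈ (D : Subgroup (E.autGroup A)) := hr
      rw [hD] at hr' ⊢
      exact hn _ hr'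
    · intro r hr
      have hr' : r ∈ (D : Subgroup (E.autGroup A)) := hr
      rw [hD] at hr' ⊢
      exact hn' _ hr'
  have hpD : IsPGroup p ↥((D : Subgroup (E.autGroup A)) ⊔ Subgroup.zpowers α') :=
    IsPGroup.to_sup_of_normal_left' D.isPGroup' hp₁ hle
  have hmax := D.3 hpD le_sup_left
  have h1 : α' ∈ (D : Subgroup (E.autGroup A)) := by
    rw [← hmax]
    exact Subgroup.mem_sup_right (Subgroup.mem_zpowers _)
  rw [hD] at h1
  exact h1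

end E

end Cfsg.Agent.H25
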