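import Cfsg.Agent.Lib.H24.FusGroup4
import Cfsg.Agent.Lib.H24.ModBasic
set_option autoImplicit false
set_option linter.style.haveILetI false

/-! The fusion system of a normal subgroup, through a realization. -/

namespace Cfsg.Agent.H25

open Cfsg Cfsg.FusionSystem

section
variable {Ω : Type*} [Group Ω] {T : Subgroup Ω} {H : Type*} [Group H]

/-- The fusion system over `T` realized by an injective homomorphism. -/
def realSys (ι : T →* H) (hι : Function.Injective ι) : FusionSystem T where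
  Hom P := {φ | ∃ hP : P ≤ T, ∃ hv : ∀ x : P, φ x ∈ T, ∃ g : H, ∀ x : P, ι ⟨φ x, hv x⟩ = g * ι ⟨x, hP x.2⟩ * g⁻¹}
  le_of_mem := by
    rintro P φ ⟨hP, hv, -⟩
    exact ⟨hP, hv⟩
  injective_of_mem := by
    rintro P φ ⟨hP, hv, g, hg⟩ a b hab
    have h0 : (⟨φ a, hv a⟩ : T) = ⟨φ b, hv b⟩ := Subtype.ext hab
    have h1 : ι ⟨φ a, hv a⟩ = ι ⟨φ b, hv b⟩ := by rw [h0]
    rw [hg, hg] at h1
    have h2 := hι (mul_left_cancel (mul_right_cancel h1))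
    have h3 : (a : Ω) = (b : Ω) := Subtype.mk.inj h2
    exact Subtype.ext h3
  conj_mem := by
    intro P g hP hg
    refine ⟨hP, fun x => T.mul_mem (T.mul_mem hg (hP x.2)) (T.inv_mem hg), ι ⟨g, hg⟩, fun x => ?_⟩
    rw [← map_inv, ← map_mul, ← map_mul]
    rfl
  comp_mem := by
    rintro P Q φ ψ ⟨hP, hφT, g, hg⟩ ⟨hQ, hψT, k, hk⟩ h
    refine ⟨hP, fun x => hψT _, k * g, fun x => ?_⟩
    have e := hk (φ.codRestrict Q h x)
    have e2 := hg x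
    show ι ⟨ψ (φ.codRestrict Q h x), hψT _⟩ = _
    rw [e]
    have e3 : ι ⟨((φ.codRestrict Q h x : Q) : Ω), hQ (φ.codRestrict Q h x).2⟩ = ι ⟨φ x, hφT x⟩ := rfl
    rw [e3, e2]
    group
  inv_mem := by
    rintro P φ ⟨hP, hφT, g, hg⟩
    have hinj : Function.Injective φ := by
      intro a b hab
      have h0 : (⟨φ a, hφT a⟩ : T) = ⟨φ b, hφT b⟩ := Subtype.ext hab
      have h1 : ι ⟨φ a, hφT a⟩ = ι ⟨φ b, hφT b⟩ := by rw [h0]
      rw [hg, hg] at h1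
      have h2 := hι (mul_left_cancel (mul_right_cancel h1))
      have h3 : (a : Ω) = (b : Ω) := Subtype.mk.inj h2
      exact Subtype.ext h3
    let e : P ≃* φ.range := MonoidHom.ofInjective hinj
    have he : ∀ x : P, e.symm ⟨φ x, ⟨x, rfl⟩⟩ = x := fun x => by
      have : (⟨φ x, ⟨x, rfl⟩⟩ : φ.range) = e x := rfl
      rw [this, MulEquiv.symm_apply_apply]
    refine ⟨P.subtype.comp e.symm.toMonoidHom, ⟨?_, fun y => hP (e.symm y).2, g⁻¹, ?_⟩, fun x => ?_⟩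
    · rintro _ ⟨x, rfl⟩
      exact hφT x
    · rintro ⟨_, x, rfl⟩
      have e1 : (⟨(P.subtype.comp e.symm.toMonoidHom) ⟨φ x, ⟨x, rfl⟩⟩, hP (e.symm ⟨φ x, ⟨x, rfl⟩⟩).2⟩ : T) = ⟨x, hP x.2⟩ := by
        apply Subtype.ext
        show ((e.symm ⟨φ x, ⟨x, rfl⟩⟩ : P) : Ω) = x
        rw [he]
      rw [e1]
      show _ = g⁻¹ * ι ⟨φ x, hφT x⟩ * g⁻¹⁻¹
      rw [hg]
      group
    · show ((e.symm ⟨φ x, ⟨x, rfl⟩⟩ : P) : Ω) = x
      rw [he]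

theorem realSys_realized (ι : T →* H) (hι : Function.Injective ι) : (realSys ι hι).IsRealizedBy ι := by
  refine ⟨hι, fun P hP φ hφ => ⟨?_, ?_⟩⟩
  · rintro ⟨_, _, g, hg⟩
    exact ⟨g, hg⟩
  · rintro ⟨g, hg⟩
    exact ⟨hP, hφ, g, hg⟩

end

section
universe u v
variable {Ω : Type u} [Group Ω] {S : Subgroup Ω} {G : Type v} [Group G] (ι : S →* G)

/-- The part of `S` mapping into `N`. -/
def ttN (N : Subgroup G) : Subgroup Ω := (N.comap ι).map S.subtype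

variable {ι}

theorem mem_ttN {N : Subgroup G} {x : Ω} : x ∈ ttN ι N ↔ ∃ hx : x ∈ S, ι ⟨x, hx⟩ ∈ N := by
  constructor
  · rintro ⟨y, hy, rfl⟩
    exact ⟨y.2, hy⟩
  · rintro ⟨hx, h⟩
    exact ⟨⟨x, hx⟩, h, rfl⟩

theorem ttN_le {N : Subgroup G} : ttN ι N ≤ S := fun _ h => (mem_ttN.1 h).1

variable (ι)

/-- The realization of the part over `N`. -/
def iotaN (N : Subgroup G) : ttN ι N →* N :=
  (ι.comp (Subgroup.inclusion ttN_le)).codRestrict N (fun x => (mem_ttN.1 x.2).2)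

variable {ι}

theorem iotaN_coe {N : Subgroup G} (x : ttN ι N) : ((iotaN ι N x : N) : G) = ι ⟨x, ttN_le x.2⟩ := rfl

theorem iotaN_inj (hι : Function.Injective ι) (N : Subgroup G) : Function.Injective (iotaN ι N) := by
  intro a b hab
  have h1 : ι ⟨a, ttN_le a.2⟩ = ι ⟨b, ttN_le b.2⟩ := by
    rw [← iotaN_coe, ← iotaN_coe, hab]
  have h3 : (a : Ω) = (b : Ω) := Subtype.mk.inj (hι h1)
  exact Subtype.ext h3

/-- The system of `N` through `ι`. -/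
def EN (hι : Function.Injective ι) (N : Subgroup G) : FusionSystem (ttN ι N) :=
  realSys (iotaN ι N) (iotaN_inj hι N)

theorem EN_hom_of {hι : Function.Injective ι} {N : Subgroup G} {P : Subgroup Ω} {φ : P →* Ω} (hP : P ≤ ttN ι N)
    (hv : ∀ x : P, φ x ∈ ttN ι N) {g : G} (hg : g ∈ N)
    (h : ∀ x : P, ι ⟨φ x, ttN_le (hv x)⟩ = g * ι ⟨x, ttN_le (hP x.2)⟩ * g⁻¹) : φ ∈ (EN hι N).Hom P := by
  refine ⟨hP, hv, ⟨g, hg⟩, fun x => Subtype.ext ?_⟩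
  exact h x

theorem EN_hom {hι : Function.Injective ι} {N : Subgroup G} {P : Subgroup Ω} {φ : P →* Ω}
    (h : φ ∈ (EN hι N).Hom P) : ∃ (hP : P ≤ ttN ι N) (hv : ∀ x : P, φ x ∈ ttN ι N), ∃ g ∈ N,
      ∀ x : P, ι ⟨φ x, ttN_le (hv x)⟩ = g * ι ⟨x, ttN_le (hP x.2)⟩ * g⁻¹ := by
  obtain ⟨hP, hv, g, hg⟩ := h
  exact ⟨hP, hv, g, g.2, fun x => congrArg Subtype.val (hg x)⟩

/-- Building an automorphism from a conjugation. -/
theorem exists_aut_of_conj (hι : Function.Injective ι) {V : Subgroup Ω} (hV : V ≤ S) (g : G)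
    (h1 : ∀ x (hx : x ∈ V), ∃ y, ∃ hy : y ∈ V, ι ⟨y, hV hy⟩ = g * ι ⟨x, hV hx⟩ * g⁻¹)
    (h2 : ∀ x (hx : x ∈ V), ∃ y, ∃ hy : y ∈ V, ι ⟨y, hV hy⟩ = g⁻¹ * ι ⟨x, hV hx⟩ * g) :
    ∃ α : MulAut V, ∀ x : V, ι ⟨α x, hV (α x).2⟩ = g * ι ⟨x, hV x.2⟩ * g⁻¹ := by
  let f : V →* G := ι.comp (Subgroup.inclusion hV)
  have hf : Function.Injective f := hι.comp (Subgroup.inclusion_injective hV)
  let e : V ≃* f.range := MonoidHom.ofInjective hf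
  have hg : g ∈ Subgroup.normalizer ((f.range : Subgroup G) : Set G) := by
    refine Cfsg.Agent.H24.mem_normalizer_of_forall ?_ ?_
    · rintro _ ⟨x, rfl⟩
      obtain ⟨y, hy, e1⟩ := h1 x x.2
      exact ⟨⟨y, hy⟩, e1⟩
    · rintro _ ⟨x, rfl⟩
      obtain ⟨y, hy, e1⟩ := h2 x x.2
      exact ⟨⟨y, hy⟩, e1⟩
  refine ⟨e.trans ((Cfsg.Agent.H24.autOfNormalizer _ hg).trans e.symm), fun x => ?_⟩
  have e1 : ∀ w : V, ι ⟨w, hV w.2⟩ = ((e w : f.range) : G) := fun _ => rfl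
  rw [e1, e1]
  simp

section norm
variable [Finite G] {p : ℕ} [Fact p.Prime] {F : FusionSystem S} {R : Sylow p G}

theorem EN_realized (hι : Function.Injective ι) (N : Subgroup G) : (EN hι N).IsRealizedBy (iotaN ι N) :=
  realSys_realized _ _

theorem EN_sylow (R : Sylow p G) (hR : (R : Subgroup G) = ι.range) (N : Subgroup G) [hN : N.Normal] :
    ∃ T : Sylow p N, (T : Subgroup N) = (iotaN ι N).range := by
  obtain ⟨D, hD⟩ := Cfsg.Agent.H24.exists_sylow_inf_normal R N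
  refine ⟨D, ?_⟩
  rw [hD, hR]
  ext x
  constructor
  · rintro ⟨y, hy⟩
    have hyt : (y : Ω) ∈ ttN ι N := mem_ttN.2 ⟨y.2, by
      have : ι y = (x : G) := hy
      rw [show (⟨(y : Ω), y.2⟩ : S) = y from rfl, this]
      exact x.2⟩
    exact ⟨⟨y, hyt⟩, Subtype.ext hy⟩
  · rintro ⟨y, rfl⟩
    exact ⟨⟨y, ttN_le y.2⟩, rfl⟩

theorem EN_strongly (hr : F.IsRealizedBy ι) (N : Subgroup G) [hN : N.Normal] : F.StronglyClosed (ttN ι N) := by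
  refine ⟨ttN_le, fun P hP φ hφ x => ?_⟩
  obtain ⟨g, hg⟩ := Cfsg.Agent.H24.IsRealizedBy.exists_conj hr hφ
  have hv := Cfsg.Agent.H24.hom_val hφ x
  refine mem_ttN.2 ⟨hv, ?_⟩
  have h1 := hg x
  have h2 := (mem_ttN.1 (hP x.2)).2
  have e : ι ⟨φ x, hv⟩ = g * ι ⟨x, ttN_le (hP x.2)⟩ * g⁻¹ := h1
  rw [e]
  exact hN.conj_mem _ h2 g

theorem mem_inf_iff (hR : (R : Subgroup G) = ι.range) (N : Subgroup G) {y : G} :
    y ∈ (R : Subgroup G) ⊓ N ↔ ∃ t, ∃ ht : t ∈ ttN ι N, y = ι ⟨t, ttN_le ht⟩ := by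
  constructor
  · rintro ⟨h1, h2⟩
    rw [SetLike.mem_coe, hR] at h1
    obtain ⟨s, rfl⟩ := h1
    exact ⟨s, mem_ttN.2 ⟨s.2, h2⟩, rfl⟩
  · rintro ⟨t, ht, rfl⟩
    refine ⟨?_, (mem_ttN.1 ht).2⟩
    rw [SetLike.mem_coe, hR]
    exact ⟨_, rfl⟩

theorem mem_centIn_iff (hι : Function.Injective ι) (hR : (R : Subgroup G) = ι.range) (N : Subgroup G) {y : G} :
    y ∈ centralizerIn (R : Subgroup G) ((R : Subgroup G) ⊓ N) ↔
      ∃ c, ∃ hc : c ∈ centralizerIn S (ttN ι N), y = ι ⟨c, (Subgroup.mem_inf.1 hc).1⟩ := by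
  constructor
  · intro hy
    obtain ⟨h1, h2⟩ := Subgroup.mem_inf.1 hy
    rw [hR] at h1
    obtain ⟨s, rfl⟩ := h1
    refine ⟨s, Subgroup.mem_inf.2 ⟨s.2, ?_⟩, rfl⟩
    rw [Subgroup.mem_centralizer_iff]
    intro t ht
    have h3 := Subgroup.mem_centralizer_iff.1 h2 (ι ⟨t, ttN_le ht⟩) ((mem_inf_iff hR N).2 ⟨t, ht, rfl⟩)
    rw [← map_mul, ← map_mul] at h3
    exact Subtype.mk.inj (hι h3)
  · rintro ⟨c, hc, rfl⟩
    obtain ⟨hc1, hc2⟩ := Subgroup.mem_inf.1 hc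
    refine Subgroup.mem_inf.2 ⟨?_, ?_⟩
    · rw [hR]
      exact ⟨_, rfl⟩
    · rw [Subgroup.mem_centralizer_iff]
      intro y hy
      obtain ⟨t, ht, rfl⟩ := (mem_inf_iff hR N).1 hy
      have h3 := Subgroup.mem_centralizer_iff.1 hc2 t ht
      rw [← map_mul, ← map_mul]
      exact congrArg ι (Subtype.ext h3)

theorem centIn_le_norm {Γ : Type*} [Group Γ] (A B : Subgroup Γ) : centralizerIn A B ≤ Subgroup.normalizer (B : Set Γ) := by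
  intro c hc
  obtain ⟨-, hc2⟩ := Subgroup.mem_inf.1 hc
  refine Cfsg.Agent.H24.mem_normalizer_of_forall ?_ ?_
  · intro y hy
    rw [← Subgroup.mem_centralizer_iff.1 hc2 y hy]
    simpa using hy
  · intro y hy
    have := Subgroup.mem_centralizer_iff.1 (Subgroup.inv_mem _ hc2) y hy
    rw [← this]
    simpa using hy

theorem EN_normal (hr : F.IsRealizedBy ι) (R : Sylow p G) (hR : (R : Subgroup G) = ι.range) (N : Subgroup G) [hN : N.Normal] :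
    (EN hr.1 N).IsNormalIn F p := by
  have hι := hr.1
  have hsat : F.IsSaturated p := Cfsg.Agent.H24.saturated_of_realized hr R hR
  obtain ⟨D, hD⟩ := EN_sylow R hR N
  have hEs : (EN hι N).IsSaturated p := Cfsg.Agent.H24.saturated_of_realized (EN_realized hι N) D hD
  have hG := Cfsg.Agent.H24.normal_subsystem R N
  have hsc := EN_strongly (F := F) hr N
  have hTS : ttN ι N ≤ S := ttN_le
  refine ⟨⟨hEs, hsat, ?_, hsc, ?_, ?_⟩, ?_⟩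
  · -- subsystem
    intro P φ hφ
    obtain ⟨hP, hv, g, hgN, hg⟩ := EN_hom hφ
    exact Cfsg.Agent.H24.IsRealizedBy.hom_mem hr (hP.trans ttN_le) (fun y => ttN_le (hv y)) (g := g) hg
  · -- transport
    intro P hPT φ hφ α hα
    obtain ⟨hPP, hv, h, hhN, hh⟩ := EN_hom hφ
    have hαm := (Cfsg.Agent.H24.mem_autGroup_iff hTS α).1 hα
    obtain ⟨g, hg⟩ := Cfsg.Agent.H24.IsRealizedBy.exists_conj hr hαm
    have hg' : ∀ y : ttN ι N, ι ⟨α y, ttN_le (α y).2⟩ = g * ι ⟨y, ttN_le y.2⟩ * g⁻¹ := hg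
    let Q : Subgroup Ω := (P.subgroupOf (ttN ι N)).map ((ttN ι N).subtype.comp α.toMonoidHom)
    have hQT : Q ≤ ttN ι N := by
      rintro _ ⟨y, -, rfl⟩
      exact (α y).2
    have hkN : g * h * g⁻¹ ∈ N := hN.conj_mem _ hhN g
    have key : ∀ (u : Ω) (hu : u ∈ P), (g * h * g⁻¹) * ι ⟨α ⟨u, hPT hu⟩, ttN_le (α ⟨u, hPT hu⟩).2⟩ * (g * h * g⁻¹)⁻¹
        = ι ⟨α ⟨φ ⟨u, hu⟩, hv ⟨u, hu⟩⟩, ttN_le (α ⟨φ ⟨u, hu⟩, hv ⟨u, hu⟩⟩).2⟩ := by
      intro u hu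
      rw [hg', hg']
      have e := hh ⟨u, hu⟩
      have e' : ι ⟨φ ⟨u, hu⟩, ttN_le (hv ⟨u, hu⟩)⟩ = h * ι ⟨u, ttN_le (hPT hu)⟩ * h⁻¹ := e
      show _ = g * ι ⟨φ ⟨u, hu⟩, ttN_le (hv ⟨u, hu⟩)⟩ * g⁻¹
      rw [e']
      group
    have hconj : ∀ y : Q, (g * h * g⁻¹) * ι (Subgroup.inclusion (hQT.trans ttN_le) y) * (g * h * g⁻¹)⁻¹ ∈ ι.range := by
      rintro ⟨_, y, hy, rfl⟩
      have hyP : (y : Ω) ∈ P := hy
      have e := key y hyP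
      have e0 : ι (Subgroup.inclusion (hQT.trans ttN_le) ⟨(ttN ι N).subtype.comp α.toMonoidHom y, ⟨y, hy, rfl⟩⟩)
          = ι ⟨α ⟨y, hPT hyP⟩, ttN_le (α ⟨y, hPT hyP⟩).2⟩ := rfl
      rw [e0, e]
      exact ⟨_, rfl⟩
    obtain ⟨χ, hχ, hχv⟩ := Cfsg.Agent.H24.exists_conj_lift hι (hQT.trans ttN_le) _ hconj
    have hχT : ∀ y : Q, χ y ∈ ttN ι N := by
      intro y
      refine mem_ttN.2 ⟨hχ y, ?_⟩
      rw [hχv]
      exact hN.conj_mem _ (mem_ttN.1 (hQT y.2)).2 _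
    refine ⟨χ, EN_hom_of hQT hχT hkN hχv, fun x hφx hαx => ?_⟩
    apply Subtype.mk.inj (hι _)
    · exact hχ _
    · exact ttN_le (α ⟨φ x, hφx⟩).2
    · rw [hχv]
      exact key x x.2
  · -- Frattini
    intro P hPT φ hφ
    obtain ⟨g, hg⟩ := Cfsg.Agent.H24.IsRealizedBy.exists_conj hr hφ
    have hg1 : g ∈ ((Subgroup.normalizer (((R : Subgroup G) ⊓ N : Subgroup G) : Set G) ⊔ N : Subgroup G) : Set G) := by
      rw [Cfsg.Agent.H18.frattini_inf R N]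
      exact Subgroup.mem_top _
    rw [Subgroup.mul_normal] at hg1
    obtain ⟨a, ha, n, hn, rfl⟩ := Set.mem_mul.1 hg1
    have hφv : ∀ x : P, φ x ∈ ttN ι N := fun x => hsc.2 P hPT φ hφ x
    obtain ⟨α, hαv⟩ := exists_aut_of_conj hι hTS a
      (fun x hx => by
        obtain ⟨t, ht, e⟩ := (mem_inf_iff hR N).1 (Cfsg.Agent.H24.conj_mem_of_normalizer ha ((mem_inf_iff hR N).2 ⟨x, hx, rfl⟩))
        exact ⟨t, ht, e.symm⟩)
      (fun x hx => by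
        obtain ⟨t, ht, e⟩ := (mem_inf_iff hR N).1 (Cfsg.Agent.H24.conj_inv_mem_of_normalizer ha ((mem_inf_iff hR N).2 ⟨x, hx, rfl⟩))
        exact ⟨t, ht, e.symm⟩)
    have hαF : α ∈ F.autGroup (ttN ι N) :=
      (Cfsg.Agent.H24.mem_autGroup_iff hTS α).2
        (Cfsg.Agent.H24.IsRealizedBy.hom_mem hr hTS (fun y => ttN_le (α y).2) (g := a) hαv)
    have hg2 : ∀ x : P, ι ⟨φ x, ttN_le (hφv x)⟩ = (a * n) * ι ⟨x, ttN_le (hPT x.2)⟩ * (a * n)⁻¹ := hg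
    have hval : ∀ x : P, n * ι (Subgroup.inclusion (hPT.trans ttN_le) x) * n⁻¹ ∈ (R : Subgroup G) ⊓ N := by
      intro x
      have h1 : ι ⟨φ x, ttN_le (hφv x)⟩ ∈ (R : Subgroup G) ⊓ N := (mem_inf_iff hR N).2 ⟨_, hφv x, rfl⟩
      have h2 := Cfsg.Agent.H24.conj_inv_mem_of_normalizer ha h1
      rw [hg2] at h2
      have e : a⁻¹ * (a * n * ι ⟨x, ttN_le (hPT x.2)⟩ * (a * n)⁻¹) * a = n * ι ⟨x, ttN_le (hPT x.2)⟩ * n⁻¹ := by group
      rw [e] at h2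
      exact h2
    obtain ⟨φ₀, hφ₀, hφ₀v⟩ := Cfsg.Agent.H24.exists_conj_lift hι (hPT.trans ttN_le) n (fun y => by
      have := (hval y).1
      rwa [SetLike.mem_coe, hR] at this)
    have hφ₀T : ∀ y : P, φ₀ y ∈ ttN ι N := by
      intro y
      refine mem_ttN.2 ⟨hφ₀ y, ?_⟩
      rw [hφ₀v]
      exact (hval y).2
    refine ⟨α, hαF, φ₀, EN_hom_of hPT hφ₀T hn hφ₀v, fun x hx => ?_⟩
    apply Subtype.mk.inj (hι _)
    · exact hTS (hφv x)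
    · exact hTS (α ⟨φ₀ x, hx⟩).2
    · rw [hg2, hαv]
      have e : ι ⟨φ₀ x, ttN_le (⟨φ₀ x, hx⟩ : ttN ι N).2⟩ = _ := hφ₀v x
      rw [e]
      show _ = a * (n * ι ⟨x, ttN_le (hPT x.2)⟩ * n⁻¹) * a⁻¹
      group
  · -- extension
    intro α hα
    have hαm := (Cfsg.Agent.H24.mem_autGroup_iff le_rfl α).1 hα
    obtain ⟨hPP, hv, h, hhN, hh⟩ := EN_hom hαm
    have hh' : ∀ x : ttN ι N, ι ⟨α x, ttN_le (α x).2⟩ = h * ι ⟨x, ttN_le x.2⟩ * h⁻¹ := hh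
    have hhT : h ∈ Subgroup.normalizer (((R : Subgroup G) ⊓ N : Subgroup G) : Set G) := by
      refine Cfsg.Agent.H24.mem_normalizer_of_forall ?_ ?_
      · intro y hy
        obtain ⟨t, ht, rfl⟩ := (mem_inf_iff hR N).1 hy
        rw [← hh' ⟨t, ht⟩]
        exact (mem_inf_iff hR N).2 ⟨_, (α ⟨t, ht⟩).2, rfl⟩
      · intro y hy
        obtain ⟨t, ht, rfl⟩ := (mem_inf_iff hR N).1 hy
        have e := hh' (α⁻¹ ⟨t, ht⟩)
        have e1 : α (α⁻¹ ⟨t, ht⟩) = ⟨t, ht⟩ := by simp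
        have e2 : ι ⟨t, ttN_le ht⟩ = h * ι ⟨(α⁻¹ ⟨t, ht⟩ : ttN ι N), ttN_le (α⁻¹ ⟨t, ht⟩ : ttN ι N).2⟩ * h⁻¹ := by
          rw [← e]
          simp only [e1]
        rw [e2]
        have e3 : h⁻¹ * (h * ι ⟨(α⁻¹ ⟨t, ht⟩ : ttN ι N), ttN_le (α⁻¹ ⟨t, ht⟩ : ttN ι N).2⟩ * h⁻¹) * h
            = ι ⟨(α⁻¹ ⟨t, ht⟩ : ttN ι N), ttN_le (α⁻¹ ⟨t, ht⟩ : ttN ι N).2⟩ := by group
        rw [e3]
        exact (mem_inf_iff hR N).2 ⟨_, (α⁻¹ ⟨t, ht⟩ : ttN ι N).2, rfl⟩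
    let α' : MulAut ↥((R : Subgroup G) ⊓ N) := Cfsg.Agent.H24.autOfNormalizer _ hhT
    have hα' : α' ∈ (fusionSystemOfSubgroup N ((R : Subgroup G) ⊓ N) inf_le_right).autGroup ((R : Subgroup G) ⊓ N) :=
      (Cfsg.Agent.H24.mem_autGroup_iff le_rfl α').2 ⟨le_rfl, fun x => (α' x).2, h, hhN, fun _ => rfl⟩
    obtain ⟨β', hβ', hβ1, hβ2⟩ := hG.2 α' hα'
    have hV'R : ((R : Subgroup G) ⊓ N) ⊔ centralizerIn (R : Subgroup G) ((R : Subgroup G) ⊓ N) ≤ (R : Subgroup G) :=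
      sup_le inf_le_left inf_le_left
    obtain ⟨-, -, g', hg'⟩ := (Cfsg.Agent.H24.mem_autGroup_iff hV'R β').1 hβ'
    have hg'' : ∀ x : ↥(((R : Subgroup G) ⊓ N) ⊔ centralizerIn (R : Subgroup G) ((R : Subgroup G) ⊓ N)),
        ((β' x : ↥(((R : Subgroup G) ⊓ N) ⊔ centralizerIn (R : Subgroup G) ((R : Subgroup G) ⊓ N))) : G) = g' * (x : G) * g'⁻¹ := hg'
    have hVS : ttN ι N ⊔ centralizerIn S (ttN ι N) ≤ S := sup_le ttN_le inf_le_left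
    have hmemV : ∀ x (hx : x ∈ ttN ι N ⊔ centralizerIn S (ttN ι N)),
        ι ⟨x, hVS hx⟩ ∈ ((R : Subgroup G) ⊓ N) ⊔ centralizerIn (R : Subgroup G) ((R : Subgroup G) ⊓ N) := by
      intro x hx
      obtain ⟨t, ht, c, hc, rfl⟩ := Cfsg.Agent.H01.exists_mul_of_mem_sup (centIn_le_norm S (ttN ι N)) hx
      have hc1 : c ∈ S := (Subgroup.mem_inf.1 hc).1
      have e : ι ⟨t * c, hVS hx⟩ = ι ⟨t, ttN_le ht⟩ * ι ⟨c, hc1⟩ := map_mul ι ⟨t, ttN_le ht⟩ ⟨c, hc1⟩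
      rw [e]
      exact Subgroup.mul_mem _ (Subgroup.mem_sup_left ((mem_inf_iff hR N).2 ⟨t, ht, rfl⟩))
        (Subgroup.mem_sup_right ((mem_centIn_iff hι hR N).2 ⟨c, hc, rfl⟩))
    have hmemV' : ∀ y (_ : y ∈ ((R : Subgroup G) ⊓ N) ⊔ centralizerIn (R : Subgroup G) ((R : Subgroup G) ⊓ N)),
        ∃ x, ∃ hx : x ∈ ttN ι N ⊔ centralizerIn S (ttN ι N), y = ι ⟨x, hVS hx⟩ := by
      intro y hy
      obtain ⟨t, ht, c, hc, rfl⟩ := Cfsg.Agent.H01.exists_mul_of_mem_sup (centIn_le_norm (R : Subgroup G) ((R : Subgroup G) ⊓ N)) hy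
      obtain ⟨t', ht', rfl⟩ := (mem_inf_iff hR N).1 ht
      obtain ⟨c', hc', rfl⟩ := (mem_centIn_iff hι hR N).1 hc
      refine ⟨t' * c', Subgroup.mul_mem _ (Subgroup.mem_sup_left ht') (Subgroup.mem_sup_right hc'), ?_⟩
      exact (map_mul ι ⟨t', ttN_le ht'⟩ ⟨c', (Subgroup.mem_inf.1 hc').1⟩).symm
    obtain ⟨β, hβv⟩ := exists_aut_of_conj hι hVS g'
      (fun x hx => by
        obtain ⟨y, hy, e⟩ := hmemV' _ (β' ⟨_, hmemV x hx⟩).2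
        rw [hg''] at e
        exact ⟨y, hy, e.symm⟩)
      (fun x hx => by
        obtain ⟨w, hw⟩ : ∃ w, β' w = ⟨_, hmemV x hx⟩ := ⟨β'⁻¹ ⟨_, hmemV x hx⟩, by simp⟩
        have e1 := hg'' w
        rw [hw] at e1
        obtain ⟨y, hy, e⟩ := hmemV' _ w.2
        refine ⟨y, hy, ?_⟩
        rw [← e]
        have e3 : ι ⟨x, hVS hx⟩ = g' * (w : G) * g'⁻¹ := e1
        rw [e3]
        group)
    have hβF : β ∈ F.autGroup (ttN ι N ⊔ centralizerIn S (ttN ι N)) :=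
      (Cfsg.Agent.H24.mem_autGroup_iff hVS β).2
        (Cfsg.Agent.H24.IsRealizedBy.hom_mem hr hVS (fun y => hVS (β y).2) (g := g') hβv)
    refine ⟨β, hβF, fun x => ?_, fun c hc => ?_⟩
    · apply Subtype.mk.inj (hι _)
      · exact hVS (β _).2
      · exact ttN_le (α x).2
      · rw [hβv, hh']
        have hxT : ι ⟨x, ttN_le x.2⟩ ∈ (R : Subgroup G) ⊓ N := (mem_inf_iff hR N).2 ⟨x, x.2, rfl⟩
        have e := hβ1 ⟨_, hxT⟩
        have e4 := hg'' (Subgroup.inclusion le_sup_left ⟨_, hxT⟩)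
        rw [e] at e4
        exact e4.symm
    · have hcR : ι ⟨c, hVS c.2⟩ ∈ centralizerIn (R : Subgroup G) ((R : Subgroup G) ⊓ N) :=
        (mem_centIn_iff hι hR N).2 ⟨c, hc, rfl⟩
      have h5 := hβ2 ⟨_, Subgroup.mem_sup_right hcR⟩ hcR
      rw [hg''] at h5
      have e : ((c : Ω)⁻¹ * (β c : ↥(ttN ι N ⊔ centralizerIn S (ttN ι N))) : Ω) ∈ S :=
        S.mul_mem (S.inv_mem (hVS c.2)) (hVS (β c).2)
      have e6 : ι ⟨(c : Ω)⁻¹ * (β c : ↥(ttN ι N ⊔ centralizerIn S (ttN ι N))), e⟩ = (ι ⟨c, hVS c.2⟩)⁻¹ * (g' * ι ⟨c, hVS c.2⟩ * g'⁻¹) := by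
        rw [← hβv]
        exact (map_mul ι (⟨c, hVS c.2⟩ : S)⁻¹ ⟨_, hVS (β c).2⟩).trans (by rw [map_inv])
      have h5' : ι ⟨(c : Ω)⁻¹ * (β c : ↥(ttN ι N ⊔ centralizerIn S (ttN ι N))), e⟩ ∈ ((R : Subgroup G) ⊓ N) ⊓ Subgroup.centralizer (((R : Subgroup G) ⊓ N : Subgroup G) : Set G) := by
        rw [e6]
        exact h5
      obtain ⟨h51, h52⟩ := Subgroup.mem_inf.1 h5'
      refine Subgroup.mem_inf.2 ⟨mem_ttN.2 ⟨e, (Subgroup.mem_inf.1 h51).2⟩, ?_⟩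
      rw [Subgroup.mem_centralizer_iff]
      intro t ht
      have h7 := Subgroup.mem_centralizer_iff.1 h52 (ι ⟨t, ttN_le ht⟩) ((mem_inf_iff hR N).2 ⟨t, ht, rfl⟩)
      rw [← map_mul, ← map_mul] at h7
      exact Subtype.mk.inj (hι h7)

end norm

end

end Cfsg.Agent.H25
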