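import Mathlib
import Cfsg.Prelude.Def_LocalEven
import Cfsg.Agent.Lib.H25.Basic

set_option autoImplicit false

/-! Sections of groups. -/

namespace Cfsg.Agent.H25

open Cfsg

variable {A B C : Type*} [Group A] [Group B] [Group C]

variable (A B) in
/-- `A` is a section of `B`. -/
def Sec : Prop := ∃ (X : Subgroup B) (f : X →* A), Function.Surjective f

theorem Sec.of_involves (h : Involves A B) : Sec A B := by
  obtain ⟨K, R, hn, ⟨e⟩⟩ := h
  exact ⟨K, e.toMonoidHom.comp (QuotientGroup.mk' (R.subgroupOf K)),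
    e.surjective.comp (QuotientGroup.mk'_surjective _)⟩

theorem Sec.involves (h : Sec A B) : Involves A B := by
  obtain ⟨X, f, hf⟩ := h
  have e : (f.ker.map X.subtype).subgroupOf X = f.ker :=
    Subgroup.comap_map_eq_self_of_injective X.subtype_injective _
  have hn : ((f.ker.map X.subtype).subgroupOf X).Normal := by
    rw [e]
    infer_instance
  exact ⟨X, f.ker.map X.subtype, hn, ⟨(QuotientGroup.quotientMulEquivOfEq e).trans
    (QuotientGroup.quotientKerEquivOfSurjective f hf)⟩⟩

theorem Sec.trans (h₁ : Sec A B) (h₂ : Sec B C) : Sec A C := by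
  obtain ⟨Y, g, hg⟩ := h₁
  obtain ⟨X, f, hf⟩ := h₂
  let X' : Subgroup X := Y.comap f
  refine ⟨X'.map X.subtype, g.comp ((f.subgroupComap Y).comp
    (X'.equivMapOfInjective X.subtype X.subtype_injective).symm.toMonoidHom), ?_⟩
  apply hg.comp
  apply (f.subgroupComap_surjective_of_surjective Y hf).comp
  exact (X'.equivMapOfInjective X.subtype X.subtype_injective).symm.surjective

theorem Sec.of_surj (f : B →* A) (hf : Function.Surjective f) : Sec A B :=
  ⟨⊤, f.comp (Subgroup.topEquiv : (⊤ : Subgroup B) ≃* B).toMonoidHom,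
    hf.comp (Subgroup.topEquiv : (⊤ : Subgroup B) ≃* B).surjective⟩

theorem Sec.of_inj (f : A →* B) (hf : Function.Injective f) : Sec A B :=
  ⟨f.range, (MonoidHom.ofInjective hf).symm.toMonoidHom, (MonoidHom.ofInjective hf).symm.surjective⟩

/-- A `p`-group section of a finite group is a section of a `p`-subgroup. -/
theorem Sec.exists_pGroup {p : ℕ} [Fact p.Prime] [Finite B] (hA : IsPGroup p A) (h : Sec A B) :
    ∃ W : Subgroup B, IsPGroup p W ∧ Sec A W := by
  classical
  obtain ⟨X, f, hf⟩ := h
  obtain ⟨T⟩ : Nonempty (Sylow p X) := inferInstance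
  have hT : (T : Subgroup X).map f = ⊤ := by
    have h1 := (T.mapSurjective hf).is_maximal' (Q := ⊤) (IsPGroup.to_subgroup hA ⊤) le_top
    rw [Sylow.coe_mapSurjective] at h1
    exact h1.symm
  refine ⟨(T : Subgroup X).map X.subtype, T.isPGroup'.map X.subtype, ?_⟩
  let g : (T : Subgroup X) →* A := f.comp (T : Subgroup X).subtype
  have hg : Function.Surjective g := by
    intro a
    have h1 : a ∈ (T : Subgroup X).map f := by rw [hT]; trivial
    obtain ⟨t, ht, rfl⟩ := h1
    exact ⟨⟨t, ht⟩, rfl⟩
  exact Sec.of_surj (g.comp ((T : Subgroup X).equivMapOfInjective X.subtype X.subtype_injective).symm.toMonoidHom)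
    (hg.comp ((T : Subgroup X).equivMapOfInjective X.subtype X.subtype_injective).symm.surjective)

/-- Transporting a section along conjugation into the image of an injective homomorphism. -/
theorem Sec.of_le_range {N : Type*} [Group N] {W : Subgroup B} (h : Sec A W) (g : B) (ι : N →* B) 
    (hle : W.map (MulAut.conj g).toMonoidHom ≤ ι.range) : Sec A N := by
  have h1 : Sec W (W.map (MulAut.conj g).toMonoidHom) :=
    Sec.of_inj (W.equivMapOfInjective (MulAut.conj g).toMonoidHom (MulEquiv.injective _)).toMonoidHom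
      (MulEquiv.injective _)
  have h1' : Sec W (W.map (MulAut.conj g).toMonoidHom) :=
    Sec.of_surj (W.equivMapOfInjective (MulAut.conj g).toMonoidHom (MulEquiv.injective _)).symm.toMonoidHom
      (MulEquiv.surjective _)
  have h2 : Sec (W.map (MulAut.conj g).toMonoidHom) N := by
    set W' := W.map (MulAut.conj g).toMonoidHom with hW'
    refine ⟨W'.comap ι, ι.subgroupComap W', fun y => ?_⟩
    obtain ⟨n, hn⟩ := hle y.2
    exact ⟨⟨n, by show ι n ∈ W'; rw [hn]; exact y.2⟩, Subtype.ext hn⟩
  exact (h.trans h1').trans h2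

/-- A `p`-group section of a finite group with a Sylow subgroup inside the range of `ι` is a section of the source. -/
theorem Sec.of_sylow_range {N : Type*} [Group N] {p : ℕ} [Fact p.Prime] [Finite B] (hA : IsPGroup p A) (h : Sec A B)
    (ι : N →* B) (T : Sylow p B) (hT : (T : Subgroup B) = ι.range) : Sec A N := by
  classical
  obtain ⟨W, hW, hs⟩ := h.exists_pGroup hA
  obtain ⟨P₁, hP₁⟩ := hW.exists_le_sylow
  obtain ⟨g, hg⟩ := MulAction.exists_smul_eq B P₁ T
  refine hs.of_le_range g ι ?_
  rw [← hT, ← hg]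
  rintro _ ⟨x, hx, rfl⟩
  exact ⟨x, hP₁ hx, rfl⟩

end Cfsg.Agent.H25
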