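import Cfsg.Agent.Lib.H25.NS2
import Cfsg.Agent.Lib.H25.AxH
set_option autoImplicit false
set_option linter.style.haveILetI false

/-! A criterion for the simplicity of the fusion system of a group: rigidity and going up. -/

namespace Cfsg.Agent.H25

open Cfsg Cfsg.FusionSystem

section E
variable {G : Type*} [Group G] [Finite G] {p : ℕ} [Fact p.Prime] {S : Sylow p G} {P : Subgroup G}

/-- A `p`-element centralizing a centric subgroup lies in it. -/
theorem centric_pelt (hP : (groupFusionSystem (S : Subgroup G)).IsCentric P) {y : G}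
    (hy : y ∈ Subgroup.centralizer (P : Set G)) (hyp : ∃ k : ℕ, y ^ p ^ k = 1) : y ∈ P := by
  have hPS : P ≤ (S : Subgroup G) := hP.1
  have hPp : IsPGroup p P := (Cfsg.Agent.H24.sylow_isPGroup S).to_le hPS
  have hZ : IsPGroup p (Subgroup.zpowers y) := by
    obtain ⟨k, hk⟩ := hyp
    exact IsPGroup.of_card (n := (orderOf y).factorization p) (by
      rw [Nat.card_zpowers]
      have h1 : orderOf y ∣ p ^ k := orderOf_dvd_of_pow_eq_one hk
      obtain ⟨m, -, hm⟩ := (Nat.dvd_prime_pow Fact.out).1 h1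
      rw [hm, Nat.Prime.factorization_self (Fact.out : p.Prime) |> fun _ => (Nat.Prime.factorization_pow (Fact.out : p.Prime))]
      simp)
  have hN : Subgroup.zpowers y ≤ Subgroup.normalizer (P : Set G) := by
    rw [Subgroup.zpowers_le]
    refine mem_normalizer_of_conj ?_ ?_
    · intro a ha
      have := (Subgroup.mem_centralizer_iff.1 hy) a ha
      rw [← this]
      simpa using ha
    · intro a ha
      have h1 := (Subgroup.mem_centralizer_iff.1 hy) a ha
      have e : y⁻¹ * a * y = a := by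
        rw [mul_assoc, h1]
        group
      rw [e]
      exact ha
  have hY : IsPGroup p ↥(Subgroup.zpowers y ⊔ P) := hZ.to_sup_of_normal_right' hPp hN
  obtain ⟨t, ht⟩ := Cfsg.Agent.H24.exists_conj_le_sylow S hY
  have hPt : P.map (MulAut.conj t).toMonoidHom ≤ (S : Subgroup G) :=
    le_trans (Subgroup.map_mono le_sup_right) ht
  have hconj := Cfsg.Agent.H24.groupFusion_isConj hPS hPt
  have hc := hP.2 _ hconj
  have hyy : y ∈ Subgroup.zpowers y ⊔ P := (le_sup_left : Subgroup.zpowers y ≤ _) (Subgroup.mem_zpowers y)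
  have h2 : t * y * t⁻¹ ∈ (S : Subgroup G) := ht ⟨y, hyy, rfl⟩
  have h3 : t * y * t⁻¹ ∈ centralizerIn (S : Subgroup G) (P.map (MulAut.conj t).toMonoidHom) := by
    refine mem_centralizerIn.2 ⟨h2, ?_⟩
    rintro _ ⟨a, ha, rfl⟩
    have h1 := (Subgroup.mem_centralizer_iff.1 hy) a ha
    show (t * a * t⁻¹) * (t * y * t⁻¹) = (t * y * t⁻¹) * (t * a * t⁻¹)
    calc (t * a * t⁻¹) * (t * y * t⁻¹) = t * (a * y) * t⁻¹ := by group
      _ = t * (y * a) * t⁻¹ := by rw [h1]
      _ = (t * y * t⁻¹) * (t * a * t⁻¹) := by group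
  obtain ⟨a, ha, hae⟩ := hc h3
  have : a = y := by
    have h4 : t * a * t⁻¹ = t * y * t⁻¹ := hae
    have h5 := mul_left_cancel (mul_right_cancel h4)
    exact h5
  exact this ▸ ha

/-- Rigidity: an element centralizing a centric subgroup `P` and conjugating `N_S(P)` into `S` acts on `N_S(P)` as an
element of `P`. -/
theorem sm_rigid (hP : (groupFusionSystem (S : Subgroup G)).IsCentric P) {d : G}
    (hd : d ∈ Subgroup.centralizer (P : Set G))
    (hN : ∀ x ∈ normalizerIn (S : Subgroup G) P, d * x * d⁻¹ ∈ (S : Subgroup G)) :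
    ∃ z ∈ P, ∀ x ∈ normalizerIn (S : Subgroup G) P, d * x * d⁻¹ = z * x * z⁻¹ := by
  have hp : p.Prime := Fact.out
  have hPS : P ≤ (S : Subgroup G) := hP.1
  obtain ⟨m₁, m₂, hdd, hco, ⟨e, he⟩, -⟩ := exists_parts (p := p) d
  set k := d ^ m₁ with hk
  set z := d ^ m₂ with hz
  have hkC : k ∈ Subgroup.centralizer (P : Set G) := Subgroup.pow_mem _ hd m₁
  have hzC : z ∈ Subgroup.centralizer (P : Set G) := Subgroup.pow_mem _ hd m₂
  have hzP : z ∈ P := centric_pelt hP hzC ⟨e, he⟩
  have hkz : ∀ x ∈ normalizerIn (S : Subgroup G) P, k * x = x * k := by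
    intro x hx
    have hxS : x ∈ (S : Subgroup G) := hx.1
    have hxN : x ∈ Subgroup.normalizer (P : Set G) := hx.2
    -- the commutator `x⁻¹ d x d⁻¹`
    have hCconj : ∀ c ∈ Subgroup.centralizer (P : Set G), x⁻¹ * c * x ∈ Subgroup.centralizer (P : Set G) := by
      intro c hc
      refine Subgroup.mem_centralizer_iff.2 fun a ha => ?_
      have ha' : x * a * x⁻¹ ∈ P := conj_mem_of_normalizer hxN ha
      have h1 := (Subgroup.mem_centralizer_iff.1 hc) _ ha'
      calc a * (x⁻¹ * c * x) = x⁻¹ * ((x * a * x⁻¹) * c) * x := by group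
        _ = x⁻¹ * (c * (x * a * x⁻¹)) * x := by rw [h1]
        _ = (x⁻¹ * c * x) * a := by group
    have hκS : x⁻¹ * (d * x * d⁻¹) ∈ (S : Subgroup G) := S.1.mul_mem (S.1.inv_mem hxS) (hN x hx)
    have hκC : x⁻¹ * (d * x * d⁻¹) ∈ Subgroup.centralizer (P : Set G) := by
      have e1 : x⁻¹ * (d * x * d⁻¹) = (x⁻¹ * d * x) * d⁻¹ := by group
      rw [e1]
      exact Subgroup.mul_mem _ (hCconj d hd) (Subgroup.inv_mem _ hd)
    have hκp : ∃ j : ℕ, (x⁻¹ * (d * x * d⁻¹)) ^ p ^ j = 1 := by
      obtain ⟨j, hj⟩ := (Cfsg.Agent.H24.sylow_isPGroup S) ⟨_, hκS⟩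
      exact ⟨j, by simpa using congrArg Subtype.val hj⟩
    have hκP : x⁻¹ * (d * x * d⁻¹) ∈ P := centric_pelt hP hκC hκp
    set κ := x⁻¹ * (d * x * d⁻¹) with hκ
    have hz' : x⁻¹ * z * x ∈ P := conj_inv_mem_of_normalizer hxN hzP
    set z' := x⁻¹ * z * x with hz'e
    set k' := x⁻¹ * k * x with hk'e
    have hdcomm : k * z = d := hdd
    have e2 : k' * z' = κ * d := by
      have : k' * z' = x⁻¹ * (k * z) * x := by rw [hk'e, hz'e]; group
      rw [this, hdcomm, hκ]
      group
    set c := κ * z * z'⁻¹ with hc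
    have hcP : c ∈ P := P.mul_mem (P.mul_mem hκP hzP) (P.inv_mem hz')
    have hzk : z * k = k * z := by
      rw [hz, hk, ← pow_add, ← pow_add, add_comm]
    have hck : k * c = c * k := ((Subgroup.mem_centralizer_iff.1 hkC) c hcP).symm
    have e3 : k' = c * k := by
      have h1 : k' = κ * d * z'⁻¹ := by rw [← e2]; group
      rw [h1, hc, ← hdcomm]
      have hzz : k * z' = z' * k := ((Subgroup.mem_centralizer_iff.1 hkC) z' hz').symm
      have hzz2 : k * z'⁻¹ = z'⁻¹ * k := by
        rw [eq_inv_mul_iff_mul_eq, ← mul_assoc, ← hzz, mul_assoc, mul_inv_cancel, mul_one]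
      have hzz3 : z * k = k * z := hzk
      calc κ * (k * z) * z'⁻¹ = κ * (z * k) * z'⁻¹ := by rw [hzz3]
        _ = κ * z * (k * z'⁻¹) := by group
        _ = κ * z * (z'⁻¹ * k) := by rw [hzz2]
        _ = κ * z * z'⁻¹ * k := by group
    have hm : k ^ orderOf k = 1 := pow_orderOf_eq_one k
    have e4 : k' ^ orderOf k = 1 := by
      have : k' ^ orderOf k = x⁻¹ * k ^ orderOf k * x := by
        have := conj_pow (a := x⁻¹) (b := k) (i := orderOf k)
        simpa [hk'e] using this
      rw [this, hm]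
      group
    have e5 : c ^ orderOf k = 1 := by
      have h1 : (c * k) ^ orderOf k = c ^ orderOf k * k ^ orderOf k := (Commute.mul_pow hck.symm _)
      rw [e3, h1, hm, mul_one] at e4
      exact e4
    have hc1 : c = 1 := by
      obtain ⟨j, hj⟩ := (Cfsg.Agent.H24.sylow_isPGroup S) ⟨c, hPS hcP⟩
      have hj' : c ^ p ^ j = 1 := by simpa using congrArg Subtype.val hj
      have h1 : orderOf c ∣ orderOf k := orderOf_dvd_of_pow_eq_one e5
      have h2 : orderOf c ∣ p ^ j := orderOf_dvd_of_pow_eq_one hj'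
      have h3 : Nat.Coprime (orderOf k) (p ^ j) := Nat.Coprime.pow_right j hco
      have h4 : orderOf c ∣ 1 := by
        rw [← Nat.Coprime.gcd_eq_one h3]
        exact Nat.dvd_gcd h1 h2
      exact orderOf_eq_one_iff.1 (Nat.dvd_one.1 h4)
    have e6 : k' = k := by rw [e3, hc1, one_mul]
    have e7 : x⁻¹ * k * x = k := e6
    calc k * x = x * (x⁻¹ * k * x) := by group
      _ = x * k := by rw [e7]
  refine ⟨z, hzP, fun x hx => ?_⟩
  have hzN : z * x * z⁻¹ ∈ normalizerIn (S : Subgroup G) P :=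
    (normalizerIn (S : Subgroup G) P).mul_mem ((normalizerIn (S : Subgroup G) P).mul_mem
      (le_normalizerIn hPS hzP) hx) ((normalizerIn (S : Subgroup G) P).inv_mem (le_normalizerIn hPS hzP))
  have h1 := hkz _ hzN
  calc d * x * d⁻¹ = k * z * x * (k * z)⁻¹ := by rw [hdd]
    _ = (k * (z * x * z⁻¹)) * k⁻¹ := by group
    _ = ((z * x * z⁻¹) * k) * k⁻¹ := by rw [h1]
    _ = z * x * z⁻¹ := by group

end E

end Cfsg.Agent.H25
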