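import Cfsg.Agent.Lib.H25.Sim1
set_option autoImplicit false
set_option linter.style.haveILetI false

/-! A criterion for the simplicity of the fusion system of a group: going up. -/

namespace Cfsg.Agent.H25

open Cfsg Cfsg.FusionSystem

section E
variable {G : Type*} [Group G] [Finite G] {p : ℕ} [Fact p.Prime] {S : Sylow p G} {P : Subgroup G}
  {E : FusionSystem (S : Subgroup G)}

/-- A map of `E` that is conjugation by an element `g` normalizing `S` and `P` extends to `N_S(P)`. -/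
theorem sm_up (hE : E.IsSaturated p) (hEF : E.IsSubsystemOf (groupFusionSystem (S : Subgroup G)))
    (hP : (groupFusionSystem (S : Subgroup G)).IsCentric P) {g : G}
    (hgS : g ∈ Subgroup.normalizer ((S : Subgroup G) : Set G)) (hgP : ∀ y ∈ P, g * y * g⁻¹ ∈ P)
    (hgE : Mp E P (cj g)) : Mp E (normalizerIn (S : Subgroup G) P) (cj g) := by
  classical
  have hSp : IsPGroup p (S : Subgroup G) := Cfsg.Agent.H24.sylow_isPGroup S
  have hPS : P ≤ (S : Subgroup G) := hP.1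
  set N := normalizerIn (S : Subgroup G) P with hNdef
  have hPN : P ≤ N := le_normalizerIn hPS
  have hgNN : ∀ n ∈ N, g * n * g⁻¹ ∈ N := by
    intro n hn
    refine ⟨conj_mem_of_normalizer hgS hn.1, ?_⟩
    haveI : Finite P := inferInstance
    have hsurj : ∀ y ∈ P, ∃ x ∈ P, g * x * g⁻¹ = y := by
      intro y hy
      have hI := Iso.of_maps hgE hgP
      exact hI.surj y hy
    refine mem_normalizer_of_conj ?_ ?_
    · intro y hy
      obtain ⟨x, hx, rfl⟩ := hsurj y hy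
      have e : (g * n * g⁻¹) * (g * x * g⁻¹) * (g * n * g⁻¹)⁻¹ = g * (n * x * n⁻¹) * g⁻¹ := by group
      rw [e]
      exact hgP _ (conj_mem_of_normalizer hn.2 hx)
    · intro y hy
      obtain ⟨x, hx, rfl⟩ := hsurj y hy
      have e : (g * n * g⁻¹)⁻¹ * (g * x * g⁻¹) * (g * n * g⁻¹) = g * (n⁻¹ * x * n) * g⁻¹ := by group
      rw [e]
      exact hgP _ (conj_inv_mem_of_normalizer hn.2 hx)
  have hgNS : N ≤ (S : Subgroup G) := normalizerIn_le
  -- transfer to a fully normalized conjugate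
  obtain ⟨Q, f, hQ, hf⟩ := exists_far hE hPS
  obtain ⟨h', hh', hI⟩ := exists_ext_normalizer hSp hQ (isConj_iff.2 ⟨f, hf⟩)
  have hMI := Iso.of_mp hh'
  set M := hh'.img with hM
  have hQM : Q ≤ M := by
    intro y hy
    obtain ⟨x, hx, rfl⟩ := hI.surj y hy
    exact hMI.maps x (hPN hx)
  obtain ⟨h'', hh'', h1, h2⟩ := hMI.inv
  -- the automorphism `a` of `Q`
  have hIinv : ∀ y ∈ Q, h'' y ∈ P := by
    intro y hy
    obtain ⟨x, hx, rfl⟩ := hI.surj y hy
    rw [h1 x (hPN hx)]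
    exact hx
  set a : G → G := fun y => h' (g * h'' y * g⁻¹) with ha
  have haI : Iso E Q Q a := by
    refine ⟨?_, ?_, ?_⟩
    · have m1 : Mp E Q h'' := hh''.mp.restrict hQM
      have m2 : Mp E Q (cj g ∘ h'') := m1.comp hIinv hgE
      have m3 : Mp E Q (h' ∘ (cj g ∘ h'')) := m2.comp (fun y hy => hgP _ (hIinv y hy)) (hI.mp)
      exact m3
    · intro y hy
      exact hI.maps _ (hgP _ (hIinv y hy))
    · intro y hy
      obtain ⟨x, hx, rfl⟩ := hI.surj y hy
      haveI : Finite P := inferInstance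
      obtain ⟨x', hx', hxe⟩ := (Iso.of_maps hgE hgP).surj x hx
      refine ⟨h' x', hI.maps _ hx', ?_⟩
      show h' (g * h'' (h' x') * g⁻¹) = h' x
      rw [h1 x' (hPN hx')]
      exact congrArg h' hxe
  have haP : ∀ y ∈ P, a (h' y) = h' (g * y * g⁻¹) := by
    intro y hy
    show h' (g * h'' (h' y) * g⁻¹) = _
    rw [h1 y (hPN hy)]
  have hMS : M ≤ (S : Subgroup G) := hh''.mp.le
  -- the extension of `a` to `M`
  obtain ⟨b, hb, hbQ⟩ : ∃ b, Mp E M b ∧ ∀ x ∈ Q, b x = a x := by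
    refine recept_ext hQ.recep haI hQM ?_
    intro m hm
    refine Subgroup.subset_closure ⟨hMS hm, ?_, ?_⟩
    · obtain ⟨n, hn, rfl⟩ := hMI.surj m hm
      exact (maps_normalizer hh' hI hPN normalizerIn_le_normalizer hn).2
    · obtain ⟨n, hn, rfl⟩ := hMI.surj m hm
      refine ⟨h' (g * n * g⁻¹), hh'.mem (hgNN n hn), ?_⟩
      intro x hx
      obtain ⟨y, hy, rfl⟩ := hI.surj x hx
      have hnyn : n * y * n⁻¹ ∈ P := conj_mem_of_normalizer hn.2 hy
      have e1 : h' n * h' y * (h' n)⁻¹ = h' (n * y * n⁻¹) := by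
        rw [hh'.map_mul (N.mul_mem hn (hPN hy)) (N.inv_mem hn), hh'.map_mul hn (hPN hy), hh'.map_inv hn]
      rw [e1, haP _ hnyn, haP _ hy]
      have e2 : g * (n * y * n⁻¹) * g⁻¹ = (g * n * g⁻¹) * (g * y * g⁻¹) * (g * n * g⁻¹)⁻¹ := by group
      rw [e2, hh'.map_mul (N.mul_mem (hgNN n hn) (hPN (hgP y hy))) (N.inv_mem (hgNN n hn)),
        hh'.map_mul (hgNN n hn) (hPN (hgP y hy)), hh'.map_inv (hgNN n hn)]
  -- `Q` is centric
  have hEFm : ∀ {X : Subgroup G} {u : G → G}, Mp E X u → Mp (groupFusionSystem (S : Subgroup G)) X u := by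
    rintro X u ⟨φ, hφ, hu⟩
    exact ⟨φ, hEF X hφ, hu⟩
  have hQc : centralizerIn (S : Subgroup G) Q ≤ Q := by
    refine hP.2 Q (isConj_iff.2 ⟨h', ?_, hI.maps, hI.surj⟩)
    exact hEFm hI.mp
  -- `b` preserves `M`
  have hbM : ∀ m ∈ M, b m ∈ M := by
    intro m hm
    obtain ⟨n, hn, rfl⟩ := hMI.surj m hm
    set s := h' (g * n * g⁻¹) with hs
    have hsM : s ∈ M := hMI.maps _ (hgNN n hn)
    have hz : s⁻¹ * b (h' n) ∈ centralizerIn (S : Subgroup G) Q := by
      refine mem_centralizerIn.2 ⟨(S : Subgroup G).mul_mem ((S : Subgroup G).inv_mem (hh'.mem (hgNN n hn))) (hb.mem hm), ?_⟩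
      intro u hu
      obtain ⟨x, hx, rfl⟩ := haI.surj u hu
      obtain ⟨y, hy, rfl⟩ := hI.surj x hx
      have hnyn : n * y * n⁻¹ ∈ P := conj_mem_of_normalizer hn.2 hy
      have e1 : h' n * h' y * (h' n)⁻¹ = h' (n * y * n⁻¹) := by
        rw [hh'.map_mul (N.mul_mem hn (hPN hy)) (N.inv_mem hn), hh'.map_mul hn (hPN hy), hh'.map_inv hn]
      have hQ1 : h' n * h' y * (h' n)⁻¹ ∈ Q := by
        rw [e1]
        exact hI.maps _ hnyn
      have e2 : b (h' n) * a (h' y) * (b (h' n))⁻¹ = a (h' (n * y * n⁻¹)) := by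
        rw [← e1, ← hbQ _ (hI.maps y hy), ← hbQ _ hQ1]
        have hmn : h' n ∈ M := hm
        have hy' : h' y ∈ M := hQM (hI.maps y hy)
        rw [hb.map_mul (M.mul_mem hmn hy') (M.inv_mem hmn), hb.map_mul hmn hy', hb.map_inv hmn]
      have e3 : a (h' (n * y * n⁻¹)) = s * a (h' y) * s⁻¹ := by
        rw [haP _ hnyn, haP _ hy, hs]
        have e2 : g * (n * y * n⁻¹) * g⁻¹ = (g * n * g⁻¹) * (g * y * g⁻¹) * (g * n * g⁻¹)⁻¹ := by group
        rw [e2, hh'.map_mul (N.mul_mem (hgNN n hn) (hPN (hgP y hy))) (N.inv_mem (hgNN n hn)),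
          hh'.map_mul (hgNN n hn) (hPN (hgP y hy)), hh'.map_inv (hgNN n hn)]
      have e4 : b (h' n) * a (h' y) * (b (h' n))⁻¹ = s * a (h' y) * s⁻¹ := e2.trans e3
      have e5 : s⁻¹ * b (h' n) * a (h' y) = a (h' y) * (s⁻¹ * b (h' n)) := by
        have : b (h' n) * a (h' y) = s * a (h' y) * s⁻¹ * b (h' n) := by
          rw [← e4]; group
        calc s⁻¹ * b (h' n) * a (h' y) = s⁻¹ * (b (h' n) * a (h' y)) := by group
          _ = s⁻¹ * (s * a (h' y) * s⁻¹ * b (h' n)) := by rw [this]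
          _ = a (h' y) * (s⁻¹ * b (h' n)) := by group
      exact e5.symm
    have h3 := hQM (hQc hz)
    have h4 : s * (s⁻¹ * b (h' n)) ∈ M := M.mul_mem hsM h3
    rwa [mul_inv_cancel_left] at h4
  -- the map `β` on `N`
  set β : G → G := fun n => h'' (b (h' n)) with hβ
  have hβN : ∀ n ∈ N, β n ∈ N := fun n hn => hh''.maps _ (hbM _ (hMI.maps n hn))
  have hβm : Mp E N β := by
    have m1 : Mp E N (b ∘ h') := hh'.comp hMI.maps hb
    exact m1.comp (fun n hn => hbM _ (hMI.maps n hn)) hh''.mp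
  have hβP : ∀ y ∈ P, β y = g * y * g⁻¹ := by
    intro y hy
    show h'' (b (h' y)) = _
    rw [hbQ _ (hI.maps y hy), haP y hy, h1 _ (hPN (hgP y hy))]
  have hβI : Iso E N N β := Iso.of_maps hβm hβN
  obtain ⟨β₁, hβ₁, h3, h4⟩ := hβI.inv
  -- `δ = β⁻¹ ∘ c_g`
  have hδ : Mp (groupFusionSystem (S : Subgroup G)) N (β₁ ∘ cj g) :=
    (mp_F_cj hgNS (fun n hn => conj_mem_of_normalizer hgS (hgNS hn))).comp hgNN (hEFm hβ₁.mp)
  obtain ⟨d, hd⟩ := exists_of_mp_F hδ
  have hδP : ∀ y ∈ P, d * y * d⁻¹ = y := by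
    intro y hy
    rw [← hd y (hPN hy)]
    show β₁ (g * y * g⁻¹) = y
    rw [← hβP y hy, h3 y (hPN hy)]
  have hdC : d ∈ Subgroup.centralizer (P : Set G) := by
    refine Subgroup.mem_centralizer_iff.2 fun y hy => ?_
    have := hδP y hy
    rw [mul_inv_eq_iff_eq_mul] at this
    exact this.symm
  have hdN : ∀ n ∈ N, d * n * d⁻¹ ∈ N := by
    intro n hn
    rw [← hd n hn]
    exact hβ₁.maps _ (hgNN n hn)
  obtain ⟨z, hzP, hz⟩ := sm_rigid hP hdC (fun x hx => hgNS (hdN x hx))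
  have hzS : z ∈ (S : Subgroup G) := hPS hzP
  have hcz : Mp E N (fun x => z * x * z⁻¹) := Mp.conj hgNS hzS
  have hczN : ∀ n ∈ N, z * n * z⁻¹ ∈ N := fun n hn => N.mul_mem (N.mul_mem (hPN hzP) hn) (N.inv_mem (hPN hzP))
  refine (hcz.comp hczN hβm).congr fun n hn => ?_
  show β (z * n * z⁻¹) = g * n * g⁻¹
  rw [← hz n hn, ← hd n hn]
  exact h4 _ (hgNN n hn)

/-- Going up to `S`. -/
theorem sm_chain (hE : E.IsSaturated p) (hEF : E.IsSubsystemOf (groupFusionSystem (S : Subgroup G)))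
    {g : G} (hgS : g ∈ Subgroup.normalizer ((S : Subgroup G) : Set G)) (P : Subgroup G)
    (hP : (groupFusionSystem (S : Subgroup G)).IsCentric P) (hgP : ∀ y ∈ P, g * y * g⁻¹ ∈ P)
    (hgE : Mp E P (cj g)) : Mp E (S : Subgroup G) (cj g) := by
  have hSp : IsPGroup p (S : Subgroup G) := Cfsg.Agent.H24.sylow_isPGroup S
  induction P using WellFoundedGT.induction with
  | ind P IH =>
    by_cases hPe : P = (S : Subgroup G)
    · subst hPe
      exact hgE
    have hPS : P ≤ (S : Subgroup G) := hP.1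
    have hlt : P < (S : Subgroup G) := lt_of_le_of_ne hPS hPe
    have hup := sm_up hE hEF hP hgS hgP hgE
    have hNS : normalizerIn (S : Subgroup G) P ≤ (S : Subgroup G) := normalizerIn_le
    have hPN : P ≤ normalizerIn (S : Subgroup G) P := le_normalizerIn hPS
    have hPlt : P < normalizerIn (S : Subgroup G) P := by
      obtain ⟨x, hx, hxP⟩ := exists_normalizer_not_mem hSp hPS hPe
      exact lt_of_le_of_ne hPN fun h => hxP (h ▸ hx)
    refine IH _ hPlt (isCentric_up hP hPN hNS) ?_ hup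
    intro n hn
    refine ⟨conj_mem_of_normalizer hgS hn.1, ?_⟩
    haveI : Finite P := inferInstance
    have hsurj : ∀ y ∈ P, ∃ x ∈ P, g * x * g⁻¹ = y := by
      intro y hy
      have hI := Iso.of_maps hgE hgP
      exact hI.surj y hy
    refine mem_normalizer_of_conj ?_ ?_
    · intro y hy
      obtain ⟨x, hx, rfl⟩ := hsurj y hy
      have e : (g * n * g⁻¹) * (g * x * g⁻¹) * (g * n * g⁻¹)⁻¹ = g * (n * x * n⁻¹) * g⁻¹ := by group
      rw [e]
      exact hgP _ (conj_mem_of_normalizer hn.2 hx)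
    · intro y hy
      obtain ⟨x, hx, rfl⟩ := hsurj y hy
      have e : (g * n * g⁻¹)⁻¹ * (g * x * g⁻¹) * (g * n * g⁻¹) = g * (n⁻¹ * x * n) * g⁻¹ := by group
      rw [e]
      exact hgP _ (conj_inv_mem_of_normalizer hn.2 hx)

/-- `p`-elements of `N_G(R)`, for `R` fully normalized, act on `R` in `E`. -/
theorem sm_pelt (hI : E.IsInvariantIn (groupFusionSystem (S : Subgroup G)))
    {R : Subgroup G} (hR : (groupFusionSystem (S : Subgroup G)).IsFullyNormalized R) {u : G}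
    (hu : u ∈ Subgroup.normalizer (R : Set G)) (hup : ∃ k : ℕ, orderOf u = p ^ k) : Mp E R (cj u) := by
  have hRS : R ≤ (S : Subgroup G) := hR.1
  have hSy := (Cfsg.Agent.H24.fullyNormalized_iff S hRS).1 hR
  have hZ : IsPGroup p (Subgroup.zpowers u) := by
    obtain ⟨k, hk⟩ := hup
    exact IsPGroup.of_card (n := k) (by rw [Nat.card_zpowers, hk])
  have hZN : Subgroup.zpowers u ≤ Subgroup.normalizer (R : Set G) := by
    rw [Subgroup.zpowers_le]
    exact hu
  obtain ⟨t, htN, ht⟩ := hSy.exists_conj hZN hZ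
  have hs : t * u * t⁻¹ ∈ normalizerIn (S : Subgroup G) R := ht ⟨u, Subgroup.mem_zpowers u, rfl⟩
  set s := t * u * t⁻¹ with hsdef
  have hsE : Mp E R (cj s) := Mp.conj hRS hs.1
  have htinv : t⁻¹ ∈ Subgroup.normalizer (R : Set G) := Subgroup.inv_mem _ htN
  obtain ⟨n, hn, hw⟩ := exists_frat hI hRS (x := t⁻¹) (A := R) (fun a ha => conj_mem_of_normalizer htinv ha)
  set w := n⁻¹ * t⁻¹ with hwdef
  have hIw := Iso.of_mp hw
  set Q := hw.img with hQ
  obtain ⟨k, hk, k1, k2⟩ := hIw.inv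
  have hQS : Q ≤ (S : Subgroup G) := hk.mp.le
  have hK : ∀ y ∈ Q, k y = w⁻¹ * y * w := by
    intro y hy
    obtain ⟨x, hx, rfl⟩ := hIw.surj y hy
    rw [k1 x hx]
    show x = w⁻¹ * (w * x * w⁻¹) * w
    group
  have hm : Mp E Q (cj (w * s * w⁻¹)) := by
    have m1 : Mp E Q (cj s ∘ k) := hk.mp.comp hk.maps hsE
    have hsR : ∀ x ∈ R, cj s x ∈ R := fun x hx => conj_mem_of_normalizer hs.2 hx
    have m2 : Mp E Q (cj w ∘ (cj s ∘ k)) := m1.comp (fun y hy => hsR _ (hk.maps y hy)) hw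
    refine m2.congr fun y hy => ?_
    show w * (s * k y * s⁻¹) * w⁻¹ = (w * s * w⁻¹) * y * (w * s * w⁻¹)⁻¹
    rw [hK y hy]
    group
  have hP' : ∀ y, y ∈ R ↔ n⁻¹ * y * n ∈ Q := by
    intro y
    constructor
    · intro hy
      have hx : t * y * t⁻¹ ∈ R := conj_mem_of_normalizer htN hy
      have e : n⁻¹ * y * n = cj w (t * y * t⁻¹) := by
        show n⁻¹ * y * n = w * (t * y * t⁻¹) * w⁻¹
        rw [hwdef]
        group
      rw [e]
      exact hIw.maps _ hx
    · intro hy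
      obtain ⟨x, hx, hxe⟩ := hIw.surj _ hy
      have e : y = t⁻¹ * x * t := by
        have h1 : w * x * w⁻¹ = n⁻¹ * y * n := hxe
        rw [hwdef] at h1
        have h2 : n⁻¹ * (t⁻¹ * x * t) * n = n⁻¹ * y * n := by
          rw [← h1]
          group
        have h3 := mul_left_cancel (mul_right_cancel h2)
        exact h3.symm
      rw [e]
      have h4 := conj_mem_of_normalizer htinv hx
      simpa using h4
  have h5 := inv_norm hI hn hQS hP' hm
  refine h5.congr fun y _ => ?_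
  have e : n * (w * s * w⁻¹) * n⁻¹ = u := by
    rw [hwdef, hsdef]
    group
  rw [e]

/-- Elements of `K_R` act on `R` in `E`. -/
theorem sm_KR (hI : E.IsInvariantIn (groupFusionSystem (S : Subgroup G)))
    {R : Subgroup G} (hR : (groupFusionSystem (S : Subgroup G)).IsFullyNormalized R) {g : G}
    (hg : g ∈ Subgroup.closure {g : G | g ∈ Subgroup.normalizer (R : Set G) ∧ ∃ k : ℕ, orderOf g = p ^ k}) :
    g ∈ Subgroup.normalizer (R : Set G) ∧ Mp E R (cj g) := by
  have hRS : R ≤ (S : Subgroup G) := hR.1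
  induction hg using Subgroup.closure_induction with
  | mem x hx => exact ⟨hx.1, sm_pelt hI hR hx.1 hx.2⟩
  | one => exact ⟨Subgroup.one_mem _, mp_cj_one hRS⟩
  | mul x y _ _ hx hy =>
    refine ⟨Subgroup.mul_mem _ hx.1 hy.1, ?_⟩
    exact mp_cj_mul hy.2 (fun a ha => conj_mem_of_normalizer hy.1 ha) hx.2
  | inv x _ hx =>
    exact ⟨Subgroup.inv_mem _ hx.1, mp_cj_inv hx.2 (fun a ha => conj_mem_of_normalizer hx.1 ha)⟩

end E

end Cfsg.Agent.H25
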