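import Cfsg.Agent.Lib.H25.SimInn
import Cfsg.Agent.Lib.H13.Q8Act
set_option autoImplicit false
set_option linter.style.haveILetI false

/-! Simplicity of the fusion system when a Sylow `2`-subgroup is dihedral of order at least `8` and all involutions
are conjugate. -/

namespace Cfsg.Agent.H25

open Cfsg Cfsg.FusionSystem

section E
variable {G : Type*} [Group G] [Finite G]

theorem pelt_mem_sylow {p : ℕ} [Fact p.Prime] (S : Sylow p G) {s : G} (hsN : s ∈ Subgroup.normalizer ((S : Subgroup G) : Set G))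
    {e : ℕ} (he : s ^ p ^ e = 1) : s ∈ (S : Subgroup G) := by
  have hSp : IsPGroup p (S : Subgroup G) := Cfsg.Agent.H24.sylow_isPGroup S
  have hZ : IsPGroup p (Subgroup.zpowers s) := by
    have h1 : orderOf s ∣ p ^ e := orderOf_dvd_of_pow_eq_one he
    obtain ⟨m, -, hm⟩ := (Nat.dvd_prime_pow Fact.out).1 h1
    exact IsPGroup.of_card (n := m) (by rw [Nat.card_zpowers, hm])
  have hN : Subgroup.zpowers s ≤ Subgroup.normalizer ((S : Subgroup G) : Set G) := by
    rw [Subgroup.zpowers_le]
    exact hsN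
  have hY : IsPGroup p ↥((S : Subgroup G) ⊔ Subgroup.zpowers s) := by
    have := hZ.to_sup_of_normal_right' hSp hN
    rwa [sup_comm] at this
  have hE := S.is_maximal' hY le_sup_left
  have : Subgroup.zpowers s ≤ (S : Subgroup G) := by
    have h2 : Subgroup.zpowers s ≤ (S : Subgroup G) ⊔ Subgroup.zpowers s := le_sup_right
    rwa [hE] at h2
  exact this (Subgroup.mem_zpowers s)

theorem sc_conj {p : ℕ} [Fact p.Prime] {S : Sylow p G} {T : Subgroup G}
    (hT : (groupFusionSystem (S : Subgroup G)).StronglyClosed T) {t g : G} (ht : t ∈ T)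
    (h : g * t * g⁻¹ ∈ (S : Subgroup G)) : g * t * g⁻¹ ∈ T := by
  have hR : Subgroup.zpowers t ≤ T := by
    rw [Subgroup.zpowers_le]
    exact ht
  have hRS : Subgroup.zpowers t ≤ (S : Subgroup G) := hR.trans hT.1
  have hm : Mp (groupFusionSystem (S : Subgroup G)) (Subgroup.zpowers t) (cj g) := by
    refine mp_F_cj hRS ?_
    rintro _ ⟨n, rfl⟩
    have e : g * t ^ n * g⁻¹ = (g * t * g⁻¹) ^ n := by rw [conj_zpow]
    simp only
    rw [e]
    exact Subgroup.zpow_mem _ h n
  obtain ⟨φ, hφ, hf⟩ := hm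
  have h1 := hT.2 _ hR φ hφ ⟨t, Subgroup.mem_zpowers t⟩
  rwa [hf] at h1

theorem dih_simple (S : Sylow 2 G) (c t : G) (hc : c ∈ (S : Subgroup G)) (ht : t ∈ (S : Subgroup G))
    (hS : ∀ x ∈ (S : Subgroup G), x ∈ Subgroup.zpowers c ∨ ∃ i : ℕ, x = t * c ^ i)
    (hinv : ∀ i : ℕ, (t * c ^ i) ^ 2 = 1) (ht' : t ∉ Subgroup.zpowers c) (h4 : 4 ≤ orderOf c)
    (hconj : ∀ x y : G, orderOf x = 2 → orderOf y = 2 → IsConj x y) :
    (groupFusionSystem (S : Subgroup G)).IsSimple 2 := by
  have hSp : IsPGroup 2 (S : Subgroup G) := Cfsg.Agent.H24.sylow_isPGroup S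
  have hord2 : ∀ x : G, x ≠ 1 → x ^ 2 = 1 → orderOf x = 2 := fun x h1 h2 => orderOf_eq_prime h2 h1
  have ht1 : t ≠ 1 := fun h => ht' (by rw [h]; exact Subgroup.one_mem _)
  have ht2 : t ^ 2 = 1 := by simpa using hinv 0
  have htc1 : t * c ≠ 1 := by
    intro h
    apply ht'
    have : t = c⁻¹ := eq_inv_of_mul_eq_one_left h
    rw [this]
    exact Subgroup.inv_mem _ (Subgroup.mem_zpowers c)
  have htc2 : (t * c) ^ 2 = 1 := by simpa using hinv 1
  have hS1 : (S : Subgroup G) ≠ ⊥ := by
    intro h
    rw [h] at ht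
    exact ht1 (Subgroup.mem_bot.1 ht)
  obtain ⟨e, he⟩ := (IsPGroup.iff_orderOf.1 hSp) ⟨c, hc⟩
  have hoc : orderOf c = 2 ^ e := by rw [← Subgroup.orderOf_mk]; exact he
  refine simple_of_inner S hS1 ?_ ?_
  · intro T hT
    by_cases hb : T = ⊥
    · exact Or.inl hb
    right
    have hTS : T ≤ (S : Subgroup G) := hT.1
    have hTp : IsPGroup 2 T := hSp.to_le hTS
    haveI : Nontrivial T := (Subgroup.nontrivial_iff_ne_bot T).2 hb
    haveI : Fact (Nat.Prime 2) := ⟨Nat.prime_two⟩
    obtain ⟨i, hi⟩ : ∃ i : T, orderOf i = 2 := by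
      refine exists_prime_orderOf_dvd_card' 2 ?_
      rcases hTp.card_eq_or_dvd with h | h
      · exfalso
        have := Finite.one_lt_card (α := T)
        omega
      · exact h
    have hiT : (i : G) ∈ T := i.2
    have hoi : orderOf (i : G) = 2 := by rw [Subgroup.orderOf_coe]; exact hi
    have hall : ∀ y ∈ (S : Subgroup G), orderOf y = 2 → y ∈ T := by
      intro y hy hoy
      obtain ⟨g, hg⟩ := _root_.isConj_iff.1 (hconj _ _ hoi hoy)
      have := sc_conj hT (g := g) hiT (by rw [hg]; exact hy)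
      rwa [hg] at this
    have htT : t ∈ T := hall t ht (hord2 t ht1 ht2)
    have htcT : t * c ∈ T := hall _ ((S : Subgroup G).mul_mem ht hc) (hord2 _ htc1 htc2)
    have hcT : c ∈ T := by
      have := T.mul_mem (T.inv_mem htT) htcT
      simpa using this
    refine le_antisymm hTS fun x hx => ?_
    rcases hS x hx with h | ⟨j, rfl⟩
    · obtain ⟨n, rfl⟩ := h
      exact T.zpow_mem hcT n
    · exact T.mul_mem htT (T.pow_mem hcT j)
  · intro g hg
    obtain ⟨m₁, m₂, hgg, hco, ⟨f, hf⟩, -⟩ := exists_parts (p := 2) g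
    set k := g ^ m₁ with hk
    set s := g ^ m₂ with hs
    have hkN : k ∈ Subgroup.normalizer ((S : Subgroup G) : Set G) := Subgroup.pow_mem _ hg m₁
    have hsN : s ∈ Subgroup.normalizer ((S : Subgroup G) : Set G) := Subgroup.pow_mem _ hg m₂
    have hsS : s ∈ (S : Subgroup G) := pelt_mem_sylow S hsN hf
    have hkodd : Odd (orderOf k) := by
      rcases Nat.even_or_odd (orderOf k) with h | h
      · exfalso
        have h2 : 2 ∣ orderOf k := h.two_dvd
        have := Nat.eq_one_of_dvd_coprimes hco h2 (dvd_refl 2)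
        omega
      · exact h
    -- `k` commutes with `c`
    have hcc : k * c * k⁻¹ ∈ Subgroup.zpowers c := by
      rcases hS _ (conj_mem_of_normalizer hkN hc) with h | ⟨i, hi⟩
      · exact h
      · exfalso
        have h1 : (k * c * k⁻¹) ^ 2 = 1 := by rw [hi]; exact hinv i
        have h2 : k * c ^ 2 * k⁻¹ = 1 := by rw [← conj_pow]; exact h1
        have h3 : c ^ 2 = 1 := by
          have : c ^ 2 = k⁻¹ * (k * c ^ 2 * k⁻¹) * k := by group
          rw [this, h2]
          group
        have h5 : orderOf c ∣ 2 := orderOf_dvd_of_pow_eq_one h3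
        have := Nat.le_of_dvd (by norm_num) h5
        omega
    have hkc : k * c = c * k :=
      Cfsg.Agent.H13.odd_comm_of_conj_mem_zpowers hkodd (e := e) (by rw [← hoc]; exact pow_orderOf_eq_one c) hcc
    have hkcp : ∀ j : ℕ, k * c ^ j = c ^ j * k := fun j => (Commute.pow_right hkc j)
    -- `k` commutes with `t`
    have hkt : k * t = t * k := by
      rcases hS _ (conj_mem_of_normalizer hkN ht) with h | ⟨i, hi⟩
      · exfalso
        obtain ⟨n, hn⟩ := h
        apply ht'
        have hn' : c ^ n = k * t * k⁻¹ := hn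
        have hz : k * c ^ n = c ^ n * k := Commute.zpow_right hkc n
        have : t = c ^ n := by
          have e1 : k * t = c ^ n * k := by rw [hn']; group
          have e2 : k * t = k * c ^ n := by rw [e1, hz]
          exact mul_left_cancel e2
        rw [this]
        exact ⟨n, rfl⟩
      · have hind : ∀ j : ℕ, k ^ j * t * (k ^ j)⁻¹ = t * c ^ (i * j) := by
          intro j
          induction j with
          | zero => simp
          | succ j ih =>
            have e1 : k ^ (j + 1) * t * (k ^ (j + 1))⁻¹ = k * (k ^ j * t * (k ^ j)⁻¹) * k⁻¹ := by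
              rw [pow_succ']
              group
            rw [e1, ih]
            have e2 : k * (t * c ^ (i * j)) * k⁻¹ = (k * t * k⁻¹) * (k * c ^ (i * j) * k⁻¹) := by group
            rw [e2, hi, hkcp]
            have e3 : c ^ (i * j) * k * k⁻¹ = c ^ (i * j) := by group
            rw [e3, mul_assoc, ← pow_add]
            congr 2
            ring
        have h1 := hind (orderOf k)
        rw [pow_orderOf_eq_one] at h1
        have h2 : t = t * c ^ (i * orderOf k) := by simpa using h1
        have h3 : c ^ (i * orderOf k) = 1 := by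
          have := mul_left_cancel (a := t) (b := 1) (c := c ^ (i * orderOf k)) (by simpa using h2)
          exact this.symm
        have h4 : 2 ^ e ∣ i * orderOf k := by
          rw [← hoc]
          exact orderOf_dvd_of_pow_eq_one h3
        have h5 : Nat.Coprime (2 ^ e) (orderOf k) := Nat.Coprime.pow_left e (Nat.coprime_comm.1 hco)
        have h6 : 2 ^ e ∣ i := h5.dvd_of_dvd_mul_right h4
        have h7 : c ^ i = 1 := by
          rw [← hoc] at h6
          exact orderOf_dvd_iff_pow_eq_one.1 h6
        rw [h7, mul_one] at hi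
        rw [mul_inv_eq_iff_eq_mul] at hi
        exact hi
    refine ⟨s, hsS, fun x hx => ?_⟩
    have hcomm : ∀ y ∈ (S : Subgroup G), k * y = y * k := by
      intro y hy
      rcases hS y hy with h | ⟨j, rfl⟩
      · obtain ⟨n, rfl⟩ := h
        exact (Commute.zpow_right hkc n)
      · calc k * (t * c ^ j) = t * (k * c ^ j) := by rw [← mul_assoc, hkt, mul_assoc]
          _ = t * c ^ j * k := by rw [hkcp]; group
    have h1 := hcomm _ ((S : Subgroup G).mul_mem ((S : Subgroup G).mul_mem hsS hx) ((S : Subgroup G).inv_mem hsS))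
    calc g * x * g⁻¹ = k * s * x * (k * s)⁻¹ := by rw [hgg]
      _ = (k * (s * x * s⁻¹)) * k⁻¹ := by group
      _ = ((s * x * s⁻¹) * k) * k⁻¹ := by rw [h1]
      _ = s * x * s⁻¹ := by group

end E

end Cfsg.Agent.H25
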