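import Cfsg.Agent.Lib.H25.SimInn
import Cfsg.Agent.Lib.H25.Sim2
set_option autoImplicit false
set_option linter.style.haveILetI false

/-! The simplicity criterion in group terms, with conjugation invariance. -/

namespace Cfsg.Agent.H25

open Cfsg Cfsg.FusionSystem

section E
variable {G : Type*} [Group G]

/-- Strong closure in group terms. -/
def GCa (S : Subgroup G) : Prop :=
  ∀ T : Subgroup G, T ≤ S → (∀ t ∈ T, ∀ g : G, g * t * g⁻¹ ∈ S → g * t * g⁻¹ ∈ T) → T = ⊥ ∨ T = S

/-- Generators: elements centralizing `S`, and elements normalizing `S` that lie in `K_R` for a normal, self-centralizing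
subgroup `R` of `S`. -/
def GGen (p : ℕ) (S : Subgroup G) : Set G :=
  {x | (∀ y ∈ S, x * y = y * x) ∨ (x ∈ Subgroup.normalizer (S : Set G) ∧ ∃ R : Subgroup G, R ≤ S ∧
    S ≤ Subgroup.normalizer (R : Set G) ∧ (∀ y ∈ S, (∀ r ∈ R, y * r = r * y) → y ∈ R) ∧
    x ∈ Subgroup.closure {g : G | g ∈ Subgroup.normalizer (R : Set G) ∧ ∃ k : ℕ, orderOf g = p ^ k})}

/-- The generation hypothesis. -/
def GCb (p : ℕ) (S : Subgroup G) : Prop :=
  ∀ g ∈ Subgroup.normalizer (S : Set G), g ∈ Subgroup.closure (GGen p S)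

theorem mem_norm_map (e : MulAut G) {S S' : Subgroup G} (hS' : ∀ x, x ∈ S' ↔ e.symm x ∈ S) {g : G}
    (hg : g ∈ Subgroup.normalizer (S' : Set G)) : e.symm g ∈ Subgroup.normalizer (S : Set G) := by
  refine Subgroup.mem_normalizer_iff.2 fun x => ?_
  have h1 := Subgroup.mem_normalizer_iff.1 hg (e x)
  constructor
  · intro hx
    have h2 : e x ∈ S' := (hS' _).2 (by simpa using hx)
    have h3 := (hS' _).1 (h1.1 h2)
    simpa using h3
  · intro hx
    have h2 : g * e x * g⁻¹ ∈ S' := (hS' _).2 (by simpa using hx)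
    have h3 := (hS' _).1 (h1.2 h2)
    simpa using h3

theorem mem_norm_map' (e : MulAut G) {S S' : Subgroup G} (hS' : ∀ x, x ∈ S' ↔ e.symm x ∈ S) {g : G}
    (hg : g ∈ Subgroup.normalizer (S : Set G)) : e g ∈ Subgroup.normalizer (S' : Set G) := by
  refine Subgroup.mem_normalizer_iff.2 fun x => ?_
  have h1 := Subgroup.mem_normalizer_iff.1 hg (e.symm x)
  rw [hS', hS']
  simpa using h1

theorem GCa.map (e : MulAut G) {S S' : Subgroup G} (hS' : ∀ x, x ∈ S' ↔ e.symm x ∈ S) (h : GCa S) : GCa S' := by
  intro T hT hc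
  have hmem : ∀ x, x ∈ T.map e.symm.toMonoidHom ↔ e x ∈ T := by
    intro x
    constructor
    · rintro ⟨y, hy, rfl⟩
      simpa using hy
    · intro hx
      exact ⟨e x, hx, by simp⟩
  have hle : T.map e.symm.toMonoidHom ≤ S := by
    rintro _ ⟨y, hy, rfl⟩
    exact (hS' y).1 (hT hy)
  have hcl : ∀ t ∈ T.map e.symm.toMonoidHom, ∀ g : G, g * t * g⁻¹ ∈ S → g * t * g⁻¹ ∈ T.map e.symm.toMonoidHom := by
    intro t ht g hg
    have ht' := (hmem t).1 ht
    have h2 : e g * e t * (e g)⁻¹ ∈ S' := by
      rw [hS']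
      simpa using hg
    have h3 := hc _ ht' _ h2
    rw [hmem]
    simpa using h3
  rcases h (T.map e.symm.toMonoidHom) hle hcl with h1 | h1
  · left
    rw [eq_bot_iff]
    intro x hx
    have h2 : e.symm x ∈ T.map e.symm.toMonoidHom := ⟨x, hx, rfl⟩
    rw [h1] at h2
    have h3 : e.symm x = 1 := Subgroup.mem_bot.1 h2
    simpa using h3
  · right
    refine le_antisymm hT fun x hx => ?_
    have h2 : e.symm x ∈ T.map e.symm.toMonoidHom := by
      rw [h1]
      exact (hS' x).1 hx
    have h3 := (hmem _).1 h2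
    simpa using h3

theorem mem_GGen_map {p : ℕ} (e : MulAut G) {S S' : Subgroup G} (hS' : ∀ x, x ∈ S' ↔ e.symm x ∈ S) {x : G}
    (hx : x ∈ GGen p S) : e x ∈ GGen p S' := by
  rcases hx with h | ⟨h1, R, hRS, hSR, hC, hK⟩
  · left
    intro y hy
    have := h _ ((hS' y).1 hy)
    have h2 := congrArg e this
    simpa using h2
  · right
    refine ⟨mem_norm_map' e hS' h1, R.map e.toMonoidHom, ?_, ?_, ?_, ?_⟩
    · rintro _ ⟨r, hr, rfl⟩
      rw [hS']
      simpa using hRS hr
    · intro y hy
      have hR' : ∀ x, x ∈ R.map e.toMonoidHom ↔ e.symm x ∈ R := by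
        intro x
        constructor
        · rintro ⟨y, hy, rfl⟩
          simpa using hy
        · intro hx
          exact ⟨e.symm x, hx, by simp⟩
      have := hSR ((hS' y).1 hy)
      have h3 := mem_norm_map' e hR' this
      simpa using h3
    · intro y hy hcy
      have h2 := hC _ ((hS' y).1 hy) (fun r hr => by
        have h3 := hcy (e r) ⟨r, hr, rfl⟩
        have h4 := congrArg e.symm h3
        simpa using h4)
      exact ⟨_, h2, by simp⟩
    · have hR' : ∀ x, x ∈ R.map e.toMonoidHom ↔ e.symm x ∈ R := by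
        intro x
        constructor
        · rintro ⟨y, hy, rfl⟩
          simpa using hy
        · intro hx
          exact ⟨e.symm x, hx, by simp⟩
      have h3 : e x ∈ (Subgroup.closure {g : G | g ∈ Subgroup.normalizer (R : Set G) ∧ ∃ k : ℕ, orderOf g = p ^ k}).map
          e.toMonoidHom := ⟨x, hK, rfl⟩
      rw [MonoidHom.map_closure] at h3
      refine (Subgroup.closure_le _).2 ?_ h3
      rintro _ ⟨g, ⟨hg, k, hk⟩, rfl⟩
      refine Subgroup.subset_closure ⟨mem_norm_map' e hR' hg, k, ?_⟩
      have : orderOf (e.toMonoidHom g) = orderOf g := orderOf_injective _ e.injective g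
      rw [this, hk]

theorem GCb.map {p : ℕ} (e : MulAut G) {S S' : Subgroup G} (hS' : ∀ x, x ∈ S' ↔ e.symm x ∈ S) (h : GCb p S) : GCb p S' := by
  intro g hg
  have h1 := h _ (mem_norm_map e hS' hg)
  have h2 : e (e.symm g) ∈ (Subgroup.closure (GGen p S)).map e.toMonoidHom := ⟨_, h1, rfl⟩
  rw [MonoidHom.map_closure] at h2
  have hsub : (⇑e.toMonoidHom '' GGen p S) ⊆ (Subgroup.closure (GGen p S') : Subgroup G) := by
    rintro _ ⟨x, hx, rfl⟩
    exact Subgroup.subset_closure (mem_GGen_map e hS' hx)
  have h3 := (Subgroup.closure_le _).2 hsub h2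
  simpa using h3

variable [Finite G] {p : ℕ} [Fact p.Prime]

theorem simple_of_crit (S : Sylow p G) (hS1 : (S : Subgroup G) ≠ ⊥) (ha : GCa (S : Subgroup G))
    (hb : GCb p (S : Subgroup G)) : (groupFusionSystem (S : Subgroup G)).IsSimple p := by
  have hF : (groupFusionSystem (S : Subgroup G)).IsSaturated p := Cfsg.Agent.H24.groupFusion_saturated S
  have hSp : IsPGroup p (S : Subgroup G) := Cfsg.Agent.H24.sylow_isPGroup S
  refine ⟨hF, hS1, fun T E hN => ?_⟩
  have hEs : E.IsSaturated p := hN.1.1
  have hI : E.IsInvariantIn (groupFusionSystem (S : Subgroup G)) := hN.1.2.2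
  rcases ha T hI.2.1.1 (fun t ht g hg => sc_of_inv hI ht hg) with h | h
  · exact Or.inl h
  · subst h
    refine Or.inr ⟨rfl, ?_⟩
    have hkey : ∀ g ∈ Subgroup.closure (GGen p (S : Subgroup G)),
        g ∈ Subgroup.normalizer ((S : Subgroup G) : Set G) ∧ Mp E (S : Subgroup G) (cj g) := by
      intro g hg
      induction hg using Subgroup.closure_induction with
      | mem x hx =>
        rcases hx with h | ⟨h1, R, hRS, hSR, hC, hK⟩
        · refine ⟨?_, (Mp.id (le_refl _)).congr fun y hy => ?_⟩
          · refine mem_normalizer_of_conj (fun y hy => ?_) (fun y hy => ?_)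
            · have e : x * y * x⁻¹ = y := by rw [h y hy]; group
              rwa [e]
            · have e : x⁻¹ * y * x = y := by
                have := h y hy
                rw [mul_assoc, ← this]
                group
              rwa [e]
          · have e : x * y * x⁻¹ = y := by rw [h y hy]; group
            exact e.symm
        · refine ⟨h1, ?_⟩
          have hfn : (groupFusionSystem (S : Subgroup G)).IsFullyNormalized R := by
            refine ⟨hRS, fun Q _ => ?_⟩
            have h2 : normalizerIn (S : Subgroup G) Q ≤ normalizerIn (S : Subgroup G) R := fun y hy =>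
              ⟨hy.1, hSR hy.1⟩
            exact Subgroup.card_le_of_le h2
          have hfar := far_of_fullyNormalized hSp hF hfn
          have hcen : (groupFusionSystem (S : Subgroup G)).IsCentric R := by
            refine isCentric_of_far hSp hfar fun y hy => ?_
            obtain ⟨hy1, hy2⟩ := mem_centralizerIn.1 hy
            exact hC y hy1 fun r hr => (hy2 r hr).symm
          obtain ⟨hgR, hgE⟩ := sm_KR hI hfn hK
          exact sm_chain hEs hI.1 h1 R hcen (fun y hy => conj_mem_of_normalizer hgR hy) hgE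
      | one => exact ⟨Subgroup.one_mem _, mp_cj_one (le_refl _)⟩
      | mul x y _ _ hx hy =>
        refine ⟨Subgroup.mul_mem _ hx.1 hy.1, ?_⟩
        exact mp_cj_mul hy.2 (fun a ha => conj_mem_of_normalizer hy.1 ha) hx.2
      | inv x _ hx =>
        exact ⟨Subgroup.inv_mem _ hx.1, mp_cj_inv hx.2 (fun a ha => conj_mem_of_normalizer hx.1 ha)⟩
    intro P
    ext φ
    constructor
    · exact fun h => hI.1 P h
    · intro hφ
      have hPS : P ≤ (S : Subgroup G) := ((groupFusionSystem (S : Subgroup G)).le_of_mem hφ).1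
      obtain ⟨α, hα, φ₀, hφ₀, h⟩ := hI.2.2.2 P hPS φ hφ
      obtain ⟨n, hn⟩ := exists_of_mp_F (Mp.of_mem_autGroup (le_refl _) hα)
      have hn' : ∀ t : (S : Subgroup G), ((α t : (S : Subgroup G)) : G) = n * t * n⁻¹ := by
        intro t
        have := hn t t.2
        rwa [toFun_aut] at this
      have hnN : n ∈ Subgroup.normalizer ((S : Subgroup G) : Set G) := normalizer_of_aut hn'
      have hnE := (hkey n (hb n hnN)).2
      have m1 := mp_of_mem hφ₀
      refine (m1.comp (fun x hx => m1.mem hx) hnE).mem_hom fun x => ?_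
      have hv : φ₀ x ∈ (S : Subgroup G) := (E.le_of_mem hφ₀).2 x
      rw [h x hv, hn' ⟨φ₀ x, hv⟩]
      show n * φ₀ x * n⁻¹ = n * toFun φ₀ x * n⁻¹
      rw [toFun_coe φ₀ x]

/-- The criterion for all Sylow subgroups from one of them. -/
theorem simple_of_crit_conj (S₀ S : Sylow p G) (hS1 : (S₀ : Subgroup G) ≠ ⊥) (ha : GCa (S₀ : Subgroup G))
    (hb : GCb p (S₀ : Subgroup G)) : (groupFusionSystem (S : Subgroup G)).IsSimple p := by
  obtain ⟨a, ha'⟩ := MulAction.exists_smul_eq G S₀ S
  have hmem : ∀ x, x ∈ (S : Subgroup G) ↔ (MulAut.conj a).symm x ∈ (S₀ : Subgroup G) := by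
    intro x
    rw [← ha', Sylow.coe_subgroup_smul, Subgroup.mem_smul_pointwise_iff_exists]
    constructor
    · rintro ⟨y, hy, rfl⟩
      have : (MulAut.conj a).symm (MulAut.conj a • y) = y := by
        show (MulAut.conj a).symm ((MulAut.conj a) y) = y
        exact (MulAut.conj a).symm_apply_apply y
      rwa [this]
    · intro hx
      exact ⟨_, hx, by
        show (MulAut.conj a) ((MulAut.conj a).symm x) = x
        exact (MulAut.conj a).apply_symm_apply x⟩
  refine simple_of_crit S ?_ (ha.map _ hmem) (hb.map _ hmem)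
  intro h
  apply hS1
  rw [eq_bot_iff]
  intro x hx
  have h1 : (MulAut.conj a) x ∈ (S : Subgroup G) := by
    rw [hmem, (MulAut.conj a).symm_apply_apply]
    exact hx
  rw [h] at h1
  have h2 : (MulAut.conj a) x = 1 := Subgroup.mem_bot.1 h1
  exact Subgroup.mem_bot.2 ((map_eq_one_iff _ (MulAut.conj a).injective).1 h2)

end E

end Cfsg.Agent.H25
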