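import Cfsg.Agent.S5160
import Cfsg.Agent.Lib.H25.FusEss
set_option autoImplicit false
set_option linter.style.haveILetI false

/-! The simplicity criterion when all automorphisms of the Sylow subgroup are inner. -/

namespace Cfsg.Agent.H25

open Cfsg Cfsg.FusionSystem

section E
variable {G : Type*} [Group G] [Finite G] {p : ℕ} [Fact p.Prime]

theorem simple_of_inner (S : Sylow p G) (hS1 : (S : Subgroup G) ≠ ⊥)
    (ha : ∀ T : Subgroup G, (groupFusionSystem (S : Subgroup G)).StronglyClosed T → T = ⊥ ∨ T = (S : Subgroup G))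
    (hinner : ∀ g ∈ Subgroup.normalizer ((S : Subgroup G) : Set G), ∃ s ∈ (S : Subgroup G),
      ∀ x ∈ (S : Subgroup G), g * x * g⁻¹ = s * x * s⁻¹) :
    (groupFusionSystem (S : Subgroup G)).IsSimple p := by
  have hSp : IsPGroup p (S : Subgroup G) := Cfsg.Agent.H24.sylow_isPGroup S
  have hSS : (S : Subgroup G) ≤ (S : Subgroup G) := le_refl _
  have hSN : (S : Subgroup G) ≤ Subgroup.normalizer ((S : Subgroup G) : Set G) := by
    intro s hs
    refine mem_normalizer_of_conj (fun x hx => ?_) (fun x hx => ?_)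
    · exact (S : Subgroup G).mul_mem ((S : Subgroup G).mul_mem hs hx) ((S : Subgroup G).inv_mem hs)
    · exact (S : Subgroup G).mul_mem ((S : Subgroup G).mul_mem ((S : Subgroup G).inv_mem hs) hx) hs
  -- fully normalized
  have hfn : (groupFusionSystem (S : Subgroup G)).IsFullyNormalized (S : Subgroup G) :=
    ⟨hSS, fun Q _ => by
      have h1 : normalizerIn (S : Subgroup G) Q ≤ normalizerIn (S : Subgroup G) (S : Subgroup G) := fun x hx =>
        ⟨hx.1, hSN hx.1⟩
      exact Subgroup.card_le_of_le h1⟩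
  have hcen : (groupFusionSystem (S : Subgroup G)).IsCentric (S : Subgroup G) := by
    refine ⟨hSS, fun Q hQ => ?_⟩
    obtain ⟨f, hf⟩ := isConj_iff.1 hQ
    have hQS : Q ≤ (S : Subgroup G) := hf.inv.choose_spec.1.mp.le
    have hQe : Q = (S : Subgroup G) := Subgroup.eq_of_le_of_card_ge hQS (le_of_eq hf.card_eq)
    rw [hQe]
    exact fun x hx => hx.1
  have haut : (groupFusionSystem (S : Subgroup G)).autGroup (S : Subgroup G) = autInducedBy ⊤ (S : Subgroup G) :=
    Cfsg.Agent.H24.autGroup_groupFusion hSS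
  have hinn : autInducedBy ⊤ (S : Subgroup G) ≤ autInducedBy (S : Subgroup G) (S : Subgroup G) := by
    refine (Subgroup.closure_le _).2 ?_
    rintro α ⟨g, -, hα⟩
    obtain ⟨s, hs, he⟩ := hinner g (normalizer_of_aut hα)
    exact Subgroup.subset_closure ⟨s, hs, fun x => (hα x).trans (he x x.2)⟩
  have hrad : (groupFusionSystem (S : Subgroup G)).IsRadical p (S : Subgroup G) := by
    refine ⟨hSS, ?_⟩
    have hAI : (groupFusionSystem (S : Subgroup G)).autGroup (S : Subgroup G) = Inn (S : Subgroup G) := by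
      refine le_antisymm ?_ (inn_le_autGroup hSS)
      rw [haut]
      refine hinn.trans ((Subgroup.closure_le _).2 ?_)
      rintro α ⟨s, hs, hα⟩
      refine ⟨⟨s, hs⟩, ?_⟩
      ext x
      exact (hα x).symm
    have hp : IsPGroup p ((groupFusionSystem (S : Subgroup G)).autGroup (S : Subgroup G)) := by
      rw [hAI]
      exact inn_isPGroup hSp
    have htop : pCore p ((groupFusionSystem (S : Subgroup G)).autGroup (S : Subgroup G)) = ⊤ :=
      top_le_iff.1 (le_pCore inferInstance (hp.to_subgroup ⊤))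
    rw [htop, ← MonoidHom.range_eq_map, Subgroup.range_subtype, hAI]
  refine Cfsg.Agent.S5160.result p S hS1 ha ?_
  refine le_antisymm ?_ ?_
  · refine le_trans hinn ?_
    refine le_iSup₂_of_le (S : Subgroup G) ⟨hfn, hrad, hcen⟩ ?_
    refine Subgroup.closure_mono ?_
    rintro α ⟨s, hs, hα⟩
    refine ⟨s, Subgroup.subset_closure ⟨hSN hs, ?_⟩, hα⟩
    obtain ⟨k, hk⟩ := (IsPGroup.iff_orderOf.1 hSp) ⟨s, hs⟩
    exact ⟨k, by rw [← Subgroup.orderOf_mk]; exact hk⟩
  · refine iSup₂_le fun R _ => ?_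
    refine Subgroup.closure_mono ?_
    rintro α ⟨g, -, hα⟩
    exact ⟨g, Subgroup.mem_top g, hα⟩

end E

end Cfsg.Agent.H25
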