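import Cfsg.Agent.Lib.H25.SimGen
import Cfsg.Agent.Lib.Lead.AutPSLSyl
set_option autoImplicit false
set_option linter.style.haveILetI false

/-! The fusion system of `PSL_n(F)` in the defining characteristic: matrices. -/

namespace Cfsg.Agent.H25

open Cfsg Cfsg.Agent.Lead.AutPSL Matrix Matrix.SpecialLinearGroup

variable {F : Type*} [Field F] [Fintype F] {n : ℕ}

theorem uu_low {u : SpecialLinearGroup (Fin n) F} (hu : u ∈ UU n F) {i j : Fin n} (h : j < i) :
    (u : Matrix (Fin n) (Fin n) F) i j = 0 := by
  rw [hu i j h.le, Matrix.one_apply_ne (ne_of_gt h)]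

theorem uu_diag {u : SpecialLinearGroup (Fin n) F} (hu : u ∈ UU n F) (i : Fin n) :
    (u : Matrix (Fin n) (Fin n) F) i i = 1 := by
  rw [hu i i le_rfl, Matrix.one_apply_eq]

theorem uu_mul_adj {u v : SpecialLinearGroup (Fin n) F} (hu : u ∈ UU n F) (hv : v ∈ UU n F) {i j : Fin n}
    (h : (j : ℕ) = i + 1) :
    ((u * v : SpecialLinearGroup (Fin n) F) : Matrix (Fin n) (Fin n) F) i j =
      (u : Matrix (Fin n) (Fin n) F) i j + (v : Matrix (Fin n) (Fin n) F) i j := by
  have hij : i ≠ j := by
    intro e
    rw [e] at h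
    omega
  rw [Matrix.SpecialLinearGroup.coe_mul, Matrix.mul_apply, Finset.sum_eq_add i j hij]
  · rw [uu_diag hu, uu_diag hv, one_mul, mul_one, add_comm]
  · intro k _ hk
    by_cases hki : k < i
    · rw [uu_low hu hki, zero_mul]
    · have hkj : j < k := by
        have h1 : i ≠ k := Ne.symm hk.1
        have h2 : j ≠ k := Ne.symm hk.2
        rw [Fin.lt_def]
        have h3 : (k : ℕ) ≠ i := fun e => h1 (Fin.ext e.symm)
        have h4 : (k : ℕ) ≠ j := fun e => h2 (Fin.ext e.symm)
        rw [not_lt, Fin.le_def] at hki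
        omega
      rw [uu_low hv hkj, mul_zero]
  · simp
  · simp

/-- The part of `UU` with vanishing entry at an adjacent position. -/
def UUA (i j : Fin n) (h : (j : ℕ) = i + 1) : Subgroup (SpecialLinearGroup (Fin n) F) where
  carrier := {u | u ∈ UU n F ∧ (u : Matrix (Fin n) (Fin n) F) i j = 0}
  one_mem' := by
    refine ⟨(UU n F).one_mem, ?_⟩
    have hij : i ≠ j := by
      intro e
      rw [e] at h
      omega
    rw [Matrix.SpecialLinearGroup.coe_one, Matrix.one_apply_ne hij]
  mul_mem' := by
    rintro a b ⟨ha, ha0⟩ ⟨hb, hb0⟩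
    refine ⟨(UU n F).mul_mem ha hb, ?_⟩
    rw [uu_mul_adj ha hb h, ha0, hb0, add_zero]
  inv_mem' := by
    rintro a ⟨ha, ha0⟩
    refine ⟨(UU n F).inv_mem ha, ?_⟩
    have h1 := uu_mul_adj ha ((UU n F).inv_mem ha) h
    have hij : i ≠ j := by
      intro e
      rw [e] at h
      omega
    rw [mul_inv_cancel, Matrix.SpecialLinearGroup.coe_one, Matrix.one_apply_ne hij, ha0, zero_add] at h1
    exact h1.symm

theorem mem_UUA {i j : Fin n} {h : (j : ℕ) = i + 1} {u : SpecialLinearGroup (Fin n) F} :
    u ∈ UUA i j h ↔ u ∈ UU n F ∧ (u : Matrix (Fin n) (Fin n) F) i j = 0 := Iff.rfl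

/-- `UU` normalizes `UUA`. -/
theorem conj_UUA {i j : Fin n} {h : (j : ℕ) = i + 1} {v u : SpecialLinearGroup (Fin n) F} (hv : v ∈ UU n F)
    (hu : u ∈ UUA i j h) : v * u * v⁻¹ ∈ UUA i j h := by
  refine ⟨(UU n F).mul_mem ((UU n F).mul_mem hv hu.1) ((UU n F).inv_mem hv), ?_⟩
  have hij : i ≠ j := by
    intro e
    rw [e] at h
    omega
  have h1 := uu_mul_adj ((UU n F).mul_mem hv hu.1) ((UU n F).inv_mem hv) h
  have h2 := uu_mul_adj hv hu.1 h
  have h3 := uu_mul_adj hv ((UU n F).inv_mem hv) h
  rw [mul_inv_cancel, Matrix.SpecialLinearGroup.coe_one, Matrix.one_apply_ne hij] at h3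
  rw [h1, h2, hu.2, add_zero]
  exact h3.symm

theorem tt_inv {i j : Fin n} (hij : i ≠ j) (t : F) :
    (SpecialLinearGroup.transvection hij t)⁻¹ = SpecialLinearGroup.transvection hij (-t) := by
  rw [inv_eq_iff_mul_eq_one]
  apply Subtype.ext
  rw [Matrix.SpecialLinearGroup.coe_mul, Matrix.SpecialLinearGroup.coe_one, SpecialLinearGroup.transvection_coe,
    SpecialLinearGroup.transvection_coe, mul_add, add_mul, add_mul, one_mul, mul_one, one_mul,
    Matrix.single_mul_single_of_ne _ _ _ _ (Ne.symm hij)]
  rw [add_zero, add_assoc, ← Matrix.single_add, add_neg_cancel, Matrix.single_zero, add_zero]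

theorem tt_mul {i j : Fin n} (hij : i ≠ j) (a b : F) :
    SpecialLinearGroup.transvection hij a * SpecialLinearGroup.transvection hij b =
      SpecialLinearGroup.transvection hij (a + b) := by
  apply Subtype.ext
  rw [Matrix.SpecialLinearGroup.coe_mul, SpecialLinearGroup.transvection_coe,
    SpecialLinearGroup.transvection_coe, SpecialLinearGroup.transvection_coe, mul_add, add_mul, add_mul, one_mul, mul_one, one_mul,
    Matrix.single_mul_single_of_ne _ _ _ _ (Ne.symm hij)]
  simp [Matrix.single_add, add_assoc]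

theorem tt_pow {i j : Fin n} (hij : i ≠ j) (a : F) (k : ℕ) :
    SpecialLinearGroup.transvection hij a ^ k = SpecialLinearGroup.transvection hij ((k : F) * a) := by
  induction k with
  | zero => simp
  | succ k ih =>
    rw [pow_succ, ih, tt_mul]
    congr 1
    push_cast
    ring

/-- The entries of `(1 + b E_{ji}) M (1 - b E_{ji})`. -/
theorem low_conj_entry {i j : Fin n} (hij : i ≠ j) (b : F) (M : Matrix (Fin n) (Fin n) F) (k l : Fin n) :
    ((1 + Matrix.single j i b) * M * (1 + Matrix.single j i (-b))) k l =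
      M k l + (if k = j then b * M i l else 0) + (if l = i then (M k j + (if k = j then b * M i j else 0)) * (-b) else 0) := by
  have hA : ∀ k l, ((1 + Matrix.single j i b) * M) k l = M k l + (if k = j then b * M i l else 0) := by
    intro k l
    rw [add_mul, one_mul, Matrix.add_apply]
    congr 1
    by_cases hk : k = j
    · subst hk
      rw [Matrix.single_mul_apply_same, if_pos rfl]
    · rw [Matrix.single_mul_apply_of_ne _ _ _ _ _ hk, if_neg hk]
  rw [mul_add, mul_one, Matrix.add_apply, hA]
  congr 1
  by_cases hl : l = i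
  · subst hl
    rw [Matrix.mul_single_apply_same, if_pos rfl, hA]
  · rw [Matrix.mul_single_apply_of_ne _ _ _ _ _ hl, if_neg hl]

/-- The lower transvection normalizes `UUA`. -/
theorem low_conj_UUA {i j : Fin n} {h : (j : ℕ) = i + 1} (b : F) (hij : j ≠ i) {u : SpecialLinearGroup (Fin n) F}
    (hu : u ∈ UUA i j h) :
    SpecialLinearGroup.transvection hij b * u * (SpecialLinearGroup.transvection hij b)⁻¹ ∈ UUA i j h := by
  have hij' : i ≠ j := Ne.symm hij
  have hlt : i < j := by rw [Fin.lt_def]; omega
  have hu0 := hu.1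
  have hu1 := hu.2
  set M := (u : Matrix (Fin n) (Fin n) F) with hM
  have hE : ∀ k l, ((SpecialLinearGroup.transvection hij b * u * (SpecialLinearGroup.transvection hij b)⁻¹ :
      SpecialLinearGroup (Fin n) F) : Matrix (Fin n) (Fin n) F) k l =
      M k l + (if k = j then b * M i l else 0) + (if l = i then (M k j + (if k = j then b * M i j else 0)) * (-b) else 0) := by
    intro k l
    rw [tt_inv, Matrix.SpecialLinearGroup.coe_mul, Matrix.SpecialLinearGroup.coe_mul, SpecialLinearGroup.transvection_coe,
      SpecialLinearGroup.transvection_coe, low_conj_entry hij' b]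
  refine ⟨?_, ?_⟩
  · intro k l hlk
    rw [hE]
    by_cases hki : k = j
    · subst hki
      by_cases hli : l = i
      · subst hli
        simp only [if_true, hu1]
        rw [hM, uu_low hu0 hlt, uu_diag hu0, uu_diag hu0, Matrix.one_apply_ne (Ne.symm hij')]
        ring
      · rw [if_pos rfl, if_neg hli]
        by_cases hlk' : l = k
        · subst hlk'
          rw [hu1, hM, uu_diag hu0, Matrix.one_apply_eq]
          ring
        · have hlk2 : l < k := lt_of_le_of_ne hlk hlk'
          have hli2 : l < i := by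
            rw [Fin.lt_def] at hlk2 ⊢
            have : (l : ℕ) ≠ i := fun e => hli (Fin.ext e)
            omega
          rw [hM, uu_low hu0 hlk2, uu_low hu0 hli2, Matrix.one_apply_ne (ne_of_gt hlk2)]
          ring
    · rw [if_neg hki, add_zero, if_neg hki]
      by_cases hli : l = i
      · subst hli
        rw [if_pos rfl]
        by_cases hkl : k = l
        · subst hkl
          rw [hu1, add_zero, zero_mul, add_zero]
          exact hu0 _ _ le_rfl
        · have hlk2 : l < k := lt_of_le_of_ne hlk (Ne.symm hkl)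
          have hjk : j < k := by
            rw [Fin.lt_def] at hlk2 ⊢
            have : (k : ℕ) ≠ j := fun e => hki (Fin.ext e)
            omega
          rw [hM, uu_low hu0 hjk, add_zero, zero_mul, add_zero]
          exact hu0 _ _ hlk
      · rw [if_neg hli, add_zero]
        exact hu0 _ _ hlk
  · rw [hE, if_neg hij', if_neg hij, add_zero, add_zero]
    exact hu1

end Cfsg.Agent.H25
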