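import Cfsg.Agent.Lib.H25.SimLn1
set_option autoImplicit false
set_option linter.style.haveILetI false

/-! The fusion system of `PSL_n(F)` in the defining characteristic: diagonal matrices, generation. -/

namespace Cfsg.Agent.H25

open Cfsg Cfsg.Agent.Lead.AutPSL Matrix Matrix.SpecialLinearGroup

variable {F : Type*} [Field F] [Fintype F] {n : ℕ}

/-- The diagonal element of `SL`. -/
def dg (D : Fin n → F) (hD : ∏ i, D i = 1) : SpecialLinearGroup (Fin n) F :=
  ⟨Matrix.diagonal D, by rw [Matrix.det_diagonal, hD]⟩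

theorem dg_coe (D : Fin n → F) (hD : ∏ i, D i = 1) :
    (dg D hD : Matrix (Fin n) (Fin n) F) = Matrix.diagonal D := rfl

theorem dg_mul (D D' : Fin n → F) (hD : ∏ i, D i = 1) (hD' : ∏ i, D' i = 1) (hDD : ∏ i, (D * D') i = 1) :
    dg D hD * dg D' hD' = dg (D * D') hDD := by
  apply Subtype.ext
  rw [Matrix.SpecialLinearGroup.coe_mul, dg_coe, dg_coe, dg_coe, Matrix.diagonal_mul_diagonal]
  rfl

theorem prod_inv' (D : Fin n → F) (hD : ∏ i, D i = 1) : ∏ i, D⁻¹ i = 1 := by
  simp only [Pi.inv_apply]
  rw [Finset.prod_inv_distrib, hD, inv_one]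

theorem dg_ne (D : Fin n → F) (hD : ∏ i, D i = 1) (i : Fin n) : D i ≠ 0 := by
  intro h
  have := Finset.prod_eq_zero (Finset.mem_univ i) h
  rw [hD] at this
  exact one_ne_zero this

theorem dg_inv (D : Fin n → F) (hD : ∏ i, D i = 1) : (dg D hD)⁻¹ = dg D⁻¹ (prod_inv' D hD) := by
  rw [inv_eq_iff_mul_eq_one]
  apply Subtype.ext
  rw [Matrix.SpecialLinearGroup.coe_mul, dg_coe, dg_coe, Matrix.diagonal_mul_diagonal,
    Matrix.SpecialLinearGroup.coe_one, ← Matrix.diagonal_one]
  congr 1
  ext i
  simp [dg_ne D hD i]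

/-- The diagonal of a torus element of an `SL₂`-block. -/
def Dd (i j : Fin n) (t : F) : Fin n → F := fun k => if k = i then t else if k = j then t⁻¹ else 1

theorem prod_Dd {i j : Fin n} (hij : i ≠ j) {t : F} (ht : t ≠ 0) : ∏ k, Dd i j t k = 1 := by
  rw [Finset.prod_eq_mul i j hij]
  · simp [Dd, Ne.symm hij, ht]
  · intro c _ hc
    simp [Dd, hc.1, hc.2]
  · simp
  · simp

/-- The general form in a block. -/
def MM (i j : Fin n) (α β γ δ : F) : Matrix (Fin n) (Fin n) F :=
  1 + Matrix.single i i α + Matrix.single i j β + Matrix.single j i γ + Matrix.single j j δ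

theorem MM_x {i j : Fin n} (hij : i ≠ j) (α β γ δ c : F) :
    MM i j α β γ δ * (1 + Matrix.single i j c) = MM i j α (β + c + α * c) γ (δ + γ * c) := by
  unfold MM
  simp only [mul_add, add_mul, one_mul, mul_one, Matrix.single_mul_single_same,
    Matrix.single_mul_single_of_ne _ _ _ _ (Ne.symm hij), Matrix.single_add, zero_add, add_zero]
  abel

theorem MM_y {i j : Fin n} (hij : i ≠ j) (α β γ δ d : F) :
    MM i j α β γ δ * (1 + Matrix.single j i d) = MM i j (α + β * d) β (γ + d + δ * d) δ := by
  unfold MM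
  simp only [mul_add, add_mul, one_mul, mul_one, Matrix.single_mul_single_same,
    Matrix.single_mul_single_of_ne _ _ _ _ hij, Matrix.single_add, zero_add, add_zero]
  abel

/-- A torus element is a product of four transvections. -/
theorem dg_Dd {i j : Fin n} (hij : i ≠ j) {t : F} (ht : t ≠ 0) :
    dg (Dd i j t) (prod_Dd hij ht) = SpecialLinearGroup.transvection hij (t - 1) *
      SpecialLinearGroup.transvection (Ne.symm hij) 1 * SpecialLinearGroup.transvection hij (t⁻¹ - 1) *
      SpecialLinearGroup.transvection (Ne.symm hij) (-t) := by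
  apply Subtype.ext
  rw [Matrix.SpecialLinearGroup.coe_mul, Matrix.SpecialLinearGroup.coe_mul, Matrix.SpecialLinearGroup.coe_mul,
    SpecialLinearGroup.transvection_coe, SpecialLinearGroup.transvection_coe, SpecialLinearGroup.transvection_coe,
    SpecialLinearGroup.transvection_coe, dg_coe]
  have h0 : (1 + Matrix.single i j (t - 1) : Matrix (Fin n) (Fin n) F) = MM i j 0 (t - 1) 0 0 := by
    simp [MM]
  rw [h0, MM_y hij, MM_x hij, MM_y hij]
  have ht' : t * t⁻¹ = 1 := mul_inv_cancel₀ ht
  have e1 : (0 + (t - 1) * 1 + (t - 1 + (t⁻¹ - 1) + (0 + (t - 1) * 1) * (t⁻¹ - 1)) * -t : F) = t - 1 := by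
    linear_combination (-t) * ht'
  have e2 : (t - 1 + (t⁻¹ - 1) + (0 + (t - 1) * 1) * (t⁻¹ - 1) : F) = 0 := by
    linear_combination ht'
  have e3 : (0 + 1 + 0 * 1 + -t + (0 + (0 + 1 + 0 * 1) * (t⁻¹ - 1)) * -t : F) = 0 := by
    linear_combination -ht'
  have e4 : (0 + (0 + 1 + 0 * 1) * (t⁻¹ - 1) : F) = t⁻¹ - 1 := by ring
  rw [e1, e2, e3, e4]
  ext a b
  by_cases hab : a = b
  · subst hab
    rw [Matrix.diagonal_apply_eq]
    simp only [MM, Matrix.add_apply, Matrix.single_apply, Matrix.one_apply_eq, Dd]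
    by_cases ha : a = i
    · subst ha
      simp [Ne.symm hij]
    · by_cases hb : a = j
      · subst hb
        simp [hij]
        intro h
        exact absurd h ha
      · have h1 : ¬ i = a := fun h => ha h.symm
        have h2 : ¬ j = a := fun h => hb h.symm
        simp [ha, hb, h1, h2]
  · rw [Matrix.diagonal_apply_ne _ hab]
    simp only [MM, Matrix.add_apply, Matrix.single_apply, Matrix.one_apply_ne hab]
    have h1 : ¬ (i = a ∧ i = b) := fun h => hab (h.1.symm.trans h.2)
    have h2 : ¬ (j = a ∧ j = b) := fun h => hab (h.1.symm.trans h.2)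
    simp [h1, h2]

/-- An upper triangular criterion. -/
theorem upper_of_conj (g : SpecialLinearGroup (Fin n) F)
    (h : ∀ a b : Fin n, ∀ hab : a < b, g * SpecialLinearGroup.transvection (ne_of_lt hab) (1 : F) * g⁻¹ ∈ UU n F) :
    ∀ i j : Fin n, j < i → (g : Matrix (Fin n) (Fin n) F) i j = 0 := by
  have key : ∀ a b : Fin n, a < b → ∀ i : Fin n, (∀ k, i < k → (g : Matrix (Fin n) (Fin n) F) k b = 0) →
      (g : Matrix (Fin n) (Fin n) F) i a = 0 := by
    intro a b hab i hi
    have hu := h a b hab
    set u := g * SpecialLinearGroup.transvection (ne_of_lt hab) (1 : F) * g⁻¹ with hudef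
    have e : u * g = g * SpecialLinearGroup.transvection (ne_of_lt hab) (1 : F) := by
      rw [hudef]
      group
    have e2 := congrArg (fun x : SpecialLinearGroup (Fin n) F => (x : Matrix (Fin n) (Fin n) F) i b) e
    simp only [Matrix.SpecialLinearGroup.coe_mul, SpecialLinearGroup.transvection_coe, mul_add, mul_one,
      Matrix.add_apply, Matrix.mul_single_apply_same] at e2
    rw [Matrix.mul_apply, Finset.sum_eq_single i] at e2
    · rw [uu_diag hu, one_mul] at e2
      exact (left_eq_add.1 e2)
    · intro k _ hk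
      rcases lt_or_gt_of_ne hk with h1 | h1
      · rw [uu_low hu h1, zero_mul]
      · rw [hi k h1, mul_zero]
    · simp
  intro i
  induction i using WellFoundedGT.induction with
  | ind i IH =>
    intro j hji
    refine key j i hji i fun k hk => IH k hk i hk

/-- Decomposition of an upper triangular element. -/
theorem exists_dg_uu (g : SpecialLinearGroup (Fin n) F) (h : ∀ i j : Fin n, j < i → (g : Matrix (Fin n) (Fin n) F) i j = 0) :
    ∃ (D : Fin n → F) (hD : ∏ i, D i = 1), ∃ u ∈ UU n F, g = dg D hD * u := by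
  have hdet : ∏ i, (g : Matrix (Fin n) (Fin n) F) i i = 1 := by
    rw [← Matrix.det_of_isUpperTriangular (M := (g : Matrix (Fin n) (Fin n) F))]
    · exact g.2
    · intro i j hij
      exact h i j hij
  refine ⟨fun i => (g : Matrix (Fin n) (Fin n) F) i i, hdet, (dg _ hdet)⁻¹ * g, ?_, by group⟩
  rw [dg_inv]
  intro i j hij
  rw [Matrix.SpecialLinearGroup.coe_mul, dg_coe, Matrix.diagonal_mul]
  rcases lt_or_eq_of_le hij with h1 | h1
  · rw [h i j h1, mul_zero, Matrix.one_apply_ne (ne_of_gt h1)]
  · subst h1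
    rw [Matrix.one_apply_eq]
    exact inv_mul_cancel₀ (dg_ne _ hdet j)

/-- Diagonal elements normalize `UU`. -/
theorem dg_conj_UU (D : Fin n → F) (hD : ∏ i, D i = 1) {u : SpecialLinearGroup (Fin n) F} (hu : u ∈ UU n F) :
    dg D hD * u * (dg D hD)⁻¹ ∈ UU n F := by
  rw [dg_inv]
  intro i j hij
  rw [Matrix.SpecialLinearGroup.coe_mul, Matrix.SpecialLinearGroup.coe_mul, dg_coe, dg_coe, Matrix.mul_diagonal,
    Matrix.diagonal_mul]
  rcases lt_or_eq_of_le hij with h1 | h1
  · rw [uu_low hu h1, mul_zero, zero_mul, Matrix.one_apply_ne (ne_of_gt h1)]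
  · subst h1
    rw [uu_diag hu, Matrix.one_apply_eq, mul_one]
    exact mul_inv_cancel₀ (dg_ne _ hD j)

/-- Diagonal elements are products of block torus elements. -/
theorem dg_mem_of (C : Subgroup (SpecialLinearGroup (Fin n) F))
    (hC : ∀ (i j : Fin n) (_ : (j : ℕ) = i + 1) (hij : i ≠ j) (t : F) (ht : t ≠ 0), dg (Dd i j t) (prod_Dd hij ht) ∈ C)
    (D : Fin n → F) (hD : ∏ i, D i = 1) : dg D hD ∈ C := by
  have aux : ∀ (r k : ℕ), k + r + 1 = n → ∀ (D : Fin n → F) (hD : ∏ i, D i = 1),
      (∀ i : Fin n, (i : ℕ) < k → D i = 1) → dg D hD ∈ C := by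
    intro r
    induction r with
    | zero =>
      intro k hk D hD h1
      have hlast : k < n := by omega
      have h2 : ∀ i, i ≠ (⟨k, hlast⟩ : Fin n) → D i = 1 := by
        intro i hi
        apply h1
        have h3 : (i : ℕ) ≠ k := fun e => hi (Fin.ext e)
        have := i.2
        omega
      have h3 : D ⟨k, hlast⟩ = 1 := by
        rw [← hD, Finset.prod_eq_single (⟨k, hlast⟩ : Fin n)]
        · intro i _ hi
          exact h2 i hi
        · simp
      have h4 : dg D hD = 1 := by
        apply Subtype.ext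
        rw [dg_coe, Matrix.SpecialLinearGroup.coe_one, ← Matrix.diagonal_one]
        congr 1
        ext i
        by_cases hi : i = ⟨k, hlast⟩
        · rw [hi, h3]
        · rw [h2 i hi]
      rw [h4]
      exact C.one_mem
    | succ r IH =>
      intro k hk D hD h1
      have hk1 : k < n := by omega
      have hk2 : k + 1 < n := by omega
      set i₀ : Fin n := ⟨k, hk1⟩ with hi₀
      set j₀ : Fin n := ⟨k + 1, hk2⟩ with hj₀
      have hij : i₀ ≠ j₀ := by
        intro e
        have := congrArg Fin.val e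
        simp [hi₀, hj₀] at this
      set t := D i₀ with ht
      have ht0 : t ≠ 0 := dg_ne D hD i₀
      have hDd := hC i₀ j₀ rfl hij t ht0
      have hDi := prod_Dd hij (inv_ne_zero ht0)
      have hD' : ∏ i, (D * Dd i₀ j₀ t⁻¹) i = 1 := by
        simp only [Pi.mul_apply]
        rw [Finset.prod_mul_distrib, hD, hDi, one_mul]
      have hm := IH (k + 1) (by omega) (D * Dd i₀ j₀ t⁻¹) hD' (by
        intro i hi
        simp only [Pi.mul_apply]
        by_cases hik : (i : ℕ) < k
        · have h2 : i ≠ i₀ := fun e => by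
            have := congrArg Fin.val e
            simp [hi₀] at this
            omega
          have h3 : i ≠ j₀ := fun e => by
            have := congrArg Fin.val e
            simp [hj₀] at this
            omega
          rw [h1 i hik]
          simp [Dd, h2, h3]
        · have h2 : i = i₀ := Fin.ext (by simp [hi₀]; omega)
          rw [h2]
          simp only [Dd, if_true]
          exact mul_inv_cancel₀ ht0)
      have e : dg D hD = dg (D * Dd i₀ j₀ t⁻¹) hD' * dg (Dd i₀ j₀ t) (prod_Dd hij ht0) := by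
        rw [dg_mul _ _ _ _ (by
          have h5 := hD'
          simp only [Pi.mul_apply] at h5 ⊢
          rw [Finset.prod_mul_distrib, h5, prod_Dd hij ht0, one_mul])]
        apply Subtype.ext
        rw [dg_coe, dg_coe]
        congr 1
        ext i
        simp only [Pi.mul_apply, Dd]
        by_cases h2 : i = i₀
        · simp [h2, mul_assoc, inv_mul_cancel₀ ht0]
        · by_cases h3 : i = j₀
          · simp [h2, h3, hij.symm, mul_assoc, mul_inv_cancel₀ ht0]
          · simp [h2, h3]
      rw [e]
      exact C.mul_mem hm hDd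
  have hn : 0 < n ∨ n = 0 := by omega
  rcases hn with hn | hn
  · exact aux (n - 1) 0 (by omega) D hD (fun i hi => absurd hi (by omega))
  · subst hn
    have : dg D hD = 1 := by
      apply Subtype.ext
      ext i
      exact i.elim0
    rw [this]
    exact C.one_mem

end Cfsg.Agent.H25
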