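import Cfsg.Agent.Lib.H25.SimLn2
set_option autoImplicit false
set_option linter.style.haveILetI false

/-! The fusion system of `PSL_n(F)` in the defining characteristic: generation and the criterion. -/

namespace Cfsg.Agent.H25

open Cfsg Cfsg.Agent.Lead.AutPSL Matrix Matrix.SpecialLinearGroup

variable {F : Type*} [Field F] [Fintype F] {n : ℕ}

theorem uu_mem_of (C : Subgroup (SpecialLinearGroup (Fin n) F))
    (hC : ∀ (i j : Fin n) (hij : i < j) (t : F), SpecialLinearGroup.transvection (ne_of_lt hij) t ∈ C)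
    (u : SpecialLinearGroup (Fin n) F) (hu : u ∈ UU n F) : u ∈ C := by
  set rk : Fin n → Fin n → ℕ := fun i j => ((j : ℕ) - i) * n + i with hrk
  have aux : ∀ (m N : ℕ), N + m = n * n + n → ∀ u ∈ UU n F,
      (∀ i j : Fin n, i < j → rk i j < N → (u : Matrix (Fin n) (Fin n) F) i j = 0) → u ∈ C := by
    intro m
    induction m with
    | zero =>
      intro N hN u hu h
      have h1 : u = 1 := by
        apply Subtype.ext
        ext i j
        rw [Matrix.SpecialLinearGroup.coe_one]
        rcases lt_trichotomy i j with hij | hij | hij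
        · rw [h i j hij, Matrix.one_apply_ne (ne_of_lt hij)]
          have h2 := i.2
          have h3 := j.2
          have h4 : (j : ℕ) - i ≤ n := by omega
          have h5 : ((j : ℕ) - i) * n ≤ n * n := Nat.mul_le_mul_right n h4
          simp only [hrk]
          omega
        · subst hij
          rw [uu_diag hu, Matrix.one_apply_eq]
        · rw [uu_low hu hij, Matrix.one_apply_ne (ne_of_gt hij)]
      rw [h1]
      exact C.one_mem
    | succ m IH =>
      intro N hN u hu h
      by_cases hex : ∃ i j : Fin n, i < j ∧ rk i j = N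
      · obtain ⟨i, j, hij, hr⟩ := hex
        set a := (u : Matrix (Fin n) (Fin n) F) i j with ha
        have hT := hC i j hij (-a)
        set u' := u * SpecialLinearGroup.transvection (ne_of_lt hij) (-a) with hu'
        have hu'U : u' ∈ UU n F := (UU n F).mul_mem hu (transvection_mem_UU hij _)
        have hent : ∀ k l, (u' : Matrix (Fin n) (Fin n) F) k l =
            (u : Matrix (Fin n) (Fin n) F) k l + (if l = j then (u : Matrix (Fin n) (Fin n) F) k i * (-a) else 0) := by
          intro k l
          rw [hu', Matrix.SpecialLinearGroup.coe_mul, SpecialLinearGroup.transvection_coe, mul_add, mul_one,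
            Matrix.add_apply]
          congr 1
          by_cases hl : l = j
          · subst hl
            rw [Matrix.mul_single_apply_same, if_pos rfl]
          · rw [Matrix.mul_single_apply_of_ne _ _ _ _ _ hl, if_neg hl]
        have hu'C : u' ∈ C := by
          refine IH (N + 1) (by omega) u' hu'U ?_
          intro k l hkl hlt
          rw [hent]
          have hk := k.2
          have hi := i.2
          have hl' := l.2
          have hj' := j.2
          have hkl' : (k : ℕ) < l := hkl
          have hij' : (i : ℕ) < j := hij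
          simp only [hrk] at hlt hr
          by_cases hlj : l = j
          · subst hlj
            rw [if_pos rfl]
            -- compare the ranks
            have hik : (i : ℕ) ≤ k := by
              by_contra hcon
              have h1 : (l : ℕ) - i + 1 ≤ (l : ℕ) - k := by omega
              have h2 : ((l : ℕ) - i + 1) * n ≤ ((l : ℕ) - k) * n := Nat.mul_le_mul_right n h1
              have h3 : ((l : ℕ) - i + 1) * n = ((l : ℕ) - i) * n + n := by ring
              omega
            rcases Nat.lt_or_eq_of_le hik with h1 | h1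
            · have h2 : i < k := h1
              have h3 : rk k l < N := by
                simp only [hrk]
                have h4 : (l : ℕ) - k + 1 ≤ (l : ℕ) - i := by omega
                have h5 : ((l : ℕ) - k + 1) * n ≤ ((l : ℕ) - i) * n := Nat.mul_le_mul_right n h4
                have h6 : ((l : ℕ) - k + 1) * n = ((l : ℕ) - k) * n + n := by ring
                omega
              rw [h _ _ hkl h3, uu_low hu h2, zero_mul, zero_add]
            · have h2 : k = i := Fin.ext h1.symm
              subst h2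
              rw [uu_diag hu, one_mul, ← ha, add_neg_cancel]
          · rw [if_neg hlj, add_zero]
            apply h k l hkl
            simp only [hrk]
            have hne : ((l : ℕ) - k) * n + k ≠ N := by
              intro he
              -- the rank determines the position
              have hd : (l : ℕ) - k = (j : ℕ) - i := by
                rcases Nat.lt_trichotomy ((l : ℕ) - k) ((j : ℕ) - i) with h1 | h1 | h1
                · exfalso
                  have h2 : ((l : ℕ) - k + 1) * n ≤ ((j : ℕ) - i) * n := Nat.mul_le_mul_right n h1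
                  have h3 : ((l : ℕ) - k + 1) * n = ((l : ℕ) - k) * n + n := by ring
                  omega
                · exact h1
                · exfalso
                  have h2 : ((j : ℕ) - i + 1) * n ≤ ((l : ℕ) - k) * n := Nat.mul_le_mul_right n h1
                  have h3 : ((j : ℕ) - i + 1) * n = ((j : ℕ) - i) * n + n := by ring
                  omega
              rw [hd] at he
              have hki : (k : ℕ) = i := by omega
              apply hlj
              apply Fin.ext
              omega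
            omega
        have e : u = u' * SpecialLinearGroup.transvection (ne_of_lt hij) a := by
          rw [hu', mul_assoc, tt_mul, neg_add_cancel, SpecialLinearGroup.transvection_coeff_zero, mul_one]
        rw [e]
        exact C.mul_mem hu'C (hC i j hij a)
      · refine IH (N + 1) (by omega) u hu ?_
        intro i j hij hlt
        apply h i j hij
        have hne : rk i j ≠ N := fun e => hex ⟨i, j, hij, e⟩
        omega
  exact aux (n * n + n) 0 (by omega) u hu (fun i j _ h => absurd h (by omega))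

/-- The subgroup `R_i` of `UB`. -/
noncomputable def RB (i j : Fin n) (h : (j : ℕ) = i + 1) : Subgroup (ProjectiveSpecialLinearGroup (Fin n) F) :=
  (UUA i j h).map (pr (Fin n) F)

theorem pr_mem_normalizer {U' : Subgroup (SpecialLinearGroup (Fin n) F)} {s : SpecialLinearGroup (Fin n) F}
    (h1 : ∀ u ∈ U', s * u * s⁻¹ ∈ U') (h2 : ∀ u ∈ U', s⁻¹ * u * s ∈ U') :
    pr (Fin n) F s ∈ Subgroup.normalizer ((U'.map (pr (Fin n) F) : Subgroup _) : Set (ProjectiveSpecialLinearGroup (Fin n) F)) := by
  refine mem_normalizer_of_conj ?_ ?_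
  · rintro _ ⟨u, hu, rfl⟩
    exact ⟨_, h1 u hu, by simp only [map_mul, map_inv]⟩
  · rintro _ ⟨u, hu, rfl⟩
    exact ⟨_, h2 u hu, by simp only [map_mul, map_inv]⟩

theorem uu_norm_RB {i j : Fin n} {h : (j : ℕ) = i + 1} {v : SpecialLinearGroup (Fin n) F} (hv : v ∈ UU n F) :
    pr (Fin n) F v ∈ Subgroup.normalizer ((RB i j h : Subgroup (ProjectiveSpecialLinearGroup (Fin n) F)) : Set (ProjectiveSpecialLinearGroup (Fin n) F)) := by
  refine pr_mem_normalizer (fun u hu => conj_UUA hv hu) (fun u hu => ?_)
  have := conj_UUA ((UU n F).inv_mem hv) hu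
  rwa [inv_inv] at this

theorem low_norm_RB {i j : Fin n} {h : (j : ℕ) = i + 1} (hij : j ≠ i) (b : F) :
    pr (Fin n) F (SpecialLinearGroup.transvection hij b) ∈
      Subgroup.normalizer ((RB i j h : Subgroup (ProjectiveSpecialLinearGroup (Fin n) F)) : Set (ProjectiveSpecialLinearGroup (Fin n) F)) := by
  refine pr_mem_normalizer (fun u hu => low_conj_UUA b hij hu) (fun u hu => ?_)
  have := low_conj_UUA (-b) hij hu
  rwa [← tt_inv, inv_inv] at this

theorem dg_norm_UB (D : Fin n → F) (hD : ∏ i, D i = 1) :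
    pr (Fin n) F (dg D hD) ∈ Subgroup.normalizer ((UB n F : Subgroup _) : Set (ProjectiveSpecialLinearGroup (Fin n) F)) := by
  refine pr_mem_normalizer (fun u hu => dg_conj_UU D hD hu) (fun u hu => ?_)
  have := dg_conj_UU D⁻¹ (prod_inv' D hD) hu
  rw [dg_inv D⁻¹ (prod_inv' D hD)] at this
  simp only [inv_inv] at this
  rwa [dg_inv D hD]

theorem RB_le_UB {i j : Fin n} {h : (j : ℕ) = i + 1} : (RB i j h : Subgroup (ProjectiveSpecialLinearGroup (Fin n) F)) ≤ (UB n F) := by
  rintro _ ⟨u, hu, rfl⟩
  exact ⟨u, hu.1, rfl⟩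

theorem UB_le_norm {i j : Fin n} {h : (j : ℕ) = i + 1} :
    (UB n F) ≤ Subgroup.normalizer ((RB i j h : Subgroup (ProjectiveSpecialLinearGroup (Fin n) F)) : Set (ProjectiveSpecialLinearGroup (Fin n) F)) := by
  rintro _ ⟨u, hu, rfl⟩
  exact uu_norm_RB hu

/-- `R_i` contains its centralizer in `UB`. -/
theorem centric_RB (hn : 3 ≤ n) {i j : Fin n} {h : (j : ℕ) = i + 1} :
    ∀ y ∈ UB n F, (∀ r ∈ (RB i j h : Subgroup (ProjectiveSpecialLinearGroup (Fin n) F)), y * r = r * y) →
      y ∈ (RB i j h : Subgroup (ProjectiveSpecialLinearGroup (Fin n) F)) := by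
  rintro _ ⟨v, hv, rfl⟩ hc
  have hij : i ≠ j := by
    intro e
    rw [e] at h
    omega
  have hm : 1 ≤ n := by omega
  refine ⟨v, ⟨hv, ?_⟩, rfl⟩
  by_cases hj : (j : ℕ) + 1 < n
  · set j' : Fin n := ⟨j + 1, hj⟩ with hj'
    have hlt : j < j' := by
      rw [Fin.lt_def]
      simp [hj']
    have hT : SpecialLinearGroup.transvection (ne_of_lt hlt) (1 : F) ∈ UUA i j h := by
      refine ⟨transvection_mem_UU hlt 1, ?_⟩
      rw [SpecialLinearGroup.transvection_coe, Matrix.add_apply, Matrix.one_apply_ne hij,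
        Matrix.single_apply_of_ne, zero_add]
      rintro ⟨rfl, -⟩
      exact hij rfl
    have h1 := pr_comm_UU hm hlt (hc _ ⟨_, hT, rfl⟩)
    have h2 := congrFun (congrFun h1 i) j'
    rw [Matrix.mul_single_apply_same, Matrix.single_mul_apply_of_ne _ _ _ _ _ hij, mul_one] at h2
    exact h2
  · have hi : 1 ≤ (i : ℕ) := by
      have := j.2
      omega
    have hi2 : (i : ℕ) - 1 < n := by
      have := i.2
      omega
    set i' : Fin n := ⟨i - 1, hi2⟩ with hi'
    have hlt : i' < i := by
      rw [Fin.lt_def]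
      simp [hi']
      omega
    have hne : i ≠ i' := (ne_of_lt hlt).symm
    have hT : SpecialLinearGroup.transvection (ne_of_lt hlt) (1 : F) ∈ UUA i j h := by
      refine ⟨transvection_mem_UU hlt 1, ?_⟩
      rw [SpecialLinearGroup.transvection_coe, Matrix.add_apply, Matrix.one_apply_ne hij,
        Matrix.single_apply_of_ne, zero_add]
      intro hcon
      exact hne hcon.1.symm
    have h1 := pr_comm_UU hm hlt (hc _ ⟨_, hT, rfl⟩)
    have h2 := congrFun (congrFun h1 i') j
    rw [Matrix.single_mul_apply_same, Matrix.mul_single_apply_of_ne _ _ _ _ _ (Ne.symm hij), one_mul] at h2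
    exact h2.symm

section Order
variable {p : ℕ} [Fact p.Prime]

theorem order_pr_tt (hchar : (p : F) = 0) {i j : Fin n} (hij : i ≠ j) (t : F) :
    ∃ k : ℕ, orderOf (pr (Fin n) F (SpecialLinearGroup.transvection hij t)) = p ^ k := by
  have h1 : (pr (Fin n) F (SpecialLinearGroup.transvection hij t)) ^ p = 1 := by
    rw [← map_pow, tt_pow, hchar, zero_mul, SpecialLinearGroup.transvection_coeff_zero, map_one]
  have h2 := orderOf_dvd_of_pow_eq_one h1
  rcases (Nat.dvd_prime Fact.out).1 h2 with h3 | h3
  · exact ⟨0, by rw [h3, pow_zero]⟩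
  · exact ⟨1, by rw [h3, pow_one]⟩

variable {f : ℕ}

theorem order_uu (hq : Fintype.card F = p ^ f) (hm : 1 ≤ n) {u : SpecialLinearGroup (Fin n) F} (hu : u ∈ UU n F) :
    ∃ k : ℕ, orderOf (pr (Fin n) F u) = p ^ k := by
  obtain ⟨k, hk⟩ := (IsPGroup.iff_orderOf.1 (isPGroup_UB hq hm)) ⟨pr (Fin n) F u, u, hu, rfl⟩
  exact ⟨k, by rw [← Subgroup.orderOf_mk]; exact hk⟩

theorem gen_dd (hchar : (p : F) = 0) (hn : 3 ≤ n) (i j : Fin n) (h : (j : ℕ) = i + 1) (hij : i ≠ j) (t : F) (ht : t ≠ 0) :
    pr (Fin n) F (dg (Dd i j t) (prod_Dd hij ht)) ∈ GGen p (UB n F) := by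
  right
  have hlt : i < j := by rw [Fin.lt_def]; omega
  refine ⟨dg_norm_UB _ _, RB i j h, RB_le_UB, UB_le_norm, centric_RB hn, ?_⟩
  rw [dg_Dd hij ht]
  simp only [map_mul]
  have hx : ∀ a : F, pr (Fin n) F (SpecialLinearGroup.transvection hij a) ∈ Subgroup.closure {g : ProjectiveSpecialLinearGroup (Fin n) F |
      g ∈ Subgroup.normalizer ((RB i j h : Subgroup (ProjectiveSpecialLinearGroup (Fin n) F)) : Set (ProjectiveSpecialLinearGroup (Fin n) F)) ∧ ∃ k : ℕ, orderOf g = p ^ k} :=
    fun a => Subgroup.subset_closure ⟨uu_norm_RB (transvection_mem_UU hlt a), order_pr_tt hchar hij a⟩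
  have hy : ∀ a : F, pr (Fin n) F (SpecialLinearGroup.transvection (Ne.symm hij) a) ∈ Subgroup.closure {g : ProjectiveSpecialLinearGroup (Fin n) F |
      g ∈ Subgroup.normalizer ((RB i j h : Subgroup (ProjectiveSpecialLinearGroup (Fin n) F)) : Set (ProjectiveSpecialLinearGroup (Fin n) F)) ∧ ∃ k : ℕ, orderOf g = p ^ k} :=
    fun a => Subgroup.subset_closure ⟨low_norm_RB (Ne.symm hij) a, order_pr_tt hchar (Ne.symm hij) a⟩
  exact Subgroup.mul_mem _ (Subgroup.mul_mem _ (Subgroup.mul_mem _ (hx _) (hy _)) (hx _)) (hy _)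

theorem gen_uu (hq : Fintype.card F = p ^ f) (hn : 3 ≤ n) {u : SpecialLinearGroup (Fin n) F} (hu : u ∈ UU n F) :
    pr (Fin n) F u ∈ GGen p (UB n F) := by
  right
  have hm : 1 ≤ n := by omega
  have h0 : (⟨1, by omega⟩ : Fin n).val = (⟨0, by omega⟩ : Fin n).val + 1 := rfl
  have hUB : pr (Fin n) F u ∈ UB n F := ⟨u, hu, rfl⟩
  refine ⟨?_, RB _ _ h0, RB_le_UB, UB_le_norm, centric_RB hn, Subgroup.subset_closure ⟨uu_norm_RB hu, order_uu hq hm hu⟩⟩
  refine mem_normalizer_of_conj (fun y hy => ?_) (fun y hy => ?_)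
  · exact (UB n F).mul_mem ((UB n F).mul_mem hUB hy) ((UB n F).inv_mem hUB)
  · exact (UB n F).mul_mem ((UB n F).mul_mem ((UB n F).inv_mem hUB) hy) hUB

end Order

/-- A "unipotent" element with the same image as an element of `UU` lies in `UU`. -/
theorem eq_of_pr_uni (hm : 1 ≤ n) {u' W : SpecialLinearGroup (Fin n) F} (hu' : u' ∈ UU n F)
    (hW : IsUni (W : Matrix (Fin n) (Fin n) F)) (h : pr (Fin n) F u' = pr (Fin n) F W) : W = u' := by
  have h1 : u'⁻¹ * W ∈ Subgroup.center (SpecialLinearGroup (Fin n) F) :=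
    QuotientGroup.eq.mp (show (QuotientGroup.mk u' : ProjectiveSpecialLinearGroup (Fin n) F) = QuotientGroup.mk W from h)
  obtain ⟨z, -, hz⟩ := Matrix.SpecialLinearGroup.mem_center_iff.mp h1
  have h2 : (W : Matrix (Fin n) (Fin n) F) = z • (u' : Matrix (Fin n) (Fin n) F) := by
    have h3 : W = u' * (u'⁻¹ * W) := by group
    have h4 : (W : Matrix (Fin n) (Fin n) F) = (u' : Matrix (Fin n) (Fin n) F) * ((u'⁻¹ * W : SpecialLinearGroup (Fin n) F) : Matrix (Fin n) (Fin n) F) := by
      conv_lhs => rw [h3]
      rfl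
    rw [h4, ← hz]
    ext i j
    simp [Matrix.mul_apply, Matrix.scalar_apply, Matrix.diagonal_apply, mul_comm]
  set i₀ : Fin n := ⟨0, by omega⟩ with hi₀
  have hent : ∀ a b, (W : Matrix (Fin n) (Fin n) F) a b = z * (u' : Matrix (Fin n) (Fin n) F) a b := by
    intro a b
    rw [h2]
    rfl
  have h5 := congrFun (congrFun hW i₀) i₀
  rw [Matrix.mul_apply, Finset.sum_eq_single i₀] at h5
  · have h6 : ((W : Matrix (Fin n) (Fin n) F) - 1) i₀ i₀ = z - 1 := by
      rw [Matrix.sub_apply, hent, uu_diag hu', Matrix.one_apply_eq, mul_one]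
    rw [h6] at h5
    have h7 : (z - 1) * (z - 1) = 0 := h5
    have h8 : z = 1 := by
      have := mul_self_eq_zero.1 h7
      linear_combination this
    subst h8
    apply Subtype.ext
    rw [h2, one_smul]
  · intro k _ hk
    have hlt : i₀ < k := by
      rw [Fin.lt_def]
      have : (k : ℕ) ≠ 0 := fun e => hk (Fin.ext e)
      simp only [hi₀]
      omega
    have h9 : ((W : Matrix (Fin n) (Fin n) F) - 1) k i₀ = 0 := by
      rw [Matrix.sub_apply, hent, uu_low hu' hlt, Matrix.one_apply_ne (ne_of_gt hlt)]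
      ring
    rw [h9, mul_zero]
  · simp

theorem conj_tt_UU (hm : 1 ≤ n) {s : SpecialLinearGroup (Fin n) F}
    (hs : pr (Fin n) F s ∈ Subgroup.normalizer ((UB n F : Subgroup _) : Set (ProjectiveSpecialLinearGroup (Fin n) F)))
    (a b : Fin n) (hab : a < b) : s * SpecialLinearGroup.transvection (ne_of_lt hab) (1 : F) * s⁻¹ ∈ UU n F := by
  have h1 : pr (Fin n) F (s * SpecialLinearGroup.transvection (ne_of_lt hab) (1 : F) * s⁻¹) ∈ UB n F := by
    simp only [map_mul, map_inv]
    exact conj_mem_of_normalizer hs ⟨_, transvection_mem_UU hab 1, rfl⟩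
  obtain ⟨u', hu', he⟩ := h1
  have hW : IsUni ((s * SpecialLinearGroup.transvection (ne_of_lt hab) (1 : F) * s⁻¹ : SpecialLinearGroup (Fin n) F) : Matrix (Fin n) (Fin n) F) := by
    rw [Matrix.SpecialLinearGroup.coe_mul, Matrix.SpecialLinearGroup.coe_mul]
    exact isUni_conj (isUni_of_tvM (transvection_tvM (ne_of_lt hab) (1 : F))) _ _ (coe_inv_mul' s)
  rw [eq_of_pr_uni hm hu' hW he]
  exact hu'

theorem GCb_UB {p f : ℕ} [Fact p.Prime] (hq : Fintype.card F = p ^ f) (hchar : (p : F) = 0) (hn : 3 ≤ n) :
    GCb p (UB n F : Subgroup (ProjectiveSpecialLinearGroup (Fin n) F)) := by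
  intro g hg
  have hm : 1 ≤ n := by omega
  obtain ⟨s, rfl⟩ : ∃ s, pr (Fin n) F s = g := QuotientGroup.mk_surjective g
  obtain ⟨D, hD, u, hu, e⟩ := exists_dg_uu s (upper_of_conj s (conj_tt_UU hm hg))
  rw [e, map_mul]
  refine Subgroup.mul_mem _ ?_ (Subgroup.subset_closure (gen_uu hq hn hu))
  have h1 := dg_mem_of ((Subgroup.closure (GGen p (UB n F))).comap (pr (Fin n) F))
    (fun i j h hij t ht => Subgroup.subset_closure (gen_dd hchar hn i j h hij t ht)) D hD
  exact h1

end Cfsg.Agent.H25
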