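import Cfsg.Agent.Lib.H25.SimLn3
import Cfsg.Agent.Lib.H09.KSeq2
set_option autoImplicit false
set_option linter.style.haveILetI false

/-! The fusion system of `PSL_n(F)` in the defining characteristic: strong closure and the theorem. -/

namespace Cfsg.Agent.H25

open Cfsg Cfsg.Agent.Lead.AutPSL Matrix Matrix.SpecialLinearGroup

variable {F : Type*} [Field F] [Fintype F] {n : ℕ}

theorem dg_conj_tt (D : Fin n → F) (hD : ∏ i, D i = 1) {i j : Fin n} (hij : i ≠ j) (t : F) :
    dg D hD * SpecialLinearGroup.transvection hij t * (dg D hD)⁻¹ =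
      SpecialLinearGroup.transvection hij (t * D i / D j) := by
  rw [mul_inv_eq_iff_eq_mul]
  apply Subtype.ext
  change (Matrix.diagonal D) * (1 + Matrix.single i j t) = (1 + Matrix.single i j (t * D i / D j)) * (Matrix.diagonal D)
  ext u v
  rw [Matrix.diagonal_mul, Matrix.mul_diagonal]
  simp only [Matrix.add_apply, Matrix.single_apply]
  by_cases huv : u = v
  · subst huv
    have h1 : ¬ (i = u ∧ j = u) := fun h => hij (h.1.trans h.2.symm)
    simp [h1]
  · rw [Matrix.one_apply_ne huv]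
    by_cases h2 : i = u ∧ j = v
    · obtain ⟨rfl, rfl⟩ := h2
      simp [dg_ne D hD]
      field_simp [dg_ne D hD j]
    · simp [h2]

theorem GCa_UB {p f : ℕ} [Fact p.Prime] (hq : Fintype.card F = p ^ f) (hn : 3 ≤ n) :
    GCa (UB n F : Subgroup (ProjectiveSpecialLinearGroup (Fin n) F)) := by
  classical
  obtain ⟨m, rfl⟩ : ∃ m, n = m + 2 := ⟨n - 2, by omega⟩
  intro T hT hcl
  by_cases hb : T = ⊥
  · exact Or.inl hb
  right
  have hm : 1 ≤ m + 2 := by omega
  have hUp := isPGroup_UB (m := m + 2) hq hm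
  haveI : Nontrivial (Fin (m + 2)) := Fin.nontrivial_iff_two_le.2 (by omega)
  -- a central element of `UB` in `T`
  obtain ⟨x, hxT, hxc, hx1⟩ : ∃ x ∈ T, (∀ y ∈ UB (m + 2) F, x * y = y * x) ∧ x ≠ 1 := by
    haveI hN : (T.subgroupOf (UB (m + 2) F)).Normal := by
      refine ⟨fun a ha g => ?_⟩
      rw [Subgroup.mem_subgroupOf] at ha ⊢
      have h1 : (g : ProjectiveSpecialLinearGroup (Fin (m + 2)) F) * a * (g : ProjectiveSpecialLinearGroup (Fin (m + 2)) F)⁻¹ ∈ UB (m + 2) F :=
        (UB (m + 2) F).mul_mem ((UB (m + 2) F).mul_mem g.2 a.2) ((UB (m + 2) F).inv_mem g.2)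
      exact hcl _ ha _ h1
    have hM : T.subgroupOf (UB (m + 2) F) ≠ ⊥ := by
      intro h
      apply hb
      rw [eq_bot_iff]
      intro y hy
      have h1 : (⟨y, hT hy⟩ : UB (m + 2) F) ∈ T.subgroupOf (UB (m + 2) F) := hy
      rw [h] at h1
      have h2 : (⟨y, hT hy⟩ : UB (m + 2) F) = 1 := Subgroup.mem_bot.1 h1
      exact Subgroup.mem_bot.2 (congrArg Subtype.val h2)
    have h1 := Cfsg.Agent.H09.normal_inf_center_ne_bot hUp (T.subgroupOf (UB (m + 2) F)) hM
    rcases Subgroup.bot_or_exists_ne_one (T.subgroupOf (UB (m + 2) F) ⊓ Subgroup.center (UB (m + 2) F)) with h2 | ⟨y, hy, hy1⟩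
    · exact absurd h2 h1
    · obtain ⟨hyT, hyc⟩ := Subgroup.mem_inf.1 hy
      refine ⟨y, hyT, fun z hz => ?_, fun h => hy1 (Subtype.ext h)⟩
      have := (Subgroup.mem_center_iff.1 hyc) ⟨z, hz⟩
      exact (congrArg Subtype.val this).symm
  have hxz : x ∈ Cfsg.Agent.Lead.AutPSL.zc (UB (m + 2) F) := ⟨hT hxT, hxc⟩
  rw [zc_UB] at hxz
  obtain ⟨t, s, hs, hsx⟩ := hxz
  have ht0 : t ≠ 0 := by
    rintro rfl
    apply hx1
    rw [← hsx]
    have : s = 1 := by
      apply Subtype.ext
      rw [hs, zero_smul, tvM_zero_left]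
      rfl
    rw [this, map_one]
  have hzl : (0 : Fin (m + 2)) ≠ Fin.last (m + 1) := (Fin.last_pos).ne
  -- all root groups meet `T`
  have key : ∀ (i j : Fin (m + 2)) (hij : i < j), ∃ c : F, c ≠ 0 ∧
      pr (Fin (m + 2)) F (SpecialLinearGroup.transvection (ne_of_lt hij) c) ∈ T := by
    intro i j hij
    have hF1 : Flag (t • ee F (0 : Fin (m + 2))) (ee F (Fin.last (m + 1))) := by
      refine ⟨?_, (flag_ee hzl).right, ?_⟩
      · intro h0
        exact (flag_ee (F := F) hzl).left ((smul_eq_zero.1 h0).resolve_left ht0)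
      · rw [dotProduct_smul, (flag_ee (F := F) hzl).dot, smul_zero]
    obtain ⟨r, hr1, c, hc, hc2⟩ := exists_flag_map hF1 (flag_ee (F := F) (ne_of_lt hij))
    have hw : ee F (Fin.last (m + 1)) ᵥ* ((r⁻¹ : SpecialLinearGroup (Fin (m + 2)) F) : Matrix (Fin (m + 2)) (Fin (m + 2)) F) = c⁻¹ • ee F j := by
      rw [hc2, smul_smul, inv_mul_cancel₀ hc, one_smul]
    refine ⟨c⁻¹, inv_ne_zero hc, ?_⟩
    have e : r * s * r⁻¹ = SpecialLinearGroup.transvection (ne_of_lt hij) c⁻¹ := by
      apply Subtype.ext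
      rw [transvection_tvM, Matrix.SpecialLinearGroup.coe_mul, Matrix.SpecialLinearGroup.coe_mul, hs, tvM, tvM, mul_add, add_mul,
        mul_one, coe_mul_inv', mul_vecMulVec_mul, hr1, hw]
      congr 1
      ext a b
      simp [vecMulVec_apply, mul_left_comm]
      ring
    have h1 := hcl x hxT (pr (Fin (m + 2)) F r) (by
      rw [← hsx, ← map_inv, ← map_mul, ← map_mul, e]
      exact ⟨_, transvection_mem_UU hij _, rfl⟩)
    rw [← hsx, ← map_inv, ← map_mul, ← map_mul, e] at h1
    exact h1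
  have full : ∀ (i j : Fin (m + 2)) (hij : i < j) (b : F),
      SpecialLinearGroup.transvection (ne_of_lt hij) b ∈ T.comap (pr (Fin (m + 2)) F) := by
    intro i j hij b
    by_cases hb0 : b = 0
    · subst hb0
      rw [SpecialLinearGroup.transvection_coeff_zero]
      exact Subgroup.one_mem _
    obtain ⟨c, hc, hcT⟩ := key i j hij
    -- a third index
    obtain ⟨k, hki, hkj⟩ : ∃ k : Fin (m + 2), k ≠ i ∧ k ≠ j := by
      have h1 : ({i, j} : Finset (Fin (m + 2))).card < (Finset.univ : Finset (Fin (m + 2))).card := by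
        rw [Finset.card_univ, Fintype.card_fin]
        have := Finset.card_le_two (a := i) (b := j)
        omega
      obtain ⟨k, -, hk⟩ := Finset.exists_mem_notMem_of_card_lt_card h1
      simp only [Finset.mem_insert, Finset.mem_singleton, not_or] at hk
      exact ⟨k, hk.1, hk.2⟩
    set l := b / c with hl
    have hl0 : l ≠ 0 := div_ne_zero hb0 hc
    have hD := prod_Dd (F := F) (Ne.symm hki) hl0
    have e := dg_conj_tt _ hD (ne_of_lt hij) c
    have h1 : Dd i k l i = l := by simp [Dd]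
    have h2 : Dd i k l j = 1 := by simp [Dd, (ne_of_lt hij).symm, (Ne.symm hkj)]
    rw [h1, h2, div_one] at e
    have h3 : c * l = b := by rw [hl]; field_simp
    rw [h3] at e
    have h4 := hcl _ hcT (pr (Fin (m + 2)) F (dg _ hD)) (by
      rw [← map_inv, ← map_mul, ← map_mul, e]
      exact ⟨_, transvection_mem_UU hij _, rfl⟩)
    rw [← map_inv, ← map_mul, ← map_mul, e] at h4
    exact h4
  refine le_antisymm hT ?_
  rintro _ ⟨u, hu, rfl⟩
  exact uu_mem_of _ full u hu

/-- The theorem. -/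
theorem psl_char_simple {p : ℕ} [Fact p.Prime] (hq : ∃ f : ℕ, 1 ≤ f ∧ Fintype.card F = p ^ f) (hchar : (p : F) = 0) (hn : 3 ≤ n)
    (S : Sylow p (ProjectiveSpecialLinearGroup (Fin n) F)) :
    (groupFusionSystem (S : Subgroup (ProjectiveSpecialLinearGroup (Fin n) F))).IsSimple p := by
  obtain ⟨f, hf, hq⟩ := hq
  have hm : 1 ≤ n := by omega
  let S₀ : Sylow p (ProjectiveSpecialLinearGroup (Fin n) F) :=
    (isPGroup_UB hq hm).toSylow (not_dvd_index_UB hq hf hm)
  have hS₀ : (S₀ : Subgroup (ProjectiveSpecialLinearGroup (Fin n) F)) = UB n F := IsPGroup.toSylow_coe _ _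
  refine simple_of_crit_conj S₀ S ?_ ?_ ?_
  · rw [hS₀]
    intro h
    have hlt : (⟨0, by omega⟩ : Fin n) < ⟨1, by omega⟩ := by
      rw [Fin.lt_def]
      simp
    have h1 : pr (Fin n) F (SpecialLinearGroup.transvection (ne_of_lt hlt) (1 : F)) ∈ UB n F :=
      ⟨_, transvection_mem_UU hlt 1, rfl⟩
    rw [h] at h1
    have h2 := eq_one_of_pr_eq_one hm (transvection_mem_UU hlt 1) (Subgroup.mem_bot.1 h1)
    have h3 := congrFun (congrFun (congrArg Subtype.val h2) ⟨0, by omega⟩) ⟨1, by omega⟩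
    simp [SpecialLinearGroup.transvection_coe, Matrix.one_apply] at h3
  · rw [hS₀]
    exact GCa_UB hq hn
  · rw [hS₀]
    exact GCb_UB hq hchar hn

end Cfsg.Agent.H25
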