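import Cfsg.Agent.Lib.H25.SimSp2
set_option autoImplicit false
set_option linter.style.haveILetI false

/-! The fusion system of `PSp_{2m}(F)` in the defining characteristic: the Borel subgroup. -/

namespace Cfsg.Agent.H25

open Cfsg Matrix
open scoped MatrixGroups

variable {K : Type*} [Field K] {m : ℕ}

theorem single_symm_diag (i : Fin m) (t : K) : (Matrix.single i i t)ᵀ = Matrix.single i i t := by
  rw [Matrix.transpose_single]

theorem sb_single (i : Fin m) (t : K) (h : (Matrix.single i i t)ᵀ = Matrix.single i i t) :
    (sb (Matrix.single i i t) h : Matrix (Ix m) (Ix m) K) = 1 + Matrix.single (Sum.inl i) (Sum.inr i) t := by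
  rw [sb_coe]
  ext a b
  rcases a with a | a <;> rcases b with b | b <;> simp [Matrix.single_apply, Matrix.one_apply]

theorem lb_single (i : Fin m) (t : K) (h : (Matrix.single i i t)ᵀ = Matrix.single i i t) :
    (lb (Matrix.single i i t) h : Matrix (Ix m) (Ix m) K) = 1 + Matrix.single (Sum.inr i) (Sum.inl i) t := by
  rw [lb_coe]
  ext a b
  rcases a with a | a <;> rcases b with b | b <;> simp [Matrix.single_apply, Matrix.one_apply]

section F
variable [Fintype K]

theorem levS_tt_blocks {i j : Fin m} (hij : i ≠ j) (c : K) :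
    (levS (SpecialLinearGroup.transvection hij c) : Matrix (Ix m) (Ix m) K) =
      fromBlocks (1 + Matrix.single i j c) 0 0 (1 + Matrix.single j i (-c)) := by
  rw [levS_coe, tt_inv, SpecialLinearGroup.transvection_coe, SpecialLinearGroup.transvection_coe, transpose_add,
    transpose_one, Matrix.transpose_single]

theorem levS_tt {i j : Fin m} (hij : i ≠ j) (c : K) :
    (levS (SpecialLinearGroup.transvection hij c) : Matrix (Ix m) (Ix m) K) =
      1 + Matrix.single (Sum.inl i) (Sum.inl j) c + Matrix.single (Sum.inr j) (Sum.inr i) (-c) := by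
  rw [levS_tt_blocks]
  ext a b
  rcases a with a | a <;> rcases b with b | b <;> simp [Matrix.single_apply, Matrix.one_apply]

omit [Fintype K] in
/-- A block criterion for being unitriangular. -/
theorem uni_of_blocks {A B D : Matrix (Fin m) (Fin m) K} (hA : ∀ i j, j < i → A i j = 0) (hA1 : ∀ i, A i i = 1)
    (hD : ∀ i j, i < j → D i j = 0) (hD1 : ∀ i, D i i = 1) : UniM (fromBlocks A B 0 D) := by
  refine ⟨?_, ?_⟩
  · intro a b h
    rcases a with a | a <;> rcases b with b | b
    · exact hA a b h
    · exfalso
      have := a.2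
      have := b.2
      simp only [rk_inl, rk_inr] at h
      omega
    · rfl
    · apply hD a b
      have := a.2
      have := b.2
      simp only [rk_inr] at h
      rw [Fin.lt_def]
      omega
  · intro a
    rcases a with a | a
    · exact hA1 a
    · exact hD1 a

omit [Fintype K] in
/-- The blocks of a unitriangular element. -/
theorem blocks_of_uni {A B C D : Matrix (Fin m) (Fin m) K} (h : UpM (fromBlocks A B C D)) :
    C = 0 ∧ (∀ i j, j < i → A i j = 0) ∧ (∀ i j, i < j → D i j = 0) := by
  refine ⟨?_, ?_, ?_⟩
  · ext i j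
    apply h (Sum.inr i) (Sum.inl j)
    have := i.2
    have := j.2
    simp only [rk_inl, rk_inr]
    omega
  · intro i j hij
    exact h (Sum.inl i) (Sum.inl j) hij
  · intro i j hij
    apply h (Sum.inr i) (Sum.inr j)
    have := i.2
    have := j.2
    have : (i : ℕ) < j := hij
    simp only [rk_inr]
    omega

theorem sb_mem_SU0 (S : Matrix (Fin m) (Fin m) K) (hS : Sᵀ = S) : sb S hS ∈ SU0 m K := by
  rw [mem_SU0, sb_coe]
  refine uni_of_blocks ?_ ?_ ?_ ?_
  · intro i j h
    exact Matrix.one_apply_ne (ne_of_gt h)
  · intro i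
    exact Matrix.one_apply_eq i
  · intro i j h
    exact Matrix.one_apply_ne (ne_of_lt h)
  · intro i
    exact Matrix.one_apply_eq i

theorem levS_mem_SU0 {s : SpecialLinearGroup (Fin m) K} (hs : s ∈ Cfsg.Agent.Lead.AutPSL.UU m K) : levS s ∈ SU0 m K := by
  rw [mem_SU0, levS_coe]
  have hs' := (Cfsg.Agent.Lead.AutPSL.UU m K).inv_mem hs
  refine uni_of_blocks ?_ ?_ ?_ ?_
  · intro i j h
    exact uu_low hs h
  · intro i
    exact uu_diag hs i
  · intro i j h
    exact uu_low hs' h
  · intro i
    exact uu_diag hs' i

/-- The centre consists of scalars. -/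
theorem center_scalar (hm : 0 < m) {z : symplecticGroup (Fin m) K} (hz : z ∈ Subgroup.center (symplecticGroup (Fin m) K)) :
    ∃ c : K, (z : Matrix (Ix m) (Ix m) K) = c • 1 := by
  set Z := (z : Matrix (Ix m) (Ix m) K) with hZ
  have hcomm : ∀ x : symplecticGroup (Fin m) K, Z * (x : Matrix (Ix m) (Ix m) K) = (x : Matrix (Ix m) (Ix m) K) * Z := by
    intro x
    have := (Subgroup.mem_center_iff.1 hz) x
    exact (congrArg Subtype.val this).symm
  have h1 : ∀ i, Z * Matrix.single (Sum.inl i) (Sum.inr i) (1 : K) = Matrix.single (Sum.inl i) (Sum.inr i) 1 * Z := by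
    intro i
    have := hcomm (sb (Matrix.single i i 1) (single_symm_diag i 1))
    rw [sb_single, mul_add, add_mul, mul_one, one_mul] at this
    exact add_left_cancel this
  have h2 : ∀ i, Z * Matrix.single (Sum.inr i) (Sum.inl i) (1 : K) = Matrix.single (Sum.inr i) (Sum.inl i) 1 * Z := by
    intro i
    have := hcomm (lb (Matrix.single i i 1) (single_symm_diag i 1))
    rw [lb_single, mul_add, add_mul, mul_one, one_mul] at this
    exact add_left_cancel this
  have e1 : ∀ i (a : Ix m), a ≠ Sum.inl i → Z a (Sum.inl i) = 0 := by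
    intro i a ha
    have := congrFun (congrFun (h1 i) a) (Sum.inr i)
    rw [Matrix.mul_single_apply_same, Matrix.single_mul_apply_of_ne _ _ _ _ _ ha, mul_one] at this
    exact this
  have e2 : ∀ i (a : Ix m), a ≠ Sum.inr i → Z a (Sum.inr i) = 0 := by
    intro i a ha
    have := congrFun (congrFun (h2 i) a) (Sum.inl i)
    rw [Matrix.mul_single_apply_same, Matrix.single_mul_apply_of_ne _ _ _ _ _ ha, mul_one] at this
    exact this
  have e3 : ∀ i, Z (Sum.inl i) (Sum.inl i) = Z (Sum.inr i) (Sum.inr i) := by
    intro i
    have := congrFun (congrFun (h1 i) (Sum.inl i)) (Sum.inr i)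
    rw [Matrix.mul_single_apply_same, Matrix.single_mul_apply_same, mul_one, one_mul] at this
    exact this
  have e4 : ∀ i j : Fin m, Z (Sum.inl i) (Sum.inl i) = Z (Sum.inl j) (Sum.inl j) := by
    intro i j
    by_cases hij : i = j
    · rw [hij]
    have := hcomm (levS (SpecialLinearGroup.transvection hij (1 : K)))
    rw [levS_tt, mul_add, mul_add, add_mul, add_mul, mul_one, one_mul, add_assoc, add_assoc] at this
    have h3 := add_left_cancel this
    have h4 := congrFun (congrFun h3 (Sum.inl i)) (Sum.inl j)
    rw [Matrix.add_apply, Matrix.add_apply, Matrix.mul_single_apply_same, Matrix.single_mul_apply_same,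
      Matrix.mul_single_apply_of_ne _ _ _ _ _ (by simp), Matrix.single_mul_apply_of_ne _ _ _ _ _ (by simp), mul_one, one_mul, add_zero, add_zero] at h4
    exact h4
  set i₀ : Fin m := ⟨0, hm⟩ with hi₀
  refine ⟨Z (Sum.inl i₀) (Sum.inl i₀), ?_⟩
  ext a b
  rw [Matrix.smul_apply, smul_eq_mul]
  by_cases hab : a = b
  · subst hab
    rw [Matrix.one_apply_eq, mul_one]
    rcases a with a | a
    · exact e4 a i₀
    · rw [← e3]
      exact e4 a i₀
  · rw [Matrix.one_apply_ne hab, mul_zero]
    rcases b with b | b
    · exact e1 b a hab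
    · exact e2 b a hab

theorem levS_col_inl {i j : Fin m} (hij : i ≠ j) (c : K) (k : Ix m) :
    (levS (SpecialLinearGroup.transvection hij c) : Matrix (Ix m) (Ix m) K) k (Sum.inl j) =
      (if k = Sum.inl i then c else 0) + (if k = Sum.inl j then 1 else 0) := by
  rw [levS_tt]
  rcases k with k | k
  · simp only [Matrix.add_apply, Matrix.single_apply, Matrix.one_apply, Sum.inl.injEq, reduceCtorEq, false_and,
      and_true, if_false, add_zero]
    have : (i = k) = (k = i) := propext eq_comm
    simp only [this]
    ring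
  · simp [Matrix.single_apply, Matrix.one_apply]

theorem levS_col_inr {i j : Fin m} (hij : i ≠ j) (k : Ix m) :
    (levS (SpecialLinearGroup.transvection hij (-1 : K)) : Matrix (Ix m) (Ix m) K) k (Sum.inr i) =
      (if k = Sum.inr j then - -1 else 0) + (if k = Sum.inr i then 1 else 0) := by
  rw [levS_tt]
  rcases k with k | k
  · simp [Matrix.single_apply, Matrix.one_apply]
  · simp only [Matrix.add_apply, Matrix.single_apply, Matrix.one_apply, Sum.inr.injEq, reduceCtorEq, false_and,
      and_true, if_false, zero_add]
    have : (j = k) = (k = j) := propext eq_comm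
    simp only [this]
    ring

theorem sb_col (i : Fin m) (k : Ix m) :
    (sb (Matrix.single i i 1) (single_symm_diag i (1 : K)) : Matrix (Ix m) (Ix m) K) k (Sum.inr i) =
      (if k = Sum.inl i then 1 else 0) + (if k = Sum.inr i then 1 else 0) := by
  rw [sb_single]
  rcases k with k | k
  · simp only [Matrix.add_apply, Matrix.single_apply, Matrix.one_apply, Sum.inl.injEq, reduceCtorEq, false_and,
      and_true, if_false]
    have : (i = k) = (k = i) := propext eq_comm
    simp only [this]
    ring
  · simp [Matrix.single_apply, Matrix.one_apply]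

/-- A step of the upper triangular criterion. -/
theorem upper_key (g x : symplecticGroup (Fin m) K) {c d : Ix m}
    (hx : ∀ k, (x : Matrix (Ix m) (Ix m) K) k d = (if k = c then 1 else 0) + (if k = d then 1 else 0))
    (hgx : g * x * g⁻¹ ∈ SU0 m K) (i : Ix m) (hi : ∀ k, rk i < rk k → (g : Matrix (Ix m) (Ix m) K) k d = 0) :
    (g : Matrix (Ix m) (Ix m) K) i c = 0 := by
  have e : (g * x * g⁻¹) * g = g * x := by group
  have e2 : ((g * x * g⁻¹ : symplecticGroup (Fin m) K) : Matrix (Ix m) (Ix m) K) * (g : Matrix (Ix m) (Ix m) K) =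
      (g : Matrix (Ix m) (Ix m) K) * (x : Matrix (Ix m) (Ix m) K) := congrArg Subtype.val e
  have hU : UniM ((g * x * g⁻¹ : symplecticGroup (Fin m) K) : Matrix (Ix m) (Ix m) K) := hgx
  have e3 := congrFun (congrFun e2 i) d
  rw [Matrix.mul_apply, Finset.sum_eq_single i] at e3
  · rw [hU.2, one_mul, Matrix.mul_apply] at e3
    simp only [hx, mul_add, Finset.sum_add_distrib, mul_ite, mul_one, mul_zero, Finset.sum_ite_eq', Finset.mem_univ, if_true] at e3
    have e4 : (g : Matrix (Ix m) (Ix m) K) i c + (g : Matrix (Ix m) (Ix m) K) i d = 0 + (g : Matrix (Ix m) (Ix m) K) i d := by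
      rw [← e3, zero_add]
    exact add_right_cancel e4
  · intro k _ hk
    rcases lt_trichotomy (rk k) (rk i) with h1 | h1 | h1
    · rw [hU.1 i k h1, zero_mul]
    · exact absurd (rk_inj h1) hk
    · rw [hi k h1, mul_zero]
  · simp

/-- The upper triangular criterion. -/
theorem upM_of_conj (g : symplecticGroup (Fin m) K)
    (h1 : ∀ (i j : Fin m) (hij : i < j), g * levS (SpecialLinearGroup.transvection (ne_of_lt hij) (1 : K)) * g⁻¹ ∈ SU0 m K)
    (h2 : ∀ i : Fin m, g * sb (Matrix.single i i 1) (single_symm_diag i 1) * g⁻¹ ∈ SU0 m K) :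
    UpM (g : Matrix (Ix m) (Ix m) K) := by
  have h1' : ∀ (i j : Fin m) (hij : i < j), g * levS (SpecialLinearGroup.transvection (ne_of_lt hij) (-1 : K)) * g⁻¹ ∈ SU0 m K := by
    intro i j hij
    have := (SU0 m K).inv_mem (h1 i j hij)
    have e : (g * levS (SpecialLinearGroup.transvection (ne_of_lt hij) (1 : K)) * g⁻¹)⁻¹ =
        g * levS (SpecialLinearGroup.transvection (ne_of_lt hij) (-1 : K)) * g⁻¹ := by
      rw [← tt_inv, map_inv]
      group
    rwa [e] at this
  have key : ∀ n : ℕ, ∀ i : Ix m, 2 * m - rk i = n → ∀ a, rk a < rk i → (g : Matrix (Ix m) (Ix m) K) i a = 0 := by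
    intro n
    induction n using Nat.strong_induction_on with
    | _ n IH =>
      intro i hn a ha
      have hi := rk_lt i
      have hIH : ∀ d : Ix m, rk d = rk a + 1 → ∀ k, rk i < rk k → (g : Matrix (Ix m) (Ix m) K) k d = 0 := by
        intro d hd k hk
        have hk2 := rk_lt k
        exact IH (2 * m - rk k) (by omega) k rfl d (by omega)
      rcases a with r | r
      · by_cases hr : (r : ℕ) + 1 < m
        · set r' : Fin m := ⟨r + 1, hr⟩ with hr'
          have hlt : r < r' := by
            rw [Fin.lt_def]
            simp [hr']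
          refine upper_key g _ (d := Sum.inl r') (fun k => ?_) (h1 r r' hlt) i (hIH _ (by simp [hr']))
          exact levS_col_inl _ _ k
        · have hr2 : (r : ℕ) + 1 = m := by
            have := r.2
            omega
          refine upper_key g _ (d := Sum.inr r) (fun k => ?_) (h2 r) i (hIH _ (by simp only [rk_inr, rk_inl]; omega))
          exact sb_col _ k
      · have hr0 : 1 ≤ (r : ℕ) := by
          simp only [rk_inr] at ha
          have := r.2
          omega
        have hr1 : (r : ℕ) - 1 < m := by
          have := r.2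
          omega
        set r' : Fin m := ⟨r - 1, hr1⟩ with hr'
        have hlt : r' < r := by
          rw [Fin.lt_def]
          simp only [hr']
          omega
        refine upper_key g _ (d := Sum.inr r') (fun k => ?_) (h1' r' r hlt) i (hIH _ (by
          simp only [rk_inr, hr']
          have := r.2
          omega))
        have := levS_col_inr (K := K) (ne_of_lt hlt) k
        rw [neg_neg] at this
        exact this
  intro a b hab
  exact key _ a rfl b hab

end F

end Cfsg.Agent.H25
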