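import Cfsg.Agent.Lib.H21.SpSylowC
import Cfsg.Agent.Lib.H25.SimSp3
set_option autoImplicit false
set_option linter.style.haveILetI false
set_option linter.unusedSectionVars false
set_option linter.unusedSimpArgs false
set_option linter.unusedVariables false

/-! The wreath structure in `Sp₄(F)`: the embedding of `SL₂ × SL₂`, the swap, the scalar `-1`. -/

namespace Cfsg.Agent.H25

open Cfsg Matrix Equiv
open scoped MatrixGroups
open Cfsg.Agent.H21

variable {F : Type*} [Field F]

/-- `Sp₄`. -/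
abbrev Sp4 (F : Type*) [Field F] := symplecticGroup (Fin 2) F

/-- The embedding of `SL₂ × SL₂`. -/
def iot (a b : SL(2, F)) : Sp4 F := SpS.Mh ![a, b]

theorem pair_mul (a b c d : SL(2, F)) : (![a, b] : Fin 2 → SL(2, F)) * ![c, d] = ![a * c, b * d] := by
  funext i
  fin_cases i <;> rfl

theorem iot_mul (a b c d : SL(2, F)) : iot a b * iot c d = iot (a * c) (b * d) := by
  unfold iot
  rw [← map_mul, pair_mul]

theorem iot_one : iot (1 : SL(2, F)) 1 = 1 := by
  unfold iot
  rw [← map_one (SpS.Mh (F := F) (n := 2))]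
  congr 1
  funext i
  fin_cases i <;> rfl

theorem iot_inv (a b : SL(2, F)) : (iot a b)⁻¹ = iot a⁻¹ b⁻¹ := by
  rw [inv_eq_iff_mul_eq_one, iot_mul]
  simp [iot_one]

/-- The swap. -/
def wS : Sp4 F := SpS.Th (swap 0 1)

theorem wS_mul_self : (wS : Sp4 F) * wS = 1 := by
  unfold wS
  rw [← map_mul, Equiv.swap_mul_self, map_one]

theorem wS_inv : (wS : Sp4 F)⁻¹ = wS := inv_eq_of_mul_eq_one_left wS_mul_self

theorem wS_conj (a b : SL(2, F)) : wS * iot a b * wS⁻¹ = iot b a := by
  unfold wS iot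
  rw [SpS.Th_conj]
  congr 1
  funext i
  fin_cases i
  · show _ = b
    simp
  · show _ = a
    simp

theorem wS_iot (a b : SL(2, F)) : wS * iot a b = iot b a * wS := by
  rw [← wS_conj a b]
  group

/-- The coordinates of `iot`. -/
theorem iot_coe (a b : SL(2, F)) : (iot a b).1 =
    fromBlocks (diagonal ![a.1 0 0, b.1 0 0]) (diagonal ![a.1 0 1, b.1 0 1])
      (diagonal ![a.1 1 0, b.1 1 0]) (diagonal ![a.1 1 1, b.1 1 1]) := by
  show SpS.blk ![a, b] = _
  unfold SpS.blk
  congr 1 <;> (congr 1; funext i; fin_cases i <;> rfl)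

theorem iot_inj {a b c d : SL(2, F)} (h : iot a b = iot c d) : a = c ∧ b = d := by
  have h1 := congrArg Subtype.val h
  rw [iot_coe, iot_coe, fromBlocks_inj] at h1
  obtain ⟨h00, h01, h10, h11⟩ := h1
  have d00 := congrFun (congrFun h00 0) 0
  have d01 := congrFun (congrFun h01 0) 0
  have d10 := congrFun (congrFun h10 0) 0
  have d11 := congrFun (congrFun h11 0) 0
  have e00 := congrFun (congrFun h00 1) 1
  have e01 := congrFun (congrFun h01 1) 1
  have e10 := congrFun (congrFun h10 1) 1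
  have e11 := congrFun (congrFun h11 1) 1
  simp only [diagonal_apply_eq] at d00 d01 d10 d11 e00 e01 e10 e11
  constructor
  · apply Subtype.ext
    ext i j
    fin_cases i <;> fin_cases j
    · exact d00
    · exact d01
    · exact d10
    · exact d11
  · apply Subtype.ext
    ext i j
    fin_cases i <;> fin_cases j
    · exact e00
    · exact e01
    · exact e10
    · exact e11

theorem iot_ne_w (a b c d : SL(2, F)) : iot a b * wS ≠ iot c d := by
  intro h
  have h2 : SpS.Mh ((![c, d] : Fin 2 → SL(2, F))⁻¹ * ![a, b]) * SpS.Th (swap 0 1) = 1 := by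
    rw [map_mul, map_inv]
    unfold iot wS at h
    rw [mul_assoc, h]
    group
  have h3 := (SpS.sep _ _ h2).2
  have h4 := congrArg (fun π : Perm (Fin 2) => π 0) h3
  simp at h4

/-- The element `-1` of `SL₂`. -/
def m1S : SL(2, F) := ⟨-1, by simp [Matrix.det_neg]⟩

@[simp] theorem m1S_coe : ((m1S : SL(2, F)) : Matrix (Fin 2) (Fin 2) F) = -1 := rfl

theorem m1S_mul_self : (m1S : SL(2, F)) * m1S = 1 := by
  apply Subtype.ext
  simp

theorem m1S_inv : (m1S : SL(2, F))⁻¹ = m1S := inv_eq_of_mul_eq_one_left m1S_mul_self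

theorem m1S_comm (a : SL(2, F)) : m1S * a = a * m1S := by
  apply Subtype.ext
  simp

theorem m1S_ne_one [NeZero (2 : F)] : (m1S : SL(2, F)) ≠ 1 := by
  intro h
  have h1 := congrArg (fun x : SL(2, F) => x.1 0 0) h
  simp at h1
  have h2 : (2 : F) = 0 := by
    have : (1 : F) + 1 = 0 := by
      nth_rw 1 [← h1]
      simp
    rw [← this]
    norm_num
  exact NeZero.ne (2 : F) h2

/-- The central involution. -/
def zS : Sp4 F := iot m1S m1S

theorem zS_coe : (zS : Sp4 F).1 = -1 := by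
  rw [zS, iot_coe, ← fromBlocks_one, fromBlocks_neg]
  simp only [m1S_coe, Matrix.neg_apply, Matrix.one_apply_eq, Matrix.one_apply_ne,
    show (0 : Fin 2) ≠ 1 by decide, show (1 : Fin 2) ≠ 0 by decide, ne_eq, not_false_eq_true, neg_zero]
  congr 1
  · ext i j
    fin_cases i <;> fin_cases j <;> simp
  · ext i j
    fin_cases i <;> fin_cases j <;> simp
  · ext i j
    fin_cases i <;> fin_cases j <;> simp
  · ext i j
    fin_cases i <;> fin_cases j <;> simp

theorem zS_comm (x : Sp4 F) : zS * x = x * zS := by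
  apply Subtype.ext
  show (zS : Sp4 F).1 * x.1 = x.1 * (zS : Sp4 F).1
  rw [zS_coe]
  simp

theorem zS_mul_self : (zS : Sp4 F) * zS = 1 := by
  rw [zS, iot_mul, m1S_mul_self, iot_one]

theorem zS_inv : (zS : Sp4 F)⁻¹ = zS := inv_eq_of_mul_eq_one_left zS_mul_self

theorem zS_mem_center : (zS : Sp4 F) ∈ Subgroup.center (Sp4 F) :=
  Subgroup.mem_center_iff.2 fun x => (zS_comm x).symm

theorem zS_ne_one [NeZero (2 : F)] : (zS : Sp4 F) ≠ 1 := by
  intro h
  have := (iot_inj (a := m1S) (b := m1S) (c := (1 : SL(2, F))) (d := 1) (by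
    rw [iot_one]; exact h)).1
  exact m1S_ne_one this

/-- The centre of `Sp₄(F)`. -/
theorem mem_center_Sp4 [Fintype F] [NeZero (2 : F)] {x : Sp4 F} (hx : x ∈ Subgroup.center (Sp4 F)) : x = 1 ∨ x = zS := by
  obtain ⟨c, hc⟩ := center_scalar (K := F) (m := 2) (by norm_num) hx
  have h1 : x.1 * (J (Fin 2) F) * x.1ᵀ = J (Fin 2) F := by
    have := x.2
    rw [SymplecticGroup.mem_iff] at this
    exact this
  rw [hc] at h1
  simp only [transpose_smul, transpose_one, Matrix.smul_mul, Matrix.mul_smul, Matrix.mul_one, Matrix.one_mul, smul_smul] at h1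
  have h2 : (c * c) • J (Fin 2) F = J (Fin 2) F := h1
  have h3 := congrFun (congrFun h2 (Sum.inr 0)) (Sum.inl 0)
  simp [J] at h3
  have h4 : (c - 1) * (c + 1) = 0 := by
    have : c * c = 1 := h3
    linear_combination this
  rcases mul_eq_zero.1 h4 with h5 | h5
  · left
    apply Subtype.ext
    rw [hc, sub_eq_zero.1 h5]
    simp
  · right
    apply Subtype.ext
    rw [hc, zS_coe, eq_neg_of_add_eq_zero_left h5]
    simp

/-- The element `t`. -/
def tS : Sp4 F := iot 1 m1S

theorem tS_ne_one [NeZero (2 : F)] : (tS : Sp4 F) ≠ 1 := by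
  intro h
  have := (iot_inj (a := 1) (b := m1S) (c := (1 : SL(2, F))) (d := 1) (by
    rw [iot_one]; exact h)).2
  exact m1S_ne_one this

theorem tS_ne_z [NeZero (2 : F)] : (tS : Sp4 F) ≠ zS := by
  intro h
  have := (iot_inj (a := 1) (b := m1S) (c := m1S) (d := m1S) h).1
  exact m1S_ne_one this.symm

theorem wS_tS : (wS : Sp4 F) * tS * wS⁻¹ = zS * tS := by
  rw [tS, wS_conj, zS, iot_mul]
  simp [m1S_mul_self]

theorem iot_m1_one : iot m1S (1 : SL(2, F)) = zS * tS := by
  rw [tS, zS, iot_mul]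
  simp [m1S_mul_self]

/-- An element commuting with `t` is in the image of `iot`. -/
theorem comm_tS [NeZero (2 : F)] (g : Sp4 F) (h : g * tS = tS * g) : ∃ a b : SL(2, F), g = iot a b := by
  have h2F : (2 : F) ≠ 0 := NeZero.ne _
  have hm := congrArg Subtype.val h
  change g.1 * (tS : Sp4 F).1 = (tS : Sp4 F).1 * g.1 at hm
  have ht : (tS : Sp4 F).1 = diagonal (Sum.elim ![1, -1] ![1, -1]) := by
    rw [tS, iot_coe]
    ext α β
    rcases α with i | i <;> rcases β with j | j <;> fin_cases i <;> fin_cases j <;> simp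
  rw [ht] at hm
  have key : ∀ α β : Fin 2 ⊕ Fin 2, g.1 α β * Sum.elim ![1, -1] ![1, -1] β = Sum.elim ![(1 : F), -1] ![1, -1] α * g.1 α β := by
    intro α β
    have := congrFun (congrFun hm α) β
    rwa [Matrix.mul_diagonal, Matrix.diagonal_mul] at this
  have z01 : ∀ α β : Fin 2 ⊕ Fin 2, Sum.elim ![(1 : F), -1] ![1, -1] β ≠ Sum.elim ![(1 : F), -1] ![1, -1] α → g.1 α β = 0 := by
    intro α β hne
    have h1 := key α β
    have h2 : g.1 α β * (Sum.elim ![(1 : F), -1] ![1, -1] β - Sum.elim ![(1 : F), -1] ![1, -1] α) = 0 := by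
      rw [mul_sub, h1]
      ring
    rcases mul_eq_zero.1 h2 with h3 | h3
    · exact h3
    · exact absurd (sub_eq_zero.1 h3) hne
  have hne : (1 : F) ≠ -1 := by
    intro h5
    apply h2F
    have : (1 : F) + 1 = 0 := by
      nth_rw 1 [h5]
      ring
    rw [← this]
    norm_num
  have hJ : g.1 * J (Fin 2) F * g.1ᵀ = J (Fin 2) F := by
    have := g.2
    rw [SymplecticGroup.mem_iff] at this
    exact this
  -- the two blocks
  have hz : ∀ (i j : Fin 2), i ≠ j → ∀ (α β : Fin 2 → Fin 2 ⊕ Fin 2) , True := fun _ _ _ _ _ => trivial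
  have e0 := z01 (Sum.inl 0) (Sum.inl 1) (by simpa using hne.symm)
  have e1 := z01 (Sum.inl 0) (Sum.inr 1) (by simpa using hne.symm)
  have e2 := z01 (Sum.inr 0) (Sum.inl 1) (by simpa using hne.symm)
  have e3 := z01 (Sum.inr 0) (Sum.inr 1) (by simpa using hne.symm)
  have e4 := z01 (Sum.inl 1) (Sum.inl 0) (by simpa using hne)
  have e5 := z01 (Sum.inl 1) (Sum.inr 0) (by simpa using hne)
  have e6 := z01 (Sum.inr 1) (Sum.inl 0) (by simpa using hne)
  have e7 := z01 (Sum.inr 1) (Sum.inr 0) (by simpa using hne)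
  have hJ0 := congrFun (congrFun hJ (Sum.inr 0)) (Sum.inl 0)
  have hJ1 := congrFun (congrFun hJ (Sum.inr 1)) (Sum.inl 1)
  simp [Matrix.mul_apply, J, Fintype.sum_sum_type, Fin.sum_univ_two, e0, e1, e2, e3, e4, e5, e6, e7] at hJ0 hJ1
  refine ⟨⟨!![g.1 (Sum.inl 0) (Sum.inl 0), g.1 (Sum.inl 0) (Sum.inr 0); g.1 (Sum.inr 0) (Sum.inl 0), g.1 (Sum.inr 0) (Sum.inr 0)], ?_⟩,
    ⟨!![g.1 (Sum.inl 1) (Sum.inl 1), g.1 (Sum.inl 1) (Sum.inr 1); g.1 (Sum.inr 1) (Sum.inl 1), g.1 (Sum.inr 1) (Sum.inr 1)], ?_⟩, ?_⟩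
  · rw [Matrix.det_fin_two_of]
    linear_combination hJ0
  · rw [Matrix.det_fin_two_of]
    linear_combination hJ1
  · apply Subtype.ext
    refine Eq.trans ?_ (iot_coe _ _).symm
    ext α β
    rcases α with i | i <;> rcases β with j | j <;> fin_cases i <;> fin_cases j <;>
      simp [e0, e1, e2, e3, e4, e5, e6, e7]

end Cfsg.Agent.H25
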