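import Cfsg.Agent.Lib.H25.SimP1
set_option autoImplicit false
set_option linter.style.haveILetI false
set_option linter.unusedSectionVars false
set_option linter.unusedSimpArgs false
set_option linter.unusedVariables false

/-! The Sylow `2`-subgroup of `Sp₄(F)`, the conjugating element, and facts on `SL₂`. -/

namespace Cfsg.Agent.H25

open Cfsg Matrix Equiv
open scoped MatrixGroups
open Cfsg.Agent.H21

variable {F : Type*} [Field F]

/-- The matrix conjugating `t` to `w`. -/
theorem exists_P0 [NeZero (2 : F)] : ∃ P : Sp4 F, P * tS * P⁻¹ = wS := by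
  have h2 : (2 : F) ≠ 0 := NeZero.ne _
  let A : Matrix (Fin 2) (Fin 2) F := !![1, 1; 1, -1]
  let A' : Matrix (Fin 2) (Fin 2) F := !![2⁻¹, 2⁻¹; 2⁻¹, -2⁻¹]
  have hAA : A * A' = 1 := by
    ext i j
    fin_cases i <;> fin_cases j <;> simp [A, A', Matrix.mul_apply, Fin.sum_univ_two] <;> first | ring1 | field_simp | skip
    all_goals ring
  have hmem : fromBlocks A 0 0 A' ∈ symplecticGroup (Fin 2) F := by
    rw [SymplecticGroup.mem_iff]
    simp only [J, fromBlocks_transpose, fromBlocks_multiply, Matrix.mul_zero, Matrix.zero_mul, Matrix.mul_neg,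
      Matrix.mul_one, zero_add, add_zero, transpose_zero, Matrix.neg_mul, Matrix.one_mul, neg_zero]
    congr 1
    · have hs : A'ᵀ = A' := by
        ext i j
        fin_cases i <;> fin_cases j <;> simp [A']
      rw [hs, hAA]
    · have hs : Aᵀ = A := by
        ext i j
        fin_cases i <;> fin_cases j <;> simp [A]
      rw [hs]
      exact mul_eq_one_comm.1 hAA
  refine ⟨⟨_, hmem⟩, ?_⟩
  rw [mul_inv_eq_iff_eq_mul]
  apply Subtype.ext
  show fromBlocks A 0 0 A' * (tS : Sp4 F).1 = (wS : Sp4 F).1 * fromBlocks A 0 0 A'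
  have ht : (tS : Sp4 F).1 = fromBlocks (diagonal ![1, -1]) 0 0 (diagonal ![1, -1]) := by
    rw [tS, iot_coe]
    ext α β
    rcases α with i | i <;> rcases β with j | j <;> fin_cases i <;> fin_cases j <;> simp
  have hw : (wS : Sp4 F).1 = fromBlocks !![0, 1; 1, 0] 0 0 !![0, 1; 1, 0] := by
    show SpS.tm _ = _
    unfold SpS.tm
    have : (SpS.pm (swap (0 : Fin 2) 1) : Matrix (Fin 2) (Fin 2) F) = !![0, 1; 1, 0] := by
      ext i j
      fin_cases i <;> fin_cases j <;> simp
    rw [this]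
  rw [ht, hw]
  simp only [fromBlocks_multiply, Matrix.mul_zero, Matrix.zero_mul, zero_add, add_zero]
  congr 1
  · ext i j
    fin_cases i <;> fin_cases j <;> simp [A, Matrix.mul_apply, Fin.sum_univ_two]
  · ext i j
    fin_cases i <;> fin_cases j <;> simp [A', Matrix.mul_apply, Fin.sum_univ_two]

/-- The wreath product subgroup. -/
def SW (Q : Subgroup SL(2, F)) : Subgroup (Sp4 F) :=
  SpS.wrS SpS.Mh SpS.Th SpS.Th_conj Q ⊤

theorem perm_two (π : Perm (Fin 2)) : π = 1 ∨ π = swap 0 1 := by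
  revert π
  decide

theorem mem_SW {Q : Subgroup SL(2, F)} {g : Sp4 F} :
    g ∈ SW Q ↔ ∃ a ∈ Q, ∃ b ∈ Q, g = iot a b ∨ g = iot a b * wS := by
  constructor
  · rintro ⟨c, hc, π, -, rfl⟩
    have hc' : c = ![c 0, c 1] := by
      funext i
      fin_cases i <;> rfl
    refine ⟨c 0, hc 0, c 1, hc 1, ?_⟩
    rcases perm_two π with h | h
    · left
      rw [h, map_one, mul_one, iot, ← hc']
    · right
      rw [h, iot, ← hc']
      rfl
  · rintro ⟨a, ha, b, hb, h | h⟩
    · refine ⟨![a, b], fun i => ?_, 1, Subgroup.mem_top _, ?_⟩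
      · fin_cases i
        · exact ha
        · exact hb
      · rw [h, map_one, mul_one, iot]
    · refine ⟨![a, b], fun i => ?_, swap 0 1, Subgroup.mem_top _, ?_⟩
      · fin_cases i
        · exact ha
        · exact hb
      · rw [h, iot]
        rfl

theorem iot_mem_SW {Q : Subgroup SL(2, F)} {a b : SL(2, F)} : iot a b ∈ SW Q ↔ a ∈ Q ∧ b ∈ Q := by
  constructor
  · intro h
    obtain ⟨c, hc, d, hd, h1 | h1⟩ := mem_SW.1 h
    · obtain ⟨rfl, rfl⟩ := iot_inj h1
      exact ⟨hc, hd⟩
    · exact absurd h1.symm (iot_ne_w _ _ _ _)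
  · rintro ⟨ha, hb⟩
    exact mem_SW.2 ⟨a, ha, b, hb, Or.inl rfl⟩

theorem wS_mem_SW {Q : Subgroup SL(2, F)} : (wS : Sp4 F) ∈ SW Q :=
  mem_SW.2 ⟨1, Q.one_mem, 1, Q.one_mem, Or.inr (by rw [iot_one, one_mul])⟩

theorem iot_w_mem_SW {Q : Subgroup SL(2, F)} {a b : SL(2, F)} : iot a b * wS ∈ SW Q ↔ a ∈ Q ∧ b ∈ Q := by
  constructor
  · intro h
    have h1 : iot a b ∈ SW Q := by
      have := (SW Q).mul_mem h (wS_mem_SW (Q := Q))
      rwa [mul_assoc, wS_mul_self, mul_one] at this
    exact iot_mem_SW.1 h1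
  · intro h
    exact (SW Q).mul_mem (iot_mem_SW.2 h) wS_mem_SW

/-- `SW Q` is Sylow. -/
theorem SW_sylow [Fintype F] (hF : Odd (Fintype.card F)) (Q : Sylow 2 SL(2, F)) :
    ∃ P : Sylow 2 (Sp4 F), (P : Subgroup (Sp4 F)) = SW (Q : Subgroup SL(2, F)) := by
  classical
  haveI : Fact (Nat.Prime 2) := ⟨Nat.prime_two⟩
  haveI : Finite (symplecticGroup (Fin 2) F) := Subtype.finite
  have hWc : Nat.card (SW (Q : Subgroup SL(2, F))) = 2 ^ (Nat.card (symplecticGroup (Fin 2) F)).factorization 2 := by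
    unfold SW
    rw [SpS.card_wrS SpS.Mh SpS.Th SpS.Th_conj SpS.sep, SpS.sp_val hF, Fintype.card_fin, Q.card_eq_multiplicity,
      SpS.sl2_val hF, Nat.card_congr Subgroup.topEquiv.toEquiv, Nat.card_eq_fintype_card (α := Perm (Fin 2)),
      Fintype.card_perm, Fintype.card_fin, ← pow_mul]
    have h2 : padicValNat 2 (Nat.factorial 2) = 1 := by
      rw [Nat.factorial_two]
      exact padicValNat_self
    rw [h2, pow_add, pow_one, Nat.factorial_two, mul_comm 2 (padicValNat 2 _)]
  exact ⟨Sylow.ofCard _ hWc, rfl⟩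

section SL2
variable [NeZero (2 : F)]

theorem sl2_det (a : SL(2, F)) : a.1 0 0 * a.1 1 1 - a.1 0 1 * a.1 1 0 = 1 := by
  have := a.2
  rwa [Matrix.det_fin_two] at this

theorem sl2_ext {a b : SL(2, F)} (h00 : a.1 0 0 = b.1 0 0) (h01 : a.1 0 1 = b.1 0 1) (h10 : a.1 1 0 = b.1 1 0)
    (h11 : a.1 1 1 = b.1 1 1) : a = b := by
  apply Subtype.ext
  ext i j
  fin_cases i <;> fin_cases j
  · exact h00
  · exact h01
  · exact h10
  · exact h11

theorem sl2_mul_apply (a b : SL(2, F)) (i j : Fin 2) : (a * b).1 i j = a.1 i 0 * b.1 0 j + a.1 i 1 * b.1 1 j := by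
  show (a.1 * b.1) i j = _
  rw [Matrix.mul_apply, Fin.sum_univ_two]

/-- The only involution of `SL₂`. -/
theorem sl2_sq_one {a : SL(2, F)} (h : a * a = 1) : a = 1 ∨ a = m1S := by
  have h2F : (2 : F) ≠ 0 := NeZero.ne _
  have d := sl2_det a
  have h00 := congrArg (fun x : SL(2, F) => x.1 0 0) h
  have h01 := congrArg (fun x : SL(2, F) => x.1 0 1) h
  have h10 := congrArg (fun x : SL(2, F) => x.1 1 0) h
  have h11 := congrArg (fun x : SL(2, F) => x.1 1 1) h
  simp only [sl2_mul_apply] at h00 h01 h10 h11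
  simp at h00 h01 h10 h11
  set p := a.1 0 0
  set q := a.1 0 1
  set r := a.1 1 0
  set s := a.1 1 1
  -- a⁻¹ = a gives p = s and q = r = 0
  have hps : p = s := by
    have e1 : p * (p * s - q * r) = s := by
      linear_combination s * h00 - q * h10 - 0 * h01
    rw [d, mul_one] at e1
    exact e1
  have hq : q = 0 := by
    have e1 : q * (p * s - q * r) = -q := by
      linear_combination s * h01 - q * h11
    rw [d, mul_one] at e1
    have e2 : (2 : F) * q = 0 := by linear_combination e1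
    exact (mul_eq_zero.1 e2).resolve_left h2F
  have hr : r = 0 := by
    have e1 : r * (p * s - q * r) = -r := by
      linear_combination p * h10 - r * h00
    rw [d, mul_one] at e1
    have e2 : (2 : F) * r = 0 := by linear_combination e1
    exact (mul_eq_zero.1 e2).resolve_left h2F
  rw [hq, hr, mul_zero, add_zero] at h00
  have h5 : (p - 1) * (p + 1) = 0 := by linear_combination h00
  rcases mul_eq_zero.1 h5 with h6 | h6
  · left
    have hp : p = 1 := sub_eq_zero.1 h6
    apply sl2_ext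
    · simp [hp, p]
    · simp [hq, q]
    · simp [hr, r]
    · simp [← hps, hp, s]
  · right
    have hp : p = -1 := eq_neg_of_add_eq_zero_left h6
    apply sl2_ext
    · simp [hp, p]
    · simp [hq, q]
    · simp [hr, r]
    · simp [← hps, hp, s]

/-- The standard element of order four. -/
def i0S : SL(2, F) := ⟨!![0, -1; 1, 0], by simp [Matrix.det_fin_two_of]⟩

/-- Every element of order four is `SL₂`-conjugate to the standard one. -/
theorem sl2_to_i0 [Fintype F] (hF : Fintype.card F % 2 = 1) {a : SL(2, F)} (h : a * a = m1S) : ∃ P : SL(2, F), a * P = P * i0S := by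
  have h2F : (2 : F) ≠ 0 := NeZero.ne _
  have d := sl2_det a
  have h00 := congrArg (fun x : SL(2, F) => x.1 0 0) h
  have h01 := congrArg (fun x : SL(2, F) => x.1 0 1) h
  have h10 := congrArg (fun x : SL(2, F) => x.1 1 0) h
  have h11 := congrArg (fun x : SL(2, F) => x.1 1 1) h
  simp only [sl2_mul_apply] at h00 h01 h10 h11
  simp at h00 h01 h10 h11
  set p := a.1 0 0 with hp
  set q := a.1 0 1 with hq
  set r := a.1 1 0 with hr
  set s := a.1 1 1 with hs
  -- the trace vanishes
  have htr : s = -p := by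
    have e1 : p * (p + s) = 0 := by linear_combination h00 + d
    have e2 : s * (p + s) = 0 := by linear_combination h11 + d
    have e3 : (p + s) ≠ 0 → False := by
      intro hne
      have e4 : p = 0 := (mul_eq_zero.1 e1).resolve_right hne
      have e5 : s = 0 := (mul_eq_zero.1 e2).resolve_right hne
      apply hne
      rw [e4, e5, add_zero]
    by_contra hcon
    apply e3
    intro h5
    apply hcon
    linear_combination h5
  have hqr : p * p + q * r = -1 := h00
  obtain ⟨x, y, hxy⟩ : ∃ x y : F, r * x * x - 2 * p * x * y - q * y * y = 1 := by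
    by_cases hr0 : r = 0
    · have hp2 : p * p = -1 := by rw [hr0] at hqr; simpa using hqr
      have hp0 : p ≠ 0 := by
        intro h5
        rw [h5] at hp2
        have h6 : (1 : F) = 0 := by linear_combination hp2
        exact one_ne_zero h6
      refine ⟨(-1 - q) / (2 * p), 1, ?_⟩
      rw [hr0]
      field_simp
      ring
    · classical
      obtain ⟨X, Y, hXY⟩ := FiniteField.exists_root_sum_quadratic (R := F)
        (f := Polynomial.X ^ 2) (g := Polynomial.X ^ 2 - Polynomial.C r)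
        (by simp) (by
          rw [Polynomial.degree_X_pow_sub_C (by norm_num)]
          norm_num) hF
      simp at hXY
      refine ⟨(X + p * Y) / r, Y, ?_⟩
      have h5 : X ^ 2 + (Y ^ 2 - r) = 0 := hXY
      have hx : r * ((X + p * Y) / r) = X + p * Y := by field_simp
      generalize (X + p * Y) / r = x at hx ⊢
      apply mul_left_cancel₀ hr0
      linear_combination (r * x + (X + p * Y) - 2 * p * Y) * hx + h5 - Y ^ 2 * hqr
  have hdet : (!![x, p * x + q * y; y, r * x + s * y] : Matrix (Fin 2) (Fin 2) F).det = 1 := by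
    rw [Matrix.det_fin_two_of, htr]
    linear_combination hxy
  obtain ⟨P, hPd⟩ : ∃ P : SL(2, F), P = ⟨!![x, p * x + q * y; y, r * x + s * y], hdet⟩ := ⟨_, rfl⟩
  refine ⟨P, ?_⟩
  have p00 : P.1 0 0 = x := by rw [hPd]; rfl
  have p01 : P.1 0 1 = p * x + q * y := by rw [hPd]; rfl
  have p10 : P.1 1 0 = y := by rw [hPd]; rfl
  have p11 : P.1 1 1 = r * x + s * y := by rw [hPd]; rfl
  have i00 : (i0S : SL(2, F)).1 0 0 = 0 := rfl
  have i01 : (i0S : SL(2, F)).1 0 1 = -1 := rfl
  have i10 : (i0S : SL(2, F)).1 1 0 = 1 := rfl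
  have i11 : (i0S : SL(2, F)).1 1 1 = 0 := rfl
  have key : ∀ (i j : Fin 2), (a * P).1 i j = a.1 i 0 * P.1 0 j + a.1 i 1 * P.1 1 j := fun i j => sl2_mul_apply a P i j
  have key2 : ∀ (i j : Fin 2), (P * i0S).1 i j = P.1 i 0 * (i0S : SL(2, F)).1 0 j + P.1 i 1 * (i0S : SL(2, F)).1 1 j := fun i j => sl2_mul_apply P i0S i j
  apply sl2_ext
  · refine (key 0 0).trans (Eq.trans ?_ (key2 0 0).symm)
    rw [i00, i10, p00, p01, p10, ← hp, ← hq]
    ring
  · refine (key 0 1).trans (Eq.trans ?_ (key2 0 1).symm)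
    rw [i01, i11, p00, p01, p11, ← hp, ← hq]
    linear_combination x * h00 + y * h01
  · refine (key 1 0).trans (Eq.trans ?_ (key2 1 0).symm)
    rw [i00, i10, p00, p10, p11, ← hr, ← hs]
    ring
  · refine (key 1 1).trans (Eq.trans ?_ (key2 1 1).symm)
    rw [i01, i11, p01, p10, p11, ← hr, ← hs]
    linear_combination x * h10 + y * h11

/-- All elements of order four of `SL₂` are conjugate. -/
theorem sl2_sq_conj [Fintype F] (hF : Fintype.card F % 2 = 1) {a b : SL(2, F)} (ha : a * a = m1S) (hb : b * b = m1S) :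
    ∃ g : SL(2, F), g * a * g⁻¹ = b := by
  obtain ⟨P, hP⟩ := sl2_to_i0 hF ha
  obtain ⟨P', hP'⟩ := sl2_to_i0 hF hb
  refine ⟨P' * P⁻¹, ?_⟩
  have h1 : P⁻¹ * a * P = i0S := by
    rw [mul_assoc, hP, inv_mul_cancel_left]
  rw [_root_.mul_inv_rev, inv_inv]
  calc P' * P⁻¹ * a * (P * P'⁻¹) = P' * (P⁻¹ * a * P) * P'⁻¹ := by group
    _ = b := by rw [h1, ← hP', mul_inv_cancel_right]

end SL2

end Cfsg.Agent.H25
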