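import Cfsg.Agent.Lib.H25.SimP2
set_option autoImplicit false
set_option linter.style.haveILetI false
set_option linter.unusedSectionVars false
set_option linter.unusedSimpArgs false
set_option linter.unusedVariables false

/-! Quaternion Sylow subgroups of `SL₂`: centre, generation by elements of order four, odd automorphisms. -/

namespace Cfsg.Agent.H25

open Cfsg Matrix Equiv QuaternionGroup
open scoped MatrixGroups

variable {F : Type*} [Field F] [NeZero (2 : F)]

theorem zmod_ne_zero (N m : ℕ) (h0 : 0 < m) (h : m < N) : ((m : ℕ) : ZMod N) ≠ 0 := by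
  intro h1
  rw [ZMod.natCast_eq_zero_iff] at h1
  exact absurd (Nat.le_of_dvd h0 h1) (by omega)

section
variable {k : ℕ} (f : QuaternionGroup (2 ^ k) →* SL(2, F)) (hf : Function.Injective f)

include hf

theorem f_an : f (a ((2 ^ k : ℕ) : ZMod (2 * 2 ^ k))) = m1S := by
  have h2 : f (a ((2 ^ k : ℕ) : ZMod (2 * 2 ^ k))) * f (a ((2 ^ k : ℕ) : ZMod (2 * 2 ^ k))) = 1 := by
    rw [← map_mul, a_mul_a]
    have h3 : (((2 ^ k : ℕ) : ZMod (2 * 2 ^ k)) + ((2 ^ k : ℕ) : ZMod (2 * 2 ^ k))) = 0 := by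
      rw [← Nat.cast_add, ZMod.natCast_eq_zero_iff]
      exact ⟨1, by ring⟩
    rw [h3, ← QuaternionGroup.one_def, map_one]
  rcases sl2_sq_one h2 with h3 | h3
  · exfalso
    have h4 : f (a ((2 ^ k : ℕ) : ZMod (2 * 2 ^ k))) = f 1 := by rw [h3, map_one]
    have h5 := hf h4
    rw [QuaternionGroup.one_def, a.injEq] at h5
    exact zmod_ne_zero _ _ (by positivity) (by have : 0 < 2 ^ k := by positivity
                                               omega) h5
  · exact h3

theorem f_xa_sq (i : ZMod (2 * 2 ^ k)) : f (xa i) * f (xa i) = m1S := by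
  rw [← map_mul, xa_mul_xa, ← f_an f hf]
  congr 2
  ring

theorem f_a_half (hk : 1 ≤ k) : f (a ((2 ^ (k - 1) : ℕ) : ZMod (2 * 2 ^ k))) * f (a ((2 ^ (k - 1) : ℕ) : ZMod (2 * 2 ^ k))) = m1S := by
  rw [← map_mul, a_mul_a, ← f_an f hf]
  congr 2
  rw [← Nat.cast_add]
  congr 1
  obtain ⟨l, rfl⟩ : ∃ l, k = l + 1 := ⟨k - 1, by omega⟩
  simp [pow_succ]
  ring

/-- The centre of the quaternion group. -/
theorem f_center (hk : 1 ≤ k) (x : QuaternionGroup (2 ^ k)) (h : ∀ y, f x * f y = f y * f x) : f x = 1 ∨ f x = m1S := by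
  have hN : 4 ≤ 2 * 2 ^ k := by
    calc 4 = 2 * 2 ^ 1 := by norm_num
      _ ≤ 2 * 2 ^ k := Nat.mul_le_mul_left 2 (Nat.pow_le_pow_right (by norm_num) hk)
  cases x with
  | a i =>
    apply sl2_sq_one
    have h1 := h (xa 0)
    rw [← map_mul, ← map_mul] at h1
    have h2 := hf h1
    rw [a_mul_xa, xa_mul_a, xa.injEq] at h2
    rw [← map_mul, a_mul_a]
    have h3 : i + i = 0 := by
      have : (0 : ZMod (2 * 2 ^ k)) - i = 0 + i := h2
      linear_combination -this
    rw [h3, ← QuaternionGroup.one_def, map_one]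
  | xa i =>
    exfalso
    have h1 := h (a 1)
    rw [← map_mul, ← map_mul] at h1
    have h2 := hf h1
    rw [a_mul_xa, xa_mul_a, xa.injEq] at h2
    have h3 : ((2 : ℕ) : ZMod (2 * 2 ^ k)) = 0 := by
      push_cast
      linear_combination h2
    exact zmod_ne_zero (2 * 2 ^ k) 2 (by norm_num) (by omega) h3

/-- Generation by quotients of elements of order four. -/
theorem f_gen (hk : 1 ≤ k) (R : Subgroup SL(2, F))
    (hR : ∀ x y, f x * f x = m1S → f y * f y = m1S → f x * (f y)⁻¹ ∈ R) (x : QuaternionGroup (2 ^ k)) : f x ∈ R := by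
  have ha : ∀ j, f (a j) ∈ R := by
    intro j
    have h1 := hR (xa 0) (xa j) (f_xa_sq f hf _) (f_xa_sq f hf _)
    have h2 : f (xa 0) * (f (xa j))⁻¹ = f (a j) := by
      rw [mul_inv_eq_iff_eq_mul, ← map_mul, a_mul_xa, sub_self]
    rwa [h2] at h1
  cases x with
  | a i => exact ha i
  | xa i =>
    have h1 := hR (xa (i + ((2 ^ (k - 1) : ℕ) : ZMod (2 * 2 ^ k)))) (a ((2 ^ (k - 1) : ℕ) : ZMod (2 * 2 ^ k)))
      (f_xa_sq f hf _) (f_a_half f hf hk)
    have h2 : f (xa (i + ((2 ^ (k - 1) : ℕ) : ZMod (2 * 2 ^ k)))) * (f (a ((2 ^ (k - 1) : ℕ) : ZMod (2 * 2 ^ k))))⁻¹ = f (xa i) := by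
      rw [mul_inv_eq_iff_eq_mul, ← map_mul, xa_mul_a]
    rwa [h2] at h1

/-- Odd automorphisms centralize a generalized quaternion group of order at least `16`. -/
theorem f_odd_central (hk : 2 ≤ k) (h : SL(2, F)) (hn : ∀ x, ∃ y, f y = h * f x * h⁻¹) {r : ℕ} (hr : Odd r) (hrh : h ^ r = 1)
    (x : QuaternionGroup (2 ^ k)) : h * f x = f x * h := by
  classical
  haveI : NeZero (2 * 2 ^ k) := ⟨by positivity⟩
  have hN : 8 ≤ 2 * 2 ^ k := by
    calc 8 = 2 * 2 ^ 2 := by norm_num
      _ ≤ 2 * 2 ^ k := Nat.mul_le_mul_left 2 (Nat.pow_le_pow_right (by norm_num) hk)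
  have hr0 : r ≠ 0 := by
    rintro rfl
    simp at hr
  have hcop : Nat.Coprime r 2 := hr.coprime_two_right
  choose α hα using hn
  set y := f (a 1) with hy
  have hpow : ∀ N : ℕ, y ^ N = f (a (N : ZMod (2 * 2 ^ k))) := by
    intro N
    rw [hy, ← map_pow, a_one_pow]
  -- `α (a 1)` is in the cyclic part
  obtain ⟨m, hm⟩ : ∃ m, h * y * h⁻¹ = f (a m) := by
    rcases hα1 : α (a 1) with m | i
    · exact ⟨m, by rw [← hα, hα1]⟩
    · exfalso
      have h1 : h * y * h⁻¹ = f (xa i) := by rw [← hα, hα1]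
      have h2 : h * y ^ 4 * h⁻¹ = 1 := by
        have hx2 : f (xa i) ^ 2 = m1S := by rw [pow_two]; exact f_xa_sq f hf i
        rw [← conj_pow, h1, show (4 : ℕ) = 2 * 2 by norm_num, pow_mul, hx2, pow_two, m1S_mul_self]
      have h3 : y ^ 4 = 1 := by
        have h4 : y ^ 4 = h⁻¹ * (h * y ^ 4 * h⁻¹) * h := by group
        rw [h4, h2]
        group
      rw [hpow] at h3
      have h4 := hf (h3.trans (map_one f).symm)
      rw [QuaternionGroup.one_def, a.injEq] at h4
      exact zmod_ne_zero _ 4 (by norm_num) (by omega) h4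
  have hit : ∀ s : ℕ, h ^ s * y * (h ^ s)⁻¹ = y ^ (m.val ^ s) := by
    intro s
    induction s with
    | zero => simp
    | succ s ih =>
      have h1 : h * y * h⁻¹ = y ^ m.val := by
        rw [hm, hpow, ZMod.natCast_zmod_val]
      calc h ^ (s + 1) * y * (h ^ (s + 1))⁻¹ = h * (h ^ s * y * (h ^ s)⁻¹) * h⁻¹ := by
            rw [pow_succ']
            group
        _ = (h * y * h⁻¹) ^ (m.val ^ s) := by rw [ih, conj_pow]
        _ = y ^ (m.val ^ (s + 1)) := by
            rw [h1, ← pow_mul, pow_succ', mul_comm]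
  have hmr : m ^ r = 1 := by
    have h1 := hit r
    rw [hrh, one_mul, inv_one, mul_one] at h1
    nth_rw 1 [← pow_one y] at h1
    rw [hpow, hpow] at h1
    have h2 := hf h1
    rw [a.injEq] at h2
    push_cast at h2
    rw [ZMod.natCast_zmod_val] at h2
    exact h2.symm
  have hm1 : m = 1 := by
    let u := Units.ofPowEqOne m r hmr hr0
    have hu1 : u ^ r = 1 := Units.pow_ofPowEqOne hmr hr0
    have hc : Fintype.card (ZMod (2 * 2 ^ k))ˣ = 2 ^ k := by
      rw [ZMod.card_units_eq_totient, show 2 * 2 ^ k = 2 ^ (k + 1) by ring, Nat.totient_prime_pow_succ Nat.prime_two]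
      simp
    have hu2 : u ^ (2 ^ k) = 1 := by
      have h5 := pow_card_eq_one (x := u)
      rwa [hc] at h5
    have hu3 : u ^ Nat.gcd r (2 ^ k) = 1 := pow_gcd_eq_one.2 ⟨hu1, hu2⟩
    rw [(Nat.Coprime.pow_right k hcop : Nat.gcd r (2 ^ k) = 1), pow_one] at hu3
    have := congrArg Units.val hu3
    simpa [u] using this
  have hcy : h * y = y * h := by
    have h1 : h * y * h⁻¹ = y := by rw [hm, hm1, hy]
    calc h * y = (h * y * h⁻¹) * h := by group
      _ = y * h := by rw [h1]
  have hca : ∀ i, h * f (a i) = f (a i) * h := by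
    intro i
    have h1 : f (a i) = y ^ i.val := by rw [hpow, ZMod.natCast_zmod_val]
    rw [h1]
    exact ((Commute.pow_right hcy _ : Commute h (y ^ i.val))).eq
  -- now `xa 0`
  set w := f (xa 0) with hw
  have hxa : ∀ i, f (xa i) = w * f (a i) := by
    intro i
    rw [hw, ← map_mul, xa_mul_a, zero_add]
  obtain ⟨m', hm'⟩ : ∃ m', h * w * h⁻¹ = w * f (a m') := by
    rcases hα1 : α (xa 0) with m' | i
    · exfalso
      have h1 : h * w * h⁻¹ = f (a m') := by rw [← hα, hα1]
      have h2 : f (a m') * h = h * f (a m') := (hca m').symm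
      have h3 : w = f (a m') := by
        have h4 : h * w = h * f (a m') := by
          rw [← h2, ← h1]
          group
        exact mul_left_cancel h4
      have h4 := hf h3
      exact absurd h4 (by simp)
    · refine ⟨i, ?_⟩
      rw [← hα, hα1, ← hxa]
  have hit2 : ∀ s : ℕ, h ^ s * w * (h ^ s)⁻¹ = w * f (a m') ^ s := by
    intro s
    induction s with
    | zero => simp
    | succ s ih =>
      have hcd : Commute h (f (a m') ^ s) := Commute.pow_right (hca m') s
      calc h ^ (s + 1) * w * (h ^ (s + 1))⁻¹ = h * (h ^ s * w * (h ^ s)⁻¹) * h⁻¹ := by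
            rw [pow_succ']
            group
        _ = h * (w * f (a m') ^ s) * h⁻¹ := by rw [ih]
        _ = (h * w * h⁻¹) * (h * f (a m') ^ s * h⁻¹) := by group
        _ = w * f (a m') * f (a m') ^ s := by
            rw [hm', hcd.eq, mul_inv_cancel_right]
        _ = w * f (a m') ^ (s + 1) := by
            rw [mul_assoc, pow_succ']
  have hd1 : f (a m') ^ r = 1 := by
    have h1 := hit2 r
    rw [hrh, one_mul, inv_one, mul_one] at h1
    exact (mul_eq_left.1 h1.symm)
  have hd2 : f (a m') ^ (2 * 2 ^ k) = 1 := by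
    rw [← map_pow]
    have : (a m' : QuaternionGroup (2 ^ k)) ^ (2 * 2 ^ k) = 1 := by
      have h5 : (a m' : QuaternionGroup (2 ^ k)) = a 1 ^ m'.val := by rw [a_one_pow, ZMod.natCast_zmod_val]
      rw [h5, ← pow_mul, pow_mul', a_one_pow_n, one_pow]
    rw [this, map_one]
  have hd : f (a m') = 1 := by
    have h3 : f (a m') ^ Nat.gcd r (2 * 2 ^ k) = 1 := pow_gcd_eq_one.2 ⟨hd1, hd2⟩
    have hcop2 : Nat.gcd r (2 * 2 ^ k) = 1 := by
      rw [show 2 * 2 ^ k = 2 ^ (k + 1) by ring]
      exact Nat.Coprime.pow_right _ hcop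
    rwa [hcop2, pow_one] at h3
  have hcw : h * w = w * h := by
    have h1 : h * w * h⁻¹ = w := by rw [hm', hd, mul_one]
    calc h * w = (h * w * h⁻¹) * h := by group
      _ = w * h := by rw [h1]
  cases x with
  | a i => exact hca i
  | xa i =>
    rw [hxa, ← mul_assoc, hcw, mul_assoc, hca, mul_assoc]

end

end Cfsg.Agent.H25
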