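import Cfsg.Agent.Lib.H25.SimP3
set_option autoImplicit false
set_option linter.style.haveILetI false
set_option linter.unusedSectionVars false
set_option linter.unusedSimpArgs false
set_option linter.unusedVariables false
set_option maxRecDepth 100000

/-! The quaternion group of order eight in `SL₂`, and the element `ω = (1+u)(1+v)/2`. -/

namespace Cfsg.Agent.H25

open Cfsg Matrix Equiv QuaternionGroup
open scoped MatrixGroups

section Dec

theorem qd1 : ∀ x : QuaternionGroup 2, x * x = 1 ∨ x * x = a 2 := by decide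

theorem qd2 : ∀ x y : QuaternionGroup 2, x * y = y * x ∨ x * y = a 2 * (y * x) := by decide

theorem qd3 : ∀ u v : QuaternionGroup 2, u * u = a 2 → v * v = a 2 → v ≠ u → v ≠ a 2 * u →
    u * v = a 2 * (v * u) ∧ ∀ x : QuaternionGroup 2, x = 1 ∨ x = a 2 ∨ x = u ∨ x = a 2 * u ∨ x = v ∨ x = a 2 * v ∨ x = u * v ∨
      x = a 2 * (u * v) := by decide

theorem qd4 : ∀ x y z : QuaternionGroup 2, z * y * x⁻¹ = x * y * z⁻¹ ∨ z * y * x⁻¹ = a 2 * (x * y * z⁻¹) := by decide

theorem qd5 : ∀ x y : QuaternionGroup 2, x * y * x⁻¹ = y ∨ x * y * x⁻¹ = a 2 * y := by decide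

theorem qd6 : ∀ p q : QuaternionGroup 2, (∀ c, (p * c = c * p ∧ q * c = c * q) ∨ (p * c = a 2 * (c * p) ∧ q * c = a 2 * (c * q))) →
    q = p ∨ q = a 2 * p := by decide

end Dec

variable {F : Type*} [Field F] [NeZero (2 : F)]

/-- The element `a` with `b = ±a`. -/
def PM (a b : SL(2, F)) : Prop := b = a ∨ b = m1S * a

theorem m1_mul_m1 (x : SL(2, F)) : m1S * (m1S * x) = x := by
  rw [← mul_assoc, m1S_mul_self, one_mul]

theorem mul_m1 (x y : SL(2, F)) : x * (m1S * y) = m1S * (x * y) := by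
  rw [← mul_assoc, ← mul_assoc, (m1S_comm x).symm]

theorem m1_inv_mul (x : SL(2, F)) : (m1S * x)⁻¹ = m1S * x⁻¹ := by
  rw [_root_.mul_inv_rev, m1S_inv, m1S_comm]

/-- Facts on `Q₈`. -/
structure Q8L (Q : Subgroup SL(2, F)) : Prop where
  m1 : m1S ∈ Q
  sq : ∀ x ∈ Q, x * x = 1 ∨ x * x = m1S
  cm : ∀ x ∈ Q, ∀ y ∈ Q, x * y = y * x ∨ x * y = m1S * (y * x)
  tr : ∀ u ∈ Q, ∀ v ∈ Q, u * u = m1S → v * v = m1S → v ≠ u → v ≠ m1S * u →
    u * v = m1S * (v * u) ∧ ∀ x ∈ Q, x = 1 ∨ x = m1S ∨ x = u ∨ x = m1S * u ∨ x = v ∨ x = m1S * v ∨ x = u * v ∨ x = m1S * (u * v)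
  pm3 : ∀ x ∈ Q, ∀ y ∈ Q, ∀ z ∈ Q, PM (x * y * z⁻¹) (z * y * x⁻¹)
  cj : ∀ x ∈ Q, ∀ y ∈ Q, PM y (x * y * x⁻¹)
  sc : ∀ p ∈ Q, ∀ q ∈ Q, (∀ c ∈ Q, (p * c = c * p ∧ q * c = c * q) ∨ (p * c = m1S * (c * p) ∧ q * c = m1S * (c * q))) → PM p q
  ex : ∃ u ∈ Q, u * u = m1S

theorem q8l_of {Q : Subgroup SL(2, F)} (f : QuaternionGroup (2 ^ 1) →* SL(2, F)) (hf : Function.Injective f)
    (hQ : ∀ c, c ∈ Q ↔ ∃ x, f x = c) : Q8L Q := by
  let g : QuaternionGroup 2 →* SL(2, F) := f
  have hg : Function.Injective g := hf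
  have hz : g (a 2) = m1S := f_an f hf
  have hQ' : ∀ c, c ∈ Q ↔ ∃ x, g x = c := hQ
  have hgm : ∀ x, g x ∈ Q := fun x => (hQ' _).2 ⟨x, rfl⟩
  refine ⟨?_, ?_, ?_, ?_, ?_, ?_, ?_, ?_⟩
  · rw [← hz]
    exact hgm _
  · intro x hx
    obtain ⟨x, rfl⟩ := (hQ' _).1 hx
    rcases qd1 x with h | h
    · left
      rw [← map_mul, h, map_one]
    · right
      rw [← map_mul, h, hz]
  · intro x hx y hy
    obtain ⟨x, rfl⟩ := (hQ' _).1 hx
    obtain ⟨y, rfl⟩ := (hQ' _).1 hy
    rcases qd2 x y with h | h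
    · left
      rw [← map_mul, h, map_mul]
    · right
      rw [← map_mul, h, map_mul, hz, map_mul]
  · intro u hu v hv huu hvv hne1 hne2
    obtain ⟨u, rfl⟩ := (hQ' _).1 hu
    obtain ⟨v, rfl⟩ := (hQ' _).1 hv
    have h1 : u * u = a 2 := hg (by rw [map_mul, huu, hz])
    have h2 : v * v = a 2 := hg (by rw [map_mul, hvv, hz])
    have h3 : v ≠ u := fun h => hne1 (by rw [h])
    have h4 : v ≠ a 2 * u := fun h => hne2 (by rw [h, map_mul, hz])
    obtain ⟨h5, h6⟩ := qd3 u v h1 h2 h3 h4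
    refine ⟨by rw [← map_mul, h5, map_mul, hz, map_mul], fun x hx => ?_⟩
    obtain ⟨x, rfl⟩ := (hQ' _).1 hx
    rcases h6 x with h | h | h | h | h | h | h | h
    · left
      rw [h, map_one]
    · right; left
      rw [h, hz]
    · right; right; left
      rw [h]
    · right; right; right; left
      rw [h, map_mul, hz]
    · right; right; right; right; left
      rw [h]
    · right; right; right; right; right; left
      rw [h, map_mul, hz]
    · right; right; right; right; right; right; left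
      rw [h, map_mul]
    · right; right; right; right; right; right; right
      rw [h, map_mul, hz, map_mul]
  · intro x hx y hy z hz'
    obtain ⟨x, rfl⟩ := (hQ' _).1 hx
    obtain ⟨y, rfl⟩ := (hQ' _).1 hy
    obtain ⟨z, rfl⟩ := (hQ' _).1 hz'
    rcases qd4 x y z with h | h
    · left
      simpa only [map_mul, map_inv] using congrArg g h
    · right
      simpa only [map_mul, map_inv, hz] using congrArg g h
  · intro x hx y hy
    obtain ⟨x, rfl⟩ := (hQ' _).1 hx
    obtain ⟨y, rfl⟩ := (hQ' _).1 hy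
    rcases qd5 x y with h | h
    · left
      simpa only [map_mul, map_inv] using congrArg g h
    · right
      simpa only [map_mul, map_inv, hz] using congrArg g h
  · intro p hp q hq hc
    obtain ⟨p, rfl⟩ := (hQ' _).1 hp
    obtain ⟨q, rfl⟩ := (hQ' _).1 hq
    have h1 : ∀ c : QuaternionGroup 2, (p * c = c * p ∧ q * c = c * q) ∨ (p * c = a 2 * (c * p) ∧ q * c = a 2 * (c * q)) := by
      intro c
      rcases hc (g c) (hgm c) with ⟨h1, h2⟩ | ⟨h1, h2⟩
      · left
        exact ⟨hg (by simpa only [map_mul] using h1), hg (by simpa only [map_mul] using h2)⟩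
      · right
        exact ⟨hg (by simpa only [map_mul, hz] using h1), hg (by simpa only [map_mul, hz] using h2)⟩
    rcases qd6 p q h1 with h | h
    · left
      rw [h]
    · right
      rw [h, map_mul, hz]
  · refine ⟨g (xa 0), hgm _, ?_⟩
    rw [← map_mul, ← hz]
    congr 1

/-- Odd elements: powers of two. -/
theorem odd_comm {G : Type*} [Group G] {h x : G} {r j : ℕ} (hr : Odd r) (hrh : h ^ r = 1) (hc : h ^ (2 ^ j) * x = x * h ^ (2 ^ j)) :
    h * x = x * h := by
  have h1 : Nat.Coprime (2 ^ j) (orderOf h) := by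
    have h2 : orderOf h ∣ r := orderOf_dvd_of_pow_eq_one hrh
    exact Nat.Coprime.coprime_dvd_right h2 (Nat.Coprime.pow_left j hr.coprime_two_right.symm)
  obtain ⟨m, hm⟩ := exists_pow_eq_self_of_coprime h1
  rw [← hm]
  exact (Commute.pow_left (show Commute (h ^ 2 ^ j) x from hc) m).eq

/-- An odd element normalizing `Q₈`. -/
theorem q8_odd {Q : Subgroup SL(2, F)} (hQ : Q8L Q) (h : SL(2, F)) (hn : ∀ x ∈ Q, h * x * h⁻¹ ∈ Q) {r : ℕ} (hr : Odd r) (hrh : h ^ r = 1) :
    (∀ x ∈ Q, h * x = x * h) ∨ ∃ u ∈ Q, ∃ v ∈ Q, u * u = m1S ∧ v * v = m1S ∧ u * v = m1S * (v * u) ∧ h * u * h⁻¹ = v ∧ h * v * h⁻¹ = u * v := by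
  by_cases hall : ∀ x ∈ Q, h * x = x * h
  · exact Or.inl hall
  right
  push Not at hall
  obtain ⟨u, hu, hhu⟩ := hall
  have hconjm : ∀ x, h * (m1S * x) * h⁻¹ = m1S * (h * x * h⁻¹) := by
    intro x
    rw [← mul_assoc h, ← m1S_comm h]
    group
  have hconjmm : h * m1S * h⁻¹ = m1S := by
    rw [← m1S_comm h]
    group
  have hsqc : ∀ x, x * x = m1S → (h * x * h⁻¹) * (h * x * h⁻¹) = m1S := by
    intro x hx
    calc (h * x * h⁻¹) * (h * x * h⁻¹) = h * (x * x) * h⁻¹ := by group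
      _ = m1S := by rw [hx, hconjmm]
  have hord4 : ∀ x : SL(2, F), x * x = m1S → x ≠ 1 ∧ x ≠ m1S := by
    intro x hx
    constructor
    · rintro rfl
      rw [one_mul] at hx
      exact m1S_ne_one hx.symm
    · rintro rfl
      rw [m1S_mul_self] at hx
      exact m1S_ne_one hx.symm
  have huu : u * u = m1S := by
    rcases hQ.sq u hu with h1 | h1
    · exfalso
      apply hhu
      rcases sl2_sq_one h1 with h2 | h2
      · rw [h2, mul_one, one_mul]
      · rw [h2, m1S_comm]
    · exact h1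
  set v := h * u * h⁻¹ with hv
  have hvQ : v ∈ Q := hn u hu
  have hvv : v * v = m1S := hsqc u huu
  have hc2 : ∀ {x y : SL(2, F)}, h * x * h⁻¹ = y → h * y * h⁻¹ = x → h ^ (2 ^ 1) * x = x * h ^ (2 ^ 1) := by
    intro x y h1 h2
    have h3 : h * h * x * (h * h)⁻¹ = x := by
      calc h * h * x * (h * h)⁻¹ = h * (h * x * h⁻¹) * h⁻¹ := by group
        _ = x := by rw [h1, h2]
    calc h ^ (2 ^ 1) * x = (h * h * x * (h * h)⁻¹) * (h * h) := by
          rw [pow_one, pow_two]
          group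
      _ = x * h ^ (2 ^ 1) := by rw [h3, pow_one, pow_two]
  have hc1 : ∀ {x : SL(2, F)}, h * x * h⁻¹ = x → h * x = x * h := by
    intro x h1
    calc h * x = (h * x * h⁻¹) * h := by group
      _ = x * h := by rw [h1]
  have hne1 : v ≠ u := fun h1 => hhu (hc1 h1)
  have hne2 : v ≠ m1S * u := by
    intro h1
    apply hhu
    refine odd_comm (j := 1) hr hrh (hc2 h1 ?_)
    rw [hconjm, ← hv, h1, m1_mul_m1]
  obtain ⟨huv, hall⟩ := hQ.tr u hu v hvQ huu hvv hne1 hne2
  have hw := hn v hvQ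
  have hww := hsqc v hvv
  have hvnc : h * v * h⁻¹ = v → False := by
    intro h1
    apply hne1
    have h2 := hc1 h1
    have h3 : h * u * h⁻¹ = v := rfl
    have h4 : h * u = h * v := by
      calc h * u = (h * u * h⁻¹) * h := by group
        _ = v * h := by rw [h3]
        _ = h * v := h2.symm
    exact (mul_left_cancel h4).symm
  rcases hall _ hw with h1 | h1 | h1 | h1 | h1 | h1 | h1 | h1
  · exact absurd h1 (hord4 _ hww).1
  · exact absurd h1 (hord4 _ hww).2
  · exfalso
    apply hhu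
    exact odd_comm (j := 1) hr hrh (hc2 (rfl : h * u * h⁻¹ = v) h1)
  · exfalso
    apply hhu
    refine odd_comm (j := 2) hr hrh ?_
    have h3 : (h * h) * u * (h * h)⁻¹ = m1S * u := by
      calc (h * h) * u * (h * h)⁻¹ = h * (h * u * h⁻¹) * h⁻¹ := by group
        _ = m1S * u := h1
    have h4 : (h * h) * (h * h) * u * ((h * h) * (h * h))⁻¹ = u := by
      calc (h * h) * (h * h) * u * ((h * h) * (h * h))⁻¹ = (h * h) * ((h * h) * u * (h * h)⁻¹) * (h * h)⁻¹ := by group
        _ = (h * h) * (m1S * u) * (h * h)⁻¹ := by rw [h3]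
        _ = m1S * ((h * h) * u * (h * h)⁻¹) := by
            rw [← mul_assoc (h * h), ← m1S_comm (h * h)]
            group
        _ = u := by rw [h3, m1_mul_m1]
    have h5 : h ^ 2 ^ 2 = (h * h) * (h * h) := by
      rw [show 2 ^ 2 = 2 + 2 by norm_num, pow_add, pow_two]
    rw [h5]
    calc (h * h) * (h * h) * u = ((h * h) * (h * h) * u * ((h * h) * (h * h))⁻¹) * ((h * h) * (h * h)) := by group
      _ = u * ((h * h) * (h * h)) := by rw [h4]
  · exact (hvnc h1).elim
  · exfalso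
    have h2 : h ^ (2 ^ 1) * v = v * h ^ (2 ^ 1) := hc2 h1 (by rw [hconjm, h1, m1_mul_m1])
    exact hvnc (by
      have h3 := odd_comm hr hrh h2
      rw [h3]
      group)
  · exact ⟨u, hu, v, hvQ, huu, hvv, huv, rfl, h1⟩
  · refine ⟨m1S * u, Q.mul_mem hQ.m1 hu, m1S * v, Q.mul_mem hQ.m1 hvQ, ?_, ?_, ?_, ?_, ?_⟩
    · simp only [mul_assoc, mul_m1, m1_mul_m1]
      exact huu
    · simp only [mul_assoc, mul_m1, m1_mul_m1]
      exact hvv
    · simp only [mul_assoc, mul_m1, m1_mul_m1]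
      exact huv
    · rw [hconjm]
    · rw [hconjm, h1]
      simp only [mul_assoc, mul_m1, m1_mul_m1]

theorem sl2_trace {a : SL(2, F)} (h : a * a = m1S) : a.1 1 1 = -a.1 0 0 := by
  have d := sl2_det a
  have h00 := congrArg (fun x : SL(2, F) => x.1 0 0) h
  have h11 := congrArg (fun x : SL(2, F) => x.1 1 1) h
  simp only [sl2_mul_apply] at h00 h11
  simp at h00 h11
  set p := a.1 0 0
  set q := a.1 0 1
  set r := a.1 1 0
  set s := a.1 1 1
  have e1 : p * (p + s) = 0 := by linear_combination h00 + d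
  have e2 : s * (p + s) = 0 := by linear_combination h11 + d
  by_contra hcon
  have hne : p + s ≠ 0 := by
    intro h5
    apply hcon
    linear_combination h5
  have e4 : p = 0 := (mul_eq_zero.1 e1).resolve_right hne
  have e5 : s = 0 := (mul_eq_zero.1 e2).resolve_right hne
  apply hne
  rw [e4, e5, add_zero]

/-- The element `ω`. -/
theorem exists_omega (u v : SL(2, F)) (huu : u * u = m1S) (hvv : v * v = m1S) (huv : u * v = m1S * (v * u)) :
    ∃ ω : SL(2, F), ω.1 = (2 : F)⁻¹ • ((1 + u.1) * (1 + v.1)) ∧ ω * u * ω⁻¹ = v ∧ ω * v * ω⁻¹ = u * v := by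
  have h2F : (2 : F) ≠ 0 := NeZero.ne _
  have hdet1 : ∀ x : SL(2, F), x * x = m1S → (1 + x.1).det = 2 := by
    intro x hx
    have h1 := sl2_trace hx
    have h2 := sl2_det x
    rw [h1] at h2
    rw [Matrix.det_fin_two]
    simp [Matrix.one_apply, h1]
    linear_combination h2
  have hdet : ((2 : F)⁻¹ • ((1 + u.1) * (1 + v.1))).det = 1 := by
    rw [Matrix.det_smul, Matrix.det_mul, hdet1 u huu, hdet1 v hvv]
    simp
    field_simp
  obtain ⟨ω, hω⟩ : ∃ ω : SL(2, F), ω.1 = (2 : F)⁻¹ • ((1 + u.1) * (1 + v.1)) := ⟨⟨_, hdet⟩, rfl⟩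
  refine ⟨ω, hω, ?_, ?_⟩
  · rw [mul_inv_eq_iff_eq_mul]
    apply Subtype.ext
    show ω.1 * u.1 = v.1 * ω.1
    rw [hω]
    have hUU : u.1 * u.1 = -1 := congrArg Subtype.val huu
    have hVV : v.1 * v.1 = -1 := congrArg Subtype.val hvv
    have hUV : u.1 * v.1 = -(v.1 * u.1) := by
      have := congrArg Subtype.val huv
      simpa using this
    rw [smul_mul_assoc, mul_smul_comm]
    congr 1
    generalize u.1 = U at *
    generalize v.1 = V at *
    have h1 : U * (V * U) = V := by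
      have : V * U = -(U * V) := by rw [hUV, neg_neg]
      rw [this, mul_neg, ← mul_assoc, hUU]
      simp
    have h2 : V * (U * V) = U := by
      rw [hUV, mul_neg, ← mul_assoc, hVV]
      simp
    calc (1 + U) * (1 + V) * U = U + U * U + V * U + U * (V * U) := by noncomm_ring
      _ = U + (-1) + V * U + V := by rw [hUU, h1]
      _ = V + V * U + (-1) + U := by abel
      _ = V + V * U + V * V + V * (U * V) := by rw [hVV, h2]
      _ = V * ((1 + U) * (1 + V)) := by noncomm_ring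
  · rw [mul_inv_eq_iff_eq_mul]
    apply Subtype.ext
    show ω.1 * v.1 = (u.1 * v.1) * ω.1
    rw [hω]
    have hUU : u.1 * u.1 = -1 := congrArg Subtype.val huu
    have hVV : v.1 * v.1 = -1 := congrArg Subtype.val hvv
    have hUV : u.1 * v.1 = -(v.1 * u.1) := by
      have := congrArg Subtype.val huv
      simpa using this
    rw [smul_mul_assoc, mul_smul_comm]
    congr 1
    generalize u.1 = U at *
    generalize v.1 = V at *
    have h1 : U * (V * U) = V := by
      have : V * U = -(U * V) := by rw [hUV, neg_neg]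
      rw [this, mul_neg, ← mul_assoc, hUU]
      simp
    calc (1 + U) * (1 + V) * V = V + U * V + V * V + U * (V * V) := by noncomm_ring
      _ = V + U * V + (-1) + U * (-1) := by rw [hVV]
      _ = U * V + V + U * (-1) + (-1) := by abel
      _ = U * V + U * (V * U) + U * (V * V) + V * V := by rw [hVV, h1]
      _ = U * V + U * (V * U) + U * (V * V) + U * (V * U) * V := by rw [h1]
      _ = U * V * ((1 + U) * (1 + V)) := by noncomm_ring

end Cfsg.Agent.H25
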