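import Cfsg.Agent.Lib.H25.SimP4
set_option autoImplicit false
set_option linter.style.haveILetI false
set_option linter.unusedSectionVars false
set_option linter.unusedSimpArgs false
set_option linter.unusedVariables false

/-! Clifford elements `(1+u)(1+v)/2` in `Sp₄(F)`. -/

namespace Cfsg.Agent.H25

open Cfsg Matrix Equiv
open scoped MatrixGroups

section Ring
variable {R : Type*} [Ring R]

theorem cj_c (u y : R) (hu : u * u = -1) (h : y * u = u * y) : (1 + u) * y * (1 - u) = y + y := by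
  have h1 : u * y * u = -y := by
    rw [← h, mul_assoc, hu]
    simp
  calc (1 + u) * y * (1 - u) = y - y * u + u * y - u * y * u := by noncomm_ring
    _ = y + y := by rw [h, h1]; abel

theorem cj_a (u y : R) (hu : u * u = -1) (h : y * u = -(u * y)) : (1 + u) * y * (1 - u) = -(y * u) + -(y * u) := by
  have h2 : u * y = -(y * u) := by rw [h, neg_neg]
  have h1 : u * y * u = y := by
    rw [h2, neg_mul, mul_assoc, hu]
    simp
  calc (1 + u) * y * (1 - u) = y - y * u + u * y - u * y * u := by noncomm_ring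
    _ = -(y * u) + -(y * u) := by rw [h1, h2]; abel

end Ring

variable {F : Type*} [Field F] [NeZero (2 : F)]

/-- Commuting up to the centre. -/
def CommZ (x y : Sp4 F) : Prop := x * y = y * x ∨ x * y = zS * (y * x)

theorem cliff_formula {A : Type*} [Ring A] [Algebra F A] (u v y y₁ y₂ : A) (hcomm : u * v = v * u)
    (h1 : (1 + v) * y * (1 - v) = y₁ + y₁) (h2 : (1 + u) * y₁ * (1 - u) = y₂ + y₂) :
    ((2 : F)⁻¹ • ((1 + u) * (1 + v))) * y * ((2 : F)⁻¹ • ((1 - u) * (1 - v))) = y₂ := by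
  have h2F : (2 : F) ≠ 0 := NeZero.ne _
  have h3 : (1 - u) * (1 - v) = (1 - v) * (1 - u) := by
    calc (1 - u) * (1 - v) = 1 - u - v + u * v := by noncomm_ring
      _ = 1 - u - v + v * u := by rw [hcomm]
      _ = (1 - v) * (1 - u) := by noncomm_ring
  have h4 : (1 + u) * (1 + v) * y * ((1 - u) * (1 - v)) = (1 + u) * ((1 + v) * y * (1 - v)) * (1 - u) := by
    rw [h3]
    noncomm_ring
  have h5 : (1 + u) * (y₁ + y₁) * (1 - u) = (1 + u) * y₁ * (1 - u) + (1 + u) * y₁ * (1 - u) := by noncomm_ring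
  rw [smul_mul_assoc, smul_mul_assoc, mul_smul_comm, smul_smul, h4, h1, h5, h2]
  have h6 : y₂ + y₂ + (y₂ + y₂) = (4 : F) • y₂ := by
    rw [show (4 : F) = 1 + 1 + (1 + 1) by norm_num, add_smul, add_smul, one_smul]
  rw [h6, smul_smul]
  have h7 : (2 : F)⁻¹ * (2 : F)⁻¹ * 4 = 1 := by
    field_simp
    norm_num
  rw [h7, one_smul]

section Sp
variable (u v : Sp4 F)

theorem sq_coe {u : Sp4 F} (hu : u * u = zS) : u.1 * u.1 = -1 := by
  have := congrArg Subtype.val hu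
  rw [zS_coe] at this
  exact this

theorem sp_J (x : Sp4 F) : x.1 * J (Fin 2) F * x.1ᵀ = J (Fin 2) F := by
  have := x.2
  rwa [SymplecticGroup.mem_iff] at this

theorem one_add_J {U : Matrix (Fin 2 ⊕ Fin 2) (Fin 2 ⊕ Fin 2) F} (hU : U * J (Fin 2) F * Uᵀ = J (Fin 2) F) (hUU : U * U = -1) :
    (1 + U) * J (Fin 2) F * (1 + U)ᵀ = J (Fin 2) F + J (Fin 2) F := by
  have h1 : J (Fin 2) F * Uᵀ = -(U * J (Fin 2) F) := by
    calc J (Fin 2) F * Uᵀ = -((U * U) * (J (Fin 2) F * Uᵀ)) := by rw [hUU]; simp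
      _ = -(U * (U * J (Fin 2) F * Uᵀ)) := by simp only [mul_assoc]
      _ = -(U * J (Fin 2) F) := by rw [hU]
  rw [transpose_add, transpose_one]
  calc (1 + U) * J (Fin 2) F * (1 + Uᵀ) = J (Fin 2) F + U * J (Fin 2) F + J (Fin 2) F * Uᵀ + U * (J (Fin 2) F * Uᵀ) := by noncomm_ring
    _ = J (Fin 2) F + U * J (Fin 2) F + -(U * J (Fin 2) F) + U * -(U * J (Fin 2) F) := by rw [h1]
    _ = J (Fin 2) F + J (Fin 2) F := by
        rw [mul_neg, ← mul_assoc, hUU]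
        simp

theorem cliff_mem' {u v : Sp4 F} (hu : u * u = zS) (hv : v * v = zS) :
    (2 : F)⁻¹ • ((1 + u.1) * (1 + v.1)) ∈ symplecticGroup (Fin 2) F := by
  have h2F : (2 : F) ≠ 0 := NeZero.ne _
  rw [SymplecticGroup.mem_iff, transpose_smul, transpose_mul]
  simp only [smul_mul_assoc, mul_smul_comm, smul_smul]
  have h1 := one_add_J (sp_J u) (sq_coe hu)
  have h2 := one_add_J (sp_J v) (sq_coe hv)
  have h3 : (1 + u.1) * (1 + v.1) * J (Fin 2) F * ((1 + v.1)ᵀ * (1 + u.1)ᵀ) =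
      (1 + u.1) * ((1 + v.1) * J (Fin 2) F * (1 + v.1)ᵀ) * (1 + u.1)ᵀ := by noncomm_ring
  rw [h3, h2, mul_add, add_mul, h1]
  have h6 : J (Fin 2) F + J (Fin 2) F + (J (Fin 2) F + J (Fin 2) F) = (4 : F) • J (Fin 2) F := by
    rw [show (4 : F) = 1 + 1 + (1 + 1) by norm_num, add_smul, add_smul, one_smul]
  rw [h6, smul_smul]
  have h7 : (2 : F)⁻¹ * (2 : F)⁻¹ * 4 = 1 := by
    field_simp
    norm_num
  rw [h7, one_smul]

theorem neg_sq {u : Sp4 F} (hu : u * u = zS) : (zS * u) * (zS * u) = zS := by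
  calc (zS * u) * (zS * u) = (zS * zS) * (u * u) := by
        rw [mul_assoc, ← mul_assoc u, ← zS_comm u, mul_assoc zS u u, mul_assoc]
    _ = zS := by rw [zS_mul_self, one_mul, hu]

theorem zS_mul_coe (u : Sp4 F) : (zS * u).1 = -u.1 := by
  show (zS : Sp4 F).1 * u.1 = _
  rw [zS_coe]
  simp

theorem exists_cliff {u v : Sp4 F} (hu : u * u = zS) (hv : v * v = zS) (huv : u * v = v * u) :
    ∃ x : Sp4 F, x.1 = (2 : F)⁻¹ • ((1 + u.1) * (1 + v.1)) ∧ (x⁻¹).1 = (2 : F)⁻¹ • ((1 - u.1) * (1 - v.1)) := by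
  have h2F : (2 : F) ≠ 0 := NeZero.ne _
  have hU := sq_coe hu
  have hV := sq_coe hv
  have hUV : u.1 * v.1 = v.1 * u.1 := congrArg Subtype.val huv
  have m2 : (2 : F)⁻¹ • ((1 - u.1) * (1 - v.1)) ∈ symplecticGroup (Fin 2) F := by
    have := cliff_mem' (neg_sq hu) (neg_sq hv)
    rwa [zS_mul_coe, zS_mul_coe, ← sub_eq_add_neg, ← sub_eq_add_neg] at this
  refine ⟨⟨_, cliff_mem' hu hv⟩, rfl, ?_⟩
  have h : (⟨_, cliff_mem' hu hv⟩ : Sp4 F)⁻¹ = ⟨_, m2⟩ := by
    rw [inv_eq_iff_mul_eq_one]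
    apply Subtype.ext
    show ((2 : F)⁻¹ • ((1 + u.1) * (1 + v.1))) * ((2 : F)⁻¹ • ((1 - u.1) * (1 - v.1))) = 1
    rw [smul_mul_assoc, mul_smul_comm, smul_smul]
    generalize u.1 = U at *
    generalize v.1 = V at *
    have h3 : (1 + U) * (1 + V) * ((1 - U) * (1 - V)) = ((1 + U) * (1 - U)) * ((1 + V) * (1 - V)) := by
      calc (1 + U) * (1 + V) * ((1 - U) * (1 - V)) = (1 + U) * ((1 + V) * (1 - U)) * (1 - V) := by noncomm_ring
        _ = (1 + U) * ((1 - U) * (1 + V)) * (1 - V) := by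
            congr 2
            calc (1 + V) * (1 - U) = 1 - U + V - V * U := by noncomm_ring
              _ = 1 - U + V - U * V := by rw [hUV]
              _ = (1 - U) * (1 + V) := by noncomm_ring
        _ = _ := by noncomm_ring
    have h4 : ∀ W : Matrix (Fin 2 ⊕ Fin 2) (Fin 2 ⊕ Fin 2) F, W * W = -1 → (1 + W) * (1 - W) = 1 + 1 := by
      intro W hW
      calc (1 + W) * (1 - W) = 1 - W * W := by noncomm_ring
        _ = 1 + 1 := by rw [hW]; abel
    rw [h3, h4 U hU, h4 V hV]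
    have h6 : ((1 : Matrix (Fin 2 ⊕ Fin 2) (Fin 2 ⊕ Fin 2) F) + 1) * (1 + 1) = (4 : F) • 1 := by
      rw [show (4 : F) = 1 + 1 + (1 + 1) by norm_num, add_smul, add_smul, one_smul]
      noncomm_ring
    rw [h6, smul_smul]
    have h7 : (2 : F)⁻¹ * (2 : F)⁻¹ * 4 = 1 := by
      field_simp
      norm_num
    rw [h7, one_smul]
  rw [h]

theorem cliff_sq {u v x : Sp4 F} (hu : u * u = zS) (hv : v * v = zS) (huv : u * v = v * u)
    (hx : x.1 = (2 : F)⁻¹ • ((1 + u.1) * (1 + v.1))) : x * x = u * v := by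
  have h2F : (2 : F) ≠ 0 := NeZero.ne _
  have hU := sq_coe hu
  have hV := sq_coe hv
  have hUV : u.1 * v.1 = v.1 * u.1 := congrArg Subtype.val huv
  apply Subtype.ext
  show x.1 * x.1 = u.1 * v.1
  rw [hx]
  rw [smul_mul_assoc, mul_smul_comm, smul_smul]
  generalize u.1 = U at *
  generalize v.1 = V at *
  have h1 : (1 + U) * (1 + V) * ((1 + U) * (1 + V)) = ((1 + U) * (1 + U)) * ((1 + V) * (1 + V)) := by
    calc (1 + U) * (1 + V) * ((1 + U) * (1 + V)) = (1 + U) * ((1 + V) * (1 + U)) * (1 + V) := by noncomm_ring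
      _ = (1 + U) * ((1 + U) * (1 + V)) * (1 + V) := by
          congr 2
          calc (1 + V) * (1 + U) = 1 + U + V + V * U := by noncomm_ring
            _ = 1 + U + V + U * V := by rw [hUV]
            _ = (1 + U) * (1 + V) := by noncomm_ring
      _ = _ := by noncomm_ring
  have h4 : ∀ W : Matrix (Fin 2 ⊕ Fin 2) (Fin 2 ⊕ Fin 2) F, W * W = -1 → (1 + W) * (1 + W) = W + W := by
    intro W hW
    calc (1 + W) * (1 + W) = 1 + W + W + W * W := by noncomm_ring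
      _ = W + W := by rw [hW]; abel
  rw [h1, h4 U hU, h4 V hV]
  have h6 : (U + U) * (V + V) = (4 : F) • (U * V) := by
    rw [show (4 : F) = 1 + 1 + (1 + 1) by norm_num, add_smul, add_smul, one_smul]
    noncomm_ring
  rw [h6, smul_smul]
  have h7 : (2 : F)⁻¹ * (2 : F)⁻¹ * 4 = 1 := by
    field_simp
    norm_num
  rw [h7, one_smul]

theorem cliff_pow_four {u v x : Sp4 F} (hu : u * u = zS) (hv : v * v = zS) (huv : u * v = v * u)
    (hx : x.1 = (2 : F)⁻¹ • ((1 + u.1) * (1 + v.1))) : x ^ 2 ^ 2 = 1 := by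
  have h1 := cliff_sq hu hv huv hx
  rw [show 2 ^ 2 = 2 + 2 by norm_num, pow_add, pow_two, h1]
  calc u * v * (u * v) = u * (v * u) * v := by group
    _ = u * (u * v) * v := by rw [huv]
    _ = (u * u) * (v * v) := by group
    _ = 1 := by rw [hu, hv, zS_mul_self]

theorem cliff_conj {u v x : Sp4 F} (hu : u * u = zS) (hv : v * v = zS) (huv : u * v = v * u)
    (hx : x.1 = (2 : F)⁻¹ • ((1 + u.1) * (1 + v.1))) (hxi : (x⁻¹).1 = (2 : F)⁻¹ • ((1 - u.1) * (1 - v.1)))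
    (y : Sp4 F) (h1 : CommZ y u) (h2 : CommZ y v) :
    x * y * x⁻¹ = y ∨ x * y * x⁻¹ = zS * (y * u) ∨ x * y * x⁻¹ = zS * (y * v) ∨ x * y * x⁻¹ = y * u * v := by
  have hU := sq_coe hu
  have hV := sq_coe hv
  have hUV : u.1 * v.1 = v.1 * u.1 := congrArg Subtype.val huv
  have key : ∀ y₁ y₂ : Matrix (Fin 2 ⊕ Fin 2) (Fin 2 ⊕ Fin 2) F, (1 + v.1) * y.1 * (1 - v.1) = y₁ + y₁ →
      (1 + u.1) * y₁ * (1 - u.1) = y₂ + y₂ → (x * y * x⁻¹).1 = y₂ := by
    intro y₁ y₂ h3 h4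
    show x.1 * y.1 * (x⁻¹).1 = y₂
    rw [hx, hxi]
    exact cliff_formula u.1 v.1 y.1 y₁ y₂ hUV h3 h4
  have hz : ∀ a b : Sp4 F, a * b = zS * (b * a) → a.1 * b.1 = -(b.1 * a.1) := by
    intro a b h
    have := congrArg Subtype.val h
    rw [zS_mul_coe] at this
    exact this
  have hc : ∀ a b : Sp4 F, a * b = b * a → a.1 * b.1 = b.1 * a.1 := fun a b h => congrArg Subtype.val h
  rcases h1 with h1 | h1 <;> rcases h2 with h2 | h2
  · left
    apply Subtype.ext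
    exact key y.1 y.1 (cj_c _ _ hV (hc _ _ h2)) (cj_c _ _ hU (hc _ _ h1))
  · right; right; left
    apply Subtype.ext
    rw [zS_mul_coe]
    have h3 := hc _ _ h1
    have h4 := hz _ _ h2
    refine key _ _ (cj_a _ _ hV h4) (cj_c _ _ hU ?_)
    show -(y.1 * v.1) * u.1 = u.1 * -(y.1 * v.1)
    rw [neg_mul, mul_neg, mul_assoc, ← hUV, ← mul_assoc, h3, mul_assoc]
  · right; left
    apply Subtype.ext
    rw [zS_mul_coe]
    exact key _ _ (cj_c _ _ hV (hc _ _ h2)) (cj_a _ _ hU (hz _ _ h1))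
  · right; right; right
    apply Subtype.ext
    have h3 := hz _ _ h1
    have h4 := hz _ _ h2
    show _ = y.1 * u.1 * v.1
    have h5 : (-(y.1 * v.1)) * u.1 = -(u.1 * -(y.1 * v.1)) := by
      rw [neg_mul, mul_neg, neg_neg, mul_assoc, ← hUV, ← mul_assoc, h3, neg_mul, neg_neg, mul_assoc]
    have h6 := cj_a u.1 (-(y.1 * v.1)) hU h5
    have h7 : -(-(y.1 * v.1) * u.1) = y.1 * u.1 * v.1 := by
      rw [neg_mul, neg_neg, mul_assoc, ← hUV, ← mul_assoc]
    rw [h7] at h6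
    exact key _ _ (cj_a _ _ hV h4) h6

theorem cliff_mem (A : Subgroup (Sp4 F)) {u v x : Sp4 F} (hu : u * u = zS) (hv : v * v = zS) (huv : u * v = v * u)
    (hx : x.1 = (2 : F)⁻¹ • ((1 + u.1) * (1 + v.1))) (hxi : (x⁻¹).1 = (2 : F)⁻¹ • ((1 - u.1) * (1 - v.1)))
    (hz : zS ∈ A) (huA : u ∈ A) (hvA : v ∈ A) {y : Sp4 F} (hy : y ∈ A) (h1 : CommZ y u) (h2 : CommZ y v) : x * y * x⁻¹ ∈ A := by
  rcases cliff_conj hu hv huv hx hxi y h1 h2 with h | h | h | h <;> rw [h]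
  · exact hy
  · exact A.mul_mem hz (A.mul_mem hy huA)
  · exact A.mul_mem hz (A.mul_mem hy hvA)
  · exact A.mul_mem (A.mul_mem hy huA) hvA

/-- The conjugation by `x⁻¹`. -/
theorem cliff_inv_mem (A : Subgroup (Sp4 F)) {u v x : Sp4 F} (hu : u * u = zS) (hv : v * v = zS) (huv : u * v = v * u)
    (hx : x.1 = (2 : F)⁻¹ • ((1 + u.1) * (1 + v.1))) (hxi : (x⁻¹).1 = (2 : F)⁻¹ • ((1 - u.1) * (1 - v.1)))
    (hz : zS ∈ A) (huA : u ∈ A) (hvA : v ∈ A) {y : Sp4 F} (hy : y ∈ A) (h1 : CommZ y u) (h2 : CommZ y v) : x⁻¹ * y * x ∈ A := by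
  have hu' := neg_sq hu
  have hv' := neg_sq hv
  have huv' : (zS * u) * (zS * v) = (zS * v) * (zS * u) := by
    rw [mul_assoc, ← mul_assoc u, ← zS_comm u, mul_assoc, mul_assoc, ← mul_assoc v, ← zS_comm v, mul_assoc, huv]
  have hc : ∀ a, CommZ y a → CommZ y (zS * a) := by
    intro a ha
    rcases ha with ha | ha
    · left
      rw [← mul_assoc, ← zS_comm y, mul_assoc, ha, mul_assoc]
    · right
      rw [← mul_assoc, ← zS_comm y, mul_assoc, ha, mul_assoc]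
  have hx1 : (x⁻¹).1 = (2 : F)⁻¹ • ((1 + (zS * u).1) * (1 + (zS * v).1)) := by
    rw [hxi, zS_mul_coe, zS_mul_coe, ← sub_eq_add_neg, ← sub_eq_add_neg]
  have hx2 : ((x⁻¹)⁻¹).1 = (2 : F)⁻¹ • ((1 - (zS * u).1) * (1 - (zS * v).1)) := by
    rw [inv_inv, hx, zS_mul_coe, zS_mul_coe, sub_neg_eq_add, sub_neg_eq_add]
  have := cliff_mem A hu' hv' huv' hx1 hx2 hz (A.mul_mem hz huA) (A.mul_mem hz hvA) hy (hc _ h1) (hc _ h2)
  rwa [inv_inv] at this

end Sp

end Cfsg.Agent.H25
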