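import Cfsg.Agent.Lib.H25.SimP5
set_option autoImplicit false
set_option linter.style.haveILetI false
set_option linter.unusedSectionVars false
set_option linter.unusedSimpArgs false
set_option linter.unusedVariables false

/-! The extraspecial subgroup `E` of the wreath product, and `ω ⊗ 1` as a product of Clifford elements. -/

namespace Cfsg.Agent.H25

open Cfsg Matrix Equiv
open scoped MatrixGroups

variable {F : Type*} [Field F] [NeZero (2 : F)]

/-- `r = t w`. -/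
def rS : Sp4 F := tS * wS

theorem tS_mul_self : (tS : Sp4 F) * tS = 1 := by
  rw [tS, iot_mul, one_mul, m1S_mul_self, iot_one]

theorem rS_mul_self : (rS : Sp4 F) * rS = zS := by
  have h1 : (wS : Sp4 F) * tS = zS * tS * wS := by
    rw [← wS_tS]
    group
  calc (rS : Sp4 F) * rS = tS * (wS * tS) * wS := by rw [rS]; group
    _ = tS * (zS * tS * wS) * wS := by rw [h1]
    _ = (tS * zS) * tS * (wS * wS) := by group
    _ = zS * (tS * tS) * (wS * wS) := by
        rw [(zS_comm tS).symm]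
        group
    _ = zS := by rw [tS_mul_self, wS_mul_self, mul_one, mul_one]

theorem rS_comm (a : SL(2, F)) : (rS : Sp4 F) * iot a a = iot a a * rS := by
  have h1 : (wS : Sp4 F) * iot a a = iot a a * wS := wS_iot a a
  have h2 : (tS : Sp4 F) * iot a a = iot a a * tS := by
    rw [tS, iot_mul, iot_mul, one_mul, mul_one, m1S_comm]
  rw [rS, mul_assoc, h1, ← mul_assoc, h2, mul_assoc]

theorem zS_iot (a b : SL(2, F)) : zS * iot a b = iot (m1S * a) (m1S * b) := by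
  rw [zS, iot_mul]

theorem iot_self_sq {u : SL(2, F)} (h : u * u = m1S) : iot u u * iot u u = (zS : Sp4 F) := by
  rw [iot_mul, h, zS]

/-- `iot e e` is linear in the `SL₂` entries. -/
theorem iot_linear (t : F) (a b c e : SL(2, F)) (h : e.1 = t • (1 + a.1 + b.1 + c.1)) :
    (iot e e).1 = t • (1 + (iot a a).1 + (iot b b).1 + (iot c c).1) := by
  have he : ∀ i j, e.1 i j = t * ((1 : Matrix (Fin 2) (Fin 2) F) i j + a.1 i j + b.1 i j + c.1 i j) := by
    intro i j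
    rw [h]
    simp
  refine (iot_coe e e).trans ?_
  rw [iot_coe, iot_coe, iot_coe]
  ext α β
  rcases α with i | i <;> rcases β with j | j <;> fin_cases i <;> fin_cases j <;>
    simp [he, Matrix.one_apply]

theorem iot_omega_coe (u v ω : SL(2, F)) (h : ω.1 = (2 : F)⁻¹ • ((1 + u.1) * (1 + v.1))) :
    (iot ω ω).1 = (2 : F)⁻¹ • ((1 + (iot u u).1) * (1 + (iot v v).1)) := by
  have h1 : (1 + u.1) * (1 + v.1) = 1 + u.1 + v.1 + (u * v).1 := by
    show _ = 1 + u.1 + v.1 + u.1 * v.1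
    noncomm_ring
  rw [h1] at h
  rw [iot_linear _ u v (u * v) ω h]
  congr 1
  have h2 : (iot (u * v) (u * v)).1 = (iot u u).1 * (iot v v).1 := by
    rw [← iot_mul]
    rfl
  rw [h2]
  noncomm_ring

theorem iot_omega_rel (u v ω : SL(2, F)) (h : ω.1 = (2 : F)⁻¹ • ((1 + u.1) * (1 + v.1))) {x₁ x₂ : Sp4 F}
    (h1 : x₁.1 = (2 : F)⁻¹ • ((1 + (iot u u).1) * (1 + (rS : Sp4 F).1)))
    (h2 : x₂.1 = (2 : F)⁻¹ • ((1 + (iot v v).1) * (1 + (rS : Sp4 F).1))) :
    iot ω ω * rS = x₁ * x₂ := by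
  have h2F : (2 : F) ≠ 0 := NeZero.ne _
  apply Subtype.ext
  show (iot ω ω).1 * (rS : Sp4 F).1 = x₁.1 * x₂.1
  rw [iot_omega_coe u v ω h, h1, h2]
  have hR : (rS : Sp4 F).1 * (rS : Sp4 F).1 = -1 := sq_coe rS_mul_self
  have hc : (iot v v).1 * (rS : Sp4 F).1 = (rS : Sp4 F).1 * (iot v v).1 := (congrArg Subtype.val (rS_comm v)).symm
  simp only [smul_mul_assoc, mul_smul_comm, smul_smul]
  generalize (rS : Sp4 F).1 = R at *
  generalize (iot v v).1 = V at *
  generalize (iot u u).1 = U at *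
  have h3 : (1 + U) * (1 + R) * ((1 + V) * (1 + R)) = (1 + U) * (1 + V) * ((1 + R) * (1 + R)) := by
    calc (1 + U) * (1 + R) * ((1 + V) * (1 + R)) = (1 + U) * ((1 + R) * (1 + V)) * (1 + R) := by noncomm_ring
      _ = (1 + U) * ((1 + V) * (1 + R)) * (1 + R) := by
          congr 2
          calc (1 + R) * (1 + V) = 1 + R + V + R * V := by noncomm_ring
            _ = 1 + R + V + V * R := by rw [hc]
            _ = (1 + V) * (1 + R) := by noncomm_ring
      _ = _ := by noncomm_ring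
  have h4 : (1 + R) * (1 + R) = R + R := by
    calc (1 + R) * (1 + R) = 1 + R + R + R * R := by noncomm_ring
      _ = R + R := by rw [hR]; abel
  have h7 : (2 : F)⁻¹ * (2 : F)⁻¹ * 2 = (2 : F)⁻¹ := by
    field_simp
  rw [h3, h4, ← two_smul F R, mul_smul_comm, smul_smul, h7]

/-- The group `E`. -/
theorem pm_mul {a b c d : SL(2, F)} (h1 : PM a b) (h2 : PM c d) : PM (a * c) (b * d) := by
  rcases h1 with rfl | rfl <;> rcases h2 with rfl | rfl
  · exact Or.inl rfl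
  · right
    rw [mul_m1]
  · right
    rw [mul_assoc]
  · left
    simp only [mul_assoc, mul_m1, m1_mul_m1]

theorem pm_mul' {a b c d : SL(2, F)} (h1 : PM a b) (h2 : PM c d) : PM (a * d) (b * c) := by
  rcases h1 with rfl | rfl <;> rcases h2 with rfl | rfl
  · exact Or.inl rfl
  · right
    simp only [mul_assoc, mul_m1, m1_mul_m1]
  · right
    simp only [mul_assoc, mul_m1, m1_mul_m1]
  · left
    simp only [mul_assoc, mul_m1, m1_mul_m1]

theorem pm_inv {a b : SL(2, F)} (h : PM a b) : PM a⁻¹ b⁻¹ := by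
  rcases h with rfl | rfl
  · exact Or.inl rfl
  · right
    rw [m1_inv_mul]

theorem pm_symm {a b : SL(2, F)} (h : PM a b) : PM b a := by
  rcases h with rfl | rfl
  · exact Or.inl rfl
  · right
    rw [m1_mul_m1]

theorem pm_trans {a b c : SL(2, F)} (h1 : PM a b) (h2 : PM b c) : PM a c := by
  rcases h1 with rfl | rfl <;> rcases h2 with rfl | rfl
  · exact Or.inl rfl
  · exact Or.inr rfl
  · exact Or.inr rfl
  · left
    rw [m1_mul_m1]

theorem pm_refl (a : SL(2, F)) : PM a a := Or.inl rfl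

theorem pm_mem {Q : Subgroup SL(2, F)} (hm : m1S ∈ Q) {a b : SL(2, F)} (h : PM a b) (ha : a ∈ Q) : b ∈ Q := by
  rcases h with rfl | rfl
  · exact ha
  · exact Q.mul_mem hm ha

/-- The extraspecial group. -/
def EQ (Q : Subgroup SL(2, F)) (hm : (m1S : SL(2, F)) ∈ Q) : Subgroup (Sp4 F) where
  carrier := {g | ∃ a ∈ Q, ∃ b, PM a b ∧ (g = iot a b ∨ g = iot a b * wS)}
  mul_mem' := by
    rintro _ _ ⟨a, ha, b, hb, rfl | rfl⟩ ⟨c, hc, d, hd, rfl | rfl⟩
    · exact ⟨a * c, Q.mul_mem ha hc, b * d, pm_mul hb hd, Or.inl (iot_mul _ _ _ _)⟩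
    · exact ⟨a * c, Q.mul_mem ha hc, b * d, pm_mul hb hd, Or.inr (by rw [← mul_assoc, iot_mul])⟩
    · refine ⟨a * d, Q.mul_mem ha (pm_mem hm hd hc), b * c, pm_mul' hb hd, Or.inr ?_⟩
      rw [mul_assoc, wS_iot, ← mul_assoc, iot_mul]
    · refine ⟨a * d, Q.mul_mem ha (pm_mem hm hd hc), b * c, pm_mul' hb hd, Or.inl ?_⟩
      calc iot a b * wS * (iot c d * wS) = iot a b * (wS * iot c d) * wS := by group
        _ = iot a b * (iot d c * wS) * wS := by rw [wS_iot]
        _ = iot (a * d) (b * c) * (wS * wS) := by rw [← iot_mul]; group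
        _ = _ := by rw [wS_mul_self, mul_one]
  one_mem' := ⟨1, Q.one_mem, 1, pm_refl _, Or.inl iot_one.symm⟩
  inv_mem' := by
    rintro _ ⟨a, ha, b, hb, rfl | rfl⟩
    · exact ⟨a⁻¹, Q.inv_mem ha, b⁻¹, pm_inv hb, Or.inl (iot_inv _ _)⟩
    · refine ⟨b⁻¹, Q.inv_mem (pm_mem hm hb ha), a⁻¹, pm_inv (pm_symm hb), Or.inr ?_⟩
      rw [_root_.mul_inv_rev, wS_inv, iot_inv, wS_iot]

theorem mem_EQ {Q : Subgroup SL(2, F)} {hm : (m1S : SL(2, F)) ∈ Q} {g : Sp4 F} :
    g ∈ EQ Q hm ↔ ∃ a ∈ Q, ∃ b, PM a b ∧ (g = iot a b ∨ g = iot a b * wS) := Iff.rfl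

theorem EQ_le {Q : Subgroup SL(2, F)} {hm : (m1S : SL(2, F)) ∈ Q} : EQ Q hm ≤ SW Q := by
  rintro _ ⟨a, ha, b, hb, h⟩
  exact mem_SW.2 ⟨a, ha, b, pm_mem hm hb ha, h⟩

theorem zS_mem_EQ {Q : Subgroup SL(2, F)} {hm : (m1S : SL(2, F)) ∈ Q} : (zS : Sp4 F) ∈ EQ Q hm :=
  ⟨m1S, hm, m1S, pm_refl _, Or.inl rfl⟩

theorem tS_mem_EQ {Q : Subgroup SL(2, F)} {hm : (m1S : SL(2, F)) ∈ Q} : (tS : Sp4 F) ∈ EQ Q hm :=
  ⟨1, Q.one_mem, m1S, Or.inr (mul_one _).symm, Or.inl rfl⟩

theorem wS_mem_EQ {Q : Subgroup SL(2, F)} {hm : (m1S : SL(2, F)) ∈ Q} : (wS : Sp4 F) ∈ EQ Q hm :=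
  ⟨1, Q.one_mem, 1, pm_refl _, Or.inr (by rw [iot_one, one_mul])⟩

theorem rS_mem_EQ {Q : Subgroup SL(2, F)} {hm : (m1S : SL(2, F)) ∈ Q} : (rS : Sp4 F) ∈ EQ Q hm :=
  (EQ Q hm).mul_mem tS_mem_EQ wS_mem_EQ

theorem iot_self_mem_EQ {Q : Subgroup SL(2, F)} {hm : (m1S : SL(2, F)) ∈ Q} {a : SL(2, F)} (ha : a ∈ Q) : iot a a ∈ EQ Q hm :=
  ⟨a, ha, a, pm_refl _, Or.inl rfl⟩

section Comm

theorem commZ_ii {a b c d : SL(2, F)} (h : (a * c = c * a ∧ b * d = d * b) ∨ (a * c = m1S * (c * a) ∧ b * d = m1S * (d * b))) :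
    CommZ (iot a b) (iot c d) := by
  rcases h with ⟨h1, h2⟩ | ⟨h1, h2⟩
  · left
    rw [iot_mul, iot_mul, h1, h2]
  · right
    rw [iot_mul, iot_mul, zS_iot, h1, h2]

theorem commZ_iw {a b c d : SL(2, F)} (h : (a * c = c * b ∧ b * d = d * a) ∨ (a * c = m1S * (c * b) ∧ b * d = m1S * (d * a))) :
    CommZ (iot a b) (iot c d * wS) := by
  have e1 : iot a b * (iot c d * wS) = iot (a * c) (b * d) * wS := by rw [← mul_assoc, iot_mul]
  have e2 : iot c d * wS * iot a b = iot (c * b) (d * a) * wS := by rw [mul_assoc, wS_iot, ← mul_assoc, iot_mul]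
  rcases h with ⟨h1, h2⟩ | ⟨h1, h2⟩
  · left
    rw [e1, e2, h1, h2]
  · right
    rw [e1, e2, ← mul_assoc, zS_iot, h1, h2]

theorem commZ_wi {a b c d : SL(2, F)} (h : (a * d = c * a ∧ b * c = d * b) ∨ (a * d = m1S * (c * a) ∧ b * c = m1S * (d * b))) :
    CommZ (iot a b * wS) (iot c d) := by
  have e1 : iot a b * wS * iot c d = iot (a * d) (b * c) * wS := by rw [mul_assoc, wS_iot, ← mul_assoc, iot_mul]
  have e2 : iot c d * (iot a b * wS) = iot (c * a) (d * b) * wS := by rw [← mul_assoc, iot_mul]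
  rcases h with ⟨h1, h2⟩ | ⟨h1, h2⟩
  · left
    rw [e1, e2, h1, h2]
  · right
    rw [e1, e2, ← mul_assoc, zS_iot, h1, h2]

theorem commZ_ww {a b c d : SL(2, F)} (h : (a * d = c * b ∧ b * c = d * a) ∨ (a * d = m1S * (c * b) ∧ b * c = m1S * (d * a))) :
    CommZ (iot a b * wS) (iot c d * wS) := by
  have e1 : iot a b * wS * (iot c d * wS) = iot (a * d) (b * c) := by
    calc iot a b * wS * (iot c d * wS) = iot a b * (wS * iot c d) * wS := by group
      _ = iot a b * (iot d c * wS) * wS := by rw [wS_iot]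
      _ = iot (a * d) (b * c) * (wS * wS) := by rw [← iot_mul]; group
      _ = _ := by rw [wS_mul_self, mul_one]
  have e2 : iot c d * wS * (iot a b * wS) = iot (c * b) (d * a) := by
    calc iot c d * wS * (iot a b * wS) = iot c d * (wS * iot a b) * wS := by group
      _ = iot c d * (iot b a * wS) * wS := by rw [wS_iot]
      _ = iot (c * b) (d * a) * (wS * wS) := by rw [← iot_mul]; group
      _ = _ := by rw [wS_mul_self, mul_one]
  rcases h with ⟨h1, h2⟩ | ⟨h1, h2⟩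
  · left
    rw [e1, e2, h1, h2]
  · right
    rw [e1, e2, zS_iot, h1, h2]

variable {Q : Subgroup SL(2, F)} (hQ : Q8L Q)
include hQ

/-- `E/⟨z⟩` is abelian. -/
theorem EQ_comm {y y' : Sp4 F} (hy : y ∈ EQ Q hQ.m1) (hy' : y' ∈ EQ Q hQ.m1) : CommZ y y' := by
  obtain ⟨a, ha, b, hb, h1⟩ := hy
  obtain ⟨c, hc, d, hd, h2⟩ := hy'
  have hs := hQ.cm a ha c hc
  rcases h1 with rfl | rfl <;> rcases h2 with rfl | rfl
  · apply commZ_ii
    rcases hb with rfl | rfl <;> rcases hd with rfl | rfl <;> rcases hs with h | h <;>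
      simp only [mul_assoc, mul_m1, m1_mul_m1, h, true_and, and_true, or_true, true_or]
  · apply commZ_iw
    rcases hb with rfl | rfl <;> rcases hd with rfl | rfl <;> rcases hs with h | h <;>
      simp only [mul_assoc, mul_m1, m1_mul_m1, h, true_and, and_true, or_true, true_or]
  · apply commZ_wi
    rcases hb with rfl | rfl <;> rcases hd with rfl | rfl <;> rcases hs with h | h <;>
      simp only [mul_assoc, mul_m1, m1_mul_m1, h, true_and, and_true, or_true, true_or]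
  · apply commZ_ww
    rcases hb with rfl | rfl <;> rcases hd with rfl | rfl <;> rcases hs with h | h <;>
      simp only [mul_assoc, mul_m1, m1_mul_m1, h, true_and, and_true, or_true, true_or]

/-- `E` is normal. -/
theorem EQ_normal {s y : Sp4 F} (hs : s ∈ SW Q) (hy : y ∈ EQ Q hQ.m1) : s * y * s⁻¹ ∈ EQ Q hQ.m1 := by
  have key : ∀ c ∈ Q, ∀ d ∈ Q, ∀ y ∈ EQ Q hQ.m1, iot c d * y * (iot c d)⁻¹ ∈ EQ Q hQ.m1 := by
    intro c hc d hd y hy
    obtain ⟨a, ha, b, hb, rfl | rfl⟩ := hy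
    · refine ⟨c * a * c⁻¹, Q.mul_mem (Q.mul_mem hc ha) (Q.inv_mem hc), d * b * d⁻¹, ?_, Or.inl ?_⟩
      · exact pm_trans (pm_trans (pm_symm (hQ.cj c hc a ha)) hb) (hQ.cj d hd b (pm_mem hQ.m1 hb ha))
      · rw [iot_inv, iot_mul, iot_mul]
    · refine ⟨c * a * d⁻¹, Q.mul_mem (Q.mul_mem hc ha) (Q.inv_mem hd), d * b * c⁻¹, ?_, Or.inr ?_⟩
      · have h1 := hQ.pm3 c hc a ha d hd
        refine pm_trans h1 ?_
        rcases hb with rfl | rfl
        · exact pm_refl _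
        · right
          simp only [mul_assoc, mul_m1]
      · rw [iot_inv]
        calc iot c d * (iot a b * wS) * iot c⁻¹ d⁻¹ = iot c d * iot a b * (wS * iot c⁻¹ d⁻¹) := by group
          _ = iot c d * iot a b * (iot d⁻¹ c⁻¹ * wS) := by rw [wS_iot]
          _ = _ := by rw [iot_mul, ← mul_assoc, iot_mul]
  obtain ⟨c, hc, d, hd, rfl | rfl⟩ := mem_SW.1 hs
  · exact key c hc d hd y hy
  · have h1 : wS * y * wS⁻¹ ∈ EQ Q hQ.m1 := (EQ Q hQ.m1).mul_mem ((EQ Q hQ.m1).mul_mem wS_mem_EQ hy) ((EQ Q hQ.m1).inv_mem wS_mem_EQ)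
    have h2 := key c hc d hd _ h1
    have e : iot c d * wS * y * (iot c d * wS)⁻¹ = iot c d * (wS * y * wS⁻¹) * (iot c d)⁻¹ := by group
    rw [e]
    exact h2

/-- `E` is self-centralizing modulo `z`. -/
theorem EQ_self {y : Sp4 F} (hs : y ∈ SW Q) (hc : ∀ r ∈ EQ Q hQ.m1, CommZ y r) : y ∈ EQ Q hQ.m1 := by
  obtain ⟨a, ha, b, hb, rfl | rfl⟩ := mem_SW.1 hs
  · refine ⟨a, ha, b, ?_, Or.inl rfl⟩
    rcases hc wS wS_mem_EQ with h | h
    · rw [wS_iot] at h
      have := (iot_inj (mul_right_cancel h)).1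
      left
      exact this.symm
    · rw [wS_iot, ← mul_assoc, zS_iot] at h
      have := (iot_inj (mul_right_cancel h)).1
      right
      rw [this, m1_mul_m1]
  · refine ⟨a, ha, b, ?_, Or.inr rfl⟩
    refine hQ.sc a ha b hb fun c hc' => ?_
    have e1 : iot a b * wS * iot c c = iot (a * c) (b * c) * wS := by rw [mul_assoc, wS_iot, ← mul_assoc, iot_mul]
    have e2 : iot c c * (iot a b * wS) = iot (c * a) (c * b) * wS := by rw [← mul_assoc, iot_mul]
    rcases hc _ (iot_self_mem_EQ hc') with h | h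
    · left
      rw [e1, e2] at h
      exact iot_inj (mul_right_cancel h)
    · right
      rw [e1, e2, ← mul_assoc, zS_iot] at h
      exact iot_inj (mul_right_cancel h)

end Comm

end Cfsg.Agent.H25
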