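import Cfsg.Agent.Lib.H25.SimP6
import Cfsg.Agent.Lib.H25.SimGen
import Cfsg.Agent.Lib.H09.KSeq2
set_option autoImplicit false
set_option linter.style.haveILetI false
set_option linter.unusedSectionVars false
set_option linter.unusedSimpArgs false
set_option linter.unusedVariables false

/-! The strong closure statement for the Sylow `2`-subgroup of `PSp₄(F)`. -/

namespace Cfsg.Agent.H25

open Cfsg Matrix Equiv
open scoped MatrixGroups

variable {F : Type*} [Field F] [NeZero (2 : F)] [Fintype F]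

/-- The projection. -/
abbrev prP4 (F : Type*) [Field F] : Sp4 F →* (Sp4 F ⧸ Subgroup.center (Sp4 F)) := QuotientGroup.mk' (Subgroup.center (Sp4 F))

theorem prP4_surj : Function.Surjective (prP4 F) := QuotientGroup.mk'_surjective _

theorem prP4_eq_one {x : Sp4 F} : prP4 F x = 1 ↔ x = 1 ∨ x = zS := by
  constructor
  · intro h
    exact mem_center_Sp4 ((QuotientGroup.eq_one_iff _).1 h)
  · rintro (rfl | rfl)
    · exact map_one _
    · exact (QuotientGroup.eq_one_iff _).2 zS_mem_center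

theorem prP4_z : prP4 F (zS : Sp4 F) = 1 := prP4_eq_one.2 (Or.inr rfl)

theorem prP4_eq {x y : Sp4 F} (h : prP4 F x = prP4 F y) : x = y ∨ x = zS * y := by
  have h1 : prP4 F (x * y⁻¹) = 1 := by
    rw [map_mul, map_inv, h, mul_inv_cancel]
  rcases prP4_eq_one.1 h1 with h2 | h2
  · left
    exact mul_inv_eq_one.1 h2
  · right
    exact mul_inv_eq_iff_eq_mul.1 h2

theorem commZ_of_prS {x y : Sp4 F} (h : prP4 F x * prP4 F y = prP4 F y * prP4 F x) : CommZ x y := by
  rw [← map_mul, ← map_mul] at h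
  exact prP4_eq h

theorem prP4_comm_of_commZ {x y : Sp4 F} (h : CommZ x y) : prP4 F x * prP4 F y = prP4 F y * prP4 F x := by
  rw [← map_mul, ← map_mul]
  rcases h with h | h
  · rw [h]
  · rw [h, map_mul, prP4_z, one_mul]

variable {Q : Subgroup SL(2, F)}

theorem zS_mem_SW (hm : (m1S : SL(2, F)) ∈ Q) : (zS : Sp4 F) ∈ SW Q := iot_mem_SW.2 ⟨hm, hm⟩

theorem tS_mem_SW (hm : (m1S : SL(2, F)) ∈ Q) : (tS : Sp4 F) ∈ SW Q := iot_mem_SW.2 ⟨Q.one_mem, hm⟩

theorem prP4_mem (hm : (m1S : SL(2, F)) ∈ Q) {y : Sp4 F} : prP4 F y ∈ (SW Q).map (prP4 F) ↔ y ∈ SW Q := by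
  constructor
  · rintro ⟨s, hs, h⟩
    rcases prP4_eq h with h1 | h1
    · rwa [← h1]
    · have h2 : y = zS * s := by
        rw [h1, ← mul_assoc, zS_mul_self, one_mul]
      rw [h2]
      exact (SW Q).mul_mem (zS_mem_SW hm) hs
  · intro hy
    exact ⟨y, hy, rfl⟩

/-- The central part of the wreath product. -/
theorem center_SW (hm : (m1S : SL(2, F)) ∈ Q) (hcen : ∀ c ∈ Q, (∀ d ∈ Q, c * d = d * c) → c = 1 ∨ c = m1S)
    (hex : ∃ b ∈ Q, b * b = m1S) {y : Sp4 F} (hy : y ∈ SW Q) (hc : ∀ s ∈ SW Q, CommZ y s) :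
    y = 1 ∨ y = zS ∨ y = tS ∨ y = zS * tS := by
  have hm1 : (m1S : SL(2, F)) ≠ 1 := m1S_ne_one
  have hcanc : ∀ b : SL(2, F), b = m1S * b → False := by
    intro b h
    apply hm1
    have : m1S * b = 1 * b := by rw [← h, one_mul]
    exact mul_right_cancel this
  obtain ⟨a, ha, b, hb, rfl | rfl⟩ := mem_SW.1 hy
  · have h1 : ∀ c ∈ Q, a * c = c * a := by
      intro c hc'
      rcases hc (iot c 1) (iot_mem_SW.2 ⟨hc', Q.one_mem⟩) with h | h
      · rw [iot_mul, iot_mul] at h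
        exact (iot_inj h).1
      · exfalso
        rw [iot_mul, iot_mul, zS_iot] at h
        have := (iot_inj h).2
        rw [mul_one, one_mul] at this
        exact hcanc _ this
    have h2 : ∀ c ∈ Q, b * c = c * b := by
      intro c hc'
      rcases hc (iot 1 c) (iot_mem_SW.2 ⟨Q.one_mem, hc'⟩) with h | h
      · rw [iot_mul, iot_mul] at h
        exact (iot_inj h).2
      · exfalso
        rw [iot_mul, iot_mul, zS_iot] at h
        have := (iot_inj h).1
        rw [mul_one, one_mul] at this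
        exact hcanc _ this
    rcases hcen a ha h1 with rfl | rfl <;> rcases hcen b hb h2 with rfl | rfl
    · left
      exact iot_one
    · right; right; left
      rfl
    · right; right; right
      exact iot_m1_one
    · right; left
      rfl
  · exfalso
    have h1 : ∀ c ∈ Q, c = 1 ∨ c = m1S := by
      intro c hc'
      rcases hc (iot c 1) (iot_mem_SW.2 ⟨hc', Q.one_mem⟩) with h | h
      · left
        have e1 : iot a b * wS * iot c 1 = iot a (b * c) * wS := by
          rw [mul_assoc, wS_iot, ← mul_assoc, iot_mul, mul_one]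
        have e2 : iot c 1 * (iot a b * wS) = iot (c * a) b * wS := by
          rw [← mul_assoc, iot_mul, one_mul]
        rw [e1, e2] at h
        have h3 := (iot_inj (mul_right_cancel h)).2
        exact mul_left_cancel (h3.trans (mul_one b).symm)
      · right
        have e1 : iot a b * wS * iot c 1 = iot a (b * c) * wS := by
          rw [mul_assoc, wS_iot, ← mul_assoc, iot_mul, mul_one]
        have e2 : iot c 1 * (iot a b * wS) = iot (c * a) b * wS := by
          rw [← mul_assoc, iot_mul, one_mul]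
        rw [e1, e2, ← mul_assoc, zS_iot] at h
        have h3 := (iot_inj (mul_right_cancel h)).2
        rw [m1S_comm] at h3
        exact mul_left_cancel h3
    obtain ⟨b₀, hb₀, hbb⟩ := hex
    rcases h1 b₀ hb₀ with rfl | rfl
    · rw [one_mul] at hbb
      exact hm1 hbb.symm
    · rw [m1S_mul_self] at hbb
      exact hm1 hbb.symm

/-- The core of strong closure. -/
theorem core_A (hF : Fintype.card F % 2 = 1) (hex : ∃ b ∈ Q, b * b = m1S)
    (hgen : ∀ R : Subgroup SL(2, F), (∀ x ∈ Q, ∀ y ∈ Q, x * x = m1S → y * y = m1S → x * y⁻¹ ∈ R) → Q ≤ R)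
    (T : Subgroup (Sp4 F)) (htT : (tS : Sp4 F) ∈ T) (hcl : ∀ x ∈ T, ∀ g : Sp4 F, g * x * g⁻¹ ∈ SW Q → g * x * g⁻¹ ∈ T) : SW Q ≤ T := by
  obtain ⟨P₀, hP₀⟩ := exists_P0 (F := F)
  have hwT : (wS : Sp4 F) ∈ T := by
    rw [← hP₀]
    exact hcl _ htT _ (by rw [hP₀]; exact wS_mem_SW)
  have h1 : ∀ a ∈ Q, iot a a⁻¹ ∈ T := by
    intro a ha
    have h2 : iot a 1 * wS * (iot a 1)⁻¹ = iot a a⁻¹ * wS := by
      rw [iot_inv]
      calc iot a 1 * wS * iot a⁻¹ 1⁻¹ = iot a 1 * (wS * iot a⁻¹ 1⁻¹) := by group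
        _ = iot a 1 * (iot 1⁻¹ a⁻¹ * wS) := by rw [wS_iot]
        _ = _ := by rw [← mul_assoc, iot_mul]; simp
    have h3 := hcl _ hwT (iot a 1) (by rw [h2]; exact iot_w_mem_SW.2 ⟨ha, Q.inv_mem ha⟩)
    rw [h2] at h3
    have h4 := T.mul_mem h3 (T.inv_mem hwT)
    rwa [mul_inv_cancel_right] at h4
  obtain ⟨b₀, hb₀, hbb⟩ := hex
  have hinv : b₀⁻¹ * b₀⁻¹ = m1S := by
    rw [← _root_.mul_inv_rev, hbb, m1S_inv]
  have h2 : ∀ x ∈ Q, ∀ y ∈ Q, x * x = m1S → y * y = m1S → iot x y ∈ T := by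
    intro x hx y hy hxx hyy
    obtain ⟨g₁, hg₁⟩ := sl2_sq_conj hF hbb hxx
    obtain ⟨g₂, hg₂⟩ := sl2_sq_conj hF hinv hyy
    have h3 : iot g₁ g₂ * iot b₀ b₀⁻¹ * (iot g₁ g₂)⁻¹ = iot x y := by
      rw [iot_inv, iot_mul, iot_mul, hg₁, hg₂]
    have h4 := hcl _ (h1 b₀ hb₀) (iot g₁ g₂) (by rw [h3]; exact iot_mem_SW.2 ⟨hx, hy⟩)
    rwa [h3] at h4
  let R₁ : Subgroup SL(2, F) :=
    { carrier := {c | iot c 1 ∈ T}
      mul_mem' := by
        intro a b ha hb
        have := T.mul_mem ha hb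
        rw [iot_mul, one_mul] at this
        exact this
      one_mem' := by
        show iot 1 1 ∈ T
        rw [iot_one]
        exact T.one_mem
      inv_mem' := by
        intro a ha
        have := T.inv_mem ha
        rw [iot_inv, inv_one] at this
        exact this }
  let R₂ : Subgroup SL(2, F) :=
    { carrier := {c | iot 1 c ∈ T}
      mul_mem' := by
        intro a b ha hb
        have := T.mul_mem ha hb
        rw [iot_mul, one_mul] at this
        exact this
      one_mem' := by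
        show iot 1 1 ∈ T
        rw [iot_one]
        exact T.one_mem
      inv_mem' := by
        intro a ha
        have := T.inv_mem ha
        rw [iot_inv, inv_one] at this
        exact this }
  have hR₁ : Q ≤ R₁ := by
    apply hgen
    intro x hx y hy hxx hyy
    have h3 := T.mul_mem (h2 x hx b₀ hb₀ hxx hbb) (T.inv_mem (h2 y hy b₀ hb₀ hyy hbb))
    rw [iot_inv, iot_mul, mul_inv_cancel] at h3
    exact h3
  have hR₂ : Q ≤ R₂ := by
    apply hgen
    intro x hx y hy hxx hyy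
    have h3 := T.mul_mem (h2 b₀ hb₀ x hx hbb hxx) (T.inv_mem (h2 b₀ hb₀ y hy hbb hyy))
    rw [iot_inv, iot_mul, mul_inv_cancel] at h3
    exact h3
  intro g hg
  obtain ⟨a, ha, b, hb, rfl | rfl⟩ := mem_SW.1 hg
  · have h3 := T.mul_mem (hR₁ ha) (hR₂ hb)
    rw [iot_mul, mul_one, one_mul] at h3
    exact h3
  · have h3 := T.mul_mem (hR₁ ha) (hR₂ hb)
    rw [iot_mul, mul_one, one_mul] at h3
    exact T.mul_mem h3 hwT

/-- The strong closure condition. -/
theorem GCa_SW (hF : Fintype.card F % 2 = 1) (hm : (m1S : SL(2, F)) ∈ Q)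
    (hcen : ∀ c ∈ Q, (∀ d ∈ Q, c * d = d * c) → c = 1 ∨ c = m1S) (hex : ∃ b ∈ Q, b * b = m1S)
    (hgen : ∀ R : Subgroup SL(2, F), (∀ x ∈ Q, ∀ y ∈ Q, x * x = m1S → y * y = m1S → x * y⁻¹ ∈ R) → Q ≤ R)
    (hp : IsPGroup 2 (SW Q)) : GCa ((SW Q).map (prP4 F)) := by
  classical
  haveI : Fact (Nat.Prime 2) := ⟨Nat.prime_two⟩
  haveI : Finite (Sp4 F) := Subtype.finite
  intro T hT hc
  by_cases hb : T = ⊥
  · exact Or.inl hb
  right
  set P := (SW Q).map (prP4 F) with hP
  have hPp : IsPGroup 2 P := hp.map _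
  -- a nontrivial central element of `P` in `T`
  have hy : ∃ y ∈ T, y ≠ 1 ∧ ∀ s ∈ P, y * s = s * y := by
    haveI hN : (T.subgroupOf P).Normal := by
      refine ⟨fun n hn g => ?_⟩
      have h1 : (g : Sp4 F ⧸ Subgroup.center (Sp4 F)) * n * (g : Sp4 F ⧸ Subgroup.center (Sp4 F))⁻¹ ∈ P :=
        P.mul_mem (P.mul_mem g.2 n.2) (P.inv_mem g.2)
      exact hc _ hn _ h1
    have hM : T.subgroupOf P ≠ ⊥ := by
      intro h
      apply hb
      rw [eq_bot_iff]
      intro y hy
      have h1 : (⟨y, hT hy⟩ : P) ∈ T.subgroupOf P := hy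
      rw [h] at h1
      have h2 : (⟨y, hT hy⟩ : P) = 1 := Subgroup.mem_bot.1 h1
      exact Subgroup.mem_bot.2 (congrArg Subtype.val h2)
    have h1 := Cfsg.Agent.H09.normal_inf_center_ne_bot hPp (T.subgroupOf P) hM
    rcases Subgroup.bot_or_exists_ne_one (T.subgroupOf P ⊓ Subgroup.center P) with h2 | ⟨y, hy, hy1⟩
    · exact absurd h2 h1
    · obtain ⟨hyT, hyc⟩ := Subgroup.mem_inf.1 hy
      refine ⟨y, hyT, fun h => hy1 (Subtype.ext h), fun z hz => ?_⟩
      have := (Subgroup.mem_center_iff.1 hyc) ⟨z, hz⟩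
      exact (congrArg Subtype.val this).symm
  obtain ⟨y, hyT, hy1, hyc⟩ := hy
  obtain ⟨y0, hy0, rfl⟩ := hT hyT
  have hcomm : ∀ s ∈ SW Q, CommZ y0 s := by
    intro s hs
    exact commZ_of_prS (hyc _ ⟨s, hs, rfl⟩)
  have htT : prP4 F (tS : Sp4 F) ∈ T := by
    rcases center_SW hm hcen hex hy0 hcomm with rfl | rfl | rfl | rfl
    · exact absurd (map_one _) hy1
    · exact absurd prP4_z hy1
    · exact hyT
    · rwa [map_mul, prP4_z, one_mul] at hyT
  have hle := core_A hF hex hgen (T.comap (prP4 F)) htT (fun x hx g hg => by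
    have h1 : prP4 F g * prP4 F x * (prP4 F g)⁻¹ ∈ P := by
      have : prP4 F (g * x * g⁻¹) ∈ P := ⟨_, hg, rfl⟩
      simpa using this
    have h2 := hc _ hx _ h1
    show prP4 F (g * x * g⁻¹) ∈ T
    simpa using h2)
  refine le_antisymm hT ?_
  rintro _ ⟨s, hs, rfl⟩
  exact hle hs

end Cfsg.Agent.H25
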