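import Cfsg.Agent.Lib.H25.SimP7
set_option autoImplicit false
set_option linter.style.haveILetI false
set_option linter.unusedSectionVars false
set_option linter.unusedSimpArgs false
set_option linter.unusedVariables false

/-! The normalizer condition for the Sylow `2`-subgroup of `PSp₄(F)`. -/

namespace Cfsg.Agent.H25

open Cfsg Matrix Equiv Cfsg.FusionSystem
open scoped MatrixGroups

variable {F : Type*} [Field F] [NeZero (2 : F)] [Fintype F] {Q : Subgroup SL(2, F)}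

theorem norm_lift {A : Subgroup (Sp4 F)} {x : Sp4 F} (h1 : ∀ y ∈ A, x * y * x⁻¹ ∈ A) (h2 : ∀ y ∈ A, x⁻¹ * y * x ∈ A) :
    prP4 F x ∈ Subgroup.normalizer ((A.map (prP4 F) : Subgroup _) : Set _) := by
  refine mem_normalizer_of_conj (fun y hy => ?_) (fun y hy => ?_)
  · obtain ⟨a, ha, rfl⟩ := hy
    exact ⟨_, h1 a ha, by simp⟩
  · obtain ⟨a, ha, rfl⟩ := hy
    exact ⟨_, h2 a ha, by simp⟩

theorem iot_self_conj (h : SL(2, F)) (hh : h ∈ Subgroup.normalizer (Q : Set SL(2, F))) {s : Sp4 F} (hs : s ∈ SW Q) :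
    iot h h * s * (iot h h)⁻¹ ∈ SW Q := by
  have h1 : ∀ x ∈ Q, h * x * h⁻¹ ∈ Q := fun x hx => (Subgroup.mem_normalizer_iff.1 hh x).1 hx
  obtain ⟨a, ha, b, hb, rfl | rfl⟩ := mem_SW.1 hs
  · rw [iot_inv, iot_mul, iot_mul]
    exact iot_mem_SW.2 ⟨h1 a ha, h1 b hb⟩
  · have e : iot h h * (iot a b * wS) * (iot h h)⁻¹ = iot (h * a * h⁻¹) (h * b * h⁻¹) * wS := by
      rw [iot_inv]
      calc iot h h * (iot a b * wS) * iot h⁻¹ h⁻¹ = iot h h * iot a b * (wS * iot h⁻¹ h⁻¹) := by group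
        _ = iot h h * iot a b * (iot h⁻¹ h⁻¹ * wS) := by rw [wS_iot]
        _ = _ := by rw [iot_mul, ← mul_assoc, iot_mul]
    rw [e]
    exact iot_w_mem_SW.2 ⟨h1 a ha, h1 b hb⟩

theorem iot_self_norm (hm : (m1S : SL(2, F)) ∈ Q) (h : SL(2, F)) (hh : h ∈ Subgroup.normalizer (Q : Set SL(2, F))) :
    prP4 F (iot h h) ∈ Subgroup.normalizer (((SW Q).map (prP4 F) : Subgroup _) : Set _) := by
  refine norm_lift (fun y hy => iot_self_conj h hh hy) (fun y hy => ?_)
  have h2 := iot_self_conj h⁻¹ (Subgroup.inv_mem _ hh) hy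
  rwa [iot_inv, ← iot_inv, inv_inv] at h2

theorem iot_central {c : SL(2, F)} (hc : ∀ x ∈ Q, c * x = x * c) {s : Sp4 F} (hs : s ∈ SW Q) : iot c c * s = s * iot c c := by
  obtain ⟨a, ha, b, hb, rfl | rfl⟩ := mem_SW.1 hs
  · rw [iot_mul, iot_mul, hc a ha, hc b hb]
  · have e1 : iot c c * (iot a b * wS) = iot (c * a) (c * b) * wS := by rw [← mul_assoc, iot_mul]
    have e2 : iot a b * wS * iot c c = iot (a * c) (b * c) * wS := by rw [mul_assoc, wS_iot, ← mul_assoc, iot_mul]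
    rw [e1, e2, hc a ha, hc b hb]

theorem tS_commZ {s : Sp4 F} (hs : s ∈ SW Q) : CommZ tS s := by
  obtain ⟨a, ha, b, hb, rfl | rfl⟩ := mem_SW.1 hs
  · left
    rw [tS, iot_mul, iot_mul, one_mul, mul_one, m1S_comm]
  · right
    have e1 : iot 1 m1S * (iot a b * wS) = iot a (m1S * b) * wS := by rw [← mul_assoc, iot_mul, one_mul]
    have e2 : iot a b * wS * iot 1 m1S = iot (a * m1S) b * wS := by rw [mul_assoc, wS_iot, ← mul_assoc, iot_mul, mul_one]
    rw [tS, e1, e2, ← mul_assoc, zS_iot, ← m1S_comm, m1_mul_m1]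

theorem commZ_conj {x y : Sp4 F} (g : Sp4 F) (h : CommZ x y) : CommZ (g * x * g⁻¹) (g * y * g⁻¹) := by
  rcases h with h | h
  · left
    calc g * x * g⁻¹ * (g * y * g⁻¹) = g * (x * y) * g⁻¹ := by group
      _ = g * (y * x) * g⁻¹ := by rw [h]
      _ = _ := by group
  · right
    calc g * x * g⁻¹ * (g * y * g⁻¹) = g * (x * y) * g⁻¹ := by group
      _ = g * (zS * (y * x)) * g⁻¹ := by rw [h]
      _ = (g * zS) * (y * x) * g⁻¹ := by group
      _ = zS * g * (y * x) * g⁻¹ := by rw [zS_comm]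
      _ = _ := by group

theorem orderOf_two_pow {G : Type*} [Group G] {x : G} {k : ℕ} (h : x ^ 2 ^ k = 1) : ∃ j, orderOf x = 2 ^ j := by
  obtain ⟨j, -, hj⟩ := (Nat.dvd_prime_pow Nat.prime_two).1 (orderOf_dvd_of_pow_eq_one h)
  exact ⟨j, hj⟩

/-- Decomposition into a `2`-part and an odd part. -/
theorem two_odd_decomp {G : Type*} [Group G] [Finite G] (h : G) :
    ∃ (a b : ℤ) (m r : ℕ), Odd r ∧ (h ^ a) ^ 2 ^ m = 1 ∧ (h ^ b) ^ r = 1 ∧ h = h ^ a * h ^ b := by
  obtain ⟨m, r, hr, ho⟩ := Nat.exists_eq_two_pow_mul_odd (n := orderOf h) (orderOf_pos h).ne'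
  have hc : Nat.Coprime (2 ^ m) r := Nat.Coprime.pow_left m hr.coprime_two_right.symm
  have h1 := Nat.gcd_eq_gcd_ab (2 ^ m) r
  rw [hc] at h1
  have hpow : h ^ (orderOf h) = 1 := pow_orderOf_eq_one h
  rw [ho] at hpow
  refine ⟨r * Nat.gcdB (2 ^ m) r, 2 ^ m * Nat.gcdA (2 ^ m) r, m, r, hr, ?_, ?_, ?_⟩
  · rw [← zpow_natCast, ← _root_.zpow_mul]
    have e : (r : ℤ) * Nat.gcdB (2 ^ m) r * ((2 ^ m : ℕ) : ℤ) = ((2 ^ m * r : ℕ) : ℤ) * Nat.gcdB (2 ^ m) r := by
      push_cast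
      ring
    rw [e, _root_.zpow_mul, zpow_natCast, hpow, _root_.one_zpow]
  · rw [← zpow_natCast, ← _root_.zpow_mul]
    have e : (2 : ℤ) ^ m * Nat.gcdA (2 ^ m) r * (r : ℤ) = ((2 ^ m * r : ℕ) : ℤ) * Nat.gcdA (2 ^ m) r := by
      push_cast
      ring
    rw [e, _root_.zpow_mul, zpow_natCast, hpow, _root_.one_zpow]
  · rw [← _root_.zpow_add]
    have e : (r : ℤ) * Nat.gcdB (2 ^ m) r + (2 : ℤ) ^ m * Nat.gcdA (2 ^ m) r = 1 := by
      push_cast at h1 ⊢
      linarith
    rw [e, _root_.zpow_one]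

/-- The normalizer condition. -/
theorem GCb_SW (hF : Fintype.card F % 2 = 1) (hm : (m1S : SL(2, F)) ∈ Q)
    (hcen : ∀ c ∈ Q, (∀ d ∈ Q, c * d = d * c) → c = 1 ∨ c = m1S) (hex : ∃ b ∈ Q, b * b = m1S)
    (hp : IsPGroup 2 (SW Q))
    (hS : ∀ h ∈ Subgroup.normalizer (Q : Set SL(2, F)), ∀ m : ℕ, h ^ 2 ^ m = 1 → h ∈ Q)
    (hodd : (∀ h ∈ Subgroup.normalizer (Q : Set SL(2, F)), ∀ r : ℕ, Odd r → h ^ r = 1 → ∀ x ∈ Q, h * x = x * h) ∨ Q8L Q) :
    GCb 2 ((SW Q).map (prP4 F)) := by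
  classical
  haveI : Fact (Nat.Prime 2) := ⟨Nat.prime_two⟩
  haveI : Finite (Sp4 F) := Subtype.finite
  set P := (SW Q).map (prP4 F) with hP
  have hPp : IsPGroup 2 P := hp.map _
  intro gb hgb
  obtain ⟨g, rfl⟩ := prP4_surj gb
  set CL := Subgroup.closure (GGen 2 P) with hCL
  -- elements of the wreath product
  have hSW : ∀ s ∈ SW Q, prP4 F s ∈ CL := by
    intro s hs
    have hsP : prP4 F s ∈ P := ⟨s, hs, rfl⟩
    refine Subgroup.subset_closure (Or.inr ⟨Subgroup.le_normalizer hsP, P, le_rfl, Subgroup.le_normalizer, fun y hy _ => hy, ?_⟩)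
    refine Subgroup.subset_closure ⟨Subgroup.le_normalizer hsP, ?_⟩
    obtain ⟨k, hk⟩ := (IsPGroup.iff_orderOf.1 hPp) ⟨_, hsP⟩
    exact ⟨k, by rw [← Subgroup.orderOf_mk]; exact hk⟩
  have hC : ∀ c : Sp4 F, (∀ s ∈ SW Q, c * s = s * c) → prP4 F c ∈ CL := by
    intro c hc
    refine Subgroup.subset_closure (Or.inl fun y hy => ?_)
    obtain ⟨s, hs, rfl⟩ := hy
    rw [← map_mul, ← map_mul, hc s hs]
  -- the element normalizes the preimage
  have hgN : ∀ s, s ∈ SW Q ↔ g * s * g⁻¹ ∈ SW Q := by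
    intro s
    have h1 := Subgroup.mem_normalizer_iff.1 hgb (prP4 F s)
    rw [prP4_mem hm, ← map_inv, ← map_mul, ← map_mul, prP4_mem hm] at h1
    exact h1
  have hinv : ∀ s ∈ SW Q, g⁻¹ * s * g ∈ SW Q := by
    intro s hs
    apply (hgN _).2
    have : g * (g⁻¹ * s * g) * g⁻¹ = s := by group
    rwa [this]
  -- the image of `t`
  have htc : ∀ s ∈ SW Q, CommZ (g * tS * g⁻¹) s := by
    intro s hs
    have h1 := commZ_conj g (tS_commZ (hinv s hs))
    have e : g * (g⁻¹ * s * g) * g⁻¹ = s := by group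
    rwa [e] at h1
  have hiot : ∃ a b : SL(2, F), g = iot a b ∨ g = iot a b * wS := by
    rcases center_SW hm hcen hex ((hgN _).1 (tS_mem_SW hm)) htc with h | h | h | h
    · exfalso
      apply tS_ne_one (F := F)
      have : g⁻¹ * (g * tS * g⁻¹) * g = tS := by group
      rw [← this, h]
      group
    · exfalso
      apply tS_ne_z (F := F)
      have : g⁻¹ * (g * tS * g⁻¹) * g = tS := by group
      rw [← this, h, mul_assoc, zS_comm g, ← mul_assoc]
      group
    · have hh : g * (tS : Sp4 F) = tS * g := by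
        calc g * tS = (g * tS * g⁻¹) * g := by group
          _ = tS * g := by rw [h]
      obtain ⟨a, b, hab⟩ := comm_tS g hh
      exact ⟨a, b, Or.inl hab⟩
    · have hh : (g * wS) * (tS : Sp4 F) = tS * (g * wS) := by
        have h1 : (wS : Sp4 F) * tS * wS⁻¹ = zS * tS := wS_tS
        have h2 : (wS : Sp4 F) * tS = zS * tS * wS := by
          rw [← h1]
          group
        calc g * wS * tS = g * (zS * tS * wS) := by rw [mul_assoc, h2]
          _ = g * zS * tS * wS := by group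
          _ = zS * g * tS * wS := by rw [zS_comm g]
          _ = zS * (g * tS * g⁻¹) * g * wS := by group
          _ = zS * (zS * tS) * g * wS := by rw [h]
          _ = (zS * zS) * tS * g * wS := by group
          _ = tS * (g * wS) := by rw [zS_mul_self]; group
      obtain ⟨a, b, hab⟩ := comm_tS (g * wS) hh
      refine ⟨a, b, Or.inr ?_⟩
      rw [← hab, mul_assoc, wS_mul_self, mul_one]
  -- the key case
  have key : ∀ a b : SL(2, F), (∀ s, s ∈ SW Q ↔ iot a b * s * (iot a b)⁻¹ ∈ SW Q) → prP4 F (iot a b) ∈ CL := by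
    intro g₁ g₂ hN
    have hinvN : ∀ s ∈ SW Q, (iot g₁ g₂)⁻¹ * s * iot g₁ g₂ ∈ SW Q := by
      intro s hs
      apply (hN _).2
      have : iot g₁ g₂ * ((iot g₁ g₂)⁻¹ * s * iot g₁ g₂) * (iot g₁ g₂)⁻¹ = s := by group
      rwa [this]
    have h2a : ∀ x ∈ Q, g₂ * x * g₂⁻¹ ∈ Q := by
      intro x hx
      have h1 := (hN (iot 1 x)).1 (iot_mem_SW.2 ⟨Q.one_mem, hx⟩)
      rw [iot_inv, iot_mul, iot_mul] at h1
      exact (iot_mem_SW.1 h1).2
    have h2b : ∀ x ∈ Q, g₂⁻¹ * x * g₂ ∈ Q := by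
      intro x hx
      have h1 := hinvN (iot 1 x) (iot_mem_SW.2 ⟨Q.one_mem, hx⟩)
      rw [iot_inv, iot_mul, iot_mul] at h1
      exact (iot_mem_SW.1 h1).2
    have h12 : g₁ * g₂⁻¹ ∈ Q := by
      have h1 := (hN wS).1 wS_mem_SW
      have e : iot g₁ g₂ * wS * (iot g₁ g₂)⁻¹ = iot (g₁ * g₂⁻¹) (g₂ * g₁⁻¹) * wS := by
        rw [iot_inv]
        calc iot g₁ g₂ * wS * iot g₁⁻¹ g₂⁻¹ = iot g₁ g₂ * (wS * iot g₁⁻¹ g₂⁻¹) := by group
          _ = iot g₁ g₂ * (iot g₂⁻¹ g₁⁻¹ * wS) := by rw [wS_iot]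
          _ = _ := by rw [← mul_assoc, iot_mul]
      rw [e] at h1
      exact (iot_w_mem_SW.1 h1).1
    have e1 : iot g₁ g₂ = iot (g₁ * g₂⁻¹) 1 * iot g₂ g₂ := by
      rw [iot_mul, one_mul]
      simp
    rw [e1, map_mul]
    refine CL.mul_mem (hSW _ (iot_mem_SW.2 ⟨h12, Q.one_mem⟩)) ?_
    -- now `iot h h`
    have hhN : g₂ ∈ Subgroup.normalizer (Q : Set SL(2, F)) := mem_normalizer_of_conj h2a (by
      intro y hy
      exact h2b y hy)
    obtain ⟨A, B, m, r, hr, h2, h3, hd⟩ := two_odd_decomp g₂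
    have h2N : g₂ ^ A ∈ Subgroup.normalizer (Q : Set SL(2, F)) := Subgroup.zpow_mem _ hhN A
    have h3N : g₂ ^ B ∈ Subgroup.normalizer (Q : Set SL(2, F)) := Subgroup.zpow_mem _ hhN B
    have h2Q : g₂ ^ A ∈ Q := hS _ h2N m h2
    have e2 : iot g₂ g₂ = iot (g₂ ^ A) (g₂ ^ A) * iot (g₂ ^ B) (g₂ ^ B) := by
      rw [iot_mul, ← hd]
    rw [e2, map_mul]
    refine CL.mul_mem (hSW _ (iot_mem_SW.2 ⟨h2Q, h2Q⟩)) ?_
    set h₃ := g₂ ^ B with hh₃
    have hcentral : (∀ x ∈ Q, h₃ * x = x * h₃) → prP4 F (iot h₃ h₃) ∈ CL := fun hc => hC _ fun s hs => iot_central hc hs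
    rcases hodd with hodd | hQ8
    · exact hcentral (hodd _ h3N r hr h3)
    · rcases q8_odd hQ8 h₃ (fun x hx => (Subgroup.mem_normalizer_iff.1 h3N x).1 hx) hr h3 with h4 | ⟨u, hu, v, hv, huu, hvv, huv, h5, h6⟩
      · exact hcentral h4
      · have hm1 : (m1S : SL(2, F)) ≠ 1 := m1S_ne_one
        have hne1 : v ≠ u := by
          rintro rfl
          rw [huu] at huv
          rw [m1S_mul_self] at huv
          exact hm1 huv
        have hne2 : v ≠ m1S * u := by
          rintro rfl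
          rw [mul_m1, huu, mul_assoc, huu, m1S_mul_self, mul_one] at huv
          exact hm1 huv.symm
        obtain ⟨-, hlist⟩ := hQ8.tr u hu v hv huu hvv hne1 hne2
        obtain ⟨ω, hω, hω1, hω2⟩ := exists_omega u v huu hvv huv
        have hcu : Commute (ω⁻¹ * h₃) u := by
          show ω⁻¹ * h₃ * u = u * (ω⁻¹ * h₃)
          have h7 : h₃ * u = v * h₃ := by
            rw [← h5]
            group
          have h8 : u * ω⁻¹ = ω⁻¹ * v := by
            rw [← hω1]
            group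
          rw [mul_assoc, h7, ← mul_assoc, ← mul_assoc, h8]
        have hcv : Commute (ω⁻¹ * h₃) v := by
          show ω⁻¹ * h₃ * v = v * (ω⁻¹ * h₃)
          have h7 : h₃ * v = (u * v) * h₃ := by
            rw [← h6]
            group
          have h8 : v * ω⁻¹ = ω⁻¹ * (u * v) := by
            rw [← hω2]
            group
          calc ω⁻¹ * h₃ * v = ω⁻¹ * (h₃ * v) := by group
            _ = ω⁻¹ * ((u * v) * h₃) := by rw [h7]
            _ = (ω⁻¹ * (u * v)) * h₃ := by group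
            _ = (v * ω⁻¹) * h₃ := by rw [h8]
            _ = v * (ω⁻¹ * h₃) := by group
        have hcm : Commute (ω⁻¹ * h₃) m1S := (m1S_comm _).symm
        have hcQ : ∀ x ∈ Q, (ω⁻¹ * h₃) * x = x * (ω⁻¹ * h₃) := by
          intro x hx
          rcases hlist x hx with rfl | rfl | rfl | rfl | rfl | rfl | rfl | rfl
          · simp
          · exact hcm.eq
          · exact hcu.eq
          · exact (hcm.mul_right hcu).eq
          · exact hcv.eq
          · exact (hcm.mul_right hcv).eq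
          · exact (hcu.mul_right hcv).eq
          · exact (hcm.mul_right (hcu.mul_right hcv)).eq
        have e3 : iot h₃ h₃ = iot ω ω * iot (ω⁻¹ * h₃) (ω⁻¹ * h₃) := by
          rw [iot_mul]
          simp
        rw [e3, map_mul]
        refine CL.mul_mem ?_ (hC _ fun s hs => iot_central hcQ hs)
        have hcN : ω⁻¹ * h₃ ∈ Subgroup.normalizer (Q : Set SL(2, F)) := by
          refine mem_normalizer_of_conj (fun x hx => ?_) (fun x hx => ?_)
          · rw [hcQ x hx, mul_inv_cancel_right]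
            exact hx
          · have : (ω⁻¹ * h₃)⁻¹ * x * (ω⁻¹ * h₃) = x := by
              rw [mul_assoc, ← hcQ x hx, inv_mul_cancel_left]
            rw [this]
            exact hx
        have hωN : ω ∈ Subgroup.normalizer (Q : Set SL(2, F)) := by
          have : ω = h₃ * (ω⁻¹ * h₃)⁻¹ := by group
          rw [this]
          exact Subgroup.mul_mem _ h3N (Subgroup.inv_mem _ hcN)
        have huE : iot u u ∈ EQ Q hQ8.m1 := iot_self_mem_EQ hu
        have hvE : iot v v ∈ EQ Q hQ8.m1 := iot_self_mem_EQ hv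
        have hrE : (rS : Sp4 F) ∈ EQ Q hQ8.m1 := rS_mem_EQ
        refine Subgroup.subset_closure (Or.inr ⟨iot_self_norm hm ω hωN, (EQ Q hQ8.m1).map (prP4 F), Subgroup.map_mono EQ_le, ?_, ?_, ?_⟩)
        · rintro _ ⟨s, hs, rfl⟩
          refine norm_lift (fun y hy => EQ_normal hQ8 hs hy) (fun y hy => ?_)
          have := EQ_normal hQ8 ((SW Q).inv_mem hs) hy
          rwa [inv_inv] at this
        · rintro _ ⟨s, hs, rfl⟩ hc'
          exact ⟨s, EQ_self hQ8 hs fun r hr => commZ_of_prS (hc' _ ⟨r, hr, rfl⟩), rfl⟩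
        · obtain ⟨x₁, hx₁, hx₁i⟩ := exists_cliff (iot_self_sq huu) rS_mul_self (rS_comm u).symm
          obtain ⟨x₂, hx₂, hx₂i⟩ := exists_cliff (iot_self_sq hvv) rS_mul_self (rS_comm v).symm
          have hrel := iot_omega_rel u v ω hω hx₁ hx₂
          have e4 : prP4 F (iot ω ω) = prP4 F x₁ * prP4 F x₂ * (prP4 F (rS : Sp4 F))⁻¹ := by
            rw [← map_mul, ← hrel, map_mul]
            simp
          rw [e4]
          refine Subgroup.mul_mem _ (Subgroup.mul_mem _ (Subgroup.subset_closure ⟨?_, ?_⟩) (Subgroup.subset_closure ⟨?_, ?_⟩))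
            (Subgroup.inv_mem _ (Subgroup.subset_closure ⟨?_, ?_⟩))
          · exact norm_lift
              (fun y hy => cliff_mem _ (iot_self_sq huu) rS_mul_self (rS_comm u).symm hx₁ hx₁i zS_mem_EQ huE hrE hy
                (EQ_comm hQ8 hy huE) (EQ_comm hQ8 hy hrE))
              (fun y hy => cliff_inv_mem _ (iot_self_sq huu) rS_mul_self (rS_comm u).symm hx₁ hx₁i zS_mem_EQ huE hrE hy
                (EQ_comm hQ8 hy huE) (EQ_comm hQ8 hy hrE))
          · exact orderOf_two_pow (k := 2) (by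
              rw [← map_pow, cliff_pow_four (iot_self_sq huu) rS_mul_self (rS_comm u).symm hx₁, map_one])
          · exact norm_lift
              (fun y hy => cliff_mem _ (iot_self_sq hvv) rS_mul_self (rS_comm v).symm hx₂ hx₂i zS_mem_EQ hvE hrE hy
                (EQ_comm hQ8 hy hvE) (EQ_comm hQ8 hy hrE))
              (fun y hy => cliff_inv_mem _ (iot_self_sq hvv) rS_mul_self (rS_comm v).symm hx₂ hx₂i zS_mem_EQ hvE hrE hy
                (EQ_comm hQ8 hy hvE) (EQ_comm hQ8 hy hrE))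
          · exact orderOf_two_pow (k := 2) (by
              rw [← map_pow, cliff_pow_four (iot_self_sq hvv) rS_mul_self (rS_comm v).symm hx₂, map_one])
          · exact norm_lift
              (fun y hy => (EQ Q hQ8.m1).mul_mem ((EQ Q hQ8.m1).mul_mem hrE hy) ((EQ Q hQ8.m1).inv_mem hrE))
              (fun y hy => (EQ Q hQ8.m1).mul_mem ((EQ Q hQ8.m1).mul_mem ((EQ Q hQ8.m1).inv_mem hrE) hy) hrE)
          · refine orderOf_two_pow (k := 2) ?_
            rw [← map_pow, show 2 ^ 2 = 2 + 2 by norm_num, pow_add, pow_two, rS_mul_self, zS_mul_self, map_one]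
  obtain ⟨a, b, rfl | rfl⟩ := hiot
  · exact key a b hgN
  · rw [map_mul]
    refine CL.mul_mem (key a b ?_) (hSW _ wS_mem_SW)
    intro s
    have e : iot a b * s * (iot a b)⁻¹ = (iot a b * wS) * (wS * s * wS⁻¹) * (iot a b * wS)⁻¹ := by
      rw [_root_.mul_inv_rev, wS_inv]
      calc iot a b * s * (iot a b)⁻¹ = iot a b * ((wS * wS) * s * (wS * wS)) * (iot a b)⁻¹ := by
            rw [wS_mul_self]
            group
        _ = _ := by group
    rw [e, ← hgN]
    constructor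
    · intro hs
      exact (SW Q).mul_mem ((SW Q).mul_mem wS_mem_SW hs) ((SW Q).inv_mem wS_mem_SW)
    · intro hs
      have := (SW Q).mul_mem ((SW Q).mul_mem (wS_mem_SW (Q := Q)) hs) ((SW Q).inv_mem wS_mem_SW)
      have e3 : wS * (wS * s * wS⁻¹) * wS⁻¹ = s := by
        rw [wS_inv]
        calc wS * (wS * s * wS) * wS = (wS * wS) * s * (wS * wS) := by group
          _ = s := by rw [wS_mul_self]; group
      rwa [e3] at this

end Cfsg.Agent.H25
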