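import Cfsg.Agent.Lib.H25.SimDih
import Cfsg.Agent.Lib.Lead.SL2Quat
import Cfsg.Agent.Lib.H03.PSLKlein
import Cfsg.Agent.Lib.H15.SL2Odd
set_option autoImplicit false
set_option linter.style.haveILetI false

/-! The `2`-fusion system of `PSL₂(q)`, `q² ≡ 1 mod 16`, is simple. -/

namespace Cfsg.Agent.H25

open Cfsg

theorem psl2_simple {F : Type*} [Field F] [Fintype F] (hodd : Fintype.card F % 2 = 1) (h16 : 16 ∣ Fintype.card F ^ 2 - 1)
    (S : Sylow 2 (Matrix.ProjectiveSpecialLinearGroup (Fin 2) F)) :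
    (groupFusionSystem (S : Subgroup (Matrix.ProjectiveSpecialLinearGroup (Fin 2) F))).IsSimple 2 := by
  classical
  haveI : Fact (Nat.Prime 2) := ⟨Nat.prime_two⟩
  have hF : Odd (Fintype.card F) := Nat.odd_iff.2 hodd
  have h2 : (2 : F) ≠ 0 := Cfsg.Agent.H15.two_ne_zero_of_odd hF
  let π : Cfsg.Agent.H11.SL2X.SL2 F →* Cfsg.Agent.H11.SL2X.PS2 F := QuotientGroup.mk' _
  have hsq : ∀ w : Cfsg.Agent.H11.SL2X.SL2 F, w ^ 2 = 1 → π w = 1 := by
    intro w hw
    obtain ⟨r, hr⟩ := Cfsg.Agent.H11.SL2T.scalar_of_sq_eq_one h2 hw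
    exact Cfsg.Agent.H11.SL2X.pr_eq_one_iff.2 ⟨r, Cfsg.Agent.H11.SL2X.scalar_sq hr, hr⟩
  have hsq' : ∀ w : Cfsg.Agent.H11.SL2X.SL2 F, π w = 1 → w ^ 2 = 1 := by
    intro w hw
    obtain ⟨r, hr, he⟩ := Cfsg.Agent.H11.SL2X.pr_eq_one_iff.1 hw
    apply Subtype.ext
    rw [Matrix.SpecialLinearGroup.coe_pow, he, pow_two, smul_mul_smul_comm, one_mul, ← pow_two, hr, one_smul]
    rfl
  have hker : IsPGroup 2 π.ker := by
    rintro ⟨z, hz⟩
    refine ⟨1, ?_⟩
    apply Subtype.ext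
    simpa using hsq' z hz
  have hsurj : Function.Surjective π := QuotientGroup.mk'_surjective _
  have hrange : (S : Subgroup (Cfsg.Agent.H11.SL2X.PS2 F)) ≤ π.range := by
    intro x _
    exact hsurj x
  let P : Sylow 2 (Cfsg.Agent.H11.SL2X.SL2 F) := S.comapOfKerIsPGroup π hker hrange
  have hP : ∀ x, x ∈ (P : Subgroup (Cfsg.Agent.H11.SL2X.SL2 F)) ↔ π x ∈ (S : Subgroup (Cfsg.Agent.H11.SL2X.PS2 F)) := by
    intro x
    exact Iff.rfl
  obtain ⟨k, hk, ⟨φ⟩⟩ := Cfsg.Agent.Lead.sl2_sylow_quat hF P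
  set n := 2 ^ k with hn
  haveI : NeZero n := ⟨by positivity⟩
  haveI : NeZero (2 * n) := ⟨by positivity⟩
  have hn4 : 4 ≤ n := by
    have hcardSL : Nat.card (Cfsg.Agent.H11.SL2X.SL2 F) = (Fintype.card F + 1) * Fintype.card F * (Fintype.card F - 1) :=
      Cfsg.Agent.Lead.card_SL_two'
    have hq1 : 1 ≤ Fintype.card F := Fintype.card_pos
    have h16' : 2 ^ 4 ∣ Nat.card (Cfsg.Agent.H11.SL2X.SL2 F) := by
      rw [hcardSL]
      obtain ⟨d, hd⟩ := h16
      refine ⟨d * Fintype.card F, ?_⟩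
      have e : (Fintype.card F + 1) * (Fintype.card F - 1) = Fintype.card F ^ 2 - 1 := by
        obtain ⟨r, hr⟩ : ∃ r, Fintype.card F = r + 1 := ⟨Fintype.card F - 1, by omega⟩
        rw [hr]
        simp only [Nat.add_sub_cancel]
        have : (r + 1) ^ 2 - 1 = r * (r + 2) := by
          have : (r + 1) ^ 2 = r * (r + 2) + 1 := by ring
          omega
        rw [this]
        ring
      calc (Fintype.card F + 1) * Fintype.card F * (Fintype.card F - 1)
          = ((Fintype.card F + 1) * (Fintype.card F - 1)) * Fintype.card F := by ring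
        _ = 2 ^ 4 * (d * Fintype.card F) := by rw [e, hd]; ring
    have h3 := P.pow_dvd_card_of_pow_dvd_card h16'
    have h4 : Nat.card P = 4 * n := by
      rw [Nat.card_congr φ.toEquiv, Nat.card_eq_fintype_card, QuaternionGroup.card]
    rw [h4, hn] at h3
    have h5 : (2 : ℕ) ^ 4 ∣ 2 ^ (k + 2) := by
      have : 4 * 2 ^ k = 2 ^ (k + 2) := by ring
      rwa [this] at h3
    have h6 : 4 ≤ k + 2 := (Nat.pow_dvd_pow_iff_le_right (by norm_num)).1 h5
    rw [hn]
    calc 4 = 2 ^ 2 := by norm_num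
      _ ≤ 2 ^ k := Nat.pow_le_pow_right (by norm_num) (by omega)
  let Ψ : QuaternionGroup n →* Cfsg.Agent.H11.SL2X.SL2 F :=
    (P : Subgroup (Cfsg.Agent.H11.SL2X.SL2 F)).subtype.comp φ.symm.toMonoidHom
  have hΨinj : Function.Injective Ψ := Subtype.val_injective.comp φ.symm.injective
  have hΨP : ∀ u, Ψ u ∈ (P : Subgroup (Cfsg.Agent.H11.SL2X.SL2 F)) := fun u => (φ.symm u).2
  have hΨs : ∀ x ∈ (P : Subgroup (Cfsg.Agent.H11.SL2X.SL2 F)), ∃ u, Ψ u = x := by
    intro x hx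
    refine ⟨φ ⟨x, hx⟩, ?_⟩
    show ((φ.symm (φ ⟨x, hx⟩) : _) : Cfsg.Agent.H11.SL2X.SL2 F) = x
    simp
  set c := π (Ψ (.a 1)) with hc
  set t := π (Ψ (.xa 0)) with ht
  have hcp : ∀ j : ℕ, c ^ j = π (Ψ (.a (j : ZMod (2 * n)))) := by
    intro j
    rw [hc, ← map_pow, ← map_pow, QuaternionGroup.a_one_pow]
  have hxa : ∀ j : ℕ, t * c ^ j = π (Ψ (.xa (j : ZMod (2 * n)))) := by
    intro j
    rw [hcp, ht, ← map_mul, ← map_mul, QuaternionGroup.xa_mul_a, zero_add]
  have hcS : c ∈ (S : Subgroup (Cfsg.Agent.H11.SL2X.PS2 F)) := (hP _).1 (hΨP _)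
  have htS : t ∈ (S : Subgroup (Cfsg.Agent.H11.SL2X.PS2 F)) := (hP _).1 (hΨP _)
  have han : π (Ψ (.a (n : ZMod (2 * n)))) = 1 := by
    apply hsq
    rw [← map_pow, pow_two, QuaternionGroup.a_mul_a]
    have e : ((n : ZMod (2 * n)) + n) = 0 := by
      have : ((2 * n : ℕ) : ZMod (2 * n)) = 0 := ZMod.natCast_self _
      rw [← this]
      push_cast
      ring
    rw [e]
    exact map_one Ψ
  have hxsq : ∀ j : ZMod (2 * n), (π (Ψ (.xa j))) ^ 2 = 1 := by
    intro j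
    rw [← map_pow, ← map_pow, pow_two, QuaternionGroup.xa_mul_xa]
    have e : ((n : ZMod (2 * n)) + j - j) = n := by ring
    rw [e, han]
  have hane : (QuaternionGroup.a (n : ZMod (2 * n)) : QuaternionGroup n) ≠ 1 := by
    intro h
    have h1 : (n : ZMod (2 * n)) = 0 := QuaternionGroup.a.inj h
    rw [ZMod.natCast_eq_zero_iff] at h1
    have := Nat.le_of_dvd (NeZero.pos n) h1
    have hp := NeZero.pos n
    omega
  refine dih_simple S c t hcS htS ?_ ?_ ?_ ?_ ?_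
  · intro x hx
    obtain ⟨xh, rfl⟩ := hsurj x
    obtain ⟨u, rfl⟩ := hΨs xh ((hP _).2 hx)
    cases u with
    | a i =>
      left
      have := hcp i.val
      rw [ZMod.natCast_zmod_val] at this
      rw [← this]
      exact Subgroup.npow_mem_zpowers c i.val
    | xa i =>
      right
      refine ⟨i.val, ?_⟩
      rw [hxa, ZMod.natCast_zmod_val]
  · intro j
    rw [hxa]
    exact hxsq _
  · intro hmem
    have hfin : ∃ m : ℕ, c ^ m = t := by
      have h1 : t ∈ Submonoid.powers c := by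
        rw [mem_powers_iff_mem_zpowers]
        exact hmem
      obtain ⟨m, hm⟩ := h1
      exact ⟨m, hm⟩
    obtain ⟨m, hm⟩ := hfin
    have e1 : π (Ψ (.xa (-(m : ZMod (2 * n))))) = 1 := by
      have e2 : (QuaternionGroup.xa (-(m : ZMod (2 * n))) : QuaternionGroup n) * QuaternionGroup.a (m : ZMod (2 * n)) =
          QuaternionGroup.xa 0 := by
        rw [QuaternionGroup.xa_mul_a, neg_add_cancel]
      have e5 : π (Ψ (.xa (-(m : ZMod (2 * n))))) * c ^ m = t := by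
        rw [hcp, ht, ← map_mul, ← map_mul, e2]
      rw [hm] at e5
      exact mul_eq_right.1 e5
    have e3 := hsq' _ e1
    have e4 : Ψ (.a (n : ZMod (2 * n))) = 1 := by
      rw [← e3, ← map_pow, pow_two, QuaternionGroup.xa_mul_xa]
      congr 2
      ring
    exact hane (hΨinj (e4.trans (map_one Ψ).symm))
  · have hm0 : 0 < orderOf c := orderOf_pos c
    have h1 : π (Ψ (.a ((orderOf c : ℕ) : ZMod (2 * n)))) = 1 := by
      rw [← hcp, pow_orderOf_eq_one]
    have h3 := hsq' _ h1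
    rw [← map_pow, pow_two, QuaternionGroup.a_mul_a] at h3
    have h4 : (QuaternionGroup.a ((orderOf c : ZMod (2 * n)) + orderOf c) : QuaternionGroup n) = 1 :=
      hΨinj (h3.trans (map_one Ψ).symm)
    have h5 : ((orderOf c : ZMod (2 * n)) + orderOf c) = 0 := QuaternionGroup.a.inj h4
    have h6 : ((orderOf c + orderOf c : ℕ) : ZMod (2 * n)) = 0 := by
      push_cast
      exact h5
    rw [ZMod.natCast_eq_zero_iff] at h6
    have h7 := Nat.le_of_dvd (by omega) h6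
    omega
  · intro x y hx hy
    obtain ⟨xh, rfl⟩ := hsurj x
    obtain ⟨yh, rfl⟩ := hsurj y
    have hx' := Cfsg.Agent.H03.PK.Q4_of_order h2 (a := xh) hx
    have hy' := Cfsg.Agent.H03.PK.Q4_of_order h2 (a := yh) hy
    obtain ⟨g, hg⟩ := _root_.isConj_iff.1 (hx'.conj h2 hy')
    exact _root_.isConj_iff.2 ⟨π g, by rw [← map_inv, ← map_mul, ← map_mul, hg]⟩

end Cfsg.Agent.H25
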