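import Cfsg.Agent.Lib.H25.SimLn4
set_option autoImplicit false
set_option linter.style.haveILetI false

/-! The fusion system of `PSp_{2m}(F)` in the defining characteristic: rank, elements. -/

namespace Cfsg.Agent.H25

open Cfsg Matrix
open scoped MatrixGroups

variable {K : Type*} [Field K] {m : ℕ}

/-- The index type. -/
abbrev Ix (m : ℕ) := Fin m ⊕ Fin m

/-- The rank function. -/
def rk {m : ℕ} : Ix m → ℕ
  | .inl i => i
  | .inr i => 2 * m - 1 - i

@[simp] theorem rk_inl (i : Fin m) : rk (Sum.inl i : Ix m) = i := rfl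
@[simp] theorem rk_inr (i : Fin m) : rk (Sum.inr i : Ix m) = 2 * m - 1 - i := rfl

theorem rk_lt (a : Ix m) : rk a < 2 * m := by
  rcases a with i | i
  · have := i.2
    simp only [rk_inl]
    omega
  · have := i.2
    simp only [rk_inr]
    omega

theorem rk_inj : Function.Injective (rk : Ix m → ℕ) := by
  intro a b h
  rcases a with i | i <;> rcases b with j | j <;> simp only [rk_inl, rk_inr] at h
  · rw [Fin.ext h]
  · have := i.2
    have := j.2
    omega
  · have := i.2
    have := j.2
    omega
  · have hi := i.2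
    have hj := j.2
    have : (i : ℕ) = j := by omega
    rw [Fin.ext this]

/-- Upper triangular with respect to the rank. -/
def UpM (M : Matrix (Ix m) (Ix m) K) : Prop := ∀ a b, rk b < rk a → M a b = 0

/-- Upper unitriangular with respect to the rank. -/
def UniM (M : Matrix (Ix m) (Ix m) K) : Prop := UpM M ∧ ∀ a, M a a = 1

theorem uniM_one : UniM (1 : Matrix (Ix m) (Ix m) K) := by
  refine ⟨fun a b h => Matrix.one_apply_ne ?_, fun a => Matrix.one_apply_eq a⟩
  rintro rfl
  exact lt_irrefl _ h

theorem upM_mul {A B : Matrix (Ix m) (Ix m) K} (hA : UpM A) (hB : UpM B) : UpM (A * B) := by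
  intro a b h
  rw [Matrix.mul_apply]
  refine Finset.sum_eq_zero fun c _ => ?_
  by_cases hc : rk c < rk a
  · rw [hA a c hc, zero_mul]
  · rw [hB c b (by omega), mul_zero]

theorem diag_mul_up {A B : Matrix (Ix m) (Ix m) K} (hA : UpM A) (hB : UpM B) (a : Ix m) :
    (A * B) a a = A a a * B a a := by
  rw [Matrix.mul_apply, Finset.sum_eq_single a]
  · intro c _ hc
    rcases lt_trichotomy (rk c) (rk a) with h | h | h
    · rw [hA a c h, zero_mul]
    · exact absurd (rk_inj h) hc
    · rw [hB c a h, mul_zero]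
  · simp

theorem uniM_mul {A B : Matrix (Ix m) (Ix m) K} (hA : UniM A) (hB : UniM B) : UniM (A * B) := by
  refine ⟨upM_mul hA.1 hB.1, fun a => ?_⟩
  rw [diag_mul_up hA.1 hB.1, hA.2, hB.2, one_mul]

/-- Adjacent entries of a product. -/
theorem uni_mul_adj {A B : Matrix (Ix m) (Ix m) K} (hA : UniM A) (hB : UniM B) {c d : Ix m} (h : rk d = rk c + 1) :
    (A * B) c d = A c d + B c d := by
  have hne : c ≠ d := by
    rintro rfl
    omega
  rw [Matrix.mul_apply, Finset.sum_eq_add c d hne]
  · rw [hA.2, hB.2, one_mul, mul_one, add_comm]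
  · intro k _ hk
    rcases lt_trichotomy (rk k) (rk c) with h1 | h1 | h1
    · rw [hA.1 c k h1, zero_mul]
    · exact absurd (rk_inj h1) hk.1
    · have h2 : rk k ≠ rk d := fun e => hk.2 (rk_inj e)
      rw [hB.1 k d (by omega), mul_zero]
  · simp
  · simp

section Fin
variable [Fintype K]

instance : Finite (Matrix.symplecticGroup (Fin m) K) := by
  exact Finite.of_injective (fun x => (x : Matrix (Ix m) (Ix m) K)) Subtype.val_injective

/-- The unipotent group. -/
def SU0 (m : ℕ) (K : Type*) [Field K] [Fintype K] : Subgroup (Matrix.symplecticGroup (Fin m) K) where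
  carrier := {g | UniM (g : Matrix (Ix m) (Ix m) K)}
  one_mem' := uniM_one
  mul_mem' := by
    intro a b ha hb
    exact uniM_mul ha hb
  inv_mem' := by
    intro x hx
    have h1 : x⁻¹ = x ^ (orderOf x - 1) := by
      apply inv_eq_of_mul_eq_one_left
      rw [← pow_succ, Nat.sub_add_cancel (orderOf_pos x), pow_orderOf_eq_one]
    rw [h1]
    have h2 : ∀ k : ℕ, UniM ((x ^ k : Matrix.symplecticGroup (Fin m) K) : Matrix (Ix m) (Ix m) K) := by
      intro k
      induction k with
      | zero => exact uniM_one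
      | succ k ih =>
        rw [pow_succ]
        exact uniM_mul ih hx
    exact h2 _

theorem mem_SU0 {g : Matrix.symplecticGroup (Fin m) K} : g ∈ SU0 m K ↔ UniM (g : Matrix (Ix m) (Ix m) K) := Iff.rfl

/-- Strictly upper triangular matrices are nilpotent. -/
theorem strict_pow {N : Matrix (Ix m) (Ix m) K} (hN : ∀ a b, rk b ≤ rk a → N a b = 0) (k : ℕ) :
    ∀ a b, rk b < rk a + k → (N ^ k) a b = 0 := by
  induction k with
  | zero =>
    intro a b h
    rw [pow_zero]
    apply Matrix.one_apply_ne
    rintro rfl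
    omega
  | succ k ih =>
    intro a b h
    rw [pow_succ, Matrix.mul_apply]
    refine Finset.sum_eq_zero fun c _ => ?_
    by_cases hc : rk c < rk a + k
    · rw [ih a c hc, zero_mul]
    · rw [hN c b (by omega), mul_zero]

variable {p : ℕ} [Fact p.Prime]

theorem SU0_pow_eq_one [CharP K p] (hm : 0 < m) {g : Matrix.symplecticGroup (Fin m) K} (hg : g ∈ SU0 m K) :
    g ^ (p ^ (2 * m)) = 1 := by
  apply Subtype.ext
  have h1 : ((g ^ (p ^ (2 * m)) : Matrix.symplecticGroup (Fin m) K) : Matrix (Ix m) (Ix m) K) =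
      (g : Matrix (Ix m) (Ix m) K) ^ (p ^ (2 * m)) := rfl
  rw [h1]
  set M := (g : Matrix (Ix m) (Ix m) K) with hM
  have hU : UniM M := hg
  set N := M - 1 with hNdef
  have hN : ∀ a b, rk b ≤ rk a → N a b = 0 := by
    intro a b h
    rw [hNdef, Matrix.sub_apply]
    rcases lt_or_eq_of_le h with h1 | h1
    · rw [hU.1 a b h1, Matrix.one_apply_ne]
      · ring
      · rintro rfl
        omega
    · have := rk_inj h1
      subst this
      rw [hU.2, Matrix.one_apply_eq, sub_self]
  have hM2 : M = 1 + N := by rw [hNdef]; abel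
  rw [hM2]
  haveI : Nonempty (Ix m) := ⟨Sum.inl ⟨0, hm⟩⟩
  haveI : CharP (Matrix (Ix m) (Ix m) K) p := inferInstance
  rw [add_pow_char_pow_of_commute p (2 * m) (Commute.one_left N), one_pow]
  have h3 : 2 * m ≤ p ^ (2 * m) := by
    have : 2 * m < p ^ (2 * m) := Nat.lt_pow_self (Nat.Prime.one_lt Fact.out)
    omega
  have h4 : N ^ (p ^ (2 * m)) = 0 := by
    ext a b
    apply strict_pow hN
    have := rk_lt b
    omega
  rw [h4, add_zero]
  rfl

theorem isPGroup_SU0 [CharP K p] (hm : 0 < m) : IsPGroup p (SU0 m K) := by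
  intro g
  refine ⟨2 * m, ?_⟩
  apply Subtype.ext
  have := SU0_pow_eq_one (p := p) hm g.2
  simpa using this

end Fin

end Cfsg.Agent.H25
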