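import Cfsg.Agent.Lib.H25.SimSp9
set_option autoImplicit false
set_option linter.style.haveILetI false

/-! The fusion system of `PSp_{2m}(F)` in the defining characteristic: strong closure, continued. -/

namespace Cfsg.Agent.H25

open Cfsg Matrix
open scoped MatrixGroups

variable {K : Type*} [Field K] [Fintype K] {m : ℕ}
variable {W : Subgroup (symplecticGroup (Fin m) K)}

/-- Closure under conjugation inside `SU0`. -/
def ClS (W : Subgroup (symplecticGroup (Fin m) K)) : Prop :=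
  ∀ u ∈ W, ∀ g : symplecticGroup (Fin m) K, g * u * g⁻¹ ∈ SU0 m K → g * u * g⁻¹ ∈ W

theorem tt_of_PSy (cl : ClS W) {i j : Fin m} (hij : i < j) {t : K} (h : PSy W (Matrix.single i j t + Matrix.single j i t)) :
    levS (SpecialLinearGroup.transvection (ne_of_lt hij) (-t)) ∈ W := by
  obtain ⟨hS, h1⟩ := h
  have e := wq_conj_sb (ne_of_lt hij) t hS
  rw [← e]
  refine cl _ h1 _ ?_
  rw [e]
  exact levS_mem_SU0 (Cfsg.Agent.Lead.AutPSL.transvection_mem_UU hij _)

/-- The long root elements. -/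
theorem PSy_long (hle : W ≤ SU0 m K) (cl : ClS W) {i₀ i₁ : Fin m} (h01 : i₀ < i₁)
    (hP : ∀ t : K, PSy W (Matrix.single i₀ i₁ t + Matrix.single i₁ i₀ t)) (d : K) :
    PSy W (Matrix.single i₀ i₀ d) := by
  have h10 : i₀ ≠ i₁ := ne_of_lt h01
  have hy := tt_of_PSy cl h01 (hP (-1))
  rw [neg_neg] at hy
  set y := levS (SpecialLinearGroup.transvection h10 (1 : K)) with hyd
  have hS1 : (Matrix.single i₁ i₁ d)ᵀ = Matrix.single i₁ i₁ d := single_symm_diag i₁ d
  set L := sb (Matrix.single i₁ i₁ d) hS1 with hL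
  have hLm : L ∈ SU0 m K := sb_mem_SU0 _ _
  have hmat : (1 + Matrix.single i₀ i₁ (1 : K)) * Matrix.single i₁ i₁ d * (1 + Matrix.single i₁ i₀ 1) =
      Matrix.single i₁ i₁ d + Matrix.single i₀ i₁ d + Matrix.single i₁ i₀ d + Matrix.single i₀ i₀ d := by
    simp only [mul_add, add_mul, one_mul, mul_one, sm, if_true, h10, h10.symm, if_false, mul_zero, zero_mul, add_zero, zero_add]
    abel
  have hcon : ((SpecialLinearGroup.toGL (SpecialLinearGroup.transvection h10 (1 : K)) : GL (Fin m) K) : Matrix (Fin m) (Fin m) K) * Matrix.single i₁ i₁ d *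
      ((SpecialLinearGroup.toGL (SpecialLinearGroup.transvection h10 (1 : K)) : GL (Fin m) K) : Matrix (Fin m) (Fin m) K)ᵀ =
      Matrix.single i₁ i₁ d + Matrix.single i₀ i₁ d + Matrix.single i₁ i₀ d + Matrix.single i₀ i₀ d := by
    rw [tt_congr, hmat]
  have hS2 := congr_symm ((SpecialLinearGroup.toGL (SpecialLinearGroup.transvection h10 (1 : K)) : GL (Fin m) K) : Matrix (Fin m) (Fin m) K) _ hS1
  have e1 : y * L * y⁻¹ = sb _ hS2 := lev_mul_sb _ _ hS1 hS2
  -- the commutator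
  have hcomm : y * (L * y⁻¹ * L⁻¹) ∈ W := by
    refine W.mul_mem hy ?_
    have h2 := cl _ (W.inv_mem hy) L (by
      exact (SU0 m K).mul_mem ((SU0 m K).mul_mem hLm (hle (W.inv_mem hy))) ((SU0 m K).inv_mem hLm))
    exact h2
  have e2 : y * (L * y⁻¹ * L⁻¹) = y * L * y⁻¹ * L⁻¹ := by group
  rw [e2, e1] at hcomm
  -- compute
  have hn : (-Matrix.single i₁ i₁ d)ᵀ = -Matrix.single i₁ i₁ d := by rw [transpose_neg, hS1]
  have hL' : L⁻¹ = sb (-Matrix.single i₁ i₁ d) hn := by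
    apply inv_eq_of_mul_eq_one_right
    rw [hL, sb_mul _ _ _ _ (by rw [add_neg_cancel]; exact transpose_zero)]
    simp only [add_neg_cancel]
    rw [sb_zero]
  rw [hL'] at hcomm
  have hsum := congr_symm ((SpecialLinearGroup.toGL (SpecialLinearGroup.transvection h10 (1 : K)) : GL (Fin m) K) : Matrix (Fin m) (Fin m) K) _ hS1
  have hsm : (((SpecialLinearGroup.toGL (SpecialLinearGroup.transvection h10 (1 : K)) : GL (Fin m) K) : Matrix (Fin m) (Fin m) K) * Matrix.single i₁ i₁ d *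
      ((SpecialLinearGroup.toGL (SpecialLinearGroup.transvection h10 (1 : K)) : GL (Fin m) K) : Matrix (Fin m) (Fin m) K)ᵀ + -Matrix.single i₁ i₁ d)ᵀ =
      ((SpecialLinearGroup.toGL (SpecialLinearGroup.transvection h10 (1 : K)) : GL (Fin m) K) : Matrix (Fin m) (Fin m) K) * Matrix.single i₁ i₁ d *
      ((SpecialLinearGroup.toGL (SpecialLinearGroup.transvection h10 (1 : K)) : GL (Fin m) K) : Matrix (Fin m) (Fin m) K)ᵀ + -Matrix.single i₁ i₁ d := by
    rw [transpose_add, hS2, hn]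
  rw [sb_mul _ _ hS2 hn hsm] at hcomm
  have h3 : PSy W (((SpecialLinearGroup.toGL (SpecialLinearGroup.transvection h10 (1 : K)) : GL (Fin m) K) : Matrix (Fin m) (Fin m) K) * Matrix.single i₁ i₁ d *
      ((SpecialLinearGroup.toGL (SpecialLinearGroup.transvection h10 (1 : K)) : GL (Fin m) K) : Matrix (Fin m) (Fin m) K)ᵀ + -Matrix.single i₁ i₁ d) := ⟨hsm, hcomm⟩
  rw [hcon] at h3
  have h4 := PSy_sub h3 (hP d)
  have e4 : Matrix.single i₁ i₁ d + Matrix.single i₀ i₁ d + Matrix.single i₁ i₀ d + Matrix.single i₀ i₀ d + -Matrix.single i₁ i₁ d -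
      (Matrix.single i₀ i₁ d + Matrix.single i₁ i₀ d) = Matrix.single i₀ i₀ d := by abel
  rwa [e4] at h4

/-- Permutation matrices as units. -/
def pmG (π : Equiv.Perm (Fin m)) : GL (Fin m) K :=
  ⟨Pm π, (Pm π)ᵀ, Pm_mul_transpose π, mul_eq_one_comm.1 (Pm_mul_transpose π)⟩

theorem PSy_all (cl : ClS W) {i₀ i₁ : Fin m} (h10 : i₀ ≠ i₁)
    (hP : ∀ t : K, PSy W (Matrix.single i₀ i₁ t + Matrix.single i₁ i₀ t))
    (hQ : ∀ d : K, PSy W (Matrix.single i₀ i₀ d))
    (S : Matrix (Fin m) (Fin m) K) (hS : Sᵀ = S) : PSy W S := by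
  have h1 : ∀ (i j : Fin m) (_ : i ≠ j) (t : K), PSy W (Matrix.single i j t + Matrix.single j i t) := by
    intro i j hij t
    obtain ⟨π, h2, h3⟩ := exists_perm_pair h10 hij
    have h4 := PSy_congr cl (pmG π) (hP t)
    rw [show ((pmG π : GL (Fin m) K) : Matrix (Fin m) (Fin m) K) = Pm π from rfl, mul_add, add_mul,
      Pm_conj_single, Pm_conj_single, h2, h3] at h4
    exact h4
  have h2 : ∀ (i : Fin m) (t : K), PSy W (Matrix.single i i t) := by
    intro i t
    have h4 := PSy_congr cl (pmG (Equiv.swap i₀ i)) (hQ t)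
    rw [show ((pmG (Equiv.swap i₀ i) : GL (Fin m) K) : Matrix (Fin m) (Fin m) K) = Pm (Equiv.swap i₀ i) from rfl,
      Pm_conj_single, Equiv.swap_apply_left] at h4
    exact h4
  rw [sym_decomp S hS]
  refine Finset.sum_induction _ (PSy W) (fun _ _ => PSy_add) PSy_zero fun i _ => ?_
  refine Finset.sum_induction _ (PSy W) (fun _ _ => PSy_add) PSy_zero fun j _ => ?_
  split_ifs with h3 h4
  · exact h1 i j (ne_of_lt h3) _
  · exact h2 i _
  · exact PSy_zero

/-- The main point of strong closure. -/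
theorem W_eq {p : ℕ} [Fact p.Prime] [CharP K p] (hm : 2 ≤ m) (hex : m = 2 → 3 ≤ Fintype.card K)
    (hle : W ≤ SU0 m K) (cl : ClS W) (hb : W ≠ ⊥) : W = SU0 m K := by
  classical
  have hm0 : 0 < m := by omega
  have hUp := isPGroup_SU0 (p := p) (m := m) (K := K) hm0
  -- a central element
  obtain ⟨x, hxW, hxc, hx1⟩ : ∃ x ∈ W, (∀ y ∈ SU0 m K, x * y = y * x) ∧ x ≠ 1 := by
    haveI hN : (W.subgroupOf (SU0 m K)).Normal := by
      refine ⟨fun a ha g => ?_⟩
      rw [Subgroup.mem_subgroupOf] at ha ⊢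
      have h1 : (g : symplecticGroup (Fin m) K) * a * (g : symplecticGroup (Fin m) K)⁻¹ ∈ SU0 m K :=
        (SU0 m K).mul_mem ((SU0 m K).mul_mem g.2 a.2) ((SU0 m K).inv_mem g.2)
      exact cl _ ha _ h1
    have hM : W.subgroupOf (SU0 m K) ≠ ⊥ := by
      intro h
      apply hb
      rw [eq_bot_iff]
      intro y hy
      have h1 : (⟨y, hle hy⟩ : SU0 m K) ∈ W.subgroupOf (SU0 m K) := hy
      rw [h] at h1
      have h2 : (⟨y, hle hy⟩ : SU0 m K) = 1 := Subgroup.mem_bot.1 h1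
      exact Subgroup.mem_bot.2 (congrArg Subtype.val h2)
    have h1 := Cfsg.Agent.H09.normal_inf_center_ne_bot hUp (W.subgroupOf (SU0 m K)) hM
    rcases Subgroup.bot_or_exists_ne_one (W.subgroupOf (SU0 m K) ⊓ Subgroup.center (SU0 m K)) with h2 | ⟨y, hy, hy1⟩
    · exact absurd h2 h1
    · obtain ⟨hyT, hyc⟩ := Subgroup.mem_inf.1 hy
      refine ⟨y, hyT, fun z hz => ?_, fun h => hy1 (Subtype.ext h)⟩
      have := (Subgroup.mem_center_iff.1 hyc) ⟨z, hz⟩
      exact (congrArg Subtype.val this).symm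
  obtain ⟨i₀, h0⟩ : ∃ i₀ : Fin m, (i₀ : ℕ) = 0 := ⟨⟨0, by omega⟩, rfl⟩
  obtain ⟨i₁, h1⟩ : ∃ i₁ : Fin m, (i₁ : ℕ) = 1 := ⟨⟨1, by omega⟩, rfl⟩
  have h01 : i₀ < i₁ := by
    rw [Fin.lt_def, h0, h1]
    omega
  have hP : ∀ t : K, PSy W (Matrix.single i₀ i₁ t + Matrix.single i₁ i₀ t) :=
    fun t => PSy_of_central hm hex cl hxW (hle hxW) hx1 hxc h0 h1 t
  have hQ := PSy_long hle cl h01 hP
  have hall := PSy_all cl (ne_of_lt h01) hP hQ
  have hsb : ∀ (S : Matrix (Fin m) (Fin m) K) (hS : Sᵀ = S), sb S hS ∈ W := fun S hS => (hall S hS).2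
  have htt : ∀ (i j : Fin m) (hij : i < j) (t : K), SpecialLinearGroup.transvection (ne_of_lt hij) t ∈ W.comap levS := by
    intro i j hij t
    have h1 : (Matrix.single i j (-t) + Matrix.single j i (-t))ᵀ = Matrix.single i j (-t) + Matrix.single j i (-t) := by
      simp only [transpose_add, Matrix.transpose_single]
      abel
    have h2 := tt_of_PSy cl hij (hall _ h1)
    rw [neg_neg] at h2
    exact h2
  refine le_antisymm hle fun u hu => ?_
  obtain ⟨s, hs, S, hS, rfl⟩ := su0_decomp hu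
  refine W.mul_mem ?_ (hsb S hS)
  exact uu_mem_of _ htt s hs

/-- Strong closure. -/
theorem GCa_SB {p : ℕ} [Fact p.Prime] [CharP K p] (hm : 2 ≤ m) (hex : m = 2 → 3 ≤ Fintype.card K) : GCa (SB m K) := by
  intro T hT hcl
  by_cases hb : T = ⊥
  · exact Or.inl hb
  right
  set W : Subgroup (symplecticGroup (Fin m) K) := T.comap (prS m K) ⊓ SU0 m K with hW
  have hle : W ≤ SU0 m K := inf_le_right
  have cl : ClS W := by
    intro u hu g hg
    refine ⟨?_, hg⟩
    have h1 : prS m K u ∈ T := hu.1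
    have h2 : prS m K g * prS m K u * (prS m K g)⁻¹ ∈ SB m K := by
      refine ⟨_, hg, ?_⟩
      rw [map_mul, map_mul, map_inv]
    have h3 := hcl _ h1 _ h2
    show prS m K (g * u * g⁻¹) ∈ T
    rw [map_mul, map_mul, map_inv]
    exact h3
  have hW1 : W ≠ ⊥ := by
    intro h
    apply hb
    rw [eq_bot_iff]
    intro t ht
    obtain ⟨u, hu, rfl⟩ := hT ht
    have h1 : u ∈ W := ⟨ht, hu⟩
    rw [h] at h1
    rw [Subgroup.mem_bot.1 h1, map_one]
    exact Subgroup.one_mem _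
  have h := W_eq (p := p) hm hex hle cl hW1
  refine le_antisymm hT ?_
  rintro _ ⟨u, hu, rfl⟩
  rw [← h] at hu
  exact hu.1

end Cfsg.Agent.H25
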