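import Cfsg.Agent.Lib.H25.SimSp10
set_option autoImplicit false
set_option linter.style.haveILetI false

/-! The fusion system of `PSp_{2m}(F)` in the defining characteristic: the Sylow subgroup and the theorem. -/

namespace Cfsg.Agent.H25

open Cfsg Cfsg.FusionSystem Matrix
open scoped MatrixGroups

variable {K : Type*} [Field K] [Fintype K] {m : ℕ}

theorem scalar_central (z : symplecticGroup (Fin m) K) (c : K) (hz : (z : Matrix (Ix m) (Ix m) K) = c • 1) :
    z ∈ Subgroup.center (symplecticGroup (Fin m) K) := by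
  refine Subgroup.mem_center_iff.2 fun x => Subtype.ext ?_
  show (x : Matrix (Ix m) (Ix m) K) * (z : Matrix (Ix m) (Ix m) K) = (z : Matrix (Ix m) (Ix m) K) * (x : Matrix (Ix m) (Ix m) K)
  rw [hz, Matrix.mul_smul, Matrix.smul_mul, Matrix.mul_one, Matrix.one_mul]

theorem frob_inj {p : ℕ} [Fact p.Prime] [CharP K p] (k : ℕ) {x y : K} (h : x ^ p ^ k = y ^ p ^ k) : x = y := by
  haveI : ExpChar K p := ExpChar.prime Fact.out
  apply (iterateFrobenius K p k).injective
  rw [iterateFrobenius_def, iterateFrobenius_def, h]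

theorem SB_eq_sylow {p : ℕ} [Fact p.Prime] [CharP K p] (hm : 2 ≤ m) (Q : Sylow p (Cfsg.PSp m K))
    (hQ : SB m K ≤ (Q : Subgroup (Cfsg.PSp m K))) : (Q : Subgroup (Cfsg.PSp m K)) = SB m K := by
  classical
  have hm0 : 0 < m := by omega
  by_contra hne
  have hp := Cfsg.Agent.H24.sylow_isPGroup Q
  haveI : Finite (Q : Subgroup (Cfsg.PSp m K)) := inferInstance
  obtain ⟨g, hg, hgn⟩ := exists_normalizer_not_mem hp hQ (Ne.symm hne)
  obtain ⟨hgQ, hgN⟩ := mem_normalizerIn.1 hg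
  obtain ⟨s, rfl⟩ : ∃ s, prS m K s = g := QuotientGroup.mk_surjective g
  have hup : UpM (s : Matrix (Ix m) (Ix m) K) := by
    refine upM_of_conj s (fun i j hij => ?_) (fun i => ?_)
    · exact conj_root_SU0 hm0 hgN (levS_mem_SU0 (Cfsg.Agent.Lead.AutPSL.transvection_mem_UU hij 1)) (levS_tt_sq _ _)
    · exact conj_root_SU0 hm0 hgN (sb_mem_SU0 _ _) (sb_single_sq _ _ _)
  obtain ⟨d, u, hu, e⟩ := exists_tor_uni s hup
  apply hgn
  have htd : prS m K (tor d) ∈ (Q : Subgroup (Cfsg.PSp m K)) := by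
    have h1 : tor d = s * u⁻¹ := by rw [e]; group
    rw [h1, map_mul, map_inv]
    exact Q.mul_mem hgQ (Q.inv_mem (hQ ⟨u, hu, rfl⟩))
  obtain ⟨k, hk⟩ := hp ⟨prS m K (tor d), htd⟩
  have hk' : (prS m K (tor d)) ^ p ^ k = 1 := congrArg Subtype.val hk
  rw [← map_pow] at hk'
  have hcen : (tor d) ^ p ^ k ∈ Subgroup.center (symplecticGroup (Fin m) K) := (QuotientGroup.eq_one_iff _).1 hk'
  obtain ⟨c, hc⟩ := center_scalar hm0 hcen
  rw [← map_pow, tor_coe] at hc
  have hent : ∀ a, dv (d ^ p ^ k) a = c := by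
    intro a
    have := congrFun (congrFun hc a) a
    simpa using this
  have h1 : ∀ i, ((d i : K)) ^ p ^ k = c := by
    intro i
    have := hent (Sum.inl i)
    simpa [dv] using this
  have h2 : ∀ i, (((d i)⁻¹ : Kˣ) : K) ^ p ^ k = c := by
    intro i
    have := hent (Sum.inr i)
    simpa [dv] using this
  set i₀ : Fin m := ⟨0, hm0⟩ with hi₀
  have h3 : ∀ i, (d i : K) = d i₀ := fun i => frob_inj (p := p) k ((h1 i).trans (h1 i₀).symm)
  have h4 : ∀ i, (((d i)⁻¹ : Kˣ) : K) = d i₀ := fun i => frob_inj (p := p) k ((h2 i).trans (h1 i₀).symm)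
  have hsc : (tor d : Matrix (Ix m) (Ix m) K) = (d i₀ : K) • 1 := by
    rw [tor_coe]
    ext a b
    rw [Matrix.smul_apply, smul_eq_mul]
    by_cases hab : a = b
    · subst hab
      rw [Matrix.diagonal_apply_eq, Matrix.one_apply_eq, mul_one]
      rcases a with a | a
      · exact h3 a
      · exact h4 a
    · rw [Matrix.diagonal_apply_ne _ hab, Matrix.one_apply_ne hab, mul_zero]
  have hcen2 := scalar_central (tor d) _ hsc
  have h5 : prS m K (tor d) = 1 := (QuotientGroup.eq_one_iff _).2 hcen2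
  rw [e, map_mul, h5, one_mul]
  exact ⟨u, hu, rfl⟩

theorem SB_ne_bot (hm : 0 < m) : SB m K ≠ ⊥ := by
  intro h
  set i₀ : Fin m := ⟨0, hm⟩ with hi₀
  have h1 : prS m K (sb (Matrix.single i₀ i₀ 1) (single_symm_diag i₀ 1)) ∈ SB m K := ⟨_, sb_mem_SU0 _ _, rfl⟩
  rw [h] at h1
  have h2 : prS m K (sb (Matrix.single i₀ i₀ (1 : K)) (single_symm_diag i₀ 1)) = prS m K 1 := by
    rw [Subgroup.mem_bot.1 h1, map_one]
  obtain ⟨c, hc⟩ := eq_scalar_of_prS hm h2.symm
  have h3 := congrFun (congrFun hc (Sum.inl i₀)) (Sum.inr i₀)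
  rw [sb_coe] at h3
  simp at h3

/-- The theorem. -/
theorem psp_char_simple {p : ℕ} [Fact p.Prime] [CharP K p] (hm : 2 ≤ m) (hex : m = 2 → 3 ≤ Fintype.card K)
    (S : Sylow p (Cfsg.PSp m K)) : (groupFusionSystem (S : Subgroup (Cfsg.PSp m K))).IsSimple p := by
  have hm0 : 0 < m := by omega
  obtain ⟨Q, hQ⟩ := (SB_isPGroup (p := p) (m := m) (K := K) hm0).exists_le_sylow
  have hQ' := SB_eq_sylow hm Q hQ
  have hchar : (p : K) = 0 := CharP.cast_eq_zero K p
  refine simple_of_crit_conj Q S ?_ ?_ ?_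
  · rw [hQ']
    exact SB_ne_bot hm0
  · rw [hQ']
    exact GCa_SB (p := p) hm hex
  · rw [hQ']
    exact GCb_SB hchar hm

end Cfsg.Agent.H25
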