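import Cfsg.Agent.Lib.H25.SimSp1
set_option autoImplicit false
set_option linter.style.haveILetI false

/-! The fusion system of `PSp_{2m}(F)` in the defining characteristic: block elements. -/

namespace Cfsg.Agent.H25

open Cfsg Matrix
open scoped MatrixGroups

variable {K : Type*} [Field K] {m : ℕ}

theorem mem_sp_block {A B C D : Matrix (Fin m) (Fin m) K} (h1 : B * Aᵀ = A * Bᵀ) (h2 : A * Dᵀ - B * Cᵀ = 1)
    (h3 : D * Aᵀ - C * Bᵀ = 1) (h4 : D * Cᵀ = C * Dᵀ) : fromBlocks A B C D ∈ symplecticGroup (Fin m) K := by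
  rw [SymplecticGroup.mem_iff, J, fromBlocks_multiply, fromBlocks_transpose, fromBlocks_multiply]
  simp only [Matrix.mul_zero, zero_add, Matrix.mul_one, Matrix.mul_neg, add_zero]
  have e1 : B * Aᵀ + -A * Bᵀ = 0 := by rw [h1, Matrix.neg_mul]; abel
  have e2 : B * Cᵀ + -A * Dᵀ = -1 := by
    rw [Matrix.neg_mul, ← h2]; abel
  have e3 : D * Aᵀ + -C * Bᵀ = 1 := by
    rw [Matrix.neg_mul, ← h3]; abel
  have e4 : D * Cᵀ + -C * Dᵀ = 0 := by rw [h4, Matrix.neg_mul]; abel
  rw [e1, e2, e3, e4]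

theorem sp_blocks_of_mem {A B C D : Matrix (Fin m) (Fin m) K} (h : fromBlocks A B C D ∈ symplecticGroup (Fin m) K) :
    B * Aᵀ = A * Bᵀ ∧ A * Dᵀ - B * Cᵀ = 1 ∧ D * Aᵀ - C * Bᵀ = 1 ∧ D * Cᵀ = C * Dᵀ := by
  rw [SymplecticGroup.mem_iff, J, fromBlocks_multiply, fromBlocks_transpose, fromBlocks_multiply] at h
  simp only [Matrix.mul_zero, zero_add, Matrix.mul_one, Matrix.mul_neg, add_zero] at h
  obtain ⟨e1, e2, e3, e4⟩ := fromBlocks_inj.1 h
  rw [Matrix.neg_mul] at e1 e2 e3 e4
  refine ⟨?_, ?_, ?_, ?_⟩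
  · exact add_neg_eq_zero.1 e1
  · have : A * Dᵀ - B * Cᵀ = -(B * Cᵀ + -(A * Dᵀ)) := by abel
    rw [this, e2, neg_neg]
  · have : D * Aᵀ - C * Bᵀ = D * Aᵀ + -(C * Bᵀ) := by abel
    rw [this, e3]
  · exact add_neg_eq_zero.1 e4

/-- The upper block element. -/
def sb (S : Matrix (Fin m) (Fin m) K) (hS : Sᵀ = S) : symplecticGroup (Fin m) K :=
  ⟨fromBlocks 1 S 0 1, mem_sp_block (by simp [hS]) (by simp) (by simp) (by simp)⟩

/-- The lower block element. -/
def lb (S : Matrix (Fin m) (Fin m) K) (hS : Sᵀ = S) : symplecticGroup (Fin m) K :=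
  ⟨fromBlocks 1 0 S 1, mem_sp_block (by simp) (by simp) (by simp) (by simp [hS])⟩

theorem sb_coe (S : Matrix (Fin m) (Fin m) K) (hS : Sᵀ = S) :
    (sb S hS : Matrix (Ix m) (Ix m) K) = fromBlocks 1 S 0 1 := rfl
theorem lb_coe (S : Matrix (Fin m) (Fin m) K) (hS : Sᵀ = S) :
    (lb S hS : Matrix (Ix m) (Ix m) K) = fromBlocks 1 0 S 1 := rfl

theorem sb_mul (S S' : Matrix (Fin m) (Fin m) K) (hS : Sᵀ = S) (hS' : S'ᵀ = S') (h : (S + S')ᵀ = S + S') :
    sb S hS * sb S' hS' = sb (S + S') h := by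
  apply Subtype.ext
  show fromBlocks 1 S 0 1 * fromBlocks 1 S' 0 1 = fromBlocks 1 (S + S') 0 1
  rw [fromBlocks_multiply]
  simp [add_comm]

theorem lb_mul (S S' : Matrix (Fin m) (Fin m) K) (hS : Sᵀ = S) (hS' : S'ᵀ = S') (h : (S + S')ᵀ = S + S') :
    lb S hS * lb S' hS' = lb (S + S') h := by
  apply Subtype.ext
  show fromBlocks 1 0 S 1 * fromBlocks 1 0 S' 1 = fromBlocks 1 0 (S + S') 1
  rw [fromBlocks_multiply]
  simp [add_comm]

theorem sb_zero (h : (0 : Matrix (Fin m) (Fin m) K)ᵀ = 0) : sb 0 h = 1 := by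
  apply Subtype.ext
  show fromBlocks 1 0 0 1 = _
  rw [fromBlocks_one]
  rfl

theorem lb_zero (h : (0 : Matrix (Fin m) (Fin m) K)ᵀ = 0) : lb 0 h = 1 := by
  apply Subtype.ext
  show fromBlocks 1 0 0 1 = _
  rw [fromBlocks_one]
  rfl

theorem sb_pow (S : Matrix (Fin m) (Fin m) K) (hS : Sᵀ = S) (k : ℕ) (h : ((k : K) • S)ᵀ = (k : K) • S) :
    sb S hS ^ k = sb ((k : K) • S) h := by
  induction k with
  | zero =>
    simp only [pow_zero, Nat.cast_zero, zero_smul]
    rw [sb_zero]
  | succ k ih =>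
    have h1 : ((k : K) • S)ᵀ = (k : K) • S := by rw [transpose_smul, hS]
    rw [pow_succ, ih h1, sb_mul _ _ _ _ (by rw [transpose_add, h1, hS])]
    congr 1
    push_cast
    rw [add_smul, one_smul]

theorem lb_pow (S : Matrix (Fin m) (Fin m) K) (hS : Sᵀ = S) (k : ℕ) (h : ((k : K) • S)ᵀ = (k : K) • S) :
    lb S hS ^ k = lb ((k : K) • S) h := by
  induction k with
  | zero =>
    simp only [pow_zero, Nat.cast_zero, zero_smul]
    rw [lb_zero]
  | succ k ih =>
    have h1 : ((k : K) • S)ᵀ = (k : K) • S := by rw [transpose_smul, hS]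
    rw [pow_succ, ih h1, lb_mul _ _ _ _ (by rw [transpose_add, h1, hS])]
    congr 1
    push_cast
    rw [add_smul, one_smul]

/-- The Levi element. -/
def levF (B : GL (Fin m) K) : symplecticGroup (Fin m) K :=
  ⟨fromBlocks (B : Matrix (Fin m) (Fin m) K) 0 0 ((B⁻¹ : GL (Fin m) K) : Matrix (Fin m) (Fin m) K)ᵀ,
    mem_sp_block (by simp) (by
      rw [transpose_transpose, Matrix.zero_mul, sub_zero]
      exact congrArg Units.val (mul_inv_cancel B)) (by
      rw [← transpose_mul, Matrix.zero_mul, sub_zero]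
      have : ((B * B⁻¹ : GL (Fin m) K) : Matrix (Fin m) (Fin m) K) = 1 := congrArg Units.val (mul_inv_cancel B)
      rw [Units.val_mul] at this
      rw [this, transpose_one]) (by simp)⟩

theorem levF_coe (B : GL (Fin m) K) :
    (levF B : Matrix (Ix m) (Ix m) K) = fromBlocks (B : Matrix (Fin m) (Fin m) K) 0 0 ((B⁻¹ : GL (Fin m) K) : Matrix (Fin m) (Fin m) K)ᵀ := rfl

/-- The Levi homomorphism. -/
def lev : GL (Fin m) K →* symplecticGroup (Fin m) K where
  toFun := levF
  map_one' := by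
    apply Subtype.ext
    show fromBlocks _ _ _ _ = _
    simp only [inv_one, Units.val_one, transpose_one, fromBlocks_one]
    rfl
  map_mul' B C := by
    apply Subtype.ext
    show fromBlocks _ _ _ _ = (levF B : Matrix (Ix m) (Ix m) K) * (levF C : Matrix (Ix m) (Ix m) K)
    rw [levF_coe, levF_coe, fromBlocks_multiply]
    simp only [Matrix.mul_zero, Matrix.zero_mul, add_zero, zero_add, _root_.mul_inv_rev, Units.val_mul, transpose_mul]

theorem lev_coe (B : GL (Fin m) K) :
    (lev B : Matrix (Ix m) (Ix m) K) = fromBlocks (B : Matrix (Fin m) (Fin m) K) 0 0 ((B⁻¹ : GL (Fin m) K) : Matrix (Fin m) (Fin m) K)ᵀ := rfl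

/-- The Levi action on symmetric matrices. -/
theorem lev_mul_sb (B : GL (Fin m) K) (S : Matrix (Fin m) (Fin m) K) (hS : Sᵀ = S)
    (h : ((B : Matrix (Fin m) (Fin m) K) * S * (B : Matrix (Fin m) (Fin m) K)ᵀ)ᵀ = (B : Matrix (Fin m) (Fin m) K) * S * (B : Matrix (Fin m) (Fin m) K)ᵀ) :
    lev B * sb S hS * (lev B)⁻¹ = sb _ h := by
  rw [mul_inv_eq_iff_eq_mul]
  apply Subtype.ext
  show (lev B : Matrix (Ix m) (Ix m) K) * (sb S hS : Matrix (Ix m) (Ix m) K) = (sb _ h : Matrix (Ix m) (Ix m) K) * (lev B : Matrix (Ix m) (Ix m) K)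
  rw [lev_coe, sb_coe, sb_coe, fromBlocks_multiply, fromBlocks_multiply]
  simp only [Matrix.mul_zero, Matrix.zero_mul, add_zero, zero_add, Matrix.mul_one, Matrix.one_mul]
  congr 1
  have : (B : Matrix (Fin m) (Fin m) K)ᵀ * ((B⁻¹ : GL (Fin m) K) : Matrix (Fin m) (Fin m) K)ᵀ = 1 := by
    rw [← transpose_mul]
    have : ((B⁻¹ * B : GL (Fin m) K) : Matrix (Fin m) (Fin m) K) = 1 := congrArg Units.val (inv_mul_cancel B)
    rw [Units.val_mul] at this
    rw [this, transpose_one]
  rw [Matrix.mul_assoc, this, Matrix.mul_one]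

/-- The transpose of a symmetric congruence. -/
theorem congr_symm (B S : Matrix (Fin m) (Fin m) K) (hS : Sᵀ = S) : (B * S * Bᵀ)ᵀ = B * S * Bᵀ := by
  rw [transpose_mul, transpose_mul, transpose_transpose, hS, Matrix.mul_assoc]

/-- The Weyl element at `j`. -/
def wq (j : Fin m) : symplecticGroup (Fin m) K :=
  ⟨fromBlocks (1 - Matrix.single j j 1) (-Matrix.single j j 1) (Matrix.single j j 1) (1 - Matrix.single j j 1), by
    have hE : (Matrix.single j j (1 : K))ᵀ = Matrix.single j j 1 := by simp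
    have hEE : Matrix.single j j (1 : K) * Matrix.single j j 1 = Matrix.single j j 1 := by simp
    apply mem_sp_block
    · simp only [transpose_neg, transpose_sub, transpose_one, hE, Matrix.neg_mul, Matrix.mul_neg, Matrix.mul_sub,
        Matrix.sub_mul, Matrix.mul_one, Matrix.one_mul, hEE]
      abel
    · simp only [transpose_neg, transpose_sub, transpose_one, hE, Matrix.neg_mul, Matrix.mul_neg, Matrix.mul_sub,
        Matrix.sub_mul, Matrix.mul_one, Matrix.one_mul, hEE]
      abel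
    · simp only [transpose_neg, transpose_sub, transpose_one, hE, Matrix.neg_mul, Matrix.mul_neg, Matrix.mul_sub,
        Matrix.sub_mul, Matrix.mul_one, Matrix.one_mul, hEE]
      abel
    · simp only [transpose_neg, transpose_sub, transpose_one, hE, Matrix.neg_mul, Matrix.mul_neg, Matrix.mul_sub,
        Matrix.sub_mul, Matrix.mul_one, Matrix.one_mul, hEE]⟩

theorem wq_coe (j : Fin m) : ((wq j : symplecticGroup (Fin m) K) : Matrix (Ix m) (Ix m) K) =
    fromBlocks (1 - Matrix.single j j 1) (-Matrix.single j j 1) (Matrix.single j j 1) (1 - Matrix.single j j 1) := rfl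

/-- The Levi image of a special linear element. -/
noncomputable def levS : SpecialLinearGroup (Fin m) K →* symplecticGroup (Fin m) K :=
  lev.comp SpecialLinearGroup.toGL

theorem levS_coe (s : SpecialLinearGroup (Fin m) K) :
    (levS s : Matrix (Ix m) (Ix m) K) = fromBlocks (s : Matrix (Fin m) (Fin m) K) 0 0 ((s⁻¹ : SpecialLinearGroup (Fin m) K) : Matrix (Fin m) (Fin m) K)ᵀ := by
  show (lev (SpecialLinearGroup.toGL s) : Matrix (Ix m) (Ix m) K) = _
  rw [lev_coe, ← map_inv]
  rfl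

/-- Conjugating with the Weyl element. -/
theorem wq_conj_sb [Fintype K] {i j : Fin m} (hij : i ≠ j) (t : K) (hS : (Matrix.single i j t + Matrix.single j i t)ᵀ = Matrix.single i j t + Matrix.single j i t) :
    wq j * sb (Matrix.single i j t + Matrix.single j i t) hS * (wq j)⁻¹ =
      levS (SpecialLinearGroup.transvection hij (-t)) := by
  rw [mul_inv_eq_iff_eq_mul]
  apply Subtype.ext
  show ((wq j : symplecticGroup (Fin m) K) : Matrix (Ix m) (Ix m) K) * (sb _ hS : Matrix (Ix m) (Ix m) K) = (levS (SpecialLinearGroup.transvection hij (-t)) : Matrix (Ix m) (Ix m) K) * ((wq j : symplecticGroup (Fin m) K) : Matrix (Ix m) (Ix m) K)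
  rw [wq_coe, sb_coe, levS_coe, tt_inv, SpecialLinearGroup.transvection_coe, SpecialLinearGroup.transvection_coe,
    fromBlocks_multiply, fromBlocks_multiply]
  have e5 : Matrix.single i j (-t) = -Matrix.single i j t := by
    ext a b
    simp [Matrix.single_apply]
    split_ifs <;> simp
  have e6 : Matrix.single j i (- -t) = Matrix.single j i t := by rw [neg_neg]
  have e7 : (1 + Matrix.single i j (- -t))ᵀ = 1 + Matrix.single j i t := by
    rw [neg_neg, transpose_add, transpose_one, Matrix.transpose_single]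
  rw [e7, e5]
  set X := Matrix.single i j t with hX
  set Y := Matrix.single j i t with hY
  set E := Matrix.single j j (1 : K) with hE
  have e1 : E * X = 0 := Matrix.single_mul_single_of_ne _ _ _ _ hij.symm _
  have e2 : E * Y = Y := by simp [hE, hY]
  have e3 : X * E = X := by simp [hE, hX]
  have e4 : Y * E = 0 := Matrix.single_mul_single_of_ne _ _ _ _ hij _
  simp only [Matrix.mul_add, Matrix.add_mul, Matrix.mul_sub, Matrix.sub_mul,
    Matrix.mul_one, Matrix.one_mul, Matrix.mul_zero, Matrix.zero_mul, add_zero, zero_add, e1, e2, e3, e4, Matrix.neg_mul,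
    Matrix.mul_neg, neg_zero, sub_zero, transpose_zero, transpose_one]
  congr 1
  · abel
  · abel
  · abel

end Cfsg.Agent.H25
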