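import Cfsg.Agent.Lib.H25.SimSp3
set_option autoImplicit false
set_option linter.style.haveILetI false

/-! The fusion system of `PSp_{2m}(F)` in the defining characteristic: the torus and the structure of the unipotent group. -/

namespace Cfsg.Agent.H25

open Cfsg Matrix
open scoped MatrixGroups

variable {K : Type*} [Field K] {m : ℕ}

/-- Diagonal units. -/
def dgU : (Fin m → Kˣ) →* GL (Fin m) K where
  toFun d := ⟨diagonal (fun i => (d i : K)), diagonal (fun i => (((d i)⁻¹ : Kˣ) : K)), by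
      rw [diagonal_mul_diagonal]; simp, by
      rw [diagonal_mul_diagonal]; simp⟩
  map_one' := by
    apply Units.ext
    simp
  map_mul' a b := by
    apply Units.ext
    simp [diagonal_mul_diagonal]

/-- The torus. -/
def tor : (Fin m → Kˣ) →* symplecticGroup (Fin m) K := lev.comp dgU

/-- The diagonal entries of a torus element. -/
def dv (d : Fin m → Kˣ) : Ix m → K
  | .inl i => (d i : K)
  | .inr i => (((d i)⁻¹ : Kˣ) : K)

theorem tor_coe (d : Fin m → Kˣ) : (tor d : Matrix (Ix m) (Ix m) K) = diagonal (dv d) := by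
  show (lev (dgU d) : Matrix (Ix m) (Ix m) K) = _
  rw [lev_coe]
  show fromBlocks (diagonal fun i => (d i : K)) 0 0 (diagonal (fun i => (((d i)⁻¹ : Kˣ) : K)))ᵀ = _
  rw [diagonal_transpose, fromBlocks_diagonal]
  congr 1
  ext a
  rcases a with a | a <;> rfl

theorem tor_inv_coe (d : Fin m → Kˣ) : (((tor d)⁻¹ : symplecticGroup (Fin m) K) : Matrix (Ix m) (Ix m) K) = diagonal (dv d⁻¹) := by
  rw [← map_inv, tor_coe]

theorem dv_mul_inv (d : Fin m → Kˣ) (a : Ix m) : dv d a * dv d⁻¹ a = 1 := by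
  rcases a with a | a
  · simp [dv]
  · simp [dv]

theorem upM_diagonal (v : Ix m → K) : UpM (diagonal v) := by
  intro a b h
  apply Matrix.diagonal_apply_ne
  rintro rfl
  exact lt_irrefl _ h

section F
variable [Fintype K]

theorem tor_conj_SU0 (d : Fin m → Kˣ) {u : symplecticGroup (Fin m) K} (hu : u ∈ SU0 m K) :
    tor d * u * (tor d)⁻¹ ∈ SU0 m K := by
  have hU : UniM (u : Matrix (Ix m) (Ix m) K) := hu
  rw [mem_SU0]
  show UniM ((tor d : Matrix (Ix m) (Ix m) K) * (u : Matrix (Ix m) (Ix m) K) * (((tor d)⁻¹ : symplecticGroup (Fin m) K) : Matrix (Ix m) (Ix m) K))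
  rw [tor_coe, tor_inv_coe]
  refine ⟨upM_mul (upM_mul (upM_diagonal _) hU.1) (upM_diagonal _), fun a => ?_⟩
  rw [diag_mul_up (upM_mul (upM_diagonal _) hU.1) (upM_diagonal _), diag_mul_up (upM_diagonal _) hU.1, hU.2,
    Matrix.diagonal_apply_eq, Matrix.diagonal_apply_eq, mul_one, dv_mul_inv]

/-- Decomposition of an upper triangular element. -/
theorem exists_tor_uni (b : symplecticGroup (Fin m) K) (hb : UpM (b : Matrix (Ix m) (Ix m) K)) :
    ∃ d : Fin m → Kˣ, ∃ u ∈ SU0 m K, b = tor d * u := by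
  obtain ⟨A, B, C, D, hbe⟩ : ∃ A B C D, (b : Matrix (Ix m) (Ix m) K) = fromBlocks A B C D :=
    ⟨_, _, _, _, (fromBlocks_toBlocks _).symm⟩
  rw [hbe] at hb
  obtain ⟨hC, hA, hD⟩ := blocks_of_uni hb
  subst hC
  have hmem : fromBlocks A B 0 D ∈ symplecticGroup (Fin m) K := hbe ▸ b.2
  obtain ⟨-, h2, -, -⟩ := sp_blocks_of_mem hmem
  rw [transpose_zero, Matrix.mul_zero, sub_zero] at h2
  have hdiag : ∀ i, A i i * D i i = 1 := by
    intro i
    have h3 := congrFun (congrFun h2 i) i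
    rw [Matrix.mul_apply, Finset.sum_eq_single i, Matrix.one_apply_eq, transpose_apply] at h3
    · exact h3
    · intro j _ hj
      rcases lt_or_gt_of_ne hj with h4 | h4
      · rw [hA i j h4, zero_mul]
      · rw [transpose_apply, hD i j h4, mul_zero]
    · simp
  have hne : ∀ i, A i i ≠ 0 := fun i h => by
    have := hdiag i
    rw [h, zero_mul] at this
    exact zero_ne_one this
  set d : Fin m → Kˣ := fun i => Units.mk0 (A i i) (hne i) with hd
  refine ⟨d, (tor d)⁻¹ * b, ?_, by group⟩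
  have hbU : UpM (b : Matrix (Ix m) (Ix m) K) := by rw [hbe]; exact hb
  rw [mem_SU0]
  show UniM ((((tor d)⁻¹ : symplecticGroup (Fin m) K) : Matrix (Ix m) (Ix m) K) * (b : Matrix (Ix m) (Ix m) K))
  rw [tor_inv_coe]
  refine ⟨upM_mul (upM_diagonal _) hbU, fun a => ?_⟩
  rw [diag_mul_up (upM_diagonal _) hbU, Matrix.diagonal_apply_eq, hbe]
  rcases a with a | a
  · show (((d a)⁻¹ : Kˣ) : K) * A a a = 1
    simp [hd, Units.mk0, hne a]
  · show (d a : K) * D a a = 1
    exact hdiag a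

/-- The structure of the unipotent group. -/
theorem su0_decomp {u : symplecticGroup (Fin m) K} (hu : u ∈ SU0 m K) :
    ∃ s ∈ Cfsg.Agent.Lead.AutPSL.UU m K, ∃ (S : Matrix (Fin m) (Fin m) K) (hS : Sᵀ = S), u = levS s * sb S hS := by
  have hU : UniM (u : Matrix (Ix m) (Ix m) K) := hu
  obtain ⟨A, B, C, D, hbe⟩ : ∃ A B C D, (u : Matrix (Ix m) (Ix m) K) = fromBlocks A B C D :=
    ⟨_, _, _, _, (fromBlocks_toBlocks _).symm⟩
  have hU' := hU
  rw [hbe] at hU'
  obtain ⟨hC, hA, -⟩ := blocks_of_uni hU'.1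
  subst hC
  have hA1 : ∀ i, A i i = 1 := fun i => hU'.2 (Sum.inl i)
  have hmem : fromBlocks A B 0 D ∈ symplecticGroup (Fin m) K := hbe ▸ u.2
  obtain ⟨h1, h2, -, -⟩ := sp_blocks_of_mem hmem
  rw [transpose_zero, Matrix.mul_zero, sub_zero] at h2
  have h2' : Dᵀ * A = 1 := mul_eq_one_comm.1 h2
  have h2'' : Aᵀ * D = 1 := by
    have := congrArg Matrix.transpose h2'
    rwa [transpose_mul, transpose_transpose, transpose_one] at this
  have hdetA : A.det = 1 := by
    rw [Matrix.det_of_upperTriangular (fun i j hij => hA i j hij)]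
    simp [hA1]
  have hdetD : (Dᵀ).det = 1 := by
    have := congrArg Matrix.det h2
    rwa [Matrix.det_mul, Matrix.det_one, hdetA, one_mul] at this
  set s : SpecialLinearGroup (Fin m) K := ⟨A, hdetA⟩ with hs
  set t : SpecialLinearGroup (Fin m) K := ⟨Dᵀ, hdetD⟩ with ht
  have hst : s⁻¹ = t := by
    apply inv_eq_of_mul_eq_one_right
    apply Subtype.ext
    exact h2
  have hsU : s ∈ Cfsg.Agent.Lead.AutPSL.UU m K := by
    intro i j hij
    rcases lt_or_eq_of_le hij with h | h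
    · rw [Matrix.one_apply_ne (ne_of_gt h)]
      exact hA i j h
    · subst h
      rw [Matrix.one_apply_eq]
      exact hA1 j
  have hS : (Dᵀ * B)ᵀ = Dᵀ * B := by
    rw [transpose_mul, transpose_transpose]
    calc Bᵀ * D = (Dᵀ * A) * Bᵀ * D := by rw [h2', Matrix.one_mul]
      _ = Dᵀ * (A * Bᵀ) * D := by simp only [Matrix.mul_assoc]
      _ = Dᵀ * (B * Aᵀ) * D := by rw [h1]
      _ = Dᵀ * B * (Aᵀ * D) := by simp only [Matrix.mul_assoc]
      _ = Dᵀ * B := by rw [h2'', Matrix.mul_one]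
  refine ⟨s, hsU, _, hS, ?_⟩
  apply Subtype.ext
  show (u : Matrix (Ix m) (Ix m) K) = (levS s : Matrix (Ix m) (Ix m) K) * (sb _ hS : Matrix (Ix m) (Ix m) K)
  rw [levS_coe, hst, sb_coe, hbe, fromBlocks_multiply]
  simp only [Matrix.mul_one, Matrix.mul_zero, Matrix.zero_mul, add_zero, zero_add, Matrix.one_mul]
  show fromBlocks A B 0 D = fromBlocks A (A * (Dᵀ * B)) 0 (Dᵀ)ᵀ
  rw [← Matrix.mul_assoc, h2, Matrix.one_mul, transpose_transpose]

/-- Quotient map. -/
abbrev prS (m : ℕ) (K : Type*) [Field K] : symplecticGroup (Fin m) K →* Cfsg.PSp m K :=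
  QuotientGroup.mk' (Subgroup.center (symplecticGroup (Fin m) K))

/-- The image of the unipotent group. -/
noncomputable def SB (m : ℕ) (K : Type*) [Field K] [Fintype K] : Subgroup (Cfsg.PSp m K) := (SU0 m K).map (prS m K)

theorem eq_scalar_of_prS {a b : symplecticGroup (Fin m) K} (hm : 0 < m) (h : prS m K a = prS m K b) :
    ∃ c : K, (b : Matrix (Ix m) (Ix m) K) = c • (a : Matrix (Ix m) (Ix m) K) := by
  have h1 : a⁻¹ * b ∈ Subgroup.center (symplecticGroup (Fin m) K) := QuotientGroup.eq.mp h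
  obtain ⟨c, hc⟩ := center_scalar hm h1
  refine ⟨c, ?_⟩
  have h3 : b = a * (a⁻¹ * b) := by group
  have h4 : (b : Matrix (Ix m) (Ix m) K) = (a : Matrix (Ix m) (Ix m) K) * ((a⁻¹ * b : symplecticGroup (Fin m) K) : Matrix (Ix m) (Ix m) K) := by
    conv_lhs => rw [h3]
    rfl
  rw [h4, hc, Matrix.mul_smul, Matrix.mul_one]

/-- A "unipotent" element with the same image as an element of `SU0`. -/
theorem eq_of_prS_uni (hm : 0 < m) {u W : symplecticGroup (Fin m) K} (hu : u ∈ SU0 m K)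
    (hW : ((W : Matrix (Ix m) (Ix m) K) - 1) * ((W : Matrix (Ix m) (Ix m) K) - 1) = 0) (h : prS m K u = prS m K W) : W = u := by
  obtain ⟨c, hc⟩ := eq_scalar_of_prS hm h
  have hU : UniM (u : Matrix (Ix m) (Ix m) K) := hu
  set a₀ : Ix m := Sum.inl ⟨0, hm⟩ with ha₀
  have hent : ∀ a b, (W : Matrix (Ix m) (Ix m) K) a b = c * (u : Matrix (Ix m) (Ix m) K) a b := by
    intro a b
    rw [hc]
    rfl
  have h5 := congrFun (congrFun hW a₀) a₀
  rw [Matrix.mul_apply, Finset.sum_eq_single a₀] at h5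
  · have h6 : ((W : Matrix (Ix m) (Ix m) K) - 1) a₀ a₀ = c - 1 := by
      rw [Matrix.sub_apply, hent, hU.2, Matrix.one_apply_eq, mul_one]
    rw [h6] at h5
    have h7 : (c - 1) * (c - 1) = 0 := h5
    have h8 : c = 1 := by
      have := mul_self_eq_zero.1 h7
      linear_combination this
    subst h8
    apply Subtype.ext
    rw [hc, one_smul]
  · intro k _ hk
    have hlt : rk a₀ < rk k := by
      have h9 : rk k ≠ rk a₀ := fun e => hk (rk_inj e)
      simp only [ha₀, rk_inl] at h9 ⊢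
      omega
    have h9 : ((W : Matrix (Ix m) (Ix m) K) - 1) k a₀ = 0 := by
      rw [Matrix.sub_apply, hent, hU.1 k a₀ hlt, Matrix.one_apply_ne (fun e => hk e)]
      ring
    rw [h9, mul_zero]
  · simp

/-- Conjugates of "square-zero" elements stay square-zero. -/
theorem conj_sq_zero {x g : symplecticGroup (Fin m) K}
    (hx : ((x : Matrix (Ix m) (Ix m) K) - 1) * ((x : Matrix (Ix m) (Ix m) K) - 1) = 0) :
    (((g * x * g⁻¹ : symplecticGroup (Fin m) K) : Matrix (Ix m) (Ix m) K) - 1) * (((g * x * g⁻¹ : symplecticGroup (Fin m) K) : Matrix (Ix m) (Ix m) K) - 1) = 0 := by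
  have h1 : ((g * x * g⁻¹ : symplecticGroup (Fin m) K) : Matrix (Ix m) (Ix m) K) - 1 =
      (g : Matrix (Ix m) (Ix m) K) * ((x : Matrix (Ix m) (Ix m) K) - 1) * ((g⁻¹ : symplecticGroup (Fin m) K) : Matrix (Ix m) (Ix m) K) := by
    have h2 : (g : Matrix (Ix m) (Ix m) K) * ((g⁻¹ : symplecticGroup (Fin m) K) : Matrix (Ix m) (Ix m) K) = 1 :=
      congrArg Subtype.val (mul_inv_cancel g)
    show (g : Matrix (Ix m) (Ix m) K) * (x : Matrix (Ix m) (Ix m) K) * ((g⁻¹ : symplecticGroup (Fin m) K) : Matrix (Ix m) (Ix m) K) - 1 = _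
    rw [Matrix.mul_sub, Matrix.sub_mul, Matrix.mul_one, h2]
  have h3 : ((g⁻¹ : symplecticGroup (Fin m) K) : Matrix (Ix m) (Ix m) K) * (g : Matrix (Ix m) (Ix m) K) = 1 :=
    congrArg Subtype.val (inv_mul_cancel g)
  rw [h1]
  calc _ = (g : Matrix (Ix m) (Ix m) K) * ((x : Matrix (Ix m) (Ix m) K) - 1) * (((g⁻¹ : symplecticGroup (Fin m) K) : Matrix (Ix m) (Ix m) K) * (g : Matrix (Ix m) (Ix m) K)) * ((x : Matrix (Ix m) (Ix m) K) - 1) * ((g⁻¹ : symplecticGroup (Fin m) K) : Matrix (Ix m) (Ix m) K) := by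
        simp only [Matrix.mul_assoc]
    _ = 0 := by
      rw [h3, Matrix.mul_one, Matrix.mul_assoc (g : Matrix (Ix m) (Ix m) K), hx, Matrix.mul_zero, Matrix.zero_mul]

theorem conj_root_SU0 (hm : 0 < m) {s x : symplecticGroup (Fin m) K}
    (hs : prS m K s ∈ Subgroup.normalizer ((SB m K : Subgroup _) : Set (Cfsg.PSp m K))) (hx : x ∈ SU0 m K)
    (hx2 : ((x : Matrix (Ix m) (Ix m) K) - 1) * ((x : Matrix (Ix m) (Ix m) K) - 1) = 0) :
    s * x * s⁻¹ ∈ SU0 m K := by
  have h1 : prS m K (s * x * s⁻¹) ∈ SB m K := by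
    simp only [map_mul, map_inv]
    exact (Subgroup.mem_normalizer_iff.1 hs _).1 ⟨x, hx, rfl⟩
  obtain ⟨u', hu', he⟩ := h1
  rw [eq_of_prS_uni hm hu' (conj_sq_zero hx2) he]
  exact hu'

theorem levS_tt_sq {i j : Fin m} (hij : i ≠ j) (c : K) :
    (((levS (SpecialLinearGroup.transvection hij c) : symplecticGroup (Fin m) K) : Matrix (Ix m) (Ix m) K) - 1) *
      (((levS (SpecialLinearGroup.transvection hij c) : symplecticGroup (Fin m) K) : Matrix (Ix m) (Ix m) K) - 1) = 0 := by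
  rw [levS_tt]
  have e : (1 + Matrix.single (Sum.inl i) (Sum.inl j) c + Matrix.single (Sum.inr j) (Sum.inr i) (-c) - 1 : Matrix (Ix m) (Ix m) K) =
      Matrix.single (Sum.inl i) (Sum.inl j) c + Matrix.single (Sum.inr j) (Sum.inr i) (-c) := by
    abel
  rw [e, mul_add, add_mul, add_mul]
  rw [Matrix.single_mul_single_of_ne _ _ _ _ (by simpa using hij.symm), Matrix.single_mul_single_of_ne _ _ _ _ (by simp),
    Matrix.single_mul_single_of_ne _ _ _ _ (by simp), Matrix.single_mul_single_of_ne _ _ _ _ (by simpa using hij)]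
  simp

theorem sb_single_sq (i : Fin m) (c : K) (h : (Matrix.single i i c)ᵀ = Matrix.single i i c) :
    (((sb _ h : symplecticGroup (Fin m) K) : Matrix (Ix m) (Ix m) K) - 1) * (((sb _ h : symplecticGroup (Fin m) K) : Matrix (Ix m) (Ix m) K) - 1) = 0 := by
  rw [sb_single, add_sub_cancel_left]
  exact Matrix.single_mul_single_of_ne _ _ _ _ (by simp) _

end F

end Cfsg.Agent.H25
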