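import Cfsg.Agent.Lib.H25.SimSp4
set_option autoImplicit false
set_option linter.style.haveILetI false

/-! The fusion system of `PSp_{2m}(F)` in the defining characteristic: the radicals of the minimal parabolics. -/

namespace Cfsg.Agent.H25

open Cfsg Matrix
open scoped MatrixGroups

variable {K : Type*} [Field K] {m : ℕ}

theorem uniM_iff {M : Matrix (Ix m) (Ix m) K} : UniM M ↔ ∀ k l, rk l ≤ rk k → M k l = (1 : Matrix (Ix m) (Ix m) K) k l := by
  constructor
  · intro h k l hl
    rcases lt_or_eq_of_le hl with h1 | h1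
    · rw [h.1 k l h1, Matrix.one_apply_ne]
      rintro rfl
      exact lt_irrefl _ h1
    · have := rk_inj h1
      subst this
      rw [h.2, Matrix.one_apply_eq]
  · intro h
    refine ⟨fun a b hab => ?_, fun a => ?_⟩
    · rw [h a b hab.le, Matrix.one_apply_ne]
      rintro rfl
      exact lt_irrefl _ hab
    · rw [h a a le_rfl, Matrix.one_apply_eq]

/-- The entries of `(1 + b E_{dc}) M (1 - b E_{dc})`. -/
theorem low_conj_entry' (c d : Ix m) (hcd : c ≠ d) (b : K) (M : Matrix (Ix m) (Ix m) K) (k l : Ix m) :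
    ((1 + Matrix.single d c b) * M * (1 + Matrix.single d c (-b))) k l =
      M k l + (if k = d then b * M c l else 0) + (if l = c then (M k d + (if k = d then b * M c d else 0)) * (-b) else 0) := by
  have hA : ∀ k l, ((1 + Matrix.single d c b) * M) k l = M k l + (if k = d then b * M c l else 0) := by
    intro k l
    rw [add_mul, one_mul, Matrix.add_apply]
    congr 1
    by_cases hk : k = d
    · subst hk
      rw [Matrix.single_mul_apply_same, if_pos rfl]
    · rw [Matrix.single_mul_apply_of_ne _ _ _ _ _ hk, if_neg hk]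
  rw [mul_add, mul_one, Matrix.add_apply, hA]
  congr 1
  by_cases hl : l = c
  · subst hl
    rw [Matrix.mul_single_apply_same, if_pos rfl, hA]
  · rw [Matrix.mul_single_apply_of_ne _ _ _ _ _ hl, if_neg hl]

theorem low_conj_same {c d : Ix m} (hcd : c ≠ d) (b : K) (M : Matrix (Ix m) (Ix m) K) {k l : Ix m} (hk : k ≠ d) (hl : l ≠ c) :
    ((1 + Matrix.single d c b) * M * (1 + Matrix.single d c (-b))) k l = M k l := by
  rw [low_conj_entry' c d hcd, if_neg hk, if_neg hl]
  ring

theorem low_conj_uni {c d : Ix m} (h : rk d = rk c + 1) (b : K) {M : Matrix (Ix m) (Ix m) K} (hM : UniM M) (h0 : M c d = 0) :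
    UniM ((1 + Matrix.single d c b) * M * (1 + Matrix.single d c (-b))) := by
  have hcd : c ≠ d := by
    rintro rfl
    omega
  rw [uniM_iff]
  intro k l hl
  have hM1 := hM
  rw [uniM_iff] at hM1
  rw [low_conj_entry' c d hcd]
  by_cases hk : k = d
  · subst hk
    by_cases hlc : l = c
    · subst hlc
      rw [if_pos rfl, if_pos rfl, if_pos rfl, h0, hM.2, hM.2, hM.1 k l (by omega), Matrix.one_apply_ne hcd.symm]
      ring
    · rw [if_pos rfl, if_neg hlc, add_zero]
      by_cases hlk : l = k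
      · subst hlk
        rw [h0, hM.2, Matrix.one_apply_eq]
        ring
      · have h1 : rk l ≠ rk k := fun e => hlk (rk_inj e)
        have h2 : rk l ≠ rk c := fun e => hlc (rk_inj e)
        rw [hM.1 k l (by omega), hM.1 c l (by omega), Matrix.one_apply_ne (Ne.symm hlk)]
        ring
  · rw [if_neg hk, add_zero]
    by_cases hlc : l = c
    · subst hlc
      rw [if_pos rfl, if_neg hk, add_zero]
      by_cases hkl : k = l
      · subst hkl
        rw [h0, hM.2, Matrix.one_apply_eq]
        ring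
      · have h1 : rk k ≠ rk l := fun e => hkl (rk_inj e)
        have h2 : rk k ≠ rk d := fun e => hk (rk_inj e)
        rw [hM.1 k d (by omega), hM.1 k l (by omega), Matrix.one_apply_ne hkl]
        ring
    · rw [if_neg hlc, add_zero]
      exact hM1 k l hl

section F
variable [Fintype K]

/-- The subgroup of the unipotent group with two vanishing adjacent entries. -/
def RRs (c d c' d' : Ix m) (h : rk d = rk c + 1) (h' : rk d' = rk c' + 1) : Subgroup (symplecticGroup (Fin m) K) where
  carrier := {u | u ∈ SU0 m K ∧ (u : Matrix (Ix m) (Ix m) K) c d = 0 ∧ (u : Matrix (Ix m) (Ix m) K) c' d' = 0}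
  one_mem' := by
    have h1 : c ≠ d := by
      rintro rfl
      omega
    have h2 : c' ≠ d' := by
      rintro rfl
      omega
    exact ⟨(SU0 m K).one_mem, Matrix.one_apply_ne h1, Matrix.one_apply_ne h2⟩
  mul_mem' := by
    rintro a b ⟨ha, ha1, ha2⟩ ⟨hb, hb1, hb2⟩
    refine ⟨(SU0 m K).mul_mem ha hb, ?_, ?_⟩
    · show ((a : Matrix (Ix m) (Ix m) K) * (b : Matrix (Ix m) (Ix m) K)) c d = 0
      rw [uni_mul_adj ha hb h, ha1, hb1, add_zero]
    · show ((a : Matrix (Ix m) (Ix m) K) * (b : Matrix (Ix m) (Ix m) K)) c' d' = 0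
      rw [uni_mul_adj ha hb h', ha2, hb2, add_zero]
  inv_mem' := by
    rintro a ⟨ha, ha1, ha2⟩
    have hai := (SU0 m K).inv_mem ha
    have key : ∀ {x y : Ix m}, rk y = rk x + 1 → (a : Matrix (Ix m) (Ix m) K) x y = 0 →
        ((a⁻¹ : symplecticGroup (Fin m) K) : Matrix (Ix m) (Ix m) K) x y = 0 := by
      intro x y hxy hz
      have hne : x ≠ y := by
        rintro rfl
        omega
      have h1 := uni_mul_adj ha hai hxy
      have h2 : (a : Matrix (Ix m) (Ix m) K) * ((a⁻¹ : symplecticGroup (Fin m) K) : Matrix (Ix m) (Ix m) K) = 1 :=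
        congrArg Subtype.val (mul_inv_cancel a)
      rw [h2, Matrix.one_apply_ne hne, hz, zero_add] at h1
      exact h1.symm
    exact ⟨hai, key h ha1, key h' ha2⟩

variable {c d c' d' : Ix m} {h : rk d = rk c + 1} {h' : rk d' = rk c' + 1}

theorem mem_RRs {u : symplecticGroup (Fin m) K} :
    u ∈ RRs c d c' d' h h' ↔ u ∈ SU0 m K ∧ (u : Matrix (Ix m) (Ix m) K) c d = 0 ∧ (u : Matrix (Ix m) (Ix m) K) c' d' = 0 := Iff.rfl

theorem RRs_conj {v u : symplecticGroup (Fin m) K} (hv : v ∈ SU0 m K) (hu : u ∈ RRs c d c' d' h h') :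
    v * u * v⁻¹ ∈ RRs c d c' d' h h' := by
  obtain ⟨hu0, hu1, hu2⟩ := hu
  have hvi := (SU0 m K).inv_mem hv
  have key : ∀ {x y : Ix m}, rk y = rk x + 1 → (u : Matrix (Ix m) (Ix m) K) x y = 0 →
      ((v * u * v⁻¹ : symplecticGroup (Fin m) K) : Matrix (Ix m) (Ix m) K) x y = 0 := by
    intro x y hxy hz
    have hne : x ≠ y := by
      rintro rfl
      omega
    have h1 := uni_mul_adj ((SU0 m K).mul_mem hv hu0) hvi hxy
    have h2 := uni_mul_adj hv hu0 hxy
    have h3 := uni_mul_adj hv hvi hxy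
    have h4 : (v : Matrix (Ix m) (Ix m) K) * ((v⁻¹ : symplecticGroup (Fin m) K) : Matrix (Ix m) (Ix m) K) = 1 :=
      congrArg Subtype.val (mul_inv_cancel v)
    rw [h4, Matrix.one_apply_ne hne] at h3
    show (((v * u : symplecticGroup (Fin m) K) : Matrix (Ix m) (Ix m) K) * ((v⁻¹ : symplecticGroup (Fin m) K) : Matrix (Ix m) (Ix m) K)) x y = 0
    rw [h1]
    have h5 : ((v * u : symplecticGroup (Fin m) K) : Matrix (Ix m) (Ix m) K) x y = (v : Matrix (Ix m) (Ix m) K) x y + (u : Matrix (Ix m) (Ix m) K) x y := h2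
    rw [h5, hz, add_zero]
    exact h3.symm
  exact ⟨(SU0 m K).mul_mem ((SU0 m K).mul_mem hv hu0) ((SU0 m K).inv_mem hv), key h hu1, key h' hu2⟩

theorem RRs_le : RRs c d c' d' h h' ≤ SU0 m K := fun _ hu => hu.1

/-- Lifting membership in a normalizer. -/
theorem prS_mem_normalizer {U' : Subgroup (symplecticGroup (Fin m) K)} {s : symplecticGroup (Fin m) K}
    (h1 : ∀ u ∈ U', s * u * s⁻¹ ∈ U') (h2 : ∀ u ∈ U', s⁻¹ * u * s ∈ U') :
    prS m K s ∈ Subgroup.normalizer ((U'.map (prS m K) : Subgroup _) : Set (Cfsg.PSp m K)) := by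
  refine mem_normalizer_of_conj ?_ ?_
  · rintro _ ⟨u, hu, rfl⟩
    exact ⟨_, h1 u hu, by simp only [map_mul, map_inv]⟩
  · rintro _ ⟨u, hu, rfl⟩
    exact ⟨_, h2 u hu, by simp only [map_mul, map_inv]⟩

theorem su0_norm_RR {v : symplecticGroup (Fin m) K} (hv : v ∈ SU0 m K) :
    prS m K v ∈ Subgroup.normalizer (((RRs c d c' d' h h').map (prS m K) : Subgroup _) : Set (Cfsg.PSp m K)) := by
  refine prS_mem_normalizer (fun u hu => RRs_conj hv hu) (fun u hu => ?_)
  have := RRs_conj ((SU0 m K).inv_mem hv) hu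
  rwa [inv_inv] at this

/-- Commuting images of unitriangular elements commute. -/
theorem comm_of_prS (hm : 0 < m) {v r : symplecticGroup (Fin m) K} (hv : v ∈ SU0 m K) (hr : r ∈ SU0 m K)
    (hc : prS m K v * prS m K r = prS m K r * prS m K v) : v * r = r * v := by
  rw [← map_mul, ← map_mul] at hc
  obtain ⟨c₀, hc₀⟩ := eq_scalar_of_prS hm hc
  have hvr : UniM ((v * r : symplecticGroup (Fin m) K) : Matrix (Ix m) (Ix m) K) := (SU0 m K).mul_mem hv hr
  have hrv : UniM ((r * v : symplecticGroup (Fin m) K) : Matrix (Ix m) (Ix m) K) := (SU0 m K).mul_mem hr hv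
  have h1 := congrFun (congrFun hc₀ (Sum.inl ⟨0, hm⟩)) (Sum.inl ⟨0, hm⟩)
  rw [Matrix.smul_apply, hrv.2, hvr.2, smul_eq_mul, mul_one] at h1
  apply Subtype.ext
  rw [hc₀, ← h1, one_smul]

/-- Commuting with a matrix unit type element. -/
theorem comm_mat {V N : Matrix (Ix m) (Ix m) K} (h : V * (1 + N) = (1 + N) * V) : V * N = N * V := by
  rw [mul_add, add_mul, mul_one, one_mul] at h
  exact add_left_cancel h

end F

end Cfsg.Agent.H25
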