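import Cfsg.Agent.Lib.H25.SimSp5
set_option autoImplicit false
set_option linter.style.haveILetI false

/-! The fusion system of `PSp_{2m}(F)` in the defining characteristic: generation. -/

namespace Cfsg.Agent.H25

open Cfsg Matrix
open scoped MatrixGroups

variable {K : Type*} [Field K] {m : ℕ}

theorem adj_l {r r' : Fin m} (hr : (r' : ℕ) = r + 1) : rk (Sum.inl r' : Ix m) = rk (Sum.inl r : Ix m) + 1 := by
  simp only [rk_inl, hr]

theorem adj_l' {r r' : Fin m} (hr : (r' : ℕ) = r + 1) : rk (Sum.inr r : Ix m) = rk (Sum.inr r' : Ix m) + 1 := by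
  simp only [rk_inr, hr]
  have := r'.2
  omega

theorem adj_t {r : Fin m} (hr : (r : ℕ) + 1 = m) : rk (Sum.inr r : Ix m) = rk (Sum.inl r : Ix m) + 1 := by
  simp only [rk_inr, rk_inl]
  omega

section F
variable [Fintype K]

/-- The radical for a short simple root. -/
abbrev RRl (K : Type*) [Field K] [Fintype K] {r r' : Fin m} (hr : (r' : ℕ) = r + 1) : Subgroup (symplecticGroup (Fin m) K) :=
  RRs (Sum.inl r) (Sum.inl r') (Sum.inr r') (Sum.inr r) (adj_l hr) (adj_l' hr)

/-- The radical for the long simple root. -/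
abbrev RRt (K : Type*) [Field K] [Fintype K] {r : Fin m} (hr : (r : ℕ) + 1 = m) : Subgroup (symplecticGroup (Fin m) K) :=
  RRs (Sum.inl r) (Sum.inr r) (Sum.inl r) (Sum.inr r) (adj_t hr) (adj_t hr)

theorem low_conj_l {r r' : Fin m} (hr : (r' : ℕ) = r + 1) (hij : r' ≠ r) (b : K) {u : symplecticGroup (Fin m) K}
    (hu : u ∈ RRl K hr) :
    levS (SpecialLinearGroup.transvection hij b) * u * (levS (SpecialLinearGroup.transvection hij b))⁻¹ ∈ RRl K hr := by
  obtain ⟨hu0, hu1, hu2⟩ := hu
  have hU : UniM (u : Matrix (Ix m) (Ix m) K) := hu0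
  set M := (u : Matrix (Ix m) (Ix m) K) with hM
  have hcd : (Sum.inl r : Ix m) ≠ Sum.inl r' := by simpa using hij.symm
  have hcd' : (Sum.inr r' : Ix m) ≠ Sum.inr r := by simpa using hij
  set M' := (1 + Matrix.single (Sum.inr r : Ix m) (Sum.inr r' : Ix m) (-b)) * M * (1 + Matrix.single (Sum.inr r : Ix m) (Sum.inr r' : Ix m) (- -b)) with hM'
  set M'' := (1 + Matrix.single (Sum.inl r' : Ix m) (Sum.inl r : Ix m) b) * M' * (1 + Matrix.single (Sum.inl r' : Ix m) (Sum.inl r : Ix m) (-b)) with hM''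
  have e : ((levS (SpecialLinearGroup.transvection hij b) * u * (levS (SpecialLinearGroup.transvection hij b))⁻¹ : symplecticGroup (Fin m) K) : Matrix (Ix m) (Ix m) K) = M'' := by
    rw [← map_inv, tt_inv]
    show (levS (SpecialLinearGroup.transvection hij b) : Matrix (Ix m) (Ix m) K) * M * (levS (SpecialLinearGroup.transvection hij (-b)) : Matrix (Ix m) (Ix m) K) = M''
    rw [levS_tt, levS_tt, hM'', hM']
    have e1 : (1 + Matrix.single (Sum.inl r' : Ix m) (Sum.inl r : Ix m) b + Matrix.single (Sum.inr r : Ix m) (Sum.inr r' : Ix m) (-b)) =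
        (1 + Matrix.single (Sum.inl r' : Ix m) (Sum.inl r : Ix m) b) * (1 + Matrix.single (Sum.inr r : Ix m) (Sum.inr r' : Ix m) (-b)) := by
      simp only [mul_add, add_mul, mul_one, one_mul]
      rw [Matrix.single_mul_single_of_ne _ _ _ _ (by simp)]
      abel
    have e2 : (1 + Matrix.single (Sum.inl r' : Ix m) (Sum.inl r : Ix m) (-b) + Matrix.single (Sum.inr r : Ix m) (Sum.inr r' : Ix m) (- -b)) =
        (1 + Matrix.single (Sum.inr r : Ix m) (Sum.inr r' : Ix m) (- -b)) * (1 + Matrix.single (Sum.inl r' : Ix m) (Sum.inl r : Ix m) (-b)) := by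
      simp only [mul_add, add_mul, mul_one, one_mul]
      rw [Matrix.single_mul_single_of_ne _ _ _ _ (by simp)]
      abel
    rw [e1, e2]
    simp only [Matrix.mul_assoc]
  have hU' : UniM M' := low_conj_uni (adj_l' hr) (-b) hU hu2
  have hc1 : M' (Sum.inl r) (Sum.inl r') = 0 := by
    rw [hM', low_conj_same hcd' (-b) M (by simp) (by simp), hu1]
  have hc2 : M' (Sum.inr r') (Sum.inr r) = 0 := by
    rw [hM', low_conj_same hcd' (-b) M (by simpa using hij) (by simpa using hij.symm), hu2]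
  have hU'' : UniM M'' := low_conj_uni (adj_l hr) b hU' hc1
  refine ⟨?_, ?_, ?_⟩
  · rw [mem_SU0, e]
    exact hU''
  · rw [e, hM'', low_conj_same hcd b M' (by simpa using hij.symm) (by simpa using hij)]
    exact hc1
  · rw [e, hM'', low_conj_same hcd b M' (by simp) (by simp)]
    exact hc2

theorem low_conj_t {r : Fin m} (hr : (r : ℕ) + 1 = m) (b : K) (h1 : (Matrix.single r r b)ᵀ = Matrix.single r r b)
    (h2 : (Matrix.single r r (-b))ᵀ = Matrix.single r r (-b)) {u : symplecticGroup (Fin m) K} (hu : u ∈ RRt K hr) :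
    lb (Matrix.single r r b) h1 * u * lb (Matrix.single r r (-b)) h2 ∈ RRt K hr := by
  obtain ⟨hu0, hu1, -⟩ := hu
  have hU : UniM (u : Matrix (Ix m) (Ix m) K) := hu0
  have hcd : (Sum.inl r : Ix m) ≠ Sum.inr r := by simp
  set M := (u : Matrix (Ix m) (Ix m) K) with hM
  have e : ((lb (Matrix.single r r b) h1 * u * lb (Matrix.single r r (-b)) h2 : symplecticGroup (Fin m) K) : Matrix (Ix m) (Ix m) K) =
      (1 + Matrix.single (Sum.inr r : Ix m) (Sum.inl r : Ix m) b) * M * (1 + Matrix.single (Sum.inr r : Ix m) (Sum.inl r : Ix m) (-b)) := by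
    show (lb (Matrix.single r r b) h1 : Matrix (Ix m) (Ix m) K) * M * (lb (Matrix.single r r (-b)) h2 : Matrix (Ix m) (Ix m) K) = _
    rw [lb_single, lb_single]
  have hU' := low_conj_uni (adj_t hr) b hU hu1
  have h3 : ((lb (Matrix.single r r b) h1 * u * lb (Matrix.single r r (-b)) h2 : symplecticGroup (Fin m) K) : Matrix (Ix m) (Ix m) K) (Sum.inl r) (Sum.inr r) = 0 := by
    rw [e, low_conj_same hcd b M (by simp) (by simp)]
    exact hu1
  refine ⟨?_, h3, h3⟩
  rw [mem_SU0, e]
  exact hU'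

theorem lb_inv (r : Fin m) (b : K) (h1 : (Matrix.single r r b)ᵀ = Matrix.single r r b)
    (h2 : (Matrix.single r r (-b))ᵀ = Matrix.single r r (-b)) : (lb (Matrix.single r r b) h1)⁻¹ = lb (Matrix.single r r (-b)) h2 := by
  apply inv_eq_of_mul_eq_one_right
  rw [lb_mul _ _ _ _ (by rw [transpose_add, h1, h2])]
  have : Matrix.single r r b + Matrix.single r r (-b) = (0 : Matrix (Fin m) (Fin m) K) := by
    rw [← Matrix.single_add, add_neg_cancel, Matrix.single_zero]
  simp only [this]
  rw [lb_zero]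

theorem sb_inv (r : Fin m) (b : K) (h1 : (Matrix.single r r b)ᵀ = Matrix.single r r b)
    (h2 : (Matrix.single r r (-b))ᵀ = Matrix.single r r (-b)) : (sb (Matrix.single r r b) h1)⁻¹ = sb (Matrix.single r r (-b)) h2 := by
  apply inv_eq_of_mul_eq_one_right
  rw [sb_mul _ _ _ _ (by rw [transpose_add, h1, h2])]
  have : Matrix.single r r b + Matrix.single r r (-b) = (0 : Matrix (Fin m) (Fin m) K) := by
    rw [← Matrix.single_add, add_neg_cancel, Matrix.single_zero]
  simp only [this]
  rw [sb_zero]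

theorem low_norm_l {r r' : Fin m} (hr : (r' : ℕ) = r + 1) (hij : r' ≠ r) (b : K) :
    prS m K (levS (SpecialLinearGroup.transvection hij b)) ∈
      Subgroup.normalizer (((RRl K hr).map (prS m K) : Subgroup _) : Set (Cfsg.PSp m K)) := by
  refine prS_mem_normalizer (fun u hu => low_conj_l hr hij b hu) (fun u hu => ?_)
  have := low_conj_l hr hij (-b) hu
  rw [← tt_inv, map_inv, inv_inv] at this
  exact this

theorem low_norm_t {r : Fin m} (hr : (r : ℕ) + 1 = m) (b : K) (h1 : (Matrix.single r r b)ᵀ = Matrix.single r r b) :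
    prS m K (lb (Matrix.single r r b) h1) ∈
      Subgroup.normalizer (((RRt K hr).map (prS m K) : Subgroup _) : Set (Cfsg.PSp m K)) := by
  have h2 : (Matrix.single r r (-b))ᵀ = Matrix.single r r (-b) := single_symm_diag r _
  have h3 : (Matrix.single r r (- -b))ᵀ = Matrix.single r r (- -b) := single_symm_diag r _
  refine prS_mem_normalizer (fun u hu => ?_) (fun u hu => ?_)
  · rw [lb_inv r b h1 h2]
    exact low_conj_t hr b h1 h2 hu
  · rw [lb_inv r b h1 h2]
    have := low_conj_t hr (-b) h2 h3 hu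
    simp only [neg_neg] at this
    exact this

/-- The centric property for a short root. -/
theorem centric_l (hm : 0 < m) {r r' : Fin m} (hr : (r' : ℕ) = r + 1) :
    ∀ y ∈ SB m K, (∀ x ∈ (RRl K hr).map (prS m K), y * x = x * y) → y ∈ (RRl K hr).map (prS m K) := by
  rintro _ ⟨v, hv, rfl⟩ hc
  have hne : r ≠ r' := by
    intro e
    rw [e] at hr
    omega
  have hT : sb (Matrix.single r' r' 1) (single_symm_diag r' (1 : K)) ∈ RRl K hr := by
    refine ⟨sb_mem_SU0 _ _, ?_, ?_⟩
    · rw [sb_coe]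
      exact Matrix.one_apply_ne hne
    · rw [sb_coe]
      exact Matrix.one_apply_ne hne.symm
  have h1 := comm_of_prS hm hv hT.1 (hc _ ⟨_, hT, rfl⟩)
  have h2 : (v : Matrix (Ix m) (Ix m) K) * (sb (Matrix.single r' r' 1) (single_symm_diag r' (1 : K)) : Matrix (Ix m) (Ix m) K) =
      (sb (Matrix.single r' r' 1) (single_symm_diag r' (1 : K)) : Matrix (Ix m) (Ix m) K) * (v : Matrix (Ix m) (Ix m) K) := congrArg Subtype.val h1
  rw [sb_single] at h2
  have h3 := comm_mat h2
  refine ⟨v, ⟨hv, ?_, ?_⟩, rfl⟩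
  · have h4 := congrFun (congrFun h3 (Sum.inl r)) (Sum.inr r')
    rw [Matrix.mul_single_apply_same, Matrix.single_mul_apply_of_ne _ _ _ _ _ (by simpa using hne), mul_one] at h4
    exact h4
  · have h4 := congrFun (congrFun h3 (Sum.inl r')) (Sum.inr r)
    rw [Matrix.mul_single_apply_of_ne _ _ _ _ _ (by simpa using hne), Matrix.single_mul_apply_same, one_mul] at h4
    exact h4.symm

/-- The centric property for the long root. -/
theorem centric_t (hm : 2 ≤ m) {r : Fin m} (hr : (r : ℕ) + 1 = m) :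
    ∀ y ∈ SB m K, (∀ x ∈ (RRt K hr).map (prS m K), y * x = x * y) → y ∈ (RRt K hr).map (prS m K) := by
  rintro _ ⟨v, hv, rfl⟩ hc
  have hr0 : (r : ℕ) - 1 < m := by omega
  set r₀ : Fin m := ⟨r - 1, hr0⟩ with hr₀
  have hlt : r₀ < r := by
    rw [Fin.lt_def]
    simp only [hr₀]
    omega
  have hne : r₀ ≠ r := ne_of_lt hlt
  have hT : levS (SpecialLinearGroup.transvection hne (1 : K)) ∈ RRt K hr := by
    have hm0 := levS_mem_SU0 (Cfsg.Agent.Lead.AutPSL.transvection_mem_UU hlt (1 : K))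
    have h3 : (levS (SpecialLinearGroup.transvection hne (1 : K)) : Matrix (Ix m) (Ix m) K) (Sum.inl r) (Sum.inr r) = 0 := by
      rw [levS_tt_blocks]
      rfl
    exact ⟨hm0, h3, h3⟩
  have h1 := comm_of_prS (by omega) hv hT.1 (hc _ ⟨_, hT, rfl⟩)
  have h2 : (v : Matrix (Ix m) (Ix m) K) * (levS (SpecialLinearGroup.transvection hne (1 : K)) : Matrix (Ix m) (Ix m) K) =
      (levS (SpecialLinearGroup.transvection hne (1 : K)) : Matrix (Ix m) (Ix m) K) * (v : Matrix (Ix m) (Ix m) K) := congrArg Subtype.val h1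
  rw [levS_tt, add_assoc] at h2
  have h3 := comm_mat h2
  have h4 := congrFun (congrFun h3 (Sum.inl r)) (Sum.inr r₀)
  rw [mul_add, add_mul, Matrix.add_apply, Matrix.add_apply, Matrix.mul_single_apply_of_ne _ _ _ _ _ (by simp), Matrix.mul_single_apply_same,
    Matrix.single_mul_apply_of_ne _ _ _ _ _ (by simpa using hne.symm), Matrix.single_mul_apply_of_ne _ _ _ _ _ (by simp)] at h4
  refine ⟨v, ⟨hv, ?_, ?_⟩, rfl⟩
  · simpa using h4
  · simpa using h4

end F

end Cfsg.Agent.H25
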