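import Cfsg.Agent.Lib.H25.SimSp6
set_option autoImplicit false
set_option linter.style.haveILetI false

/-! The fusion system of `PSp_{2m}(F)` in the defining characteristic: the generation criterion. -/

namespace Cfsg.Agent.H25

open Cfsg Matrix
open scoped MatrixGroups

variable {K : Type*} [Field K] {m : ℕ}

/-- The general form in a block. -/
def MMx (i j : Ix m) (α β γ δ : K) : Matrix (Ix m) (Ix m) K :=
  1 + Matrix.single i i α + Matrix.single i j β + Matrix.single j i γ + Matrix.single j j δ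

theorem MMx_x {i j : Ix m} (hij : i ≠ j) (α β γ δ c : K) :
    MMx i j α β γ δ * (1 + Matrix.single i j c) = MMx i j α (β + c + α * c) γ (δ + γ * c) := by
  unfold MMx
  simp only [mul_add, add_mul, one_mul, mul_one, Matrix.single_mul_single_same,
    Matrix.single_mul_single_of_ne _ _ _ _ (Ne.symm hij), Matrix.single_add, zero_add, add_zero]
  abel

theorem MMx_y {i j : Ix m} (hij : i ≠ j) (α β γ δ d : K) :
    MMx i j α β γ δ * (1 + Matrix.single j i d) = MMx i j (α + β * d) β (γ + d + δ * d) δ := by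
  unfold MMx
  simp only [mul_add, add_mul, one_mul, mul_one, Matrix.single_mul_single_same,
    Matrix.single_mul_single_of_ne _ _ _ _ hij, Matrix.single_add, zero_add, add_zero]
  abel

theorem long_product {i j : Ix m} (hij : i ≠ j) {t : K} (ht : t ≠ 0) :
    (1 + Matrix.single i j (t - 1)) * (1 + Matrix.single j i 1) * (1 + Matrix.single i j (t⁻¹ - 1)) * (1 + Matrix.single j i (-t)) =
      MMx i j (t - 1) 0 0 (t⁻¹ - 1) := by
  have h0 : (1 + Matrix.single i j (t - 1) : Matrix (Ix m) (Ix m) K) = MMx i j 0 (t - 1) 0 0 := by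
    simp [MMx]
  rw [h0, MMx_y hij, MMx_x hij, MMx_y hij]
  have ht' : t * t⁻¹ = 1 := mul_inv_cancel₀ ht
  have e1 : (0 + (t - 1) * 1 + (t - 1 + (t⁻¹ - 1) + (0 + (t - 1) * 1) * (t⁻¹ - 1)) * -t : K) = t - 1 := by
    linear_combination (-t) * ht'
  have e2 : (t - 1 + (t⁻¹ - 1) + (0 + (t - 1) * 1) * (t⁻¹ - 1) : K) = 0 := by
    linear_combination ht'
  have e3 : (0 + 1 + 0 * 1 + -t + (0 + (0 + 1 + 0 * 1) * (t⁻¹ - 1)) * -t : K) = 0 := by
    linear_combination -ht'
  have e4 : (0 + (0 + 1 + 0 * 1) * (t⁻¹ - 1) : K) = t⁻¹ - 1 := by ring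
  rw [e1, e2, e3, e4]

theorem tor_update_coe (r : Fin m) (t : Kˣ) :
    (tor (Function.update 1 r t) : Matrix (Ix m) (Ix m) K) = MMx (Sum.inl r) (Sum.inr r) ((t : K) - 1) 0 0 ((t : K)⁻¹ - 1) := by
  rw [tor_coe]
  ext a b
  by_cases hab : a = b
  · subst hab
    rw [Matrix.diagonal_apply_eq]
    rcases a with a | a
    · by_cases h : a = r
      · subst h
        simp [MMx, dv, Matrix.single_apply]
      · have h' : r ≠ a := fun e => h e.symm
        simp [MMx, dv, Matrix.single_apply, Function.update_of_ne h, h']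
    · by_cases h : a = r
      · subst h
        simp [MMx, dv, Matrix.single_apply]
      · have h' : r ≠ a := fun e => h e.symm
        simp [MMx, dv, Matrix.single_apply, Function.update_of_ne h, h']
  · rw [Matrix.diagonal_apply_ne _ hab]
    simp only [MMx, Matrix.add_apply, Matrix.single_apply, Matrix.one_apply_ne hab]
    have h1 : ¬ ((Sum.inl r : Ix m) = a ∧ (Sum.inl r : Ix m) = b) := fun h => hab (h.1.symm.trans h.2)
    have h2 : ¬ ((Sum.inr r : Ix m) = a ∧ (Sum.inr r : Ix m) = b) := fun h => hab (h.1.symm.trans h.2)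
    simp [h1, h2]

section F
variable [Fintype K]

theorem tor_long (r : Fin m) (t : Kˣ) (h1 : (Matrix.single r r ((t : K) - 1))ᵀ = Matrix.single r r ((t : K) - 1))
    (h2 : (Matrix.single r r (1 : K))ᵀ = Matrix.single r r 1)
    (h3 : (Matrix.single r r ((t : K)⁻¹ - 1))ᵀ = Matrix.single r r ((t : K)⁻¹ - 1))
    (h4 : (Matrix.single r r (-(t : K)))ᵀ = Matrix.single r r (-(t : K))) :
    tor (Function.update 1 r t) = sb _ h1 * lb _ h2 * sb _ h3 * lb _ h4 := by
  apply Subtype.ext
  rw [tor_update_coe, ← long_product (by simp) t.ne_zero]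
  show _ = (sb _ h1 : Matrix (Ix m) (Ix m) K) * (lb _ h2 : Matrix (Ix m) (Ix m) K) * (sb _ h3 : Matrix (Ix m) (Ix m) K) * (lb _ h4 : Matrix (Ix m) (Ix m) K)
  rw [sb_single, sb_single, lb_single, lb_single]

theorem levS_dg (D : Fin m → K) (hD : ∏ i, D i = 1) :
    levS (dg D hD) = tor (fun i => Units.mk0 (D i) (dg_ne D hD i)) := by
  apply Subtype.ext
  rw [levS_coe, dg_inv, dg_coe, dg_coe, diagonal_transpose, fromBlocks_diagonal, tor_coe]
  congr 1
  ext a
  rcases a with a | a
  · simp [dv]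
  · simp [dv]

theorem tor_norm_SB (d : Fin m → Kˣ) :
    prS m K (tor d) ∈ Subgroup.normalizer ((SB m K : Subgroup _) : Set (Cfsg.PSp m K)) := by
  refine prS_mem_normalizer (fun u hu => tor_conj_SU0 d hu) (fun u hu => ?_)
  have := tor_conj_SU0 d⁻¹ hu
  rw [map_inv] at this
  simpa using this

theorem RR_le_SB {c d c' d' : Ix m} {h : rk d = rk c + 1} {h' : rk d' = rk c' + 1} :
    (RRs c d c' d' h h').map (prS m K) ≤ SB m K := Subgroup.map_mono RRs_le

theorem SB_le_norm {c d c' d' : Ix m} {h : rk d = rk c + 1} {h' : rk d' = rk c' + 1} :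
    SB m K ≤ Subgroup.normalizer (((RRs c d c' d' h h').map (prS m K) : Subgroup _) : Set (Cfsg.PSp m K)) := by
  rintro _ ⟨u, hu, rfl⟩
  exact su0_norm_RR hu

variable {p : ℕ} [Fact p.Prime]

theorem order_of_pow {x : symplecticGroup (Fin m) K} (hx : x ^ p = 1) : ∃ k : ℕ, orderOf (prS m K x) = p ^ k := by
  have h1 : (prS m K x) ^ p = 1 := by rw [← map_pow, hx, map_one]
  have h2 := orderOf_dvd_of_pow_eq_one h1
  rcases (Nat.dvd_prime Fact.out).1 h2 with h3 | h3
  · exact ⟨0, by rw [h3, pow_zero]⟩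
  · exact ⟨1, by rw [h3, pow_one]⟩

theorem levS_tt_pow (hchar : (p : K) = 0) {i j : Fin m} (hij : i ≠ j) (t : K) :
    (levS (SpecialLinearGroup.transvection hij t)) ^ p = 1 := by
  rw [← map_pow, tt_pow, hchar, zero_mul, SpecialLinearGroup.transvection_coeff_zero, map_one]

theorem sb_single_pow (hchar : (p : K) = 0) (r : Fin m) (t : K) (h : (Matrix.single r r t)ᵀ = Matrix.single r r t) :
    (sb _ h) ^ p = 1 := by
  have h0 : (((p : K) • Matrix.single r r t))ᵀ = (p : K) • Matrix.single r r t := by rw [transpose_smul, h]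
  rw [sb_pow _ _ p h0]
  simp only [hchar, zero_smul]
  rw [sb_zero]

theorem lb_single_pow (hchar : (p : K) = 0) (r : Fin m) (t : K) (h : (Matrix.single r r t)ᵀ = Matrix.single r r t) :
    (lb _ h) ^ p = 1 := by
  have h0 : (((p : K) • Matrix.single r r t))ᵀ = (p : K) • Matrix.single r r t := by rw [transpose_smul, h]
  rw [lb_pow _ _ p h0]
  simp only [hchar, zero_smul]
  rw [lb_zero]

theorem gen_tor_l (hchar : (p : K) = 0) (hm : 0 < m) {r r' : Fin m} (hr : (r' : ℕ) = r + 1) (hij : r ≠ r') (t : K) (ht : t ≠ 0) :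
    prS m K (levS (dg (Dd r r' t) (prod_Dd hij ht))) ∈ GGen p (SB m K) := by
  right
  have hlt : r < r' := by rw [Fin.lt_def]; omega
  refine ⟨?_, (RRl K hr).map (prS m K), RR_le_SB, SB_le_norm, centric_l hm hr, ?_⟩
  · rw [levS_dg]
    exact tor_norm_SB _
  rw [dg_Dd hij ht]
  simp only [map_mul]
  have hx : ∀ a : K, prS m K (levS (SpecialLinearGroup.transvection hij a)) ∈ Subgroup.closure {g : Cfsg.PSp m K |
      g ∈ Subgroup.normalizer (((RRl K hr).map (prS m K) : Subgroup _) : Set (Cfsg.PSp m K)) ∧ ∃ k : ℕ, orderOf g = p ^ k} :=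
    fun a => Subgroup.subset_closure ⟨su0_norm_RR (levS_mem_SU0 (Cfsg.Agent.Lead.AutPSL.transvection_mem_UU hlt a)), order_of_pow (levS_tt_pow hchar hij a)⟩
  have hy : ∀ a : K, prS m K (levS (SpecialLinearGroup.transvection (Ne.symm hij) a)) ∈ Subgroup.closure {g : Cfsg.PSp m K |
      g ∈ Subgroup.normalizer (((RRl K hr).map (prS m K) : Subgroup _) : Set (Cfsg.PSp m K)) ∧ ∃ k : ℕ, orderOf g = p ^ k} :=
    fun a => Subgroup.subset_closure ⟨low_norm_l hr (Ne.symm hij) a, order_of_pow (levS_tt_pow hchar (Ne.symm hij) a)⟩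
  exact Subgroup.mul_mem _ (Subgroup.mul_mem _ (Subgroup.mul_mem _ (hx _) (hy _)) (hx _)) (hy _)

theorem gen_tor_t (hchar : (p : K) = 0) (hm : 2 ≤ m) {r : Fin m} (hr : (r : ℕ) + 1 = m) (t : Kˣ) :
    prS m K (tor (Function.update 1 r t)) ∈ GGen p (SB m K) := by
  right
  refine ⟨tor_norm_SB _, (RRt K hr).map (prS m K), RR_le_SB, SB_le_norm, centric_t hm hr, ?_⟩
  rw [tor_long r t (single_symm_diag _ _) (single_symm_diag _ _) (single_symm_diag _ _) (single_symm_diag _ _)]
  simp only [map_mul]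
  have hx : ∀ (a : K) (h : (Matrix.single r r a)ᵀ = Matrix.single r r a), prS m K (sb _ h) ∈ Subgroup.closure {g : Cfsg.PSp m K |
      g ∈ Subgroup.normalizer (((RRt K hr).map (prS m K) : Subgroup _) : Set (Cfsg.PSp m K)) ∧ ∃ k : ℕ, orderOf g = p ^ k} :=
    fun a h => Subgroup.subset_closure ⟨su0_norm_RR (sb_mem_SU0 _ _), order_of_pow (sb_single_pow hchar r a h)⟩
  have hy : ∀ (a : K) (h : (Matrix.single r r a)ᵀ = Matrix.single r r a), prS m K (lb _ h) ∈ Subgroup.closure {g : Cfsg.PSp m K |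
      g ∈ Subgroup.normalizer (((RRt K hr).map (prS m K) : Subgroup _) : Set (Cfsg.PSp m K)) ∧ ∃ k : ℕ, orderOf g = p ^ k} :=
    fun a h => Subgroup.subset_closure ⟨low_norm_t hr a h, order_of_pow (lb_single_pow hchar r a h)⟩
  exact Subgroup.mul_mem _ (Subgroup.mul_mem _ (Subgroup.mul_mem _ (hx _ _) (hy _ _)) (hx _ _)) (hy _ _)

theorem SB_isPGroup [CharP K p] (hm : 0 < m) : IsPGroup p (SB m K) :=
  (isPGroup_SU0 (p := p) hm).map (prS m K)

theorem gen_uu_sp [CharP K p] (hm : 2 ≤ m) {u : symplecticGroup (Fin m) K} (hu : u ∈ SU0 m K) :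
    prS m K u ∈ GGen p (SB m K) := by
  right
  have hm0 : 0 < m := by omega
  have h0 : (⟨1, by omega⟩ : Fin m).val = (⟨0, by omega⟩ : Fin m).val + 1 := rfl
  have hUB : prS m K u ∈ SB m K := ⟨u, hu, rfl⟩
  have hord : ∃ k : ℕ, orderOf (prS m K u) = p ^ k := by
    obtain ⟨k, hk⟩ := (IsPGroup.iff_orderOf.1 (SB_isPGroup (p := p) (K := K) hm0)) ⟨prS m K u, u, hu, rfl⟩
    exact ⟨k, by rw [← Subgroup.orderOf_mk]; exact hk⟩
  refine ⟨?_, (RRl K h0).map (prS m K), RR_le_SB, SB_le_norm, centric_l hm0 h0, Subgroup.subset_closure ⟨su0_norm_RR hu, hord⟩⟩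
  refine mem_normalizer_of_conj (fun y hy => ?_) (fun y hy => ?_)
  · exact (SB m K).mul_mem ((SB m K).mul_mem hUB hy) ((SB m K).inv_mem hUB)
  · exact (SB m K).mul_mem ((SB m K).mul_mem ((SB m K).inv_mem hUB) hy) hUB

omit [Fintype K] [Fact p.Prime] in
/-- Torus elements are products of simple ones. -/
theorem tor_mem_of [Fintype K] (hm : 0 < m) (C : Subgroup (symplecticGroup (Fin m) K))
    (h1 : ∀ (r r' : Fin m) (_ : (r' : ℕ) = r + 1) (hij : r ≠ r') (t : K) (ht : t ≠ 0), levS (dg (Dd r r' t) (prod_Dd hij ht)) ∈ C)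
    (h2 : ∀ (r : Fin m) (_ : (r : ℕ) + 1 = m) (t : Kˣ), tor (Function.update 1 r t) ∈ C)
    (d : Fin m → Kˣ) : tor d ∈ C := by
  have aux : ∀ (n k : ℕ), k + n = m → ∀ d : Fin m → Kˣ, (∀ i : Fin m, (i : ℕ) < k → d i = 1) → tor d ∈ C := by
    intro n
    induction n with
    | zero =>
      intro k hk d hd
      have : d = 1 := by
        funext i
        exact hd i (by have := i.2; omega)
      rw [this, map_one]
      exact C.one_mem
    | succ n IH =>
      intro k hk d hd
      have hk1 : k < m := by omega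
      obtain ⟨r, hr⟩ : ∃ r : Fin m, (r : ℕ) = k := ⟨⟨k, hk1⟩, rfl⟩
      by_cases hk2 : k + 1 = m
      · have hdd : d = Function.update (1 : Fin m → Kˣ) r (d r) := by
          funext i
          by_cases hi : i = r
          · rw [hi, Function.update_self]
          · rw [Function.update_of_ne hi]
            apply hd
            have h3 : (i : ℕ) ≠ k := fun e => hi (Fin.ext (e.trans hr.symm))
            have := i.2
            omega
        have h5 := h2 r (by omega) (d r)
        rwa [← hdd] at h5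
      · have hk3 : k + 1 < m := by omega
        obtain ⟨r', hr'⟩ : ∃ r' : Fin m, (r' : ℕ) = k + 1 := ⟨⟨k + 1, hk3⟩, rfl⟩
        have hij : r ≠ r' := by
          intro e
          rw [e] at hr
          omega
        have hD := prod_Dd hij (d r).ne_zero
        obtain ⟨e, he⟩ : ∃ e : Fin m → Kˣ, e = fun i => Units.mk0 (Dd r r' ((d r : Kˣ) : K) i) (dg_ne _ hD i) := ⟨_, rfl⟩
        have hmem : tor e ∈ C := by
          have := h1 r r' (by omega) hij _ (d r).ne_zero
          rw [levS_dg] at this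
          rw [he]
          exact this
        have hdd : tor (d * e⁻¹) ∈ C := by
          refine IH (k + 1) (by omega) _ ?_
          intro i hi
          simp only [Pi.mul_apply, Pi.inv_apply]
          by_cases hik : (i : ℕ) < k
          · have h3 : i ≠ r := fun e => by
              rw [e, hr] at hik
              omega
            have h4 : i ≠ r' := fun e => by
              rw [e, hr'] at hik
              omega
            have h5 : e i = 1 := by
              apply Units.ext
              rw [he]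
              simp [Dd, h3, h4]
            rw [hd i hik, h5]
            simp
          · have h3 : i = r := Fin.ext (by omega)
            have h5 : e i = d r := by
              apply Units.ext
              rw [he, h3]
              simp [Dd]
            rw [h5, h3]
            simp
        have hprod : tor d = tor (d * e⁻¹) * tor e := by
          rw [← map_mul]
          simp
        rw [hprod]
        exact C.mul_mem hdd hmem
  exact aux m 0 (by omega) d (fun i hi => absurd hi (by omega))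

theorem GCb_SB [CharP K p] (hchar : (p : K) = 0) (hm : 2 ≤ m) : GCb p (SB m K) := by
  intro g hg
  have hm0 : 0 < m := by omega
  obtain ⟨s, rfl⟩ : ∃ s, prS m K s = g := QuotientGroup.mk_surjective g
  have hup : UpM (s : Matrix (Ix m) (Ix m) K) := by
    refine upM_of_conj s (fun i j hij => ?_) (fun i => ?_)
    · exact conj_root_SU0 hm0 hg (levS_mem_SU0 (Cfsg.Agent.Lead.AutPSL.transvection_mem_UU hij 1)) (levS_tt_sq _ _)
    · exact conj_root_SU0 hm0 hg (sb_mem_SU0 _ _) (sb_single_sq _ _ _)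
  obtain ⟨d, u, hu, e⟩ := exists_tor_uni s hup
  rw [e, map_mul]
  refine Subgroup.mul_mem _ ?_ (Subgroup.subset_closure (gen_uu_sp hm hu))
  have h1 := tor_mem_of hm0 ((Subgroup.closure (GGen p (SB m K))).comap (prS m K))
    (fun r r' hr hij t ht => Subgroup.subset_closure (gen_tor_l hchar hm0 hr hij t ht))
    (fun r hr t => Subgroup.subset_closure (gen_tor_t hchar hm hr t)) d
  exact h1

end F

end Cfsg.Agent.H25
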