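import Cfsg.Agent.Lib.H25.SimSp7
set_option autoImplicit false
set_option linter.style.haveILetI false

/-! The fusion system of `PSp_{2m}(F)` in the defining characteristic: the congruence action, central elements. -/

namespace Cfsg.Agent.H25

open Cfsg Matrix
open scoped MatrixGroups

variable {K : Type*} [Field K] {m : ℕ}

theorem sm {ι : Type*} [DecidableEq ι] [Fintype ι] (i j k l : ι) (t s : K) :
    (Matrix.single i j t * Matrix.single k l s : Matrix ι ι K) = if j = k then Matrix.single i l (t * s) else 0 := by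
  by_cases h : j = k
  · subst h
    simp
  · rw [if_neg h]
    exact Matrix.single_mul_single_of_ne _ _ _ _ h _

/-- The permutation matrix. -/
def Pm (π : Equiv.Perm (Fin m)) : Matrix (Fin m) (Fin m) K := Matrix.of fun a b => if a = π b then 1 else 0

theorem Pm_apply (π : Equiv.Perm (Fin m)) (a b : Fin m) : (Pm π : Matrix (Fin m) (Fin m) K) a b = if a = π b then 1 else 0 := rfl

theorem Pm_transpose (π : Equiv.Perm (Fin m)) : (Pm π : Matrix (Fin m) (Fin m) K)ᵀ = Pm π⁻¹ := by
  ext a b
  rw [transpose_apply, Pm_apply, Pm_apply]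
  have : (b = π a) = (a = π⁻¹ b) := by
    apply propext
    constructor
    · rintro rfl
      simp
    · rintro rfl
      simp
  simp only [this]

theorem Pm_mul_apply (π : Equiv.Perm (Fin m)) (M : Matrix (Fin m) (Fin m) K) (a b : Fin m) :
    ((Pm π : Matrix (Fin m) (Fin m) K) * M) a b = M (π⁻¹ a) b := by
  rw [Matrix.mul_apply, Finset.sum_eq_single (π⁻¹ a)]
  · rw [Pm_apply, if_pos (by simp), one_mul]
  · intro c _ hc
    rw [Pm_apply, if_neg, zero_mul]
    rintro rfl
    simp at hc
  · simp

theorem mul_Pm_transpose_apply (π : Equiv.Perm (Fin m)) (M : Matrix (Fin m) (Fin m) K) (a b : Fin m) :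
    (M * (Pm π : Matrix (Fin m) (Fin m) K)ᵀ) a b = M a (π⁻¹ b) := by
  rw [Matrix.mul_apply, Finset.sum_eq_single (π⁻¹ b)]
  · rw [transpose_apply, Pm_apply, if_pos (by simp), mul_one]
  · intro c _ hc
    rw [transpose_apply, Pm_apply, if_neg, mul_zero]
    rintro rfl
    simp at hc
  · simp

theorem Pm_mul_transpose (π : Equiv.Perm (Fin m)) : (Pm π : Matrix (Fin m) (Fin m) K) * (Pm π)ᵀ = 1 := by
  ext a b
  rw [Pm_mul_apply, transpose_apply, Pm_apply]
  by_cases h : a = b
  · subst h
    rw [Matrix.one_apply_eq, if_pos (by simp)]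
  · rw [Matrix.one_apply_ne h, if_neg]
    intro e
    apply h
    simpa using e.symm

/-- The permutation matrix as a unit. -/
def pmU (π : Equiv.Perm (Fin m)) : GL (Fin m) K :=
  ⟨Pm π, (Pm π)ᵀ, Pm_mul_transpose π, mul_eq_one_comm.1 (Pm_mul_transpose π)⟩

theorem Pm_conj_single (π : Equiv.Perm (Fin m)) (i j : Fin m) (t : K) :
    (Pm π : Matrix (Fin m) (Fin m) K) * Matrix.single i j t * (Pm π)ᵀ = Matrix.single (π i) (π j) t := by
  ext a b
  rw [mul_Pm_transpose_apply, Pm_mul_apply, Matrix.single_apply, Matrix.single_apply]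
  have h1 : (i = π⁻¹ a) = (π i = a) := by
    apply propext
    constructor
    · rintro rfl
      simp
    · rintro rfl
      simp
  have h2 : (j = π⁻¹ b) = (π j = b) := by
    apply propext
    constructor
    · rintro rfl
      simp
    · rintro rfl
      simp
  simp only [h1, h2]

/-- Two given distinct points can be moved to two given distinct points. -/
theorem exists_perm_pair {i₀ i₁ i j : Fin m} (h0 : i₀ ≠ i₁) (h : i ≠ j) :
    ∃ π : Equiv.Perm (Fin m), π i₀ = i ∧ π i₁ = j := by
  set τ := Equiv.swap i₀ i with hτ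
  set j' := τ⁻¹ j with hj'
  have h1 : j' ≠ i₀ := by
    intro e
    apply h
    have : τ j' = j := by simp [hj']
    rw [e, hτ, Equiv.swap_apply_left] at this
    exact this
  refine ⟨τ * Equiv.swap i₁ j', ?_, ?_⟩
  · rw [Equiv.Perm.mul_apply, Equiv.swap_apply_of_ne_of_ne h0 h1.symm, hτ, Equiv.swap_apply_left]
  · rw [Equiv.Perm.mul_apply, Equiv.swap_apply_left]
    simp [hj']

theorem diag_conj_single (d : Fin m → K) (i j : Fin m) (t : K) :
    diagonal d * Matrix.single i j t * (diagonal d)ᵀ = Matrix.single i j (d i * t * d j) := by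
  rw [diagonal_transpose]
  ext a b
  rw [Matrix.mul_diagonal, Matrix.diagonal_mul, Matrix.single_apply, Matrix.single_apply]
  by_cases h : i = a ∧ j = b
  · rw [if_pos h, if_pos h, h.1, h.2]
  · rw [if_neg h, if_neg h]
    ring

section F
variable [Fintype K]

/-- The form of a central element. -/
theorem central_form (hm : 2 ≤ m) {x : symplecticGroup (Fin m) K} (hx : x ∈ SU0 m K)
    (hc : ∀ y ∈ SU0 m K, x * y = y * x) {i₀ i₁ : Fin m} (h0 : (i₀ : ℕ) = 0) (h1 : (i₁ : ℕ) = 1) :
    ∃ (a b : K) (hS : (Matrix.single i₀ i₀ a + Matrix.single i₀ i₁ b + Matrix.single i₁ i₀ b)ᵀ = Matrix.single i₀ i₀ a + Matrix.single i₀ i₁ b + Matrix.single i₁ i₀ b),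
      x = sb _ hS ∧ b + b = 0 := by
  have hU : UniM (x : Matrix (Ix m) (Ix m) K) := hx
  set X := (x : Matrix (Ix m) (Ix m) K) with hX
  have hcomm : ∀ y ∈ SU0 m K, X * (y : Matrix (Ix m) (Ix m) K) = (y : Matrix (Ix m) (Ix m) K) * X := by
    intro y hy
    exact congrArg Subtype.val (hc y hy)
  have h10 : i₀ ≠ i₁ := by
    intro e
    rw [e] at h0
    omega
  have hlong : ∀ i, X * Matrix.single (Sum.inl i) (Sum.inr i) (1 : K) = Matrix.single (Sum.inl i) (Sum.inr i) 1 * X := by
    intro i
    have := hcomm _ (sb_mem_SU0 (Matrix.single i i 1) (single_symm_diag i 1))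
    rw [sb_single] at this
    exact comm_mat this
  have e1 : ∀ i (a : Ix m), a ≠ Sum.inl i → X a (Sum.inl i) = 0 := by
    intro i a ha
    have := congrFun (congrFun (hlong i) a) (Sum.inr i)
    rw [Matrix.mul_single_apply_same, Matrix.single_mul_apply_of_ne _ _ _ _ _ ha, mul_one] at this
    exact this
  have e2 : ∀ i (b : Ix m), b ≠ Sum.inr i → X (Sum.inr i) b = 0 := by
    intro i b hb
    have := congrFun (congrFun (hlong i) (Sum.inl i)) b
    rw [Matrix.mul_single_apply_of_ne _ _ _ _ _ hb, Matrix.single_mul_apply_same, one_mul] at this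
    exact this.symm
  -- the symmetric matrix
  set S : Matrix (Fin m) (Fin m) K := fun i j => X (Sum.inl i) (Sum.inr j) with hS
  have hXb : X = fromBlocks 1 S 0 1 := by
    ext a b
    rcases a with a | a <;> rcases b with b | b
    · by_cases h : a = b
      · subst h
        rw [hU.2]
        simp
      · rw [e1 b _ (by simpa using h)]
        simp [Matrix.one_apply_ne h]
    · rfl
    · rw [e1 b _ (by simp)]
      rfl
    · by_cases h : a = b
      · subst h
        rw [hU.2]
        simp
      · rw [e2 a _ (by simpa using fun e => h e.symm)]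
        simp [Matrix.one_apply_ne h]
  have hmem : fromBlocks 1 S 0 1 ∈ symplecticGroup (Fin m) K := hXb ▸ x.2
  obtain ⟨hs, -, -, -⟩ := sp_blocks_of_mem hmem
  have hsym : Sᵀ = S := by
    simp only [transpose_one, Matrix.mul_one, Matrix.one_mul] at hs
    exact hs.symm
  have hs' : ∀ i j, S i j = S j i := fun i j => (congrFun (congrFun hsym j) i)
  -- commuting with the Levi elements
  have hlev : ∀ (i j : Fin m) (hij : i < j), X * (Matrix.single (Sum.inl i) (Sum.inl j) (1 : K) + Matrix.single (Sum.inr j) (Sum.inr i) (-1 : K)) =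
      (Matrix.single (Sum.inl i) (Sum.inl j) (1 : K) + Matrix.single (Sum.inr j) (Sum.inr i) (-1 : K)) * X := by
    intro i j hij
    have := hcomm _ (levS_mem_SU0 (Cfsg.Agent.Lead.AutPSL.transvection_mem_UU hij (1 : K)))
    rw [levS_tt, add_assoc] at this
    exact comm_mat this
  have f1 : ∀ (i j l : Fin m), i < j → l ≠ i → S j l = 0 := by
    intro i j l hij hl
    have hne : (Sum.inl i : Ix m) ≠ Sum.inr j := by simp
    have := congrFun (congrFun (hlev i j hij) (Sum.inl i)) (Sum.inr l)
    rw [mul_add, add_mul, Matrix.add_apply, Matrix.add_apply, Matrix.mul_single_apply_of_ne _ _ _ _ _ (by simp),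
      Matrix.mul_single_apply_of_ne _ _ _ _ _ (by simpa using hl), Matrix.single_mul_apply_same,
      Matrix.single_mul_apply_of_ne _ _ _ _ _ hne] at this
    simp only [add_zero, one_mul, zero_add] at this
    exact this.symm
  have f2 : ∀ (i j : Fin m), i < j → - S i j = S j i := by
    intro i j hij
    have hne : (Sum.inl i : Ix m) ≠ Sum.inr j := by simp
    have := congrFun (congrFun (hlev i j hij) (Sum.inl i)) (Sum.inr i)
    rw [mul_add, add_mul, Matrix.add_apply, Matrix.add_apply, Matrix.mul_single_apply_of_ne _ _ _ _ _ (by simp),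
      Matrix.mul_single_apply_same, Matrix.single_mul_apply_same,
      Matrix.single_mul_apply_of_ne _ _ _ _ _ hne] at this
    simp only [add_zero, one_mul, zero_add] at this
    show - X (Sum.inl i) (Sum.inr j) = X (Sum.inl j) (Sum.inr i)
    rw [← this, mul_neg, mul_one]
  have h01 : i₀ < i₁ := by
    rw [Fin.lt_def]
    omega
  have hall : S = Matrix.single i₀ i₀ (S i₀ i₀) + Matrix.single i₀ i₁ (S i₀ i₁) + Matrix.single i₁ i₀ (S i₀ i₁) := by
    ext i j
    simp only [Matrix.add_apply, Matrix.single_apply]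
    by_cases hi0 : i = i₀
    · subst hi0
      by_cases hj0 : j = i
      · subst hj0
        simp [h10, h10.symm]
      · by_cases hj1 : j = i₁
        · subst hj1
          simp [h10, h10.symm]
        · have h2 : (2 : ℕ) ≤ j := by
            have h3 : (j : ℕ) ≠ i := fun e => hj0 (Fin.ext e)
            have h4 : (j : ℕ) ≠ i₁ := fun e => hj1 (Fin.ext e)
            omega
          have h5 : S i j = 0 := by
            rw [hs']
            exact f1 i₁ j i (by rw [Fin.lt_def]; omega) h10
          have h6 : ¬ i₁ = i := h10.symm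
          have h7 : ¬ i = j := fun e => hj0 e.symm
          have h8 : ¬ i₁ = j := fun e => hj1 e.symm
          simp [h5, h6, h7, h8]
    · have hi1' : (1 : ℕ) ≤ i := by
        have h3 : (i : ℕ) ≠ i₀ := fun e => hi0 (Fin.ext e)
        omega
      by_cases hi1 : i = i₁
      · subst hi1
        by_cases hj0 : j = i₀
        · subst hj0
          simp [h10, h10.symm, hs' i j]
        · have h5 := f1 i₀ i j h01 hj0
          have h7 : ¬ i₀ = j := fun e => hj0 e.symm
          simp [h5, h7, h10, h10.symm]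
      · have h2 : (2 : ℕ) ≤ i := by
          have h4 : (i : ℕ) ≠ i₁ := fun e => hi1 (Fin.ext e)
          omega
        have h5 : S i j = 0 := by
          by_cases hj : j = i₀
          · exact f1 i₁ i j (by rw [Fin.lt_def]; omega) (by rw [hj]; exact h10)
          · exact f1 i₀ i j (by rw [Fin.lt_def]; omega) hj
        have h6 : ¬ i₀ = i := fun e => hi0 e.symm
        have h7 : ¬ i₁ = i := fun e => hi1 e.symm
        simp [h5, h6, h7]
  have hS' : (Matrix.single i₀ i₀ (S i₀ i₀) + Matrix.single i₀ i₁ (S i₀ i₁) + Matrix.single i₁ i₀ (S i₀ i₁))ᵀ =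
      Matrix.single i₀ i₀ (S i₀ i₀) + Matrix.single i₀ i₁ (S i₀ i₁) + Matrix.single i₁ i₀ (S i₀ i₁) := by
    rw [← hall]
    exact hsym
  refine ⟨S i₀ i₀, S i₀ i₁, hS', ?_, ?_⟩
  · apply Subtype.ext
    rw [sb_coe, ← hall]
    exact hXb
  · have := f2 i₀ i₁ h01
    rw [hs' i₁ i₀] at this
    have h9 : S i₀ i₁ + S i₀ i₁ = S i₀ i₁ + - S i₀ i₁ := by rw [this]
    rw [h9, add_neg_cancel]

end F

end Cfsg.Agent.H25
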