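import Cfsg.Agent.Lib.H25.SimSp8
set_option autoImplicit false
set_option linter.style.haveILetI false

/-! The fusion system of `PSp_{2m}(F)` in the defining characteristic: strong closure. -/

namespace Cfsg.Agent.H25

open Cfsg Matrix
open scoped MatrixGroups

variable {K : Type*} [Field K] {m : ℕ}

/-- The decomposition of a symmetric matrix. -/
theorem sym_decomp (S : Matrix (Fin m) (Fin m) K) (hS : Sᵀ = S) :
    S = ∑ i, ∑ j, (if i < j then Matrix.single i j (S i j) + Matrix.single j i (S i j)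
      else if i = j then Matrix.single i i (S i i) else 0) := by
  have hs' : ∀ i j, S i j = S j i := fun i j => (congrFun (congrFun hS j) i)
  ext a b
  rw [Matrix.sum_apply]
  simp only [Matrix.sum_apply]
  have hg : ∀ i j, (if i < j then Matrix.single i j (S i j) + Matrix.single j i (S i j)
      else if i = j then Matrix.single i i (S i i) else (0 : Matrix (Fin m) (Fin m) K)) a b =
      (if i < j ∧ i = a ∧ j = b then S i j else 0) + (if i < j ∧ j = a ∧ i = b then S i j else 0) +
        (if i = j ∧ i = a ∧ i = b then S i i else 0) := by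
    intro i j
    by_cases h : i < j
    · have hne : i ≠ j := ne_of_lt h
      simp only [if_pos h, Matrix.add_apply, Matrix.single_apply, hne, false_and, if_false, add_zero, true_and]
      simp only [h, true_and]
    · by_cases h2 : i = j
      · subst h2
        simp [Matrix.single_apply]
      · simp [h, h2]
  simp only [hg]
  rcases lt_trichotomy a b with h | h | h
  · rw [Finset.sum_eq_single a, Finset.sum_eq_single b]
    · have h2 : ¬ (b = a ∧ a = b) := fun e => (ne_of_lt h) e.2
      have h3 : ¬ (a = b ∧ a = a ∧ a = b) := fun e => (ne_of_lt h) e.1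
      simp [h, h2, h3, (ne_of_lt h), (ne_of_lt h).symm]
    · intro j _ hj
      have h2 : ¬ (a < j ∧ j = a ∧ a = b) := fun e => (ne_of_lt h) e.2.2
      have h3 : ¬ (a = j ∧ a = a ∧ a = b) := fun e => (ne_of_lt h) e.2.2
      simp [hj, h2, h3]
      intro e1 e2
      exact absurd e2 (ne_of_lt h)
    · simp
    · intro i _ hi
      refine Finset.sum_eq_zero fun j _ => ?_
      have h1 : ¬ (i < j ∧ i = a ∧ j = b) := fun e => hi e.2.1
      have h2 : ¬ (i < j ∧ j = a ∧ i = b) := by
        rintro ⟨e1, rfl, rfl⟩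
        exact lt_asymm e1 h
      have h3 : ¬ (i = j ∧ i = a ∧ i = b) := fun e => hi e.2.1
      simp [h1, h2, h3]
    · simp
  · subst h
    rw [Finset.sum_eq_single a, Finset.sum_eq_single a]
    · simp
    · intro j _ hj
      have h2 : ¬ (a = j ∧ a = a ∧ a = a) := fun e => hj e.1.symm
      have h1 : ¬ (a < j ∧ a = a ∧ j = a) := fun e => hj e.2.2
      have h3 : ¬ (a < j ∧ j = a ∧ a = a) := fun e => hj e.2.1
      rw [if_neg h1, if_neg h3, if_neg h2]
      simp
    · simp
    · intro i _ hi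
      refine Finset.sum_eq_zero fun j _ => ?_
      have h1 : ¬ (i < j ∧ i = a ∧ j = a) := fun e => hi e.2.1
      have h2 : ¬ (i < j ∧ j = a ∧ i = a) := fun e => hi e.2.2
      have h3 : ¬ (i = j ∧ i = a ∧ i = a) := fun e => hi e.2.1
      rw [if_neg h1, if_neg h2, if_neg h3]
      simp
    · simp
  · rw [Finset.sum_eq_single b, Finset.sum_eq_single a]
    · have h2 : ¬ (b = a ∧ a = b) := fun e => (ne_of_lt h) e.1
      have h3 : ¬ (b = a ∧ b = a ∧ b = b) := fun e => (ne_of_lt h) e.1
      simp [h, h2, h3, (ne_of_lt h), (ne_of_lt h).symm, hs' a b]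
    · intro j _ hj
      have h2 : ¬ (b < j ∧ b = a ∧ j = b) := fun e => (ne_of_lt h) e.2.1
      have h3 : ¬ (b = j ∧ b = a ∧ b = b) := fun e => (ne_of_lt h) e.2.1
      have h4 : ¬ (b < j ∧ j = a ∧ b = b) := fun e => hj e.2.1
      simp [hj, h2, h3, h4, (ne_of_lt h)]
    · simp
    · intro i _ hi
      refine Finset.sum_eq_zero fun j _ => ?_
      have h1 : ¬ (i < j ∧ j = a ∧ i = b) := fun e => hi e.2.2
      have h2 : ¬ (i < j ∧ i = a ∧ j = b) := by
        rintro ⟨e1, rfl, rfl⟩
        exact lt_asymm e1 h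
      have h3 : ¬ (i = j ∧ i = a ∧ i = b) := fun e => hi e.2.2
      simp [h1, h2, h3]
    · simp

section F
variable [Fintype K]

/-- The subset of symmetric matrices in `W`. -/
def PSy (W : Subgroup (symplecticGroup (Fin m) K)) (S : Matrix (Fin m) (Fin m) K) : Prop :=
  ∃ hS : Sᵀ = S, sb S hS ∈ W

variable {W : Subgroup (symplecticGroup (Fin m) K)}

theorem PSy_zero : PSy W 0 := ⟨transpose_zero, by rw [sb_zero]; exact W.one_mem⟩

theorem PSy_add {S S' : Matrix (Fin m) (Fin m) K} (h : PSy W S) (h' : PSy W S') : PSy W (S + S') := by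
  obtain ⟨hS, h1⟩ := h
  obtain ⟨hS', h2⟩ := h'
  have hsum : (S + S')ᵀ = S + S' := by rw [transpose_add, hS, hS']
  refine ⟨hsum, ?_⟩
  rw [← sb_mul _ _ hS hS']
  exact W.mul_mem h1 h2

theorem PSy_neg {S : Matrix (Fin m) (Fin m) K} (h : PSy W S) : PSy W (-S) := by
  obtain ⟨hS, h1⟩ := h
  have hn : (-S)ᵀ = -S := by rw [transpose_neg, hS]
  refine ⟨hn, ?_⟩
  have e : sb (-S) hn = (sb S hS)⁻¹ := by
    symm
    apply inv_eq_of_mul_eq_one_right
    rw [sb_mul _ _ _ _ (by rw [add_neg_cancel]; simp)]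
    simp only [add_neg_cancel]
    rw [sb_zero]
  rw [e]
  exact W.inv_mem h1

theorem PSy_sub {S S' : Matrix (Fin m) (Fin m) K} (h : PSy W S) (h' : PSy W S') : PSy W (S - S') := by
  rw [sub_eq_add_neg]
  exact PSy_add h (PSy_neg h')

theorem PSy_congr (cl : ∀ u ∈ W, ∀ g : symplecticGroup (Fin m) K, g * u * g⁻¹ ∈ SU0 m K → g * u * g⁻¹ ∈ W)
    (B : GL (Fin m) K) {S : Matrix (Fin m) (Fin m) K} (h : PSy W S) :
    PSy W ((B : Matrix (Fin m) (Fin m) K) * S * (B : Matrix (Fin m) (Fin m) K)ᵀ) := by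
  obtain ⟨hS, h1⟩ := h
  have h2 := congr_symm (B : Matrix (Fin m) (Fin m) K) S hS
  have e := lev_mul_sb B S hS h2
  refine ⟨h2, ?_⟩
  rw [← e]
  refine cl _ h1 _ ?_
  rw [e]
  exact sb_mem_SU0 _ _

theorem tt_congr {i j : Fin m} (hij : i ≠ j) (c : K) (M : Matrix (Fin m) (Fin m) K) :
    ((SpecialLinearGroup.toGL (SpecialLinearGroup.transvection hij c) : GL (Fin m) K) : Matrix (Fin m) (Fin m) K) * M *
      ((SpecialLinearGroup.toGL (SpecialLinearGroup.transvection hij c) : GL (Fin m) K) : Matrix (Fin m) (Fin m) K)ᵀ =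
      (1 + Matrix.single i j c) * M * (1 + Matrix.single j i c) := by
  have : ((SpecialLinearGroup.toGL (SpecialLinearGroup.transvection hij c) : GL (Fin m) K) : Matrix (Fin m) (Fin m) K) = 1 + Matrix.single i j c :=
    SpecialLinearGroup.transvection_coe hij c
  rw [this, transpose_add, transpose_one, Matrix.transpose_single]

/-- Scaling a symmetric pair. -/
theorem PSy_scale (cl : ∀ u ∈ W, ∀ g : symplecticGroup (Fin m) K, g * u * g⁻¹ ∈ SU0 m K → g * u * g⁻¹ ∈ W)
    {i j : Fin m} (hij : i ≠ j) {c₀ : K} (hc : c₀ ≠ 0) (h : PSy W (Matrix.single i j c₀ + Matrix.single j i c₀)) (t : K) :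
    PSy W (Matrix.single i j t + Matrix.single j i t) := by
  by_cases ht : t = 0
  · subst ht
    rw [Matrix.single_zero, Matrix.single_zero, add_zero]
    exact PSy_zero
  have hu : t / c₀ ≠ 0 := div_ne_zero ht hc
  have h1 := PSy_congr cl (dgU (Function.update 1 i (Units.mk0 (t / c₀) hu))) h
  have e : ((dgU (Function.update 1 i (Units.mk0 (t / c₀) hu)) : GL (Fin m) K) : Matrix (Fin m) (Fin m) K) =
      diagonal (fun k => ((Function.update (1 : Fin m → Kˣ) i (Units.mk0 (t / c₀) hu) k : Kˣ) : K)) := rfl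
  rw [e, mul_add, add_mul, diag_conj_single, diag_conj_single, ] at h1
  simp only [Function.update_self, Function.update_of_ne hij.symm, Pi.one_apply, Units.val_one, Units.val_mk0, one_mul, mul_one] at h1
  have e2 : t / c₀ * c₀ = t := by field_simp
  have e3 : c₀ * (t / c₀) = t := by field_simp
  rwa [e2, e3] at h1

/-- The first step. -/
theorem PSy_of_central (hm : 2 ≤ m) (hex : m = 2 → 3 ≤ Fintype.card K)
    (cl : ∀ u ∈ W, ∀ g : symplecticGroup (Fin m) K, g * u * g⁻¹ ∈ SU0 m K → g * u * g⁻¹ ∈ W)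
    {x : symplecticGroup (Fin m) K} (hxW : x ∈ W) (hx : x ∈ SU0 m K) (hx1 : x ≠ 1) (hc : ∀ y ∈ SU0 m K, x * y = y * x)
    {i₀ i₁ : Fin m} (h0 : (i₀ : ℕ) = 0) (h1 : (i₁ : ℕ) = 1) (t : K) :
    PSy W (Matrix.single i₀ i₁ t + Matrix.single i₁ i₀ t) := by
  have h10 : i₀ ≠ i₁ := by
    intro e
    rw [e] at h0
    omega
  obtain ⟨a, b, hS, rfl, hb⟩ := central_form hm hx hc h0 h1
  have hP : PSy W (Matrix.single i₀ i₀ a + Matrix.single i₀ i₁ b + Matrix.single i₁ i₀ b) := ⟨hS, hxW⟩
  by_cases hb0 : b = 0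
  · subst hb0
    simp only [Matrix.single_zero, add_zero] at hP
    have ha : a ≠ 0 := by
      rintro rfl
      apply hx1
      simp only [Matrix.single_zero, add_zero]
      exact sb_zero _
    -- move to the second index
    have hP1 := PSy_congr cl (⟨Pm (Equiv.swap i₀ i₁), _, Pm_mul_transpose _, mul_eq_one_comm.1 (Pm_mul_transpose _)⟩ : GL (Fin m) K) hP
    rw [show (((⟨Pm (Equiv.swap i₀ i₁), _, Pm_mul_transpose _, mul_eq_one_comm.1 (Pm_mul_transpose _)⟩ : GL (Fin m) K)) : Matrix (Fin m) (Fin m) K) = Pm (Equiv.swap i₀ i₁) from rfl,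
      Pm_conj_single, Equiv.swap_apply_left] at hP1
    refine PSy_scale cl h10 ha ?_ t
    -- the transvection
    have hP2 := PSy_congr cl (SpecialLinearGroup.toGL (SpecialLinearGroup.transvection h10 (1 : K))) hP1
    rw [tt_congr] at hP2
    have e : (1 + Matrix.single i₀ i₁ (1 : K)) * Matrix.single i₁ i₁ a * (1 + Matrix.single i₁ i₀ 1) =
        Matrix.single i₁ i₁ a + Matrix.single i₀ i₁ a + Matrix.single i₁ i₀ a + Matrix.single i₀ i₀ a := by
      simp only [mul_add, add_mul, one_mul, mul_one, sm, if_true, h10, h10.symm, if_false, mul_zero, zero_mul, add_zero, zero_add]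
      abel
    rw [e] at hP2
    have h3 := PSy_sub (PSy_sub hP2 hP1) hP
    have e2 : Matrix.single i₁ i₁ a + Matrix.single i₀ i₁ a + Matrix.single i₁ i₀ a + Matrix.single i₀ i₀ a - Matrix.single i₁ i₁ a - Matrix.single i₀ i₀ a =
        Matrix.single i₀ i₁ a + Matrix.single i₁ i₀ a := by abel
    rwa [e2] at h3
  · by_cases hm3 : 3 ≤ m
    · obtain ⟨i₂, h2⟩ : ∃ i₂ : Fin m, (i₂ : ℕ) = 2 := ⟨⟨2, hm3⟩, rfl⟩
      have h21 : i₂ ≠ i₁ := by
        intro e
        rw [e] at h2
        omega
      have h20 : i₂ ≠ i₀ := by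
        intro e
        rw [e] at h2
        omega
      have hP2 := PSy_congr cl (SpecialLinearGroup.toGL (SpecialLinearGroup.transvection h21 (1 : K))) hP
      rw [tt_congr] at hP2
      have e : (1 + Matrix.single i₂ i₁ (1 : K)) * (Matrix.single i₀ i₀ a + Matrix.single i₀ i₁ b + Matrix.single i₁ i₀ b) * (1 + Matrix.single i₁ i₂ 1) =
          Matrix.single i₀ i₀ a + Matrix.single i₀ i₁ b + Matrix.single i₁ i₀ b + Matrix.single i₂ i₀ b + Matrix.single i₀ i₂ b := by
        simp only [mul_add, add_mul, one_mul, mul_one, sm, if_true, h10, h10.symm, h21, h21.symm, h20, h20.symm, if_false, mul_zero, zero_mul, add_zero, zero_add]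
        abel
      rw [e] at hP2
      have h3 := PSy_sub hP2 hP
      have e2 : Matrix.single i₀ i₀ a + Matrix.single i₀ i₁ b + Matrix.single i₁ i₀ b + Matrix.single i₂ i₀ b + Matrix.single i₀ i₂ b -
          (Matrix.single i₀ i₀ a + Matrix.single i₀ i₁ b + Matrix.single i₁ i₀ b) = Matrix.single i₂ i₀ b + Matrix.single i₀ i₂ b := by abel
      rw [e2] at h3
      have hP3 := PSy_congr cl (⟨Pm (Equiv.swap i₂ i₁), _, Pm_mul_transpose _, mul_eq_one_comm.1 (Pm_mul_transpose _)⟩ : GL (Fin m) K) h3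
      rw [show (((⟨Pm (Equiv.swap i₂ i₁), _, Pm_mul_transpose _, mul_eq_one_comm.1 (Pm_mul_transpose _)⟩ : GL (Fin m) K)) : Matrix (Fin m) (Fin m) K) = Pm (Equiv.swap i₂ i₁) from rfl,
        mul_add, add_mul, Pm_conj_single, Pm_conj_single, Equiv.swap_apply_left, Equiv.swap_apply_of_ne_of_ne h20.symm h10] at hP3
      refine PSy_scale cl h10 hb0 ?_ t
      rw [add_comm]
      exact hP3
    · have hm2 : m = 2 := by omega
      have hq := hex hm2
      obtain ⟨β, hβ0, hβ1⟩ : ∃ β : K, β ≠ 0 ∧ β ≠ 1 := by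
        classical
        have h3 : ({0, 1} : Finset K).card < (Finset.univ : Finset K).card := by
          rw [Finset.card_univ]
          have := Finset.card_le_two (a := (0 : K)) (b := 1)
          omega
        obtain ⟨β, -, hβ⟩ := Finset.exists_mem_notMem_of_card_lt_card h3
        simp only [Finset.mem_insert, Finset.mem_singleton, not_or] at hβ
        exact ⟨β, hβ.1, hβ.2⟩
      have hP2 := PSy_congr cl (dgU (Function.update 1 i₁ (Units.mk0 β hβ0))) hP
      have e : ((dgU (Function.update 1 i₁ (Units.mk0 β hβ0)) : GL (Fin m) K) : Matrix (Fin m) (Fin m) K) =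
          diagonal (fun k => ((Function.update (1 : Fin m → Kˣ) i₁ (Units.mk0 β hβ0) k : Kˣ) : K)) := rfl
      rw [e, mul_add, mul_add, add_mul, add_mul, diag_conj_single, diag_conj_single, diag_conj_single] at hP2
      simp only [Function.update_self, Function.update_of_ne h10, Pi.one_apply, Units.val_one, Units.val_mk0, one_mul, mul_one] at hP2
      have h3 := PSy_sub hP2 hP
      have hc0 : (β - 1) * b ≠ 0 := mul_ne_zero (sub_ne_zero.2 hβ1) hb0
      have e2 : Matrix.single i₀ i₀ a + Matrix.single i₀ i₁ (b * β) + Matrix.single i₁ i₀ (β * b) -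
          (Matrix.single i₀ i₀ a + Matrix.single i₀ i₁ b + Matrix.single i₁ i₀ b) =
          Matrix.single i₀ i₁ ((β - 1) * b) + Matrix.single i₁ i₀ ((β - 1) * b) := by
        ext u v
        simp only [Matrix.add_apply, Matrix.sub_apply, Matrix.single_apply]
        split_ifs <;> ring
      rw [e2] at h3
      exact PSy_scale cl h10 hc0 h3 t

end F

end Cfsg.Agent.H25
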