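import Cfsg.Agent.Lib.H25.SimU17
import Cfsg.Agent.Lib.H09.KSeq2
set_option autoImplicit false
set_option linter.style.haveILetI false

/-! An abstract criterion for simple 2-fusion: a group with an involution `y` and an element `t₀` of order four inverted by `y`,
whose centralizer is abelian. -/

namespace Cfsg.Agent.H25

open Cfsg Cfsg.FusionSystem

section T
variable {Γ : Type*} [Group Γ]

/-- A 2-element commuting with `t₀`. -/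
def IsTw (t₀ x : Γ) : Prop := x * t₀ = t₀ * x ∧ ∃ k : ℕ, x ^ 2 ^ k = 1

/-- The data of the criterion. -/
structure FD (y t₀ : Γ) : Prop where
  y2 : y * y = 1
  t4 : t₀ ^ 4 = 1
  t2 : t₀ ^ 2 ≠ 1
  yt : y * t₀ * y⁻¹ = t₀⁻¹
  comm : ∀ a b : Γ, a * t₀ = t₀ * a → b * t₀ = t₀ * b → a * b = b * a
  hd : ∃ a : Γ, a * t₀ = t₀ * a ∧ a * (y * a⁻¹ * y⁻¹) = t₀
  h3 : ∀ c, IsTw t₀ c → y * c * y⁻¹ = c⁻¹ → c ^ 4 = 1 → c ^ 2 ≠ 1 → c = t₀ ∨ c = t₀⁻¹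
  h4 : ∀ c, IsTw t₀ c → c ^ 2 = 1 → y * c * y⁻¹ = c → c = 1 ∨ c = t₀ ^ 2
  h5 : ∀ c, IsTw t₀ c → (c * y) ^ 2 = 1 → ∃ g : Γ, g * t₀ ^ 2 * g⁻¹ = c * y
  h7 : ∀ c, IsTw t₀ c → c ∈ Subgroup.closure {s : Γ | (IsTw t₀ s ∨ IsTw t₀ (s * y)) ∧
    ∃ g c₁ : Γ, IsTw t₀ c₁ ∧ y * c₁ * y⁻¹ = c₁⁻¹ ∧ s = g * c₁ * g⁻¹}

variable {y t₀ : Γ}

namespace FD
variable (h : FD y t₀)
include h

theorem y_inv : y⁻¹ = y := inv_eq_of_mul_eq_one_right h.y2

theorem tw_mul {a b : Γ} (ha : IsTw t₀ a) (hb : IsTw t₀ b) : IsTw t₀ (a * b) := by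
  refine ⟨by rw [mul_assoc, hb.1, ← mul_assoc, ha.1, mul_assoc], ?_⟩
  obtain ⟨k, hk⟩ := ha.2
  obtain ⟨l, hl⟩ := hb.2
  refine ⟨k + l, ?_⟩
  have hc : Commute a b := h.comm a b ha.1 hb.1
  have h1 : a ^ 2 ^ (k + l) = 1 := by rw [pow_add, pow_mul, hk, one_pow]
  have h2 : b ^ 2 ^ (k + l) = 1 := by rw [add_comm, pow_add, pow_mul, hl, one_pow]
  rw [hc.mul_pow, h1, h2, one_mul]

theorem tw_inv {a : Γ} (ha : IsTw t₀ a) : IsTw t₀ a⁻¹ := by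
  refine ⟨(show Commute a t₀ from ha.1).inv_left, ?_⟩
  obtain ⟨k, hk⟩ := ha.2
  exact ⟨k, by rw [inv_pow, hk, inv_one]⟩

theorem tw_one : IsTw t₀ (1 : Γ) := ⟨by rw [one_mul, mul_one], 0, by simp⟩

theorem tw_self : IsTw t₀ t₀ := ⟨rfl, 2, by simpa using h.t4⟩

theorem tw_conj {a : Γ} (ha : IsTw t₀ a) : IsTw t₀ (y * a * y⁻¹) := by
  refine ⟨?_, ?_⟩
  · have h1 : Commute (y * a * y⁻¹) (y * t₀ * y⁻¹) := (Commute.conj_iff y).2 ha.1
    rw [h.yt] at h1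
    exact Commute.inv_right_iff.1 h1
  · obtain ⟨k, hk⟩ := ha.2
    exact ⟨k, by rw [conj_pow, hk, mul_one, mul_inv_cancel]⟩

theorem tw_pow {a : Γ} (ha : IsTw t₀ a) (n : ℕ) : IsTw t₀ (a ^ n) := by
  induction n with
  | zero => simpa using h.tw_one
  | succ n IH =>
    rw [pow_succ]
    exact h.tw_mul IH ha

/-- The Sylow group. -/
def SF : Subgroup Γ where
  carrier := {g | IsTw t₀ g ∨ IsTw t₀ (g * y)}
  mul_mem' := by
    rintro a b (ha | ha) (hb | hb)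
    · exact Or.inl (h.tw_mul ha hb)
    · right
      rw [mul_assoc]
      exact h.tw_mul ha hb
    · right
      have e : a * b * y = (a * y) * (y * b * y⁻¹) := by
        rw [h.y_inv]
        calc a * b * y = a * (y * y) * b * y := by rw [h.y2, mul_one]
          _ = _ := by group
      rw [e]
      exact h.tw_mul ha (h.tw_conj hb)
    · left
      have e : a * b = (a * y) * (y * (b * y) * y⁻¹) := by
        rw [h.y_inv]
        calc a * b = a * (y * y) * b * (y * y) := by rw [h.y2, mul_one, mul_one]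
          _ = _ := by group
      rw [e]
      exact h.tw_mul ha (h.tw_conj hb)
  one_mem' := Or.inl h.tw_one
  inv_mem' := by
    rintro a (ha | ha)
    · exact Or.inl (h.tw_inv ha)
    · right
      have e : a⁻¹ * y = y * (a * y)⁻¹ * y⁻¹ := by
        have e1 := h.y_inv
        calc a⁻¹ * y = a⁻¹ * y⁻¹ := by rw [e1]
          _ = _ := by group
      rw [e]
      exact h.tw_conj (h.tw_inv ha)

theorem mem_SF {g : Γ} : g ∈ h.SF ↔ IsTw t₀ g ∨ IsTw t₀ (g * y) := Iff.rfl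

theorem y_mem : y ∈ h.SF := Or.inr (by rw [h.y2]; exact h.tw_one)

theorem tw_mem {a : Γ} (ha : IsTw t₀ a) : a ∈ h.SF := Or.inl ha

theorem SF_two {g : Γ} (hg : g ∈ h.SF) : ∃ k : ℕ, g ^ 2 ^ k = 1 := by
  rcases hg with hg | hg
  · exact hg.2
  · have e : g ^ 2 = (g * y) * (y * (g * y) * y⁻¹) := by
      rw [h.y_inv]
      calc g ^ 2 = g * (y * y) * g * (y * y) := by rw [h.y2, mul_one, mul_one, sq]
        _ = _ := by group
    have h1 := h.tw_mul hg (h.tw_conj hg)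
    rw [← e] at h1
    obtain ⟨k, hk⟩ := h1.2
    exact ⟨k + 1, by rw [pow_succ', pow_mul]; exact hk⟩

theorem isP_SF : IsPGroup 2 h.SF := by
  intro g
  obtain ⟨k, hk⟩ := h.SF_two g.2
  exact ⟨k, Subtype.ext (by simpa using hk)⟩

/-- Anti-invariant elements. -/
def PA (y t₀ x : Γ) : Prop := IsTw t₀ x ∧ y * x * y⁻¹ = x⁻¹

theorem PA_mul {a b : Γ} (ha : PA y t₀ a) (hb : PA y t₀ b) : PA y t₀ (a * b) := by
  refine ⟨h.tw_mul ha.1 hb.1, ?_⟩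
  have e : y * (a * b) * y⁻¹ = (y * a * y⁻¹) * (y * b * y⁻¹) := by group
  rw [e, ha.2, hb.2, mul_inv_rev, h.comm _ _ (h.tw_inv ha.1).1 (h.tw_inv hb.1).1]

theorem PA_inv {a : Γ} (ha : PA y t₀ a) : PA y t₀ a⁻¹ := by
  refine ⟨h.tw_inv ha.1, ?_⟩
  have e : y * a⁻¹ * y⁻¹ = (y * a * y⁻¹)⁻¹ := by group
  rw [e, ha.2]

theorem PA_N {a : Γ} (ha : IsTw t₀ a) : PA y t₀ (a * (y * a⁻¹ * y⁻¹)) := by
  refine ⟨h.tw_mul ha (h.tw_conj (h.tw_inv ha)), ?_⟩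
  have e : y * (a * (y * a⁻¹ * y⁻¹)) * y⁻¹ = (y * a * y⁻¹) * ((y * y) * a⁻¹ * (y⁻¹ * y⁻¹)) := by group
  rw [e, h.y2, ← mul_inv_rev, h.y2]
  group

/-- Commutators of the Sylow group are anti-invariant. -/
theorem comm_PA {u v : Γ} (hu : u ∈ h.SF) (hv : v ∈ h.SF) : PA y t₀ (u * v * u⁻¹ * v⁻¹) := by
  rcases hu with hu | hu <;> rcases hv with hv | hv
  · have e : u * v * u⁻¹ * v⁻¹ = 1 := by
      rw [h.comm u v hu.1 hv.1]
      group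
    rw [e]
    exact ⟨h.tw_one, by group⟩
  · obtain ⟨c, hc⟩ : ∃ c, c = v * y := ⟨_, rfl⟩
    rw [← hc] at hv
    have ev : v = c * y := by rw [hc, mul_assoc, h.y2, mul_one]
    have h1 := h.PA_N hu
    have e : u * v * u⁻¹ * v⁻¹ = u * (y * u⁻¹ * y⁻¹) := by
      have h2 : u * c = c * u := h.comm u c hu.1 hv.1
      have h3 : (u * (y * u⁻¹ * y⁻¹)) * c = c * (u * (y * u⁻¹ * y⁻¹)) := h.comm _ _ h1.1.1 hv.1
      rw [ev]
      calc u * (c * y) * u⁻¹ * (c * y)⁻¹ = (c * u) * y * u⁻¹ * y⁻¹ * c⁻¹ := by rw [← h2]; group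
        _ = c * (u * (y * u⁻¹ * y⁻¹)) * c⁻¹ := by group
        _ = _ := by rw [← h3]; group
    rw [e]
    exact h1
  · obtain ⟨c, hc⟩ : ∃ c, c = u * y := ⟨_, rfl⟩
    rw [← hc] at hu
    have eu : u = c * y := by rw [hc, mul_assoc, h.y2, mul_one]
    have h1 := h.PA_inv (h.PA_N hv)
    have e : u * v * u⁻¹ * v⁻¹ = (v * (y * v⁻¹ * y⁻¹))⁻¹ := by
      have h2 : c * (y * v * y⁻¹) = (y * v * y⁻¹) * c := h.comm _ _ hu.1 (h.tw_conj hv).1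
      rw [eu]
      calc c * y * v * (c * y)⁻¹ * v⁻¹ = (c * (y * v * y⁻¹)) * c⁻¹ * v⁻¹ := by
            group
        _ = _ := by rw [h2]; group
    rw [e]
    exact h1
  · obtain ⟨c, hc⟩ : ∃ c, c = u * y := ⟨_, rfl⟩
    obtain ⟨d, hd⟩ : ∃ d, d = v * y := ⟨_, rfl⟩
    rw [← hc] at hu
    rw [← hd] at hv
    have eu : u = c * y := by rw [hc, mul_assoc, h.y2, mul_one]
    have ev : v = d * y := by rw [hd, mul_assoc, h.y2, mul_one]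
    have h1 := h.PA_mul (h.PA_N hu) (h.PA_inv (h.PA_N hv))
    have e : u * v * u⁻¹ * v⁻¹ = (c * (y * c⁻¹ * y⁻¹)) * (d * (y * d⁻¹ * y⁻¹))⁻¹ := by
      have h2 : (y * d * y⁻¹) * (y * c⁻¹ * y⁻¹) = (y * c⁻¹ * y⁻¹) * (y * d * y⁻¹) :=
        h.comm _ _ (h.tw_conj hv).1 (h.tw_conj (h.tw_inv hu)).1
      rw [eu, ev]
      calc c * y * (d * y) * (c * y)⁻¹ * (d * y)⁻¹ = c * ((y * d * y⁻¹) * (y * c⁻¹ * y⁻¹)) * d⁻¹ := by
            group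
        _ = c * ((y * c⁻¹ * y⁻¹) * (y * d * y⁻¹)) * d⁻¹ := by rw [h2]
        _ = _ := by group
    rw [e]
    exact h1

theorem pow_odd_t {m : ℕ} (hm : Odd m) : t₀ ^ m = t₀ ∨ t₀ ^ m = t₀⁻¹ := by
  have h4 := h.t4
  have e : t₀⁻¹ = t₀ ^ 3 := by
    apply inv_eq_of_mul_eq_one_right
    rw [← pow_succ', h4]
  obtain ⟨r, rfl⟩ := hm
  have h5 : (2 * r + 1) % 4 = 1 ∨ (2 * r + 1) % 4 = 3 := by omega
  have h6 : t₀ ^ (2 * r + 1) = t₀ ^ ((2 * r + 1) % 4) := by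
    conv_lhs => rw [← Nat.div_add_mod (2 * r + 1) 4]
    rw [pow_add, pow_mul, h4, one_pow, one_mul]
  rw [h6, e]
  rcases h5 with h5 | h5 <;> rw [h5] <;> simp

/-- Splitting an element into its 2-part and its odd part. -/
theorem split_two [Finite Γ] (a : Γ) : ∃ (u v : ℤ) (k m : ℕ), Odd m ∧ a = a ^ u * a ^ v ∧ (a ^ u) ^ 2 ^ k = 1 ∧ (a ^ v) ^ m = 1 := by
  obtain ⟨k, m, hm, e⟩ := Nat.exists_eq_two_pow_mul_odd (orderOf_pos a).ne'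
  have hcop : Nat.Coprime (2 ^ k) m := Nat.Coprime.pow_left k (Nat.coprime_two_left.2 hm)
  have hbz := Nat.gcd_eq_gcd_ab (2 ^ k) m
  rw [hcop.gcd_eq_one] at hbz
  refine ⟨(m : ℤ) * Nat.gcdB (2 ^ k) m, ((2 ^ k : ℕ) : ℤ) * Nat.gcdA (2 ^ k) m, k, m, hm, ?_, ?_, ?_⟩
  · rw [← zpow_add]
    have : (m : ℤ) * Nat.gcdB (2 ^ k) m + ((2 ^ k : ℕ) : ℤ) * Nat.gcdA (2 ^ k) m = 1 := by
      have h1 : ((1 : ℕ) : ℤ) = 1 := rfl
      rw [h1] at hbz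
      linarith
    rw [this, zpow_one]
  · have e2 : a ^ (2 ^ k * m) = 1 := by
      rw [← e]
      exact pow_orderOf_eq_one a
    rw [← zpow_natCast, ← zpow_mul]
    have : (m : ℤ) * Nat.gcdB (2 ^ k) m * ((2 ^ k : ℕ) : ℤ) = ((2 ^ k * m : ℕ) : ℤ) * Nat.gcdB (2 ^ k) m := by
      push_cast
      ring
    rw [this, zpow_mul, zpow_natCast, e2, one_zpow]
  · have e2 : a ^ (2 ^ k * m) = 1 := by
      rw [← e]
      exact pow_orderOf_eq_one a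
    rw [← zpow_natCast, ← zpow_mul]
    have : ((2 ^ k : ℕ) : ℤ) * Nat.gcdA (2 ^ k) m * (m : ℤ) = ((2 ^ k * m : ℕ) : ℤ) * Nat.gcdA (2 ^ k) m := by
      push_cast
      ring
    rw [this, zpow_mul, zpow_natCast, e2, one_zpow]

end FD

end T

end Cfsg.Agent.H25
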