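import Cfsg.Agent.Lib.H25.SimT1
set_option autoImplicit false
set_option linter.style.haveILetI false

/-! An abstract criterion for simple 2-fusion: the normalizer of the Sylow group, strong closure, and the theorem. -/

namespace Cfsg.Agent.H25

open Cfsg Cfsg.FusionSystem

section T
variable {Γ : Type*} [Group Γ] {y t₀ : Γ}

namespace FD
variable (h : FD y t₀)
include h

theorem cen_conj {a : Γ} (ha : a * t₀ = t₀ * a) : (y * a * y⁻¹) * t₀ = t₀ * (y * a * y⁻¹) := by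
  have h1 : Commute (y * a * y⁻¹) (y * t₀ * y⁻¹) := (Commute.conj_iff y).2 ha
  rw [h.yt] at h1
  exact Commute.inv_right_iff.1 h1

theorem cen_inv {a : Γ} (ha : a * t₀ = t₀ * a) : a⁻¹ * t₀ = t₀ * a⁻¹ := (show Commute a t₀ from ha).inv_left

theorem N_zpow {a : Γ} (ha : a * t₀ = t₀ * a) (n : ℤ) : a ^ n * (y * (a ^ n)⁻¹ * y⁻¹) = (a * (y * a⁻¹ * y⁻¹)) ^ n := by
  have hc : Commute a (y * a⁻¹ * y⁻¹) := h.comm _ _ ha (h.cen_conj (h.cen_inv ha))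
  rw [hc.mul_zpow, conj_zpow, inv_zpow]

theorem form_of_cen [Finite Γ] {a : Γ} (ha : a * t₀ = t₀ * a) (hn : ∀ s ∈ h.SF, a * s * a⁻¹ ∈ h.SF) :
    ∃ a₂ a₀ : Γ, a = a₂ * a₀ ∧ IsTw t₀ a₂ ∧ a₀ * t₀ = t₀ * a₀ ∧ a₀ * y = y * a₀ ∧ ∃ m, Odd m ∧ a₀ ^ m = 1 := by
  obtain ⟨N, hN⟩ : ∃ N, N = a * (y * a⁻¹ * y⁻¹) := ⟨_, rfl⟩
  have hNs : N ∈ h.SF := by
    have e : N = (a * y * a⁻¹) * y⁻¹ := by rw [hN]; group
    rw [e]
    exact h.SF.mul_mem (hn y h.y_mem) (h.SF.inv_mem h.y_mem)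
  obtain ⟨k₁, hk₁⟩ := h.SF_two hNs
  obtain ⟨u, v, k, m, hm, e, h2, h3⟩ := h.split_two a
  refine ⟨a ^ u, a ^ v, e, ⟨(show Commute a t₀ from ha).zpow_left u, k, h2⟩, (show Commute a t₀ from ha).zpow_left v, ?_, m, hm, h3⟩
  have hcv : (a ^ v) * t₀ = t₀ * (a ^ v) := (show Commute a t₀ from ha).zpow_left v
  have h4 := h.N_zpow ha v
  rw [← hN] at h4
  have h5 := h.N_zpow hcv (m : ℤ)
  rw [zpow_natCast, h3, inv_one, mul_one, mul_inv_cancel, one_mul, h4, zpow_natCast] at h5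
  have h6 : (N ^ v) ^ 2 ^ k₁ = 1 := by
    rw [← zpow_natCast, ← zpow_mul, mul_comm, zpow_mul, zpow_natCast, hk₁, one_zpow]
  have hcop : Nat.gcd (2 ^ k₁) m = 1 := Nat.Coprime.pow_left k₁ (Nat.coprime_two_left.2 hm)
  have h7 : (N ^ v) ^ Nat.gcd (2 ^ k₁) m = 1 := pow_gcd_eq_one.2 ⟨h6, h5.symm⟩
  rw [hcop, pow_one] at h7
  rw [h7] at h4
  have h8 : y * (a ^ v)⁻¹ * y⁻¹ = (a ^ v)⁻¹ := eq_inv_of_mul_eq_one_right h4 |>.trans rfl
  have h9 : y * (a ^ v) * y⁻¹ = a ^ v := by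
    have : y * (a ^ v) * y⁻¹ = (y * (a ^ v)⁻¹ * y⁻¹)⁻¹ := by group
    rw [this, h8, inv_inv]
  calc a ^ v * y = (y * a ^ v * y⁻¹) * y := by rw [h9]
    _ = _ := by group

/-- Normalizing elements. -/
theorem norm_form [Finite Γ] {g : Γ} (hg : ∀ s ∈ h.SF, g * s * g⁻¹ ∈ h.SF) :
    ∃ s₀ ∈ h.SF, ∃ a : Γ, g = s₀ * a ∧ (∀ s ∈ h.SF, a * s = s * a) ∧ ∃ m, Odd m ∧ a ^ m = 1 := by
  obtain ⟨a₀, ha₀, hN⟩ := h.hd
  obtain ⟨k, m, hm, e⟩ := Nat.exists_eq_two_pow_mul_odd (orderOf_pos a₀).ne'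
  obtain ⟨d, hd⟩ : ∃ d, d = a₀ ^ m := ⟨_, rfl⟩
  have hd1 : IsTw t₀ d := by
    refine ⟨?_, k, ?_⟩
    · rw [hd]
      exact (show Commute a₀ t₀ from ha₀).pow_left m
    · rw [hd, ← pow_mul, mul_comm, ← e, pow_orderOf_eq_one]
  have hNd : d * (y * d⁻¹ * y⁻¹) = t₀ ^ m := by
    have h1 := h.N_zpow ha₀ (m : ℤ)
    rw [zpow_natCast, zpow_natCast, hN] at h1
    rw [hd]
    exact h1
  obtain ⟨τ, hτd⟩ : ∃ τ, τ = t₀ ^ m := ⟨_, rfl⟩
  have hτ : τ = t₀ ∨ τ = t₀⁻¹ := by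
    rw [hτd]
    exact h.pow_odd_t hm
  have hτ4 : τ ^ 4 = 1 := by
    rw [hτd, ← pow_mul, mul_comm, pow_mul, h.t4, one_pow]
  have hτ2 : τ ^ 2 ≠ 1 := by
    intro h1
    apply h.t2
    rcases hτ with rfl | rfl
    · exact h1
    · rw [inv_pow, inv_eq_one] at h1
      exact h1
  obtain ⟨c, hc⟩ : ∃ c, c = g * τ * g⁻¹ := ⟨_, rfl⟩
  have hcc : c = (g * d * g⁻¹) * (g * y * g⁻¹) * (g * d * g⁻¹)⁻¹ * (g * y * g⁻¹)⁻¹ := by
    rw [hc, hτd, ← hNd]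
    group
  have hP : PA y t₀ c := by
    rw [hcc]
    exact h.comm_PA (hg _ (h.tw_mem hd1)) (hg _ h.y_mem)
  have hc4 : c ^ 4 = 1 := by
    rw [hc, conj_pow, hτ4, mul_one, mul_inv_cancel]
  have hc2 : c ^ 2 ≠ 1 := by
    intro h1
    apply hτ2
    rw [hc, conj_pow] at h1
    have h2 := congrArg (fun x => g⁻¹ * x * g) h1
    simpa [mul_assoc] using h2
  have h3 := h.h3 c hP.1 hP.2 hc4 hc2
  have hcase : g * t₀ = t₀ * g ∨ (g * y) * t₀ = t₀ * (g * y) := by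
    have e1 : ∀ {x x' : Γ}, g * x * g⁻¹ = x' → g * x = x' * g := by
      rintro x x' rfl
      group
    have e2 : g * t₀⁻¹ = t₀ * g → (g * y) * t₀ = t₀ * (g * y) := by
      intro h5
      have h6 : y * t₀ = t₀⁻¹ * y := by
        have := h.yt
        calc y * t₀ = (y * t₀ * y⁻¹) * y := by group
          _ = _ := by rw [this]
      rw [mul_assoc, h6, ← mul_assoc, h5, mul_assoc]
    have e3 : g * t₀ = t₀⁻¹ * g → g * t₀⁻¹ = t₀ * g := by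
      intro h5
      have h6 : t₀ * (g * t₀) = g := by
        rw [h5]
        group
      calc g * t₀⁻¹ = (t₀ * (g * t₀)) * t₀⁻¹ := by rw [h6]
        _ = _ := by group
    rcases hτ with rfl | rfl <;> rcases h3 with h3 | h3 <;> rw [hc] at h3
    · exact Or.inl (e1 h3)
    · exact Or.inr (e2 (e3 (e1 h3)))
    · exact Or.inr (e2 (e1 h3))
    · left
      have h5 := e1 h3
      have h6 : t₀ * (g * t₀⁻¹) = t₀ * (t₀⁻¹ * g) := by rw [h5]
      have h7 : t₀ * g * t₀⁻¹ = g := by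
        rw [mul_assoc, h6]
        group
      calc g * t₀ = (t₀ * g * t₀⁻¹) * t₀ := by rw [h7]
        _ = _ := by group
  have hfin : ∀ (a₂ a₀ : Γ), a₀ * t₀ = t₀ * a₀ → a₀ * y = y * a₀ → ∀ s ∈ h.SF, a₀ * s = s * a₀ := by
    intro a₂ a₀ h1 h2 s hs
    rcases hs with hs | hs
    · exact h.comm _ _ h1 hs.1
    · have h3 : s = (s * y) * y⁻¹ := by group
      have h4 : a₀ * y⁻¹ = y⁻¹ * a₀ := (show Commute a₀ y from h2).inv_right
      rw [h3, ← mul_assoc, h.comm _ _ h1 hs.1, mul_assoc, h4]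
      group
  rcases hcase with hcase | hcase
  · obtain ⟨a₂, a₀', e1, h1, h2, h5, m', hm', h6⟩ := h.form_of_cen hcase hg
    exact ⟨a₂, h.tw_mem h1, a₀', e1, hfin a₂ a₀' h2 h5, m', hm', h6⟩
  · have hn : ∀ s ∈ h.SF, (g * y) * s * (g * y)⁻¹ ∈ h.SF := by
      intro s hs
      have e1 : (g * y) * s * (g * y)⁻¹ = g * (y * s * y⁻¹) * g⁻¹ := by group
      rw [e1]
      exact hg _ (h.SF.mul_mem (h.SF.mul_mem h.y_mem hs) (h.SF.inv_mem h.y_mem))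
    obtain ⟨a₂, a₀', e1, h1, h2, h5, m', hm', h6⟩ := h.form_of_cen hcase hn
    refine ⟨a₂ * y⁻¹, h.SF.mul_mem (h.tw_mem h1) (h.SF.inv_mem h.y_mem), a₀', ?_, hfin a₂ a₀' h2 h5, m', hm', h6⟩
    have h7 : a₀' * y⁻¹ = y⁻¹ * a₀' := (show Commute a₀' y from h5).inv_right
    calc g = (g * y) * y⁻¹ := by group
      _ = a₂ * (a₀' * y⁻¹) := by rw [e1, mul_assoc]
      _ = _ := by rw [h7, mul_assoc]

/-- Strong closure. -/
theorem W_eqT [Finite Γ] {W : Subgroup Γ} (hle : W ≤ h.SF) (cl : ∀ u ∈ W, ∀ g : Γ, g * u * g⁻¹ ∈ h.SF → g * u * g⁻¹ ∈ W) (hb : W ≠ ⊥) : W = h.SF := by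
  classical
  have hUp := h.isP_SF
  obtain ⟨x, hxW, hxc, hx1⟩ : ∃ x ∈ W, (∀ z ∈ h.SF, x * z = z * x) ∧ x ≠ 1 := by
    haveI hN : (W.subgroupOf h.SF).Normal := by
      refine ⟨fun a ha g => ?_⟩
      rw [Subgroup.mem_subgroupOf] at ha ⊢
      have h1 : (g : Γ) * a * (g : Γ)⁻¹ ∈ h.SF := h.SF.mul_mem (h.SF.mul_mem g.2 a.2) (h.SF.inv_mem g.2)
      exact cl _ ha _ h1
    have hM : W.subgroupOf h.SF ≠ ⊥ := by
      intro h'
      apply hb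
      rw [eq_bot_iff]
      intro z hz
      have h1 : (⟨z, hle hz⟩ : h.SF) ∈ W.subgroupOf h.SF := hz
      rw [h'] at h1
      have h2 : (⟨z, hle hz⟩ : h.SF) = 1 := Subgroup.mem_bot.1 h1
      exact Subgroup.mem_bot.2 (congrArg Subtype.val h2)
    have h1 := Cfsg.Agent.H09.normal_inf_center_ne_bot hUp (W.subgroupOf h.SF) hM
    rcases Subgroup.bot_or_exists_ne_one (W.subgroupOf h.SF ⊓ Subgroup.center h.SF) with h2 | ⟨z, hz, hz1⟩
    · exact absurd h2 h1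
    · obtain ⟨hzT, hzc⟩ := Subgroup.mem_inf.1 hz
      refine ⟨z, hzT, fun w hw => ?_, fun h' => hz1 (Subtype.ext h')⟩
      have := (Subgroup.mem_center_iff.1 hzc) ⟨w, hw⟩
      exact (congrArg Subtype.val this).symm
  -- an involution
  have hex : ∃ k : ℕ, x ^ 2 ^ k = 1 := h.SF_two (hle hxW)
  obtain ⟨k, hk, hmin⟩ : ∃ k : ℕ, x ^ 2 ^ (k + 1) = 1 ∧ x ^ 2 ^ k ≠ 1 := by
    have hfind := Nat.find_spec hex
    have h0 : Nat.find hex ≠ 0 := by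
      intro h0
      rw [h0] at hfind
      apply hx1
      simpa using hfind
    obtain ⟨j, hj⟩ := Nat.exists_eq_succ_of_ne_zero h0
    refine ⟨j, ?_, ?_⟩
    · rw [hj] at hfind
      exact hfind
    · exact Nat.find_min hex (by omega)
  obtain ⟨i, hi⟩ : ∃ i, i = x ^ 2 ^ k := ⟨_, rfl⟩
  have hiW : i ∈ W := by
    rw [hi]
    exact W.pow_mem hxW _
  have hi1 : i ≠ 1 := by
    rw [hi]
    exact hmin
  have hi2 : i ^ 2 = 1 := by
    rw [hi, ← pow_mul, ← pow_succ]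
    exact hk
  have hic : ∀ z ∈ h.SF, i * z = z * i := by
    intro z hz
    rw [hi]
    exact (show Commute x z from hxc z hz).pow_left _
  have ht2S : t₀ ∈ h.SF := h.tw_mem h.tw_self
  have hy1 : y⁻¹ = y := h.y_inv
  have hitw : IsTw t₀ i := by
    rcases hle hiW with h1 | h1
    · exact h1
    · exfalso
      apply h.t2
      obtain ⟨c, hc⟩ : ∃ c, c = i * y := ⟨_, rfl⟩
      rw [← hc] at h1
      have e1 : i = c * y := by rw [hc, mul_assoc, h.y2, mul_one]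
      have e2 : i * t₀ * i⁻¹ = t₀⁻¹ := by
        rw [e1]
        have h3 : (c * y) * t₀ * (c * y)⁻¹ = c * (y * t₀ * y⁻¹) * c⁻¹ := by group
        rw [h3, h.yt]
        have h4 := h.comm _ _ h1.1 (h.tw_inv h.tw_self).1
        rw [h4]
        group
      have e3 : i * t₀ * i⁻¹ = t₀ := by
        rw [hic t₀ ht2S]
        group
      rw [e3] at e2
      have e4 : t₀ * t₀ = 1 := by
        nth_rewrite 2 [e2]
        group
      rw [sq, e4]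
  have hiy : y * i * y⁻¹ = i := by
    rw [← hic y h.y_mem]
    group
  have hz : t₀ ^ 2 ∈ W := by
    rcases h.h4 i hitw hi2 hiy with h1 | h1
    · exact absurd h1 hi1
    · rw [← h1]
      exact hiW
  have hcy : ∀ c, IsTw t₀ c → (c * y) ^ 2 = 1 → c * y ∈ W := by
    intro c hc h2
    obtain ⟨g, hg⟩ := h.h5 c hc h2
    have h3 : c * y ∈ h.SF := by
      right
      rw [mul_assoc, h.y2, mul_one]
      exact hc
    rw [← hg] at h3 ⊢
    exact cl _ hz _ h3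
  have hyW : y ∈ W := by
    have := hcy 1 h.tw_one (by rw [one_mul, sq, h.y2])
    rwa [one_mul] at this
  have hPW : ∀ c, IsTw t₀ c → y * c * y⁻¹ = c⁻¹ → c ∈ W := by
    intro c hc h2
    have h3 : (c * y) ^ 2 = 1 := by
      have e1 : (c * y) ^ 2 = c * (y * c * y⁻¹) * (y * y) := by
        rw [sq]
        group
      rw [e1, h2, h.y2]
      group
    have h4 := W.mul_mem (hcy c hc h3) (W.inv_mem hyW)
    rwa [mul_inv_cancel_right] at h4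
  have hgen : ∀ c, IsTw t₀ c → c ∈ W := by
    intro c hc
    refine (Subgroup.closure_le W).2 ?_ (h.h7 c hc)
    rintro s ⟨hs, g, c₁, h1, h2, rfl⟩
    exact cl _ (hPW c₁ h1 h2) _ hs
  refine le_antisymm hle ?_
  rintro s (hs | hs)
  · exact hgen s hs
  · have h4 := W.mul_mem (hgen _ hs) (W.inv_mem hyW)
    rwa [mul_inv_cancel_right] at h4

variable {G : Type*} [Group G] [Finite G] [Finite Γ] {pr : Γ →* G}

theorem lift_norm (hker : ∀ x, pr x = 1 → (∀ g, x * g = g * x) ∧ x ^ 3 = 1) {g : Γ}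
    (hg : pr g ∈ Subgroup.normalizer ((h.SF.map pr : Subgroup G) : Set G)) : ∀ s ∈ h.SF, g * s * g⁻¹ ∈ h.SF := by
  intro s hs
  have h1 : pr s ∈ h.SF.map pr := ⟨s, hs, rfl⟩
  have h2 := (Subgroup.mem_normalizer_iff.1 hg (pr s)).1 h1
  obtain ⟨s', hs', e⟩ := h2
  obtain ⟨ζ, hζ⟩ : ∃ ζ, ζ = s'⁻¹ * (g * s * g⁻¹) := ⟨_, rfl⟩
  have hζ1 : pr ζ = 1 := by
    rw [hζ, map_mul, map_inv, e]
    simp only [map_mul, map_inv]
    group
  obtain ⟨hζc, hζ3⟩ := hker ζ hζ1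
  obtain ⟨k, hk⟩ := h.SF_two hs
  obtain ⟨l, hl⟩ := h.SF_two hs'
  have e2 : g * s * g⁻¹ = s' * ζ := by rw [hζ]; group
  have h3 : (s' * ζ) ^ 2 ^ (k + l) = 1 := by
    rw [← e2, conj_pow, pow_add, pow_mul, hk, one_pow, mul_one, mul_inv_cancel]
  have hcm : Commute s' ζ := (hζc s').symm
  rw [hcm.mul_pow, add_comm, pow_add, pow_mul, hl, one_pow, one_mul] at h3
  have hcop : Nat.gcd (2 ^ (l + k)) 3 = 1 := Nat.Coprime.pow_left _ (by norm_num)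
  have h4 : ζ ^ Nat.gcd (2 ^ (l + k)) 3 = 1 := pow_gcd_eq_one.2 ⟨by rw [pow_add]; exact h3, hζ3⟩
  rw [hcop, pow_one] at h4
  rw [e2, h4, mul_one]
  exact hs'

theorem GCb_SF (hker : ∀ x, pr x = 1 → (∀ g, x * g = g * x) ∧ x ^ 3 = 1) (hsurj : Function.Surjective pr) : GCb 2 (h.SF.map pr) := by
  intro g hg
  obtain ⟨s, rfl⟩ := hsurj g
  obtain ⟨s₀, hs₀, a, e, hac, -⟩ := h.norm_form (h.lift_norm hker hg)
  rw [e, map_mul]
  refine Subgroup.mul_mem _ (Subgroup.subset_closure (Or.inr ?_)) (Subgroup.subset_closure (Or.inl ?_))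
  · have hn : pr s₀ ∈ Subgroup.normalizer ((h.SF.map pr : Subgroup G) : Set G) := Subgroup.le_normalizer ⟨s₀, hs₀, rfl⟩
    refine ⟨hn, h.SF.map pr, le_rfl, Subgroup.le_normalizer, fun _ hy _ => hy, Subgroup.subset_closure ⟨hn, ?_⟩⟩
    obtain ⟨k, hk⟩ := h.SF_two hs₀
    have h1 : orderOf (pr s₀) ∣ 2 ^ k := orderOf_dvd_of_pow_eq_one (by rw [← map_pow, hk, map_one])
    obtain ⟨j, -, hj⟩ := (Nat.dvd_prime_pow Nat.prime_two).1 h1
    exact ⟨j, hj⟩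
  · rintro _ ⟨w, hw, rfl⟩
    rw [← map_mul, ← map_mul, hac w hw]

theorem GCa_SF : GCa (h.SF.map pr) := by
  intro T hT hcl
  by_cases hb : T = ⊥
  · exact Or.inl hb
  right
  set W : Subgroup Γ := T.comap pr ⊓ h.SF with hW
  have hle : W ≤ h.SF := inf_le_right
  have cl : ∀ u ∈ W, ∀ g : Γ, g * u * g⁻¹ ∈ h.SF → g * u * g⁻¹ ∈ W := by
    intro u hu g hg
    refine ⟨?_, hg⟩
    have h1 : pr u ∈ T := hu.1
    have h2 : pr g * pr u * (pr g)⁻¹ ∈ h.SF.map pr := by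
      refine ⟨_, hg, ?_⟩
      rw [map_mul, map_mul, map_inv]
    have h3 := hcl _ h1 _ h2
    show pr (g * u * g⁻¹) ∈ T
    rw [map_mul, map_mul, map_inv]
    exact h3
  have hW1 : W ≠ ⊥ := by
    intro h'
    apply hb
    rw [eq_bot_iff]
    intro t ht
    obtain ⟨u, hu, rfl⟩ := hT ht
    have h1 : u ∈ W := ⟨ht, hu⟩
    rw [h'] at h1
    rw [Subgroup.mem_bot.1 h1, map_one]
    exact Subgroup.one_mem _
  have h1 := h.W_eqT hle cl hW1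
  refine le_antisymm hT ?_
  rintro _ ⟨u, hu, rfl⟩
  rw [← h1] at hu
  exact hu.1

theorem SF_eq_sylow (hker : ∀ x, pr x = 1 → (∀ g, x * g = g * x) ∧ x ^ 3 = 1) (hsurj : Function.Surjective pr) (Q : Sylow 2 G)
    (hQ : h.SF.map pr ≤ (Q : Subgroup G)) : (Q : Subgroup G) = h.SF.map pr := by
  classical
  by_contra hne
  have hp := Cfsg.Agent.H24.sylow_isPGroup Q
  obtain ⟨g, hg, hgn⟩ := exists_normalizer_not_mem hp hQ (Ne.symm hne)
  obtain ⟨hgQ, hgN⟩ := mem_normalizerIn.1 hg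
  obtain ⟨s, rfl⟩ := hsurj g
  obtain ⟨s₀, hs₀, a, e, -, m, hm, ham⟩ := h.norm_form (h.lift_norm hker hgN)
  apply hgn
  have h1 : pr a ∈ (Q : Subgroup G) := by
    have h2 : a = s₀⁻¹ * s := by rw [e]; group
    rw [h2, map_mul, map_inv]
    exact Q.mul_mem (Q.inv_mem (hQ ⟨s₀, hs₀, rfl⟩)) hgQ
  obtain ⟨k, hk⟩ := hp ⟨pr a, h1⟩
  have hk' : (pr a) ^ 2 ^ k = 1 := congrArg Subtype.val hk
  have h3 : (pr a) ^ m = 1 := by rw [← map_pow, ham, map_one]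
  have hcop : Nat.gcd (2 ^ k) m = 1 := Nat.Coprime.pow_left k (Nat.coprime_two_left.2 hm)
  have h4 : (pr a) ^ Nat.gcd (2 ^ k) m = 1 := pow_gcd_eq_one.2 ⟨hk', h3⟩
  rw [hcop, pow_one] at h4
  rw [e, map_mul, h4, mul_one]
  exact ⟨s₀, hs₀, rfl⟩

/-- The abstract theorem. -/
theorem simple_of_FD (hker : ∀ x, pr x = 1 → (∀ g, x * g = g * x) ∧ x ^ 3 = 1) (hsurj : Function.Surjective pr) (S : Sylow 2 G) :
    (groupFusionSystem (S : Subgroup G)).IsSimple 2 := by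
  have hP : IsPGroup 2 (h.SF.map pr) := h.isP_SF.map pr
  obtain ⟨Q, hQ⟩ := hP.exists_le_sylow
  have hQ' := h.SF_eq_sylow hker hsurj Q hQ
  refine simple_of_crit_conj Q S ?_ ?_ ?_
  · rw [hQ']
    intro hbot
    have h1 : pr (t₀ ^ 2) ∈ h.SF.map pr := ⟨_, h.SF.pow_mem (h.tw_mem h.tw_self) 2, rfl⟩
    rw [hbot] at h1
    have h2 := (hker _ (Subgroup.mem_bot.1 h1)).2
    have h3 : (t₀ ^ 2) ^ 2 = 1 := by
      rw [← pow_mul]
      exact h.t4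
    apply h.t2
    have h4 : (t₀ ^ 2) ^ Nat.gcd 2 3 = 1 := pow_gcd_eq_one.2 ⟨h3, h2⟩
    simpa using h4
  · rw [hQ']
    exact h.GCa_SF
  · rw [hQ']
    exact h.GCb_SF hker hsurj

end FD

end T

end Cfsg.Agent.H25
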