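import Cfsg.Agent.Lib.H25.SimT2
set_option autoImplicit false
set_option linter.style.haveILetI false

/-! The wreathed case: a subgroup of `SL_3` containing the monomial elements. -/

namespace Cfsg.Agent.H25

open Cfsg Cfsg.FusionSystem Matrix
open scoped MatrixGroups

variable {K : Type*} [Field K]

/-- A diagonal matrix. -/
def dg3 (a b c : K) : Matrix (Fin 3) (Fin 3) K := diagonal ![a, b, c]

/-- A monomial matrix. -/
def yM3 : Matrix (Fin 3) (Fin 3) K := !![0, 1, 0; 1, 0, 0; 0, 0, -1]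

/-- A monomial matrix. -/
def piM3 : Matrix (Fin 3) (Fin 3) K := !![1, 0, 0; 0, 0, 1; 0, -1, 0]

/-- The inverse of a monomial matrix. -/
def piiM3 : Matrix (Fin 3) (Fin 3) K := !![1, 0, 0; 0, 0, -1; 0, 1, 0]

/-- The change of basis. -/
def pM3 (κ : K) : Matrix (Fin 3) (Fin 3) K := !![κ, 0, κ; -κ, 0, κ; 0, -(1 / (2 * κ ^ 2)), 0]

theorem dg3_apply (a b c : K) (j k : Fin 3) : dg3 a b c j k = if j = k then ![a, b, c] j else 0 := by
  unfold dg3
  rw [Matrix.diagonal_apply]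

theorem dg3_mul (a b c a' b' c' : K) : dg3 a b c * dg3 a' b' c' = dg3 (a * a') (b * b') (c * c') := by
  unfold dg3
  rw [diagonal_mul_diagonal]
  congr 1
  ext j
  fin_cases j <;> rfl

theorem dg3_one : dg3 (1 : K) 1 1 = 1 := by
  unfold dg3
  rw [← diagonal_one]
  congr 1
  ext j
  fin_cases j <;> rfl

theorem dg3_pow (a b c : K) (n : ℕ) : dg3 a b c ^ n = dg3 (a ^ n) (b ^ n) (c ^ n) := by
  unfold dg3
  rw [diagonal_pow]
  congr 1
  ext j
  fin_cases j <;> rfl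

theorem dg3_det (a b c : K) : (dg3 a b c).det = a * b * c := by
  unfold dg3
  rw [det_diagonal, Fin.prod_univ_three]
  rfl

theorem dg3_inj {a b c a' b' c' : K} (h : dg3 a b c = dg3 a' b' c') : a = a' ∧ b = b' ∧ c = c' := by
  refine ⟨?_, ?_, ?_⟩
  · simpa [dg3] using congrFun (congrFun h 0) 0
  · simpa [dg3] using congrFun (congrFun h 1) 1
  · simpa [dg3] using congrFun (congrFun h 2) 2

theorem y_mul_dg (a b c : K) : yM3 * dg3 a b c = dg3 b a c * yM3 := by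
  ext j k
  fin_cases j <;> fin_cases k <;> simp [yM3, dg3, Matrix.mul_apply, Fin.sum_univ_three]

theorem pi_mul_dg (a b c : K) : piM3 * dg3 a b c = dg3 a c b * piM3 := by
  ext j k
  fin_cases j <;> fin_cases k <;> simp [piM3, dg3, Matrix.mul_apply, Fin.sum_univ_three]

theorem y_sq : yM3 * yM3 = (1 : Matrix (Fin 3) (Fin 3) K) := by
  ext j k
  fin_cases j <;> fin_cases k <;> simp [yM3, Matrix.mul_apply, Fin.sum_univ_three]

theorem pi_pii : piM3 * piiM3 = (1 : Matrix (Fin 3) (Fin 3) K) := by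
  ext j k
  fin_cases j <;> fin_cases k <;> simp [piM3, piiM3, Matrix.mul_apply, Fin.sum_univ_three]

theorem y_det : (yM3 : Matrix (Fin 3) (Fin 3) K).det = 1 := by
  simp [yM3, Matrix.det_fin_three]

theorem pi_det : (piM3 : Matrix (Fin 3) (Fin 3) K).det = 1 := by
  simp [piM3, Matrix.det_fin_three]

theorem pM_det {κ : K} (hκ : κ ≠ 0) (h2 : (2 : K) ≠ 0) : (pM3 κ).det = 1 := by
  simp [pM3, Matrix.det_fin_three]
  field_simp
  ring

theorem pM_conj {κ : K} (hκ : κ ≠ 0) (h2 : (2 : K) ≠ 0) : pM3 κ * dg3 (-1) (-1) 1 = yM3 * pM3 κ := by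
  ext j k
  fin_cases j <;> fin_cases k <;> simp [pM3, yM3, dg3, Matrix.mul_apply, Fin.sum_univ_three]

/-- The element of `SL_3`. -/
def dgS (a b c : K) (h : a * b * c = 1) : SL(3, K) := ⟨dg3 a b c, by rw [dg3_det, h]⟩

/-- The element of `SL_3`. -/
def yS : SL(3, K) := ⟨yM3, y_det⟩

/-- The element of `SL_3`. -/
def piS : SL(3, K) := ⟨piM3, pi_det⟩

/-- The element of `SL_3`. -/
def pS (κ : K) (hκ : κ ≠ 0) (h2 : (2 : K) ≠ 0) : SL(3, K) := ⟨pM3 κ, pM_det hκ h2⟩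

/-- The data of the wreathed case. -/
structure WD (Γ₀ : Subgroup SL(3, K)) (i κ : K) : Prop where
  two : (2 : K) ≠ 0
  ii : i * i = -1
  κ0 : κ ≠ 0
  htt : ∀ h, dgS i (-i) 1 h ∈ Γ₀
  haa : ∀ h, dgS i 1 (-i) h ∈ Γ₀
  hy : yS ∈ Γ₀
  hpi : piS ∈ Γ₀
  hP : pS κ κ0 two ∈ Γ₀
  hD : ∀ (a b c : K) (h : a * b * c = 1), dgS a b c h ∈ Γ₀ → ∀ h', dgS a 1 a⁻¹ h' ∈ Γ₀

section
variable {Γ₀ : Subgroup SL(3, K)}

/-- The matrix of an element. -/
abbrev mt3 (g : Γ₀) : Matrix (Fin 3) (Fin 3) K := ((g : SL(3, K)) : Matrix (Fin 3) (Fin 3) K)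

theorem mt3_mul (a b : Γ₀) : mt3 (a * b) = mt3 a * mt3 b := rfl

theorem mt3_one : mt3 (1 : Γ₀) = 1 := rfl

theorem mt3_inj {a b : Γ₀} (h : mt3 a = mt3 b) : a = b := Subtype.ext (Subtype.ext h)

theorem mt3_pow (a : Γ₀) (k : ℕ) : mt3 (a ^ k) = mt3 a ^ k := by
  induction k with
  | zero => rw [pow_zero, pow_zero, mt3_one]
  | succ k IH => rw [pow_succ, pow_succ, mt3_mul, IH]

theorem diag_of_comm {x t : Γ₀} {a b c : K} (ht : mt3 t = dg3 a b c) (hab : a ≠ b) (hac : a ≠ c) (hbc : b ≠ c) (hx : x * t = t * x) :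
    mt3 x = dg3 (mt3 x 0 0) (mt3 x 1 1) (mt3 x 2 2) := by
  have h1 : mt3 x * dg3 a b c = dg3 a b c * mt3 x := by
    rw [← ht, ← mt3_mul, ← mt3_mul, hx]
  have h2 : ∀ j k, mt3 x j k * ![a, b, c] k = ![a, b, c] j * mt3 x j k := by
    intro j k
    have := congrFun (congrFun h1 j) k
    unfold dg3 at this
    rwa [Matrix.mul_diagonal, Matrix.diagonal_mul] at this
  have h3 : ∀ j k (u v : K), ![a, b, c] j = u → ![a, b, c] k = v → u ≠ v → mt3 x j k = 0 := by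
    intro j k u v e1 e2 hn
    have := h2 j k
    rw [e1, e2] at this
    have h4 : mt3 x j k * (v - u) = 0 := by linear_combination this
    exact (mul_eq_zero.1 h4).resolve_right (sub_ne_zero.2 hn.symm)
  ext j k
  rw [dg3_apply]
  fin_cases j <;> fin_cases k <;> simp
  · exact h3 0 1 a b rfl rfl hab
  · exact h3 0 2 a c rfl rfl hac
  · exact h3 1 0 b a rfl rfl hab.symm
  · exact h3 1 2 b c rfl rfl hbc
  · exact h3 2 0 c a rfl rfl hac.symm
  · exact h3 2 1 c b rfl rfl hbc.symm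

end

end Cfsg.Agent.H25
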