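import Cfsg.Agent.Lib.H25.SimT3
set_option autoImplicit false
set_option linter.style.haveILetI false

/-! The wreathed case: the data of the abstract criterion. -/

namespace Cfsg.Agent.H25

open Cfsg Cfsg.FusionSystem Matrix
open scoped MatrixGroups

variable {K : Type*} [Field K] {Γ₀ : Subgroup SL(3, K)} {i κ : K}

theorem pii_pi : piiM3 * piM3 = (1 : Matrix (Fin 3) (Fin 3) K) := by
  ext j k
  fin_cases j <;> fin_cases k <;> simp [piM3, piiM3, Matrix.mul_apply, Fin.sum_univ_three]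

theorem pii_mul_dg (a b c : K) : piiM3 * dg3 a b c = dg3 a c b * piiM3 := by
  ext j k
  fin_cases j <;> fin_cases k <;> simp [piiM3, dg3, Matrix.mul_apply, Fin.sum_univ_three]

namespace WD
variable (w : WD Γ₀ i κ)
include w

theorem i_ne : i ≠ 0 := by
  rintro rfl
  have := w.ii
  rw [zero_mul] at this
  exact neg_ne_zero.2 one_ne_zero this.symm

theorem ne1 : (-1 : K) ≠ 1 := by
  intro h
  apply w.two
  linear_combination -h

theorem d1 : i ≠ -i := by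
  intro h
  apply w.i_ne
  have : 2 * i = 0 := by linear_combination h
  exact (mul_eq_zero.1 this).resolve_left w.two

theorem d2 : i ≠ 1 := by
  rintro rfl
  apply w.ne1
  rw [← w.ii, one_mul]

theorem d3 : -i ≠ 1 := by
  intro h
  apply w.ne1
  rw [← w.ii]
  linear_combination (1 - i) * h

theorem hdet_t : i * (-i) * 1 = 1 := by
  linear_combination -w.ii

theorem hdet_a : i * 1 * (-i) = 1 := by
  linear_combination -w.ii

/-- The element of order four. -/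
def tG : Γ₀ := ⟨dgS i (-i) 1 w.hdet_t, w.htt _⟩

/-- The involution. -/
def yG : Γ₀ := ⟨yS, w.hy⟩

/-- The monomial element. -/
def piG : Γ₀ := ⟨piS, w.hpi⟩

/-- The change of basis. -/
def pG : Γ₀ := ⟨pS κ w.κ0 w.two, w.hP⟩

theorem mt_t : mt3 w.tG = dg3 i (-i) 1 := rfl

theorem mt_y : mt3 w.yG = yM3 := rfl

theorem mt_pi : mt3 w.piG = piM3 := rfl

theorem mt_p : mt3 w.pG = pM3 κ := rfl

theorem y_y : w.yG * w.yG = 1 := mt3_inj (by rw [mt3_mul, w.mt_y, y_sq, mt3_one])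

theorem y_inv' : w.yG⁻¹ = w.yG := inv_eq_of_mul_eq_one_right w.y_y

theorem mt_pi_inv : mt3 w.piG⁻¹ = piiM3 := by
  have h1 : mt3 w.piG * mt3 w.piG⁻¹ = 1 := by rw [← mt3_mul, mul_inv_cancel, mt3_one]
  rw [w.mt_pi] at h1
  calc mt3 w.piG⁻¹ = (piiM3 * piM3) * mt3 w.piG⁻¹ := by rw [pii_pi, one_mul]
    _ = piiM3 * (piM3 * mt3 w.piG⁻¹) := by rw [Matrix.mul_assoc]
    _ = _ := by rw [h1, mul_one]

theorem conj_y {x : Γ₀} {a b c : K} (h : mt3 x = dg3 a b c) : mt3 (w.yG * x * w.yG⁻¹) = dg3 b a c := by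
  rw [w.y_inv', mt3_mul, mt3_mul, h, w.mt_y, y_mul_dg, Matrix.mul_assoc, y_sq, mul_one]

theorem conj_pi {x : Γ₀} {a b c : K} (h : mt3 x = dg3 a b c) : mt3 (w.piG * x * w.piG⁻¹) = dg3 a c b := by
  rw [mt3_mul, mt3_mul, h, w.mt_pi_inv, w.mt_pi, pi_mul_dg, Matrix.mul_assoc, pi_pii, mul_one]

theorem conj_pi' {x : Γ₀} {a b c : K} (h : mt3 x = dg3 a b c) : mt3 (w.piG⁻¹ * x * w.piG) = dg3 a c b := by
  rw [mt3_mul, mt3_mul, h, w.mt_pi_inv, w.mt_pi, pii_mul_dg, Matrix.mul_assoc, pii_pi, mul_one]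

theorem mt_t2 : mt3 (w.tG ^ 2) = dg3 (-1) (-1) 1 := by
  rw [mt3_pow, w.mt_t, dg3_pow]
  have h1 : i ^ 2 = -1 := by rw [sq, w.ii]
  have h2 : (-i) ^ 2 = -1 := by rw [neg_sq, h1]
  rw [h1, h2, one_pow]

theorem tw_form {x : Γ₀} (hx : IsTw w.tG x) : ∃ a b c : K, mt3 x = dg3 a b c ∧ a * b * c = 1 ∧ ∃ k : ℕ, a ^ 2 ^ k = 1 ∧ b ^ 2 ^ k = 1 ∧ c ^ 2 ^ k = 1 := by
  have h1 := diag_of_comm w.mt_t w.d1 w.d2 w.d3 hx.1
  refine ⟨_, _, _, h1, ?_, ?_⟩
  · have h2 : (mt3 x).det = 1 := (x : SL(3, K)).2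
    rw [h1, dg3_det] at h2
    simpa [dg3] using h2
  · obtain ⟨k, hk⟩ := hx.2
    refine ⟨k, ?_⟩
    have h2 : mt3 (x ^ 2 ^ k) = 1 := by rw [hk, mt3_one]
    rw [mt3_pow, h1, dg3_pow, ← dg3_one] at h2
    exact dg3_inj h2

theorem tw_of {x : Γ₀} {a b c : K} (hx : mt3 x = dg3 a b c) {k : ℕ} (h1 : a ^ 2 ^ k = 1) (h2 : b ^ 2 ^ k = 1) (h3 : c ^ 2 ^ k = 1) : IsTw w.tG x := by
  refine ⟨mt3_inj ?_, k, mt3_inj ?_⟩
  · rw [mt3_mul, mt3_mul, hx, w.mt_t, dg3_mul, dg3_mul]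
    congr 1 <;> ring
  · rw [mt3_pow, hx, dg3_pow, h1, h2, h3, dg3_one, mt3_one]

theorem cen_eq {x x' : Γ₀} {a b c : K} (hx : mt3 x = dg3 a b c) (hx' : mt3 x' = dg3 b a c) (h : x' * x = 1) : a * b = 1 ∧ c * c = 1 := by
  have h1 := congrArg mt3 h
  rw [mt3_mul, hx, hx', dg3_mul, mt3_one, ← dg3_one] at h1
  have h2 := dg3_inj h1
  exact ⟨h2.2.1, h2.2.2⟩

theorem fd : FD w.yG w.tG where
  y2 := w.y_y
  t4 := by
    apply mt3_inj
    have h1 : i ^ 4 = 1 := by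
      have : i ^ 4 = (i * i) * (i * i) := by ring
      rw [this, w.ii]
      ring
    have h2 : (-i) ^ 4 = 1 := by
      have : (-i) ^ 4 = i ^ 4 := by ring
      rw [this, h1]
    rw [mt3_pow, w.mt_t, dg3_pow, h1, h2, one_pow, dg3_one, mt3_one]
  t2 := by
    intro h
    have h1 := congrArg mt3 h
    rw [w.mt_t2, mt3_one, ← dg3_one] at h1
    exact w.ne1 (dg3_inj h1).1
  yt := by
    apply eq_inv_of_mul_eq_one_left
    apply mt3_inj
    rw [mt3_mul, w.conj_y w.mt_t, w.mt_t, dg3_mul, mt3_one, ← dg3_one]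
    congr 1
    · linear_combination -w.ii
    · linear_combination -w.ii
    · ring
  comm := by
    intro a b ha hb
    have h1 := diag_of_comm w.mt_t w.d1 w.d2 w.d3 ha
    have h2 := diag_of_comm w.mt_t w.d1 w.d2 w.d3 hb
    apply mt3_inj
    rw [mt3_mul, mt3_mul, h1, h2, dg3_mul, dg3_mul]
    congr 1 <;> ring
  hd := by
    refine ⟨⟨dgS i 1 (-i) w.hdet_a, w.haa _⟩, mt3_inj ?_, ?_⟩
    · show dg3 i 1 (-i) * dg3 i (-i) 1 = dg3 i (-i) 1 * dg3 i 1 (-i)
      rw [dg3_mul, dg3_mul]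
      congr 1 <;> ring
    · obtain ⟨a, ha⟩ : ∃ a : Γ₀, a = ⟨dgS i 1 (-i) w.hdet_a, w.haa _⟩ := ⟨_, rfl⟩
      rw [← ha]
      have hm : mt3 a = dg3 i 1 (-i) := by rw [ha]; rfl
      have h1 : a * w.yG = w.tG * w.yG * a := by
        apply mt3_inj
        rw [mt3_mul, mt3_mul, mt3_mul, hm, w.mt_y, w.mt_t, Matrix.mul_assoc, y_mul_dg, ← Matrix.mul_assoc, dg3_mul]
        congr 2
        · ring
        · linear_combination w.ii
        · ring
      calc a * (w.yG * a⁻¹ * w.yG⁻¹) = (a * w.yG) * a⁻¹ * w.yG⁻¹ := by group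
        _ = _ := by rw [h1]; group
  h3 := by
    intro c hc h1 h2 h4
    obtain ⟨a, b, e, hm, hdet, -⟩ := w.tw_form hc
    have h5 : (w.yG * c * w.yG⁻¹) * c = 1 := by rw [h1, inv_mul_cancel]
    obtain ⟨h6, h7⟩ := w.cen_eq hm (w.conj_y hm) h5
    have he : e = 1 := by rwa [h6, one_mul] at hdet
    subst he
    have h8 : a ^ 4 = 1 := by
      have := congrArg mt3 h2
      rw [mt3_pow, hm, dg3_pow, mt3_one, ← dg3_one] at this
      exact (dg3_inj this).1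
    have h9 : a ^ 2 ≠ 1 := by
      intro h10
      apply h4
      apply mt3_inj
      have h11 : b ^ 2 = 1 := by
        have : (a * b) ^ 2 = 1 := by rw [h6, one_pow]
        rw [mul_pow, h10, one_mul] at this
        exact this
      rw [mt3_pow, hm, dg3_pow, h10, h11, one_pow, dg3_one, mt3_one]
    have h10 : a ^ 2 = -1 := by
      have h11 : (a ^ 2 - 1) * (a ^ 2 + 1) = 0 := by linear_combination h8
      rcases mul_eq_zero.1 h11 with h12 | h12
      · exact absurd (sub_eq_zero.1 h12) h9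
      · linear_combination h12
    have h11 : (a - i) * (a + i) = 0 := by linear_combination h10 - w.ii
    rcases mul_eq_zero.1 h11 with h12 | h12
    · left
      have ha : a = i := sub_eq_zero.1 h12
      subst ha
      have hb : b = -a := by linear_combination (-a) * h6 + b * w.ii
      subst hb
      exact mt3_inj (by rw [hm, w.mt_t])
    · right
      have ha : a = -i := by linear_combination h12
      subst ha
      have hb : b = i := by linear_combination i * h6 + b * w.ii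
      subst hb
      apply eq_inv_of_mul_eq_one_left
      apply mt3_inj
      rw [mt3_mul, hm, w.mt_t, dg3_mul, mt3_one, ← dg3_one]
      congr 1
      all_goals first | linear_combination -w.ii | ring
  h4 := by
    intro c hc h1 h2
    obtain ⟨a, b, e, hm, hdet, -⟩ := w.tw_form hc
    have h3 : dg3 b a e = dg3 a b e := by
      rw [← w.conj_y hm, h2, hm]
    have hb : b = a := (dg3_inj h3).1
    subst hb
    have h4 := congrArg mt3 h1
    rw [mt3_pow, hm, dg3_pow, mt3_one, ← dg3_one] at h4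
    have h5 := dg3_inj h4
    have hs : b * b = 1 := by rw [← sq]; exact h5.1
    have he : e = 1 := by rwa [hs, one_mul] at hdet
    subst he
    have h6 : (b - 1) * (b + 1) = 0 := by linear_combination hs
    rcases mul_eq_zero.1 h6 with h7 | h7
    · left
      have : b = 1 := sub_eq_zero.1 h7
      subst this
      exact mt3_inj (by rw [hm, dg3_one, mt3_one])
    · right
      have : b = -1 := by linear_combination h7
      subst this
      exact mt3_inj (by rw [hm, w.mt_t2])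
  h5 := by
    intro c hc h1
    obtain ⟨a, b, e, hm, hdet, -⟩ := w.tw_form hc
    have h2 := congrArg mt3 h1
    rw [mt3_pow, sq, mt3_mul, mt3_one, hm, w.mt_y, Matrix.mul_assoc, ← Matrix.mul_assoc yM3, y_mul_dg, Matrix.mul_assoc, y_sq, mul_one, dg3_mul, ← dg3_one] at h2
    obtain ⟨h3, -, h4⟩ := dg3_inj h2
    have he : e = 1 := by rwa [h3, one_mul] at hdet
    subst he
    have hx := w.conj_pi hm
    refine ⟨(w.piG * c * w.piG⁻¹) * w.pG, ?_⟩
    obtain ⟨x, hxd⟩ : ∃ x, x = w.piG * c * w.piG⁻¹ := ⟨_, rfl⟩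
    rw [← hxd] at hx ⊢
    have h5 : w.pG * w.tG ^ 2 = w.yG * w.pG := by
      apply mt3_inj
      rw [mt3_mul, mt3_mul, w.mt_p, w.mt_t2, w.mt_y]
      exact pM_conj w.κ0 w.two
    have h6 : x * w.yG = c * w.yG * x := by
      apply mt3_inj
      rw [mt3_mul, mt3_mul, mt3_mul, hx, hm, w.mt_y, Matrix.mul_assoc, y_mul_dg, ← Matrix.mul_assoc, dg3_mul]
      congr 2
      · ring
      · rw [mul_comm, h3]
      · ring
    calc x * w.pG * w.tG ^ 2 * (x * w.pG)⁻¹ = x * (w.pG * w.tG ^ 2) * w.pG⁻¹ * x⁻¹ := by group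
      _ = x * w.yG * x⁻¹ := by rw [h5]; group
      _ = _ := by rw [h6]; group
  h7 := by
    intro c hc
    obtain ⟨a, b, e, hm, hdet, k, h1, h2, h3⟩ := w.tw_form hc
    have ha0 : a ≠ 0 := by
      rintro rfl
      simp at hdet
    have hb0 : b ≠ 0 := by
      rintro rfl
      simp at hdet
    have hgen : ∀ (s : Γ₀) (u : K), u ≠ 0 → mt3 s = dg3 u 1 u⁻¹ → u ^ 2 ^ k = 1 → ∃ c₁ : Γ₀, IsTw w.tG c₁ ∧ w.yG * c₁ * w.yG⁻¹ = c₁⁻¹ ∧ s = w.piG * c₁ * w.piG⁻¹ := by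
      intro s u hu hs huk
      have hui : (u⁻¹) ^ 2 ^ k = 1 := by rw [inv_pow, huk, inv_one]
      have hc₁ := w.conj_pi' hs
      refine ⟨w.piG⁻¹ * s * w.piG, w.tw_of hc₁ huk hui (one_pow _), ?_, by group⟩
      apply eq_inv_of_mul_eq_one_left
      apply mt3_inj
      rw [mt3_mul, w.conj_y hc₁, hc₁, dg3_mul, mt3_one, ← dg3_one]
      congr 1
      · exact inv_mul_cancel₀ hu
      · exact mul_inv_cancel₀ hu
      · ring
    have hs1 : a * 1 * a⁻¹ = 1 := by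
      rw [mul_one]
      exact mul_inv_cancel₀ ha0
    have hs2 : b * 1 * b⁻¹ = 1 := by
      rw [mul_one]
      exact mul_inv_cancel₀ hb0
    have hcm : (c : SL(3, K)) = dgS a b e hdet := Subtype.ext hm
    have hm1 : dgS a 1 a⁻¹ hs1 ∈ Γ₀ := w.hD a b e hdet (by rw [← hcm]; exact c.2) hs1
    have hm2' : mt3 (w.yG * c * w.yG⁻¹) = dg3 b a e := w.conj_y hm
    have hdet2 : b * a * e = 1 := by rw [mul_comm b a]; exact hdet
    have hcm2 : ((w.yG * c * w.yG⁻¹ : Γ₀) : SL(3, K)) = dgS b a e hdet2 := Subtype.ext hm2'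
    have hm2 : dgS b 1 b⁻¹ hs2 ∈ Γ₀ := w.hD b a e hdet2 (by rw [← hcm2]; exact (w.yG * c * w.yG⁻¹).2) hs2
    obtain ⟨s₁, hs₁⟩ : ∃ s₁ : Γ₀, s₁ = ⟨dgS a 1 a⁻¹ hs1, hm1⟩ := ⟨_, rfl⟩
    obtain ⟨s₂, hs₂⟩ : ∃ s₂ : Γ₀, s₂ = ⟨dgS b 1 b⁻¹ hs2, hm2⟩ := ⟨_, rfl⟩
    have hms₁ : mt3 s₁ = dg3 a 1 a⁻¹ := by rw [hs₁]; rfl
    have hms₂ : mt3 s₂ = dg3 b 1 b⁻¹ := by rw [hs₂]; rfl
    have hms₃ := w.conj_y hms₂
    have hce : c = s₁ * (w.yG * s₂ * w.yG⁻¹) := by
      apply mt3_inj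
      rw [mt3_mul, hms₃, hms₁, dg3_mul, hm]
      congr 1
      · ring
      · ring
      · field_simp
        linear_combination hdet
    rw [hce]
    refine Subgroup.mul_mem _ (Subgroup.subset_closure ⟨Or.inl ?_, ?_⟩) (Subgroup.subset_closure ⟨Or.inl ?_, ?_⟩)
    · exact w.tw_of hms₁ h1 (one_pow _) (by rw [inv_pow, h1, inv_one])
    · obtain ⟨c₁, h4, h5, h6⟩ := hgen s₁ a ha0 hms₁ h1
      exact ⟨w.piG, c₁, h4, h5, h6⟩
    · exact w.tw_of hms₃ (one_pow _) h2 (by rw [inv_pow, h2, inv_one])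
    · obtain ⟨c₁, h4, h5, h6⟩ := hgen s₂ b hb0 hms₂ h2
      refine ⟨w.yG * w.piG, c₁, h4, h5, ?_⟩
      rw [h6]
      group

theorem ker_fact {x : Γ₀} (hx : x ∈ Subgroup.center Γ₀) : (∀ g, x * g = g * x) ∧ x ^ 3 = 1 := by
  have hc : ∀ g, x * g = g * x := fun g => ((Subgroup.mem_center_iff.1 hx) g).symm
  refine ⟨hc, ?_⟩
  have h1 := diag_of_comm w.mt_t w.d1 w.d2 w.d3 (hc w.tG)
  obtain ⟨a, b, e, hm⟩ : ∃ a b e, mt3 x = dg3 a b e := ⟨_, _, _, h1⟩
  have h2 := congrArg mt3 (hc w.yG)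
  rw [mt3_mul, mt3_mul, hm, w.mt_y, y_mul_dg] at h2
  have h3 : a = b := by
    have := congrFun (congrFun h2 0) 1
    simpa [dg3, yM3, Matrix.mul_apply, Fin.sum_univ_three] using this
  have h4 := congrArg mt3 (hc w.piG)
  rw [mt3_mul, mt3_mul, hm, w.mt_pi, pi_mul_dg] at h4
  have h5 : b = e := by
    have := congrFun (congrFun h4 1) 2
    simpa [dg3, piM3, Matrix.mul_apply, Fin.sum_univ_three] using this
  subst h3 h5
  have hdet : (mt3 x).det = 1 := (x : SL(3, K)).2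
  rw [hm, dg3_det] at hdet
  apply mt3_inj
  rw [mt3_pow, hm, dg3_pow, mt3_one, ← dg3_one]
  have : a ^ 3 = 1 := by
    rw [← hdet]
    ring
  rw [this]

/-- The wreathed theorem. -/
theorem simple_wreathed [Finite K] {G : Type*} [Group G] [Finite G] {pr : Γ₀ →* G} (hker : ∀ x, pr x = 1 ↔ x ∈ Subgroup.center Γ₀) (hsurj : Function.Surjective pr)
    (S : Sylow 2 G) : (groupFusionSystem (S : Subgroup G)).IsSimple 2 :=
  w.fd.simple_of_FD (fun x hx => w.ker_fact ((hker x).1 hx)) hsurj S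

end WD

end Cfsg.Agent.H25
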