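import Cfsg.Agent.Lib.H25.SimT4
set_option autoImplicit false
set_option linter.style.haveILetI false

/-! The semidihedral case for `SL_3`: `-1` is not a square. -/

namespace Cfsg.Agent.H25

open Cfsg Cfsg.FusionSystem Matrix
open scoped MatrixGroups

variable {K : Type*} [Field K]

/-- A block matrix. -/
def bl3 (u v r : K) : Matrix (Fin 3) (Fin 3) K := !![u, v, 0; -v, u, 0; 0, 0, r]

theorem bl3_mul (u v r u' v' r' : K) : bl3 u v r * bl3 u' v' r' = bl3 (u * u' - v * v') (u * v' + v * u') (r * r') := by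
  ext j k
  fin_cases j <;> fin_cases k <;> simp [bl3, Matrix.mul_apply, Fin.sum_univ_three] <;> ring

theorem bl3_one : bl3 (1 : K) 0 1 = 1 := by
  ext j k
  fin_cases j <;> fin_cases k <;> simp [bl3]

theorem bl3_det (u v r : K) : (bl3 u v r).det = (u * u + v * v) * r := by
  simp [bl3, Matrix.det_fin_three]
  ring

theorem bl3_inj {u v r u' v' r' : K} (h : bl3 u v r = bl3 u' v' r') : u = u' ∧ v = v' ∧ r = r' := by
  refine ⟨?_, ?_, ?_⟩
  · simpa [bl3] using congrFun (congrFun h 0) 0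
  · simpa [bl3] using congrFun (congrFun h 0) 1
  · simpa [bl3] using congrFun (congrFun h 2) 2

theorem y2_mul_bl (u v r : K) : dg3 1 (-1) (-1) * bl3 u v r = bl3 u (-v) r * dg3 1 (-1) (-1) := by
  ext j k
  fin_cases j <;> fin_cases k <;> simp [bl3, dg3, Matrix.mul_apply, Fin.sum_univ_three]

theorem bl_of_comm (h2 : (2 : K) ≠ 0) {M : Matrix (Fin 3) (Fin 3) K} (h : M * bl3 0 1 1 = bl3 0 1 1 * M) : M = bl3 (M 0 0) (M 0 1) (M 2 2) := by
  have e : ∀ j k : Fin 3, (M * bl3 0 1 1 : Matrix (Fin 3) (Fin 3) K) j k = (bl3 0 1 1 * M : Matrix (Fin 3) (Fin 3) K) j k := fun j k => by rw [h]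
  have e00 := e 0 0
  have e01 := e 0 1
  have e02 := e 0 2
  have e12 := e 1 2
  have e20 := e 2 0
  have e21 := e 2 1
  simp [bl3, Matrix.mul_apply, Fin.sum_univ_three] at e00 e01 e02 e12 e20 e21
  have h02 : M 0 2 = 0 := by
    have : 2 * M 0 2 = 0 := by linear_combination e02 + e12
    exact (mul_eq_zero.1 this).resolve_left h2
  have h12 : M 1 2 = 0 := by rw [← e02, h02]
  have h21 : M 2 1 = 0 := by
    have : 2 * M 2 1 = 0 := by linear_combination -e20 - e21
    exact (mul_eq_zero.1 this).resolve_left h2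
  have h20 : M 2 0 = 0 := by rw [e21, h21]
  ext j k
  fin_cases j <;> fin_cases k <;> simp [bl3]
  · exact h02
  · linear_combination -e00
  · exact e01.symm
  · exact h12
  · exact h20
  · exact h21

theorem two_pow_sq (hns : ∀ x : K, x * x ≠ -1) (k : ℕ) : ∀ r : K, r ^ 2 ^ k = 1 → r * r = 1 := by
  induction k with
  | zero =>
    intro r h
    simp at h
    rw [h, one_mul]
  | succ k IH =>
    intro r h
    rw [pow_succ', pow_mul] at h
    have h1 := IH _ h
    have h2 : (r * r - 1) * (r * r + 1) = 0 := by linear_combination h1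
    rcases mul_eq_zero.1 h2 with h3 | h3
    · exact sub_eq_zero.1 h3
    · exact absurd (by linear_combination h3) (hns r)

/-- The product with the involution. -/
def cyM (u v r : K) : Matrix (Fin 3) (Fin 3) K := !![u, -v, 0; -v, -u, 0; 0, 0, -r]

theorem bl_mul_y2 (u v r : K) : bl3 u v r * dg3 1 (-1) (-1) = cyM u v r := by
  ext j k
  fin_cases j <;> fin_cases k <;> simp [bl3, dg3, cyM, Matrix.mul_diagonal]

theorem bl3_pow (u v r : K) (n : ℕ) : ∃ a b : K, bl3 u v r ^ n = bl3 a b (r ^ n) := by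
  induction n with
  | zero => exact ⟨1, 0, by rw [pow_zero, pow_zero, bl3_one]⟩
  | succ n IH =>
    obtain ⟨a, b, h⟩ := IH
    exact ⟨_, _, by rw [pow_succ, h, bl3_mul, pow_succ]⟩

/-- An element of `SL_3`. -/
def blS (u v r : K) (h : (u * u + v * v) * r = 1) : SL(3, K) := ⟨bl3 u v r, by rw [bl3_det, h]⟩

section S
variable (hns : ∀ x : K, x * x ≠ -1) (h2 : (2 : K) ≠ 0)

/-- The element of order four. -/
def tS' : SL(3, K) := blS 0 1 1 (by ring)

/-- The involution. -/
def yS' : SL(3, K) := dgS 1 (-1) (-1) (by ring)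

theorem mt_tS' : ((tS' : SL(3, K)) : Matrix (Fin 3) (Fin 3) K) = bl3 0 1 1 := rfl

theorem mt_yS' : ((yS' : SL(3, K)) : Matrix (Fin 3) (Fin 3) K) = dg3 1 (-1) (-1) := rfl

theorem yS'_y : yS' * yS' = (1 : SL(3, K)) := by
  apply Subtype.ext
  show dg3 (1 : K) (-1) (-1) * dg3 1 (-1) (-1) = 1
  rw [dg3_mul, ← dg3_one]
  congr 1 <;> ring

theorem yS'_inv : (yS' : SL(3, K))⁻¹ = yS' := inv_eq_of_mul_eq_one_right yS'_y

theorem conj_yS {x : SL(3, K)} {u v r : K} (h : (x : Matrix (Fin 3) (Fin 3) K) = bl3 u v r) :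
    ((yS' * x * yS'⁻¹ : SL(3, K)) : Matrix (Fin 3) (Fin 3) K) = bl3 u (-v) r := by
  rw [yS'_inv]
  show dg3 (1 : K) (-1) (-1) * (x : Matrix (Fin 3) (Fin 3) K) * dg3 1 (-1) (-1) = _
  have e : dg3 ((1 : K) * 1) (-1 * -1) (-1 * -1) = 1 := by
    rw [← dg3_one]
    congr 1 <;> ring
  rw [h, y2_mul_bl, Matrix.mul_assoc, dg3_mul, e, mul_one]

include h2 in
theorem tw_formS {x : SL(3, K)} (hx : x * tS' = tS' * x) : ∃ u v r : K, (x : Matrix (Fin 3) (Fin 3) K) = bl3 u v r ∧ (u * u + v * v) * r = 1 := by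
  have h1 : (x : Matrix (Fin 3) (Fin 3) K) * bl3 0 1 1 = bl3 0 1 1 * (x : Matrix (Fin 3) (Fin 3) K) := congrArg (fun z : SL(3, K) => (z : Matrix (Fin 3) (Fin 3) K)) hx
  have h3 := bl_of_comm h2 h1
  refine ⟨_, _, _, h3, ?_⟩
  have h4 : (x : Matrix (Fin 3) (Fin 3) K).det = 1 := x.2
  rwa [h3, bl3_det] at h4

theorem bl_tw {x : SL(3, K)} {u v r : K} (h : (x : Matrix (Fin 3) (Fin 3) K) = bl3 u v r) : x * tS' = tS' * x := by
  apply Subtype.ext
  show (x : Matrix (Fin 3) (Fin 3) K) * bl3 0 1 1 = bl3 0 1 1 * (x : Matrix (Fin 3) (Fin 3) K)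
  rw [h, bl3_mul, bl3_mul]
  congr 1 <;> ring

theorem coe_pow_S (x : SL(3, K)) (n : ℕ) : ((x ^ n : SL(3, K)) : Matrix (Fin 3) (Fin 3) K) = (x : Matrix (Fin 3) (Fin 3) K) ^ n := by
  induction n with
  | zero => rfl
  | succ n IH => rw [pow_succ, pow_succ, ← IH]; rfl

theorem tS_sq : ((tS' ^ 2 : SL(3, K)) : Matrix (Fin 3) (Fin 3) K) = bl3 (-1) 0 1 := by
  rw [coe_pow_S, mt_tS', sq, bl3_mul]
  congr 1 <;> ring

theorem ne1S (h2 : (2 : K) ≠ 0) : (-1 : K) ≠ 1 := by
  intro h
  apply h2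
  linear_combination -h

theorem tS4 : (tS' : SL(3, K)) ^ 4 = 1 := by
  apply Subtype.ext
  rw [coe_pow_S, mt_tS']
  have : bl3 (0 : K) 1 1 ^ 4 = bl3 0 1 1 * (bl3 0 1 1 * (bl3 0 1 1 * bl3 0 1 1)) := by
    simp only [pow_succ, pow_zero, one_mul, Matrix.mul_assoc]
  rw [this, bl3_mul, bl3_mul, bl3_mul]
  show _ = (1 : Matrix (Fin 3) (Fin 3) K)
  rw [← bl3_one]
  congr 1 <;> ring

theorem tS_conj : (yS' : SL(3, K)) * tS' * yS'⁻¹ = tS'⁻¹ := by
  apply eq_inv_of_mul_eq_one_left
  apply Subtype.ext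
  show ((yS' * tS' * yS'⁻¹ : SL(3, K)) : Matrix (Fin 3) (Fin 3) K) * bl3 0 1 1 = 1
  rw [conj_yS mt_tS', bl3_mul, ← bl3_one]
  congr 1 <;> ring

include hns h2

/-- An involution outside the centralizer of `t₀`. -/
theorem conj_inv_y {u v : K} (huv : u * u + v * v = 1) : ∃ g : SL(3, K), g * tS' ^ 2 = blS u v 1 (by rw [huv, one_mul]) * yS' * g := by
  by_cases hu : u = -1
  · subst hu
    have hv : v = 0 := by
      have : v * v = 0 := by linear_combination huv
      exact mul_self_eq_zero.1 this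
    subst hv
    refine ⟨piS, Subtype.ext ?_⟩
    show piM3 * ((tS' ^ 2 : SL(3, K)) : Matrix (Fin 3) (Fin 3) K) = bl3 (-1) 0 1 * dg3 1 (-1) (-1) * piM3
    rw [tS_sq, bl_mul_y2]
    ext j k
    fin_cases j <;> fin_cases k <;> simp [piM3, bl3, cyM, Matrix.mul_apply, Fin.sum_univ_three]
  · have hu1 : 1 + u ≠ 0 := fun h => hu (by linear_combination h)
    have hdet : (2 * (1 + u)) ≠ 0 := mul_ne_zero h2 hu1
    obtain ⟨ρ, hρ⟩ : ∃ ρ, ρ * (2 * (1 + u)) = 1 := ⟨_, inv_mul_cancel₀ hdet⟩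
    let G : Matrix (Fin 3) (Fin 3) K := !![v, 0, 1 + u; 1 + u, 0, -v; 0, ρ, 0]
    have hG : G.det = 1 := by
      simp [G, Matrix.det_fin_three]
      linear_combination hρ + ρ * huv
    refine ⟨⟨G, hG⟩, Subtype.ext ?_⟩
    show G * ((tS' ^ 2 : SL(3, K)) : Matrix (Fin 3) (Fin 3) K) = bl3 u v 1 * dg3 1 (-1) (-1) * G
    rw [tS_sq, bl_mul_y2]
    ext j k
    fin_cases j <;> fin_cases k <;> simp [G, bl3, cyM, Matrix.mul_apply, Fin.sum_univ_three]
    all_goals first | ring1 | linear_combination -huv | linear_combination huv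

/-- An element of order four outside the centralizer of `t₀`. -/
theorem conj_four_y {u v : K} (huv : u * u + v * v = -1) (h : (u * u + v * v) * (-1) = 1) : ∃ g : SL(3, K), g * tS' = blS u v (-1) h * yS' * g := by
  have hv : v ≠ 0 := by
    rintro rfl
    apply hns u
    linear_combination huv
  obtain ⟨ρ, hρ⟩ : ∃ ρ, ρ * v = 1 := ⟨_, inv_mul_cancel₀ hv⟩
  let G : Matrix (Fin 3) (Fin 3) K := !![u, 1, 0; -v, 0, 0; 0, 0, ρ]
  have hG : G.det = 1 := by
    simp [G, Matrix.det_fin_three]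
    linear_combination hρ
  refine ⟨⟨G, hG⟩, Subtype.ext ?_⟩
  show G * bl3 0 1 1 = bl3 u v (-1) * dg3 1 (-1) (-1) * G
  rw [bl_mul_y2]
  ext j k
  fin_cases j <;> fin_cases k <;> simp [G, bl3, cyM, Matrix.mul_apply, Fin.sum_univ_three]
  all_goals first | ring1 | linear_combination -huv | linear_combination huv

theorem fdS : FD (yS' : SL(3, K)) tS' where
  y2 := yS'_y
  t4 := tS4
  t2 := by
    intro h
    have h1 := congrArg (fun z : SL(3, K) => (z : Matrix (Fin 3) (Fin 3) K)) h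
    simp only [tS_sq] at h1
    have h3 : bl3 (-1 : K) 0 1 = bl3 1 0 1 := by
      rw [h1, bl3_one]
      rfl
    exact ne1S h2 (bl3_inj h3).1
  yt := tS_conj
  comm := by
    intro a b ha hb
    obtain ⟨u, v, r, h1, -⟩ := tw_formS h2 ha
    obtain ⟨u', v', r', h3, -⟩ := tw_formS h2 hb
    apply Subtype.ext
    show (a : Matrix (Fin 3) (Fin 3) K) * (b : Matrix (Fin 3) (Fin 3) K) = (b : Matrix (Fin 3) (Fin 3) K) * (a : Matrix (Fin 3) (Fin 3) K)
    rw [h1, h3, bl3_mul, bl3_mul]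
    congr 1 <;> ring
  hd := by
    obtain ⟨ρ, hρ⟩ : ∃ ρ : K, ρ * 2 = 1 := ⟨_, inv_mul_cancel₀ h2⟩
    have hdet : ((1 : K) * 1 + 1 * 1) * ρ = 1 := by linear_combination hρ
    obtain ⟨a, ha⟩ : ∃ a : SL(3, K), a = blS 1 1 ρ hdet := ⟨_, rfl⟩
    have hm : (a : Matrix (Fin 3) (Fin 3) K) = bl3 1 1 ρ := by rw [ha]; rfl
    refine ⟨a, bl_tw hm, ?_⟩
    have h1 : a * yS' = tS' * yS' * a := by
      apply Subtype.ext
      show (a : Matrix (Fin 3) (Fin 3) K) * dg3 1 (-1) (-1) = bl3 0 1 1 * dg3 1 (-1) (-1) * (a : Matrix (Fin 3) (Fin 3) K)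
      rw [hm, Matrix.mul_assoc (bl3 0 1 1), y2_mul_bl, ← Matrix.mul_assoc, bl3_mul]
      congr 2 <;> ring
    calc a * (yS' * a⁻¹ * yS'⁻¹) = (a * yS') * a⁻¹ * yS'⁻¹ := by group
      _ = _ := by rw [h1]; group
  h3 := by
    intro c hc h1 h3 h4
    obtain ⟨u, v, r, hm, hdet⟩ := tw_formS h2 hc.1
    have h5 : (yS' * c * yS'⁻¹) * c = 1 := by rw [h1, inv_mul_cancel]
    have h6 : bl3 u (-v) r * bl3 u v r = bl3 1 0 1 := by
      rw [← conj_yS hm, ← hm, bl3_one]
      exact congrArg (fun z : SL(3, K) => (z : Matrix (Fin 3) (Fin 3) K)) h5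
    rw [bl3_mul] at h6
    obtain ⟨h7, -, h8⟩ := bl3_inj h6
    have hN : u * u + v * v = 1 := by linear_combination h7
    have hr : r = 1 := by rwa [hN, one_mul] at hdet
    subst hr
    have hc2 : (c : Matrix (Fin 3) (Fin 3) K) ^ 2 = bl3 (u * u - v * v) (2 * (u * v)) 1 := by
      rw [hm, sq, bl3_mul]
      congr 1 <;> ring
    have hc4 := congrArg (fun z : SL(3, K) => (z : Matrix (Fin 3) (Fin 3) K)) h3
    simp only [coe_pow_S] at hc4
    have h9 : (c : Matrix (Fin 3) (Fin 3) K) ^ 4 = bl3 1 0 1 := by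
      rw [bl3_one]
      exact hc4
    have h10 : (c : Matrix (Fin 3) (Fin 3) K) ^ 4 = (c : Matrix (Fin 3) (Fin 3) K) ^ 2 * (c : Matrix (Fin 3) (Fin 3) K) ^ 2 := by
      rw [← pow_add]
    rw [h10, hc2, bl3_mul] at h9
    obtain ⟨h11, h12, -⟩ := bl3_inj h9
    have h13 : (u * u - v * v) * (2 * (u * v)) = 0 := by
      have : 2 * ((u * u - v * v) * (2 * (u * v))) = 0 := by linear_combination h12
      exact (mul_eq_zero.1 this).resolve_left h2
    have h14 : 2 * (u * v) = 0 := by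
      rcases mul_eq_zero.1 h13 with h15 | h15
      · exfalso
        apply hns (2 * (u * v))
        rw [h15] at h11
        linear_combination -h11
      · exact h15
    have h15 : u * v = 0 := (mul_eq_zero.1 h14).resolve_left h2
    have h16 : (u * u - v * v) * (u * u - v * v) = 1 := by
      rw [h14] at h11
      linear_combination h11
    have h17 : u * u - v * v ≠ 1 := by
      intro h18
      apply h4
      apply Subtype.ext
      rw [coe_pow_S, hc2, h18, h14]
      exact bl3_one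
    have h18 : u * u - v * v = -1 := by
      have h19 : (u * u - v * v - 1) * (u * u - v * v + 1) = 0 := by linear_combination h16
      rcases mul_eq_zero.1 h19 with h20 | h20
      · exact absurd (sub_eq_zero.1 h20) h17
      · linear_combination h20
    rcases mul_eq_zero.1 h15 with h19 | h19
    · subst h19
      have h20 : v * v = 1 := by linear_combination -h18
      have h21 : (v - 1) * (v + 1) = 0 := by linear_combination h20
      rcases mul_eq_zero.1 h21 with h22 | h22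
      · left
        have : v = 1 := sub_eq_zero.1 h22
        subst this
        exact Subtype.ext hm
      · right
        have : v = -1 := by linear_combination h22
        subst this
        apply eq_inv_of_mul_eq_one_left
        apply Subtype.ext
        show (c : Matrix (Fin 3) (Fin 3) K) * bl3 0 1 1 = 1
        rw [hm, bl3_mul, ← bl3_one]
        congr 1 <;> ring
    · subst h19
      exact absurd (by linear_combination h18) (hns u)
  h4 := by
    intro c hc h1 h3
    obtain ⟨u, v, r, hm, hdet⟩ := tw_formS h2 hc.1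
    have h5 : bl3 u (-v) r = bl3 u v r := by
      rw [← conj_yS hm, h3]
      exact hm
    have h6 : v = 0 := by
      have h7 := (bl3_inj h5).2.1
      have : 2 * v = 0 := by linear_combination -h7
      exact (mul_eq_zero.1 this).resolve_left h2
    subst h6
    have h7 := congrArg (fun z : SL(3, K) => (z : Matrix (Fin 3) (Fin 3) K)) h1
    simp only [coe_pow_S] at h7
    have h8 : bl3 u 0 r * bl3 u 0 r = bl3 1 0 1 := by
      rw [← hm, bl3_one, ← sq]
      exact h7
    rw [bl3_mul] at h8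
    obtain ⟨h9, -, h10⟩ := bl3_inj h8
    have hs : u * u = 1 := by linear_combination h9
    have hr : r = 1 := by
      rw [hs] at hdet
      linear_combination hdet
    subst hr
    have h11 : (u - 1) * (u + 1) = 0 := by linear_combination hs
    rcases mul_eq_zero.1 h11 with h12 | h12
    · left
      have : u = 1 := sub_eq_zero.1 h12
      subst this
      apply Subtype.ext
      rw [hm]
      exact bl3_one
    · right
      have : u = -1 := by linear_combination h12
      subst this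
      apply Subtype.ext
      rw [hm, tS_sq]
  h5 := by
    intro c hc h1
    obtain ⟨u, v, r, hm, hdet⟩ := tw_formS h2 hc.1
    have h3 := congrArg (fun z : SL(3, K) => (z : Matrix (Fin 3) (Fin 3) K)) h1
    simp only [coe_pow_S] at h3
    have h4 : bl3 u v r * bl3 u (-v) r = bl3 1 0 1 := by
      have h5 : ((c * yS' : SL(3, K)) : Matrix (Fin 3) (Fin 3) K) = bl3 u v r * dg3 1 (-1) (-1) := by
        show (c : Matrix (Fin 3) (Fin 3) K) * dg3 1 (-1) (-1) = _
        rw [hm]
      rw [h5, sq] at h3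
      have h6 : bl3 u v r * dg3 1 (-1) (-1) * (bl3 u v r * dg3 1 (-1) (-1)) = bl3 u v r * bl3 u (-v) r * (dg3 1 (-1) (-1) * dg3 1 (-1) (-1)) := by
        rw [Matrix.mul_assoc, ← Matrix.mul_assoc (dg3 1 (-1) (-1)), y2_mul_bl]
        simp only [Matrix.mul_assoc]
      rw [h6, dg3_mul] at h3
      have h7 : dg3 ((1 : K) * 1) (-1 * -1) (-1 * -1) = 1 := by
        rw [← dg3_one]
        congr 1 <;> ring
      rw [h7, mul_one] at h3
      rw [bl3_one]
      exact h3
    rw [bl3_mul] at h4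
    obtain ⟨h5, -, h6⟩ := bl3_inj h4
    have hN : u * u + v * v = 1 := by linear_combination h5
    have hr : r = 1 := by rwa [hN, one_mul] at hdet
    subst hr
    obtain ⟨g, hg⟩ := conj_inv_y hns h2 hN
    have hce : c = blS u v 1 (by rw [hN, one_mul]) := Subtype.ext hm
    refine ⟨g, ?_⟩
    rw [hg, hce]
    group
  h7 := by
    intro c hc
    obtain ⟨u, v, r, hm, hdet⟩ := tw_formS h2 hc.1
    obtain ⟨k, hk⟩ := hc.2
    have hr2 : r * r = 1 := by
      apply two_pow_sq hns k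
      have h3 := congrArg (fun z : SL(3, K) => (z : Matrix (Fin 3) (Fin 3) K)) hk
      simp only [coe_pow_S] at h3
      rw [hm] at h3
      obtain ⟨a, b, h5⟩ := bl3_pow u v r (2 ^ k)
      rw [h5] at h3
      have h4 : bl3 a b (r ^ 2 ^ k) = bl3 1 0 1 := by
        rw [bl3_one]
        exact h3
      exact (bl3_inj h4).2.2
    obtain ⟨gy, hgy⟩ : ∃ g : SL(3, K), g * tS' ^ 2 = blS 1 0 1 (by ring) * yS' * g := conj_inv_y hns h2 (by ring)
    have hb1 : blS (1 : K) 0 1 (by ring) = 1 := Subtype.ext bl3_one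
    rw [hb1, one_mul] at hgy
    have ht4 : (tS' : SL(3, K)) ^ 4 = 1 := tS4
    have htw : IsTw (tS' : SL(3, K)) tS' := ⟨rfl, 2, by simpa using ht4⟩
    have ht2tw : IsTw (tS' : SL(3, K)) (tS' ^ 2) := by
      refine ⟨(Commute.refl _).pow_left 2, 1, ?_⟩
      rw [← pow_mul]
      exact ht4
    have ht2c : yS' * tS' ^ 2 * yS'⁻¹ = ((tS' : SL(3, K)) ^ 2)⁻¹ := by
      rw [← conj_pow, tS_conj, inv_pow]
    have hywt : IsTw (tS' : SL(3, K)) (yS' * yS') := by
      rw [yS'_y]
      exact ⟨by rw [one_mul, mul_one], 0, by simp⟩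
    have hyg : yS' ∈ Subgroup.closure {s : SL(3, K) | (IsTw tS' s ∨ IsTw tS' (s * yS')) ∧
        ∃ g c₁ : SL(3, K), IsTw tS' c₁ ∧ yS' * c₁ * yS'⁻¹ = c₁⁻¹ ∧ s = g * c₁ * g⁻¹} := by
      refine Subgroup.subset_closure ⟨Or.inr hywt, gy, tS' ^ 2, ht2tw, ht2c, ?_⟩
      rw [hgy]
      group
    have hcy : IsTw (tS' : SL(3, K)) ((c * yS') * yS') := by
      rw [mul_assoc, yS'_y, mul_one]
      exact hc
    have hfin : c * yS' ∈ Subgroup.closure {s : SL(3, K) | (IsTw tS' s ∨ IsTw tS' (s * yS')) ∧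
        ∃ g c₁ : SL(3, K), IsTw tS' c₁ ∧ yS' * c₁ * yS'⁻¹ = c₁⁻¹ ∧ s = g * c₁ * g⁻¹} := by
      have hr3 : (r - 1) * (r + 1) = 0 := by linear_combination hr2
      rcases mul_eq_zero.1 hr3 with h3 | h3
      · have hr : r = 1 := sub_eq_zero.1 h3
        subst hr
        have hN : u * u + v * v = 1 := by rwa [mul_one] at hdet
        obtain ⟨g, hg⟩ := conj_inv_y hns h2 hN
        have hce : c = blS u v 1 (by rw [hN, one_mul]) := Subtype.ext hm
        rw [← hce] at hg
        refine Subgroup.subset_closure ⟨Or.inr hcy, g, tS' ^ 2, ht2tw, ht2c, ?_⟩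
        rw [hg]
        group
      · have hr : r = -1 := by linear_combination h3
        subst hr
        have hN : u * u + v * v = -1 := by linear_combination -hdet
        obtain ⟨g, hg⟩ := conj_four_y hns h2 hN hdet
        have hce : c = blS u v (-1) hdet := Subtype.ext hm
        rw [← hce] at hg
        refine Subgroup.subset_closure ⟨Or.inr hcy, g, tS', htw, tS_conj, ?_⟩
        rw [hg]
        group
    have := Subgroup.mul_mem _ hfin (Subgroup.inv_mem _ hyg)
    rwa [mul_inv_cancel_right] at this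

end S

end Cfsg.Agent.H25
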