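import Cfsg.Agent.Lib.H25.SimT5
set_option autoImplicit false
set_option linter.style.haveILetI false

/-! The 2-fusion system of `PSL_3(F)`, `F` of odd order. -/

namespace Cfsg.Agent.H25

open Cfsg Cfsg.FusionSystem Matrix
open scoped MatrixGroups

variable {K : Type*} [Field K] [Fintype K]

theorem two_ne_of_odd (hodd : Fintype.card K % 2 = 1) : (2 : K) ≠ 0 := by
  intro h
  have h1 : ringChar K ∣ 2 := by
    rw [← ringChar.spec K 2]
    exact_mod_cast h
  have h2 : ringChar K = 1 ∨ ringChar K = 2 := (Nat.dvd_prime Nat.prime_two).1 h1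
  rcases h2 with h2 | h2
  · exact CharP.ringChar_ne_one h2
  · have h3 := FiniteField.even_card_iff_char_two.1 h2
    omega

theorem sl_center_facts {x : SL(3, K)} (hx : x ∈ Subgroup.center SL(3, K)) : (∀ g, x * g = g * x) ∧ x ^ 3 = 1 := by
  refine ⟨fun g => ((Subgroup.mem_center_iff.1 hx) g).symm, ?_⟩
  obtain ⟨r, hr, e⟩ := Matrix.SpecialLinearGroup.mem_center_iff.1 hx
  rw [Fintype.card_fin] at hr
  apply Subtype.ext
  rw [coe_pow_S, ← e, ← map_pow, hr, map_one]
  rfl

/-- The theorem. -/
theorem psl3_two_simple (hodd : Fintype.card K % 2 = 1) (S : Sylow 2 (Matrix.ProjectiveSpecialLinearGroup (Fin 3) K)) :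
    (groupFusionSystem (S : Subgroup (Matrix.ProjectiveSpecialLinearGroup (Fin 3) K))).IsSimple 2 := by
  have h2 := two_ne_of_odd hodd
  by_cases hi : ∃ i : K, i * i = -1
  · obtain ⟨i, hi⟩ := hi
    have w : WD (⊤ : Subgroup SL(3, K)) i 1 := by
      refine ⟨h2, hi, one_ne_zero, fun _ => Subgroup.mem_top _, fun _ => Subgroup.mem_top _, Subgroup.mem_top _, Subgroup.mem_top _, Subgroup.mem_top _, fun _ _ _ _ _ _ => Subgroup.mem_top _⟩
    let pr : (⊤ : Subgroup SL(3, K)) →* Matrix.ProjectiveSpecialLinearGroup (Fin 3) K :=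
      (QuotientGroup.mk' (Subgroup.center SL(3, K))).comp (⊤ : Subgroup SL(3, K)).subtype
    refine w.simple_wreathed (pr := pr) ?_ ?_ S
    · intro x
      show (QuotientGroup.mk' (Subgroup.center SL(3, K))) (x : SL(3, K)) = 1 ↔ _
      rw [QuotientGroup.mk'_apply, QuotientGroup.eq_one_iff]
      constructor
      · intro h
        refine Subgroup.mem_center_iff.2 fun g => Subtype.ext ?_
        exact (Subgroup.mem_center_iff.1 h) g
      · intro h
        refine Subgroup.mem_center_iff.2 fun g => ?_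
        have := (Subgroup.mem_center_iff.1 h) ⟨g, Subgroup.mem_top _⟩
        exact congrArg Subtype.val this
    · intro x
      obtain ⟨s, rfl⟩ := QuotientGroup.mk_surjective x
      exact ⟨⟨s, Subgroup.mem_top _⟩, rfl⟩
  · have hns : ∀ x : K, x * x ≠ -1 := fun x hx => hi ⟨x, hx⟩
    refine (fdS hns h2).simple_of_FD (pr := QuotientGroup.mk' (Subgroup.center SL(3, K))) ?_ (QuotientGroup.mk'_surjective _) S
    intro x hx
    rw [QuotientGroup.mk'_apply, QuotientGroup.eq_one_iff] at hx
    exact sl_center_facts hx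

end Cfsg.Agent.H25
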