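import Cfsg.Agent.Lib.H25.SimT6
set_option autoImplicit false
set_option linter.style.haveILetI false

/-! The 2-fusion system of `PSU_3`: the wreathed case. -/

namespace Cfsg.Agent.H25

open Cfsg Cfsg.FusionSystem Matrix
open scoped MatrixGroups

variable {K : Type*} [Field K] {σ : K →+* K}

theorem mapM_dg (σ : K →+* K) (a b c : K) : σ.mapMatrix (dg3 a b c) = dg3 (σ a) (σ b) (σ c) := by
  unfold dg3
  rw [mapMatrix_diag]
  congr 1
  ext j
  fin_cases j <;> rfl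

theorem dg3_transpose (a b c : K) : (dg3 a b c)ᵀ = dg3 a b c := by
  unfold dg3
  rw [diagonal_transpose]

theorem mapM_y (σ : K →+* K) : σ.mapMatrix (yM3 : Matrix (Fin 3) (Fin 3) K) = yM3 := by
  ext j k
  fin_cases j <;> fin_cases k <;> simp [yM3]

theorem mapM_pi (σ : K →+* K) : σ.mapMatrix (piM3 : Matrix (Fin 3) (Fin 3) K) = piM3 := by
  ext j k
  fin_cases j <;> fin_cases k <;> simp [piM3]

theorem y_transpose : (yM3 : Matrix (Fin 3) (Fin 3) K)ᵀ = yM3 := by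
  ext j k
  fin_cases j <;> fin_cases k <;> simp [yM3]

theorem pi_transpose : (piM3 : Matrix (Fin 3) (Fin 3) K)ᵀ = piiM3 := by
  ext j k
  fin_cases j <;> fin_cases k <;> simp [piM3, piiM3]

theorem dg_in_SU {q : ℕ} (hq : ∀ x, σ x = x ^ q) {a b c : K} (h : a * b * c = 1) (h1 : a * σ a = 1) (h2 : b * σ b = 1) (h3 : c * σ c = 1) : dgS a b c h ∈ SU 3 K q := by
  rw [mem_SU_iff hq]
  show (dg3 a b c)ᵀ * σ.mapMatrix (dg3 a b c) = 1
  rw [dg3_transpose, mapM_dg, dg3_mul, h1, h2, h3, dg3_one]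

theorem dg_of_SU {q : ℕ} (hq : ∀ x, σ x = x ^ q) {a b c : K} (h : a * b * c = 1) (hm : dgS a b c h ∈ SU 3 K q) : a * σ a = 1 := by
  rw [mem_SU_iff hq] at hm
  have hm' : (dg3 a b c)ᵀ * σ.mapMatrix (dg3 a b c) = 1 := hm
  rw [dg3_transpose, mapM_dg, dg3_mul, ← dg3_one] at hm'
  exact (dg3_inj hm').1

theorem pM_unitary (hσ : ∀ x, σ (σ x) = x) {κ : K} (hκ : κ ≠ 0) (h2 : (2 : K) ≠ 0) (hn : κ * σ κ = 1 / 2) : (pM3 κ)ᵀ * σ.mapMatrix (pM3 κ) = 1 := by
  have hs2 : σ 2 = 2 := map_ofNat σ 2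
  have hσκ : σ κ ≠ 0 := by
    intro h
    apply hκ
    rw [← hσ κ, h, map_zero]
  have h3 : 2 * (κ * σ κ) = 1 := by
    rw [hn]
    field_simp
  have h5 : (κ ^ 2)⁻¹ * 2⁻¹ * ((σ κ ^ 2)⁻¹ * 2⁻¹) = ((2 * (κ * σ κ))⁻¹) ^ 2 := by
    field_simp
  ext j k
  fin_cases j <;> fin_cases k <;> simp [pM3, Matrix.mul_apply, Fin.sum_univ_three, hs2, Matrix.one_apply]
  · linear_combination h3
  · rw [h5, h3]
    simp
  · linear_combination h3

theorem wd_SU {q : ℕ} (hq : ∀ x, σ x = x ^ q) (hσ : ∀ x, σ (σ x) = x) {i κ : K} (h2 : (2 : K) ≠ 0) (hi : i * i = -1) (hσi : σ i = -i) (hκ : κ ≠ 0)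
    (hn : κ * σ κ = 1 / 2) : WD (SU 3 K q) i κ := by
  refine ⟨h2, hi, hκ, fun h => ?_, fun h => ?_, ?_, ?_, ?_, ?_⟩
  · refine dg_in_SU hq h ?_ ?_ (by simp)
    · rw [hσi]
      linear_combination -hi
    · rw [map_neg, hσi]
      linear_combination -hi
  · refine dg_in_SU hq h ?_ (by simp) ?_
    · rw [hσi]
      linear_combination -hi
    · rw [map_neg, hσi]
      linear_combination -hi
  · rw [mem_SU_iff hq]
    show (yM3)ᵀ * σ.mapMatrix (yM3) = 1
    rw [y_transpose, mapM_y, y_sq]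
  · rw [mem_SU_iff hq]
    show (piM3)ᵀ * σ.mapMatrix (piM3) = 1
    rw [pi_transpose, mapM_pi, pii_pi]
  · rw [mem_SU_iff hq]
    exact pM_unitary hσ hκ h2 hn
  · intro a b c h hm h'
    have h1 := dg_of_SU hq h hm
    have ha : a ≠ 0 := by
      rintro rfl
      simp at h1
    have hσa : σ a ≠ 0 := by
      intro e
      rw [e, mul_zero] at h1
      exact zero_ne_one h1
    refine dg_in_SU hq h' h1 (by simp) ?_
    rw [map_inv₀]
    field_simp
    linear_combination -h1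

end Cfsg.Agent.H25
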