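import Cfsg.Agent.Lib.H25.SimT7
set_option autoImplicit false
set_option linter.style.haveILetI false

/-! The 2-fusion system of `PSU_3`: the semidihedral case, in antidiagonal coordinates. -/

namespace Cfsg.Agent.H25

open Cfsg Cfsg.FusionSystem Matrix
open scoped MatrixGroups

variable {K : Type*} [Field K] {σ : K →+* K}

/-- The involution. -/
def yJ3 : Matrix (Fin 3) (Fin 3) K := !![0, 0, 1; 0, -1, 0; 1, 0, 0]

theorem JJ3 : JJ 3 K = !![0, 0, 1; 0, 1, 0; 1, 0, 0] := by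
  ext j k
  fin_cases j <;> fin_cases k <;> simp [JJ_apply, Fin.rev] <;> rfl

theorem yJ_mul_dg (a b c : K) : yJ3 * dg3 a b c = dg3 c b a * yJ3 := by
  ext j k
  fin_cases j <;> fin_cases k <;> simp [yJ3, dg3, Matrix.mul_apply, Fin.sum_univ_three]

theorem yJ_sq : yJ3 * yJ3 = (1 : Matrix (Fin 3) (Fin 3) K) := by
  ext j k
  fin_cases j <;> fin_cases k <;> simp [yJ3, Matrix.mul_apply, Fin.sum_univ_three]

theorem yJ_det : (yJ3 : Matrix (Fin 3) (Fin 3) K).det = 1 := by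
  simp [yJ3, Matrix.det_fin_three]

theorem isU_iff3 (A : Matrix (Fin 3) (Fin 3) K) : IsU σ A ↔ Aᵀ * !![0, 0, 1; 0, 1, 0; 1, 0, 0] * σ.mapMatrix A = !![0, 0, 1; 0, 1, 0; 1, 0, 0] := by
  unfold IsU
  rw [JJ3]

theorem dg_isU {a b c : K} (h1 : a * σ c = 1) (h2 : b * σ b = 1) (h3 : c * σ a = 1) : IsU σ (dg3 a b c) := by
  rw [isU_iff3, dg3_transpose, mapM_dg]
  ext j k
  fin_cases j <;> fin_cases k <;> simp [dg3, Matrix.mul_apply, Fin.sum_univ_three, Matrix.diagonal_apply] <;> first | exact h1 | exact h2 | exact h3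

theorem dg_of_isU {a b c : K} (h : IsU σ (dg3 a b c)) : a * σ c = 1 ∧ b * σ b = 1 ∧ c * σ a = 1 := by
  rw [isU_iff3, dg3_transpose, mapM_dg] at h
  have h1 := congrFun (congrFun h 0) 2
  have h2 := congrFun (congrFun h 1) 1
  have h3 := congrFun (congrFun h 2) 0
  simp [dg3, Matrix.mul_apply, Fin.sum_univ_three, Matrix.diagonal_apply] at h1 h2 h3
  exact ⟨h1, h2, h3⟩

theorem yJ_isU : IsU σ (yJ3 : Matrix (Fin 3) (Fin 3) K) := by
  rw [isU_iff3]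
  ext j k
  fin_cases j <;> fin_cases k <;> simp [yJ3, Matrix.mul_apply, Fin.sum_univ_three]

/-- The change of basis. -/
def qM3 (κ : K) : Matrix (Fin 3) (Fin 3) K := !![κ, -(1 / (2 * κ)), -(κ / 2); 1, 0, 1 / 2; -κ, -(1 / (2 * κ)), κ / 2]

theorem qM_det {κ : K} (hκ : κ ≠ 0) (h2 : (2 : K) ≠ 0) : (qM3 κ).det = 1 := by
  simp [qM3, Matrix.det_fin_three]
  field_simp
  ring

theorem qM_conj {κ : K} (hκ : κ ≠ 0) (h2 : (2 : K) ≠ 0) : qM3 κ * dg3 (-1) 1 (-1) = yJ3 * qM3 κ := by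
  ext j k
  fin_cases j <;> fin_cases k <;> simp [qM3, yJ3, dg3, Matrix.mul_apply, Fin.sum_univ_three, Matrix.mul_diagonal]

theorem qM_isU (hσ : ∀ x, σ (σ x) = x) {κ : K} (hκ : κ ≠ 0) (h2 : (2 : K) ≠ 0) (hn : κ * σ κ = 1 / 2) : IsU σ (qM3 κ) := by
  have hs2 : σ 2 = 2 := map_ofNat σ 2
  have hσκ : σ κ ≠ 0 := by
    intro h
    apply hκ
    rw [← hσ κ, h, map_zero]
  have h3 : 2 * (κ * σ κ) = 1 := by
    rw [hn]
    field_simp
  have h4 : 2 * κ * (2 * σ κ) = 2 := by linear_combination 2 * h3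
  have h5 : (2 * κ)⁻¹ * (2 * σ κ)⁻¹ = 2⁻¹ := by
    field_simp
    linear_combination -h3
  rw [isU_iff3]
  ext j k
  fin_cases j <;> fin_cases k <;> simp [qM3, Matrix.mul_apply, Fin.sum_univ_three, hs2]
  all_goals grind

/-- The data of the semidihedral case. -/
structure UD (σ : K →+* K) (i κ : K) : Prop where
  hF : UFld σ
  two : (2 : K) ≠ 0
  ii : i * i = -1
  si : σ i = i
  κ0 : κ ≠ 0
  κn : κ * σ κ = 1 / 2

namespace UD
variable {i κ : K} (w : UD σ i κ)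
include w

theorem i_ne : i ≠ 0 := by
  rintro rfl
  have := w.ii
  rw [zero_mul] at this
  exact neg_ne_zero.2 one_ne_zero this.symm

theorem ne1 : (-1 : K) ≠ 1 := by
  intro h
  apply w.two
  linear_combination -h

theorem d1 : i ≠ -i := by
  intro h
  apply w.i_ne
  have : 2 * i = 0 := by linear_combination h
  exact (mul_eq_zero.1 this).resolve_left w.two

theorem d2 : i ≠ 1 := by
  rintro rfl
  apply w.ne1
  rw [← w.ii, one_mul]

theorem d3 : 1 ≠ -i := by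
  intro h
  apply w.ne1
  rw [← w.ii]
  linear_combination (1 - i) * h.symm

theorem hdet_t : i * 1 * (-i) = 1 := by
  linear_combination -w.ii

theorem hu_t : IsU σ (dg3 i 1 (-i)) := by
  refine dg_isU ?_ (by simp) ?_
  · rw [map_neg, w.si]
    linear_combination -w.ii
  · rw [w.si]
    linear_combination -w.ii

/-- The element of order four. -/
def tU : SUJ σ 3 := mkU (dg3 i 1 (-i)) (by rw [dg3_det, w.hdet_t]) w.hu_t

/-- The involution. -/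
def yU (_w : UD σ i κ) : SUJ σ 3 := mkU yJ3 yJ_det yJ_isU

/-- The change of basis. -/
def pU : SUJ σ 3 := mkU (qM3 κ) (qM_det w.κ0 w.two) (qM_isU w.hF.inv w.κ0 w.two w.κn)

theorem mt_t : mt3 w.tU = dg3 i 1 (-i) := rfl

theorem mt_y : mt3 w.yU = yJ3 := rfl

theorem mt_p : mt3 w.pU = qM3 κ := rfl

theorem y_y : w.yU * w.yU = 1 := mt3_inj (by rw [mt3_mul, w.mt_y, yJ_sq, mt3_one])

theorem y_inv' : w.yU⁻¹ = w.yU := inv_eq_of_mul_eq_one_right w.y_y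

theorem conj_y {x : SUJ σ 3} {a b c : K} (h : mt3 x = dg3 a b c) : mt3 (w.yU * x * w.yU⁻¹) = dg3 c b a := by
  rw [w.y_inv', mt3_mul, mt3_mul, h, w.mt_y, yJ_mul_dg, Matrix.mul_assoc, yJ_sq, mul_one]

theorem mt_t2 : mt3 (w.tU ^ 2) = dg3 (-1) 1 (-1) := by
  rw [mt3_pow, w.mt_t, dg3_pow]
  have h1 : i ^ 2 = -1 := by rw [sq, w.ii]
  have h2 : (-i) ^ 2 = -1 := by rw [neg_sq, h1]
  rw [h1, h2, one_pow]

theorem tw_form {x : SUJ σ 3} (hx : IsTw w.tU x) : ∃ a b c : K, mt3 x = dg3 a b c ∧ a * b * c = 1 ∧ a * σ c = 1 ∧ b * σ b = 1 ∧ ∃ k : ℕ, a ^ 2 ^ k = 1 ∧ b ^ 2 ^ k = 1 ∧ c ^ 2 ^ k = 1 := by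
  have h1 := diag_of_comm w.mt_t w.d2 w.d1 w.d3 hx.1
  obtain ⟨a, b, c, hm⟩ : ∃ a b c, mt3 x = dg3 a b c := ⟨_, _, _, h1⟩
  refine ⟨a, b, c, hm, ?_, ?_, ?_, ?_⟩
  · have h2 : (mt3 x).det = 1 := (x : SL(3, K)).2
    rwa [hm, dg3_det] at h2
  · have h2 : IsU σ (mt3 x) := x.2
    rw [hm] at h2
    exact (dg_of_isU h2).1
  · have h2 : IsU σ (mt3 x) := x.2
    rw [hm] at h2
    exact (dg_of_isU h2).2.1
  · obtain ⟨k, hk⟩ := hx.2
    refine ⟨k, ?_⟩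
    have h2 : mt3 (x ^ 2 ^ k) = 1 := by rw [hk, mt3_one]
    rw [mt3_pow, hm, dg3_pow, ← dg3_one] at h2
    exact dg3_inj h2

theorem tw_of {x : SUJ σ 3} {a b c : K} (hx : mt3 x = dg3 a b c) {k : ℕ} (h1 : a ^ 2 ^ k = 1) (h2 : b ^ 2 ^ k = 1) (h3 : c ^ 2 ^ k = 1) : IsTw w.tU x := by
  refine ⟨mt3_inj ?_, k, mt3_inj ?_⟩
  · rw [mt3_mul, mt3_mul, hx, w.mt_t, dg3_mul, dg3_mul]
    congr 1 <;> ring
  · rw [mt3_pow, hx, dg3_pow, h1, h2, h3, dg3_one, mt3_one]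

theorem cen_eq {x x' : SUJ σ 3} {a b c : K} (hx : mt3 x = dg3 a b c) (hx' : mt3 x' = dg3 c b a) (h : x' * x = 1) : a * c = 1 ∧ b * b = 1 := by
  have h1 := congrArg mt3 h
  rw [mt3_mul, hx, hx', dg3_mul, mt3_one, ← dg3_one] at h1
  have h2 := dg3_inj h1
  exact ⟨h2.2.2, h2.2.1⟩

/-- Elements of the torus. -/
theorem exists_x (hσ : ∀ x, σ (σ x) = x) {a : K} (ha : σ a = a) (ha0 : a ≠ 0) : ∃ (x : SUJ σ 3) (β γ δ : K), mt3 x = dg3 β γ δ ∧ β * σ β = a ∧ γ = σ β / β ∧ δ = (σ β)⁻¹ := by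
  obtain ⟨β, hβ⟩ := w.hF.norm a ha
  have hβ0 : β ≠ 0 := by
    rintro rfl
    rw [zero_mul] at hβ
    exact ha0 hβ.symm
  have hσβ : σ β ≠ 0 := by
    intro h
    rw [h, mul_zero] at hβ
    exact ha0 hβ.symm
  have h1 : (dg3 β (σ β / β) (σ β)⁻¹).det = 1 := by
    rw [dg3_det]
    field_simp
  have h2 : IsU σ (dg3 β (σ β / β) (σ β)⁻¹) := by
    refine dg_isU ?_ ?_ ?_
    · rw [map_inv₀, hσ]
      exact mul_inv_cancel₀ hβ0
    · rw [map_div₀, hσ]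
      field_simp
    · exact inv_mul_cancel₀ hσβ
  exact ⟨mkU _ h1 h2, _, _, _, rfl, hβ, rfl, rfl⟩

theorem ker_fact {x : SUJ σ 3} (hx : x ∈ Subgroup.center (SUJ σ 3)) : (∀ g, x * g = g * x) ∧ x ^ 3 = 1 := by
  have hc : ∀ g, x * g = g * x := fun g => ((Subgroup.mem_center_iff.1 hx) g).symm
  refine ⟨hc, ?_⟩
  obtain ⟨c, hm⟩ := centerU_scalar w.hF (by omega) hx
  have hdet : (mt3 x).det = 1 := (x : SL(3, K)).2
  have hm' : mt3 x = dg3 c c c := by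
    show mt x = _
    rw [hm, ← dg3_one]
    ext j k
    fin_cases j <;> fin_cases k <;> simp [dg3]
  rw [hm', dg3_det] at hdet
  apply mt3_inj
  rw [mt3_pow, hm', dg3_pow, mt3_one, ← dg3_one]
  have : c ^ 3 = 1 := by
    rw [← hdet]
    ring
  rw [this]

end UD

end Cfsg.Agent.H25
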