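import Cfsg.Agent.Lib.H25.SimT8
set_option autoImplicit false
set_option linter.style.haveILetI false

/-! The 2-fusion system of `PSU_3`: the data of the criterion in the semidihedral case, and the theorem. -/

namespace Cfsg.Agent.H25

open Cfsg Cfsg.FusionSystem Matrix
open scoped MatrixGroups

variable {K : Type*} [Field K] {σ : K →+* K}

/-- The conjugating element. -/
def gM3 (i a : K) : Matrix (Fin 3) (Fin 3) K := !![a, 0, -(i / 2); 0, -1, 0; i, 0, -(1 / (2 * a))]

theorem gM_det {i a : K} (ha : a ≠ 0) (h2 : (2 : K) ≠ 0) (hi : i * i = -1) : (gM3 i a).det = 1 := by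
  simp [gM3, Matrix.det_fin_three]
  grind

theorem gM_isU {i a : K} (hσ : ∀ x, σ (σ x) = x) (ha : a ≠ 0) (h2 : (2 : K) ≠ 0) (hi : i * i = -1) (hσi : σ i = i) (hσa : σ a = -a) : IsU σ (gM3 i a) := by
  have hs2 : σ 2 = 2 := map_ofNat σ 2
  rw [isU_iff3]
  ext j k
  fin_cases j <;> fin_cases k <;> simp [gM3, Matrix.mul_apply, Fin.sum_univ_three, hs2, hσi, hσa]
  all_goals grind

theorem gM_conj {i a e : K} (ha : a ≠ 0) (h2 : (2 : K) ≠ 0) (hi : i * i = -1) (he : a * e = -1) :
    gM3 i a * dg3 i 1 (-i) = dg3 a (-1) e * yJ3 * gM3 i a := by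
  have h1 : dg3 a (-1) e * yJ3 = !![0, 0, a; 0, 1, 0; e, 0, 0] := by
    ext j k
    fin_cases j <;> fin_cases k <;> simp [dg3, yJ3]
  rw [h1]
  ext j k
  fin_cases j <;> fin_cases k <;> simp [gM3, dg3, Matrix.mul_apply, Fin.sum_univ_three]
  all_goals grind

namespace UD
variable {i κ : K} (w : UD σ i κ)
include w

theorem t4' : w.tU ^ 4 = 1 := by
  apply mt3_inj
  have hi := w.ii
  have h1 : i ^ 4 = 1 := by
    have : i ^ 4 = (i * i) * (i * i) := by ring
    rw [this, w.ii]
    ring
  have h2 : (-i) ^ 4 = 1 := by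
    have : (-i) ^ 4 = i ^ 4 := by ring
    rw [this, h1]
  rw [mt3_pow, w.mt_t, dg3_pow, h1, h2, one_pow, dg3_one, mt3_one]

theorem yt' : w.yU * w.tU * w.yU⁻¹ = w.tU⁻¹ := by
  apply eq_inv_of_mul_eq_one_left
  apply mt3_inj
  rw [mt3_mul, w.conj_y w.mt_t, w.mt_t, dg3_mul, mt3_one, ← dg3_one]
  congr 1
  · linear_combination -w.ii
  · ring
  · linear_combination -w.ii

theorem norm_two (k : ℕ) : ∀ b : K, b ^ 2 ^ k = 1 → b * σ b = 1 → b * b = 1 := by
  induction k with
  | zero =>
    intro b h _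
    simp at h
    rw [h, one_mul]
  | succ k IH =>
    intro b h h1
    rw [pow_succ', pow_mul] at h
    have h2 : (b ^ 2) * σ (b ^ 2) = 1 := by
      rw [map_pow, ← mul_pow, h1, one_pow]
    have h3 := IH _ h h2
    have h4 : (b * b - 1) * (b * b + 1) = 0 := by linear_combination h3
    rcases mul_eq_zero.1 h4 with h5 | h5
    · exact sub_eq_zero.1 h5
    · exfalso
      have h6 : (b - i) * (b + i) = 0 := by linear_combination h5 - w.ii
      rcases mul_eq_zero.1 h6 with h7 | h7
      · have h8 : b = i := sub_eq_zero.1 h7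
        rw [h8, w.si, w.ii] at h1
        exact w.ne1 h1
      · have h8 : b = -i := by linear_combination h7
        rw [h8, map_neg, w.si] at h1
        have h9 : (-i) * (-i) = -1 := by linear_combination w.ii
        rw [h9] at h1
        exact w.ne1 h1

theorem h5' : ∀ c, IsTw w.tU c → (c * w.yU) ^ 2 = 1 → ∃ g : SUJ σ 3, g * w.tU ^ 2 * g⁻¹ = c * w.yU := by
  intro c hc h1
  obtain ⟨a, b, e, hm, hdet, hu1, -, -⟩ := w.tw_form hc
  have h2 := congrArg mt3 h1
  rw [mt3_pow, sq, mt3_mul, mt3_one, hm, w.mt_y, Matrix.mul_assoc, ← Matrix.mul_assoc yJ3, yJ_mul_dg, Matrix.mul_assoc, yJ_sq, mul_one, dg3_mul, ← dg3_one] at h2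
  obtain ⟨h3, h3', -⟩ := dg3_inj h2
  have hb : b = 1 := by
    have : b = a * b * e := by linear_combination (-b) * h3
    rw [this, hdet]
  subst hb
  have ha0 : a ≠ 0 := by
    rintro rfl
    simp at h3
  have he0 : e ≠ 0 := by
    rintro rfl
    simp at h3
  have hσe : σ e = e := by
    have : a * (σ e - e) = 0 := by linear_combination hu1 - h3
    exact sub_eq_zero.1 ((mul_eq_zero.1 this).resolve_left ha0)
  have hσa : σ a = a := by
    have h4 : σ (a * e) = 1 := by rw [h3, map_one]
    rw [map_mul, hσe] at h4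
    have : e * (σ a - a) = 0 := by linear_combination h4 - h3
    exact sub_eq_zero.1 ((mul_eq_zero.1 this).resolve_left he0)
  obtain ⟨x, β, γ, δ, hx, hβ, hγ, hδ⟩ := w.exists_x w.hF.inv hσa ha0
  have hβ0 : β ≠ 0 := by
    rintro rfl
    rw [zero_mul] at hβ
    exact ha0 hβ.symm
  have hσβ : σ β ≠ 0 := by
    intro h
    rw [h, mul_zero] at hβ
    exact ha0 hβ.symm
  refine ⟨x * w.pU, ?_⟩
  have h5 : w.pU * w.tU ^ 2 = w.yU * w.pU := by
    apply mt3_inj
    rw [mt3_mul, mt3_mul, w.mt_p, w.mt_t2, w.mt_y]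
    exact qM_conj w.κ0 w.two
  have h6 : x * w.yU = c * w.yU * x := by
    apply mt3_inj
    rw [mt3_mul, mt3_mul, mt3_mul, hx, hm, w.mt_y, Matrix.mul_assoc, yJ_mul_dg, ← Matrix.mul_assoc, dg3_mul]
    congr 2
    · rw [hδ, ← hβ]
      field_simp
    · ring
    · rw [hδ]
      have : e * (β * σ β) = 1 := by rw [hβ, mul_comm]; exact h3
      field_simp
      linear_combination -this
  calc x * w.pU * w.tU ^ 2 * (x * w.pU)⁻¹ = x * (w.pU * w.tU ^ 2) * w.pU⁻¹ * x⁻¹ := by group
    _ = x * w.yU * x⁻¹ := by rw [h5]; group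
    _ = _ := by rw [h6]; group

theorem fd : FD w.yU w.tU where
  y2 := w.y_y
  t4 := w.t4'
  t2 := by
    intro h
    have h1 := congrArg mt3 h
    rw [w.mt_t2, mt3_one, ← dg3_one] at h1
    exact w.ne1 (dg3_inj h1).1
  yt := w.yt'
  comm := by
    intro a b ha hb
    have h1 := diag_of_comm w.mt_t w.d2 w.d1 w.d3 ha
    have h2 := diag_of_comm w.mt_t w.d2 w.d1 w.d3 hb
    apply mt3_inj
    rw [mt3_mul, mt3_mul, h1, h2, dg3_mul, dg3_mul]
    congr 1 <;> ring
  hd := by
    obtain ⟨x, β, γ, δ, hx, hβ, hγ, hδ⟩ := w.exists_x w.hF.inv w.si w.i_ne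
    have hβ0 : β ≠ 0 := by
      rintro rfl
      rw [zero_mul] at hβ
      exact w.i_ne hβ.symm
    have hσβ : σ β ≠ 0 := by
      intro h
      rw [h, mul_zero] at hβ
      exact w.i_ne hβ.symm
    refine ⟨x, mt3_inj ?_, ?_⟩
    · rw [mt3_mul, mt3_mul, hx, w.mt_t, dg3_mul, dg3_mul]
      congr 1 <;> ring
    · have h1 : x * w.yU = w.tU * w.yU * x := by
        apply mt3_inj
        rw [mt3_mul, mt3_mul, mt3_mul, hx, w.mt_y, w.mt_t, Matrix.mul_assoc, yJ_mul_dg, ← Matrix.mul_assoc, dg3_mul]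
        congr 2
        · rw [hδ, ← hβ]
          field_simp
        · ring
        · rw [hδ]
          have hi := w.ii
          rw [← hβ] at hi ⊢
          field_simp
          linear_combination hi
      calc x * (w.yU * x⁻¹ * w.yU⁻¹) = (x * w.yU) * x⁻¹ * w.yU⁻¹ := by group
        _ = _ := by rw [h1]; group
  h3 := by
    intro c hc h1 h2 h4
    obtain ⟨a, b, e, hm, hdet, -, -, -⟩ := w.tw_form hc
    have h5 : (w.yU * c * w.yU⁻¹) * c = 1 := by rw [h1, inv_mul_cancel]
    obtain ⟨h6, h7⟩ := w.cen_eq hm (w.conj_y hm) h5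
    have hb : b = 1 := by
      have : b = a * b * e := by linear_combination (-b) * h6
      rw [this, hdet]
    subst hb
    have h8 : a ^ 4 = 1 := by
      have := congrArg mt3 h2
      rw [mt3_pow, hm, dg3_pow, mt3_one, ← dg3_one] at this
      exact (dg3_inj this).1
    have h9 : a ^ 2 ≠ 1 := by
      intro h10
      apply h4
      apply mt3_inj
      have h11 : e ^ 2 = 1 := by
        have : (a * e) ^ 2 = 1 := by rw [h6, one_pow]
        rw [mul_pow, h10, one_mul] at this
        exact this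
      rw [mt3_pow, hm, dg3_pow, h10, h11, one_pow, dg3_one, mt3_one]
    have h10 : a ^ 2 = -1 := by
      have h11 : (a ^ 2 - 1) * (a ^ 2 + 1) = 0 := by linear_combination h8
      rcases mul_eq_zero.1 h11 with h12 | h12
      · exact absurd (sub_eq_zero.1 h12) h9
      · linear_combination h12
    have h11 : (a - i) * (a + i) = 0 := by linear_combination h10 - w.ii
    rcases mul_eq_zero.1 h11 with h12 | h12
    · left
      have ha : a = i := sub_eq_zero.1 h12
      subst ha
      have hb : e = -a := by linear_combination (-a) * h6 + e * w.ii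
      subst hb
      exact mt3_inj (by rw [hm, w.mt_t])
    · right
      have ha : a = -i := by linear_combination h12
      subst ha
      have hb : e = i := by linear_combination i * h6 + e * w.ii
      subst hb
      apply eq_inv_of_mul_eq_one_left
      apply mt3_inj
      rw [mt3_mul, hm, w.mt_t, dg3_mul, mt3_one, ← dg3_one]
      congr 1
      all_goals first | linear_combination -w.ii | ring1
  h4 := by
    intro c hc h1 h2
    obtain ⟨a, b, e, hm, hdet, -, -, -⟩ := w.tw_form hc
    have h3 : dg3 e b a = dg3 a b e := by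
      rw [← w.conj_y hm, h2, hm]
    have hb : e = a := (dg3_inj h3).1
    subst hb
    have h4 := congrArg mt3 h1
    rw [mt3_pow, hm, dg3_pow, mt3_one, ← dg3_one] at h4
    have h5 := dg3_inj h4
    have hs : e * e = 1 := by rw [← sq]; exact h5.1
    have he : b = 1 := by
      have : b = e * b * e := by linear_combination (-b) * hs
      rw [this, hdet]
    subst he
    have h6 : (e - 1) * (e + 1) = 0 := by linear_combination hs
    rcases mul_eq_zero.1 h6 with h7 | h7
    · left
      have : e = 1 := sub_eq_zero.1 h7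
      subst this
      exact mt3_inj (by rw [hm, dg3_one, mt3_one])
    · right
      have : e = -1 := by linear_combination h7
      subst this
      exact mt3_inj (by rw [hm, w.mt_t2])
  h5 := w.h5'
  h7 := by
    intro c hc
    obtain ⟨a, b, e, hm, hdet, hu1, hu2, k, h1, h2, h3⟩ := w.tw_form hc
    have hb2 := w.norm_two k b h2 hu2
    have ht4 := w.t4'
    have htw : IsTw w.tU w.tU := ⟨rfl, 2, by simpa using ht4⟩
    have hycy : w.yU * c * w.yU⁻¹ = c⁻¹ → True := fun _ => trivial
    have hb3 : (b - 1) * (b + 1) = 0 := by linear_combination hb2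
    rcases mul_eq_zero.1 hb3 with h4 | h4
    · have hb : b = 1 := sub_eq_zero.1 h4
      subst hb
      have h5 : a * e = 1 := by linear_combination hdet
      refine Subgroup.subset_closure ⟨Or.inl hc, 1, c, hc, ?_, by group⟩
      apply eq_inv_of_mul_eq_one_left
      apply mt3_inj
      rw [mt3_mul, w.conj_y hm, hm, dg3_mul, mt3_one, ← dg3_one]
      congr 1
      all_goals first | exact h5 | (rw [mul_comm]; exact h5) | ring1
    · have hb : b = -1 := by linear_combination h4
      subst hb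
      have h5 : a * e = -1 := by linear_combination -hdet
      have ha0 : a ≠ 0 := by
        rintro rfl
        simp at hdet
      have he0 : e ≠ 0 := by
        rintro rfl
        simp at hdet
      have hσe : σ e = -e := by
        have : a * (σ e + e) = 0 := by linear_combination hu1 + h5
        have h6 := (mul_eq_zero.1 this).resolve_left ha0
        linear_combination h6
      have hσa : σ a = -a := by
        have h6 : σ (a * e) = -1 := by rw [h5, map_neg, map_one]
        rw [map_mul, hσe] at h6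
        have : e * (σ a + a) = 0 := by linear_combination -h6 + h5
        have h7 := (mul_eq_zero.1 this).resolve_left he0
        linear_combination h7
      have hgen1 : c * w.yU ∈ Subgroup.closure {s : SUJ σ 3 | (IsTw w.tU s ∨ IsTw w.tU (s * w.yU)) ∧
          ∃ g c₁ : SUJ σ 3, IsTw w.tU c₁ ∧ w.yU * c₁ * w.yU⁻¹ = c₁⁻¹ ∧ s = g * c₁ * g⁻¹} := by
        refine Subgroup.subset_closure ⟨Or.inr (by rw [mul_assoc, w.y_y, mul_one]; exact hc), mkU (gM3 i a) (gM_det ha0 w.two w.ii) (gM_isU w.hF.inv ha0 w.two w.ii w.si hσa), w.tU, htw, w.yt', ?_⟩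
        obtain ⟨g, hg⟩ : ∃ g : SUJ σ 3, g = mkU (gM3 i a) (gM_det ha0 w.two w.ii) (gM_isU w.hF.inv ha0 w.two w.ii w.si hσa) := ⟨_, rfl⟩
        rw [← hg]
        have hmg : mt3 g = gM3 i a := by rw [hg]; rfl
        have h6 : g * w.tU = c * w.yU * g := by
          apply mt3_inj
          rw [mt3_mul, mt3_mul, mt3_mul, hmg, w.mt_t, hm, w.mt_y]
          exact gM_conj ha0 w.two w.ii h5
        rw [h6]
        group
      have hgen2 : w.yU ∈ Subgroup.closure {s : SUJ σ 3 | (IsTw w.tU s ∨ IsTw w.tU (s * w.yU)) ∧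
          ∃ g c₁ : SUJ σ 3, IsTw w.tU c₁ ∧ w.yU * c₁ * w.yU⁻¹ = c₁⁻¹ ∧ s = g * c₁ * g⁻¹} := by
        have hone : IsTw w.tU (1 : SUJ σ 3) := ⟨by rw [one_mul, mul_one], 0, by simp⟩
        obtain ⟨g, hg⟩ := w.h5' 1 hone (by rw [one_mul, sq, w.y_y])
        rw [one_mul] at hg
        refine Subgroup.subset_closure ⟨Or.inr (by rw [w.y_y]; exact hone), g, w.tU ^ 2, ?_, ?_, hg.symm⟩
        · refine ⟨(Commute.refl _).pow_left 2, 1, ?_⟩
          rw [← pow_mul]
          exact ht4
        · rw [← conj_pow, w.yt', inv_pow]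
      have := Subgroup.mul_mem _ hgen1 (Subgroup.inv_mem _ hgen2)
      rwa [mul_inv_cancel_right] at this

/-- The semidihedral theorem. -/
theorem simple_semi [Finite K] {G : Type*} [Group G] [Finite G] {pr : SUJ σ 3 →* G} (hker : ∀ x, pr x = 1 ↔ x ∈ Subgroup.center (SUJ σ 3)) (hsurj : Function.Surjective pr)
    (S : Sylow 2 G) : (groupFusionSystem (S : Subgroup G)).IsSimple 2 :=
  w.fd.simple_of_FD (fun x hx => w.ker_fact ((hker x).1 hx)) hsurj S

end UD

/-- The theorem for `PSU_3`. -/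
theorem psu3_two_simple {F : Type*} [Field F] [Fintype F] (q : ℕ) (hq : Fintype.card F = q ^ 2) (hodd : q % 2 = 1) (S : Sylow 2 (Cfsg.PSU 3 F q)) :
    (groupFusionSystem (S : Subgroup (Cfsg.PSU 3 F q))).IsSimple 2 := by
  obtain ⟨p, hp⟩ := CharP.exists F
  haveI : Fact p.Prime := ⟨CharP.char_is_prime F p⟩
  obtain ⟨σ, hF, hσq⟩ := exists_ufld (p := p) hq
  have hcard4 : Fintype.card F % 4 = 1 := by
    rw [hq]
    obtain ⟨r, rfl⟩ : ∃ r, q = 2 * r + 1 := ⟨q / 2, by omega⟩
    have : (2 * r + 1) ^ 2 = 4 * (r * r + r) + 1 := by ring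
    omega
  have h2 : (2 : F) ≠ 0 := two_ne_of_odd (by omega)
  obtain ⟨i, hi⟩ : ∃ i : F, i * i = -1 := by
    obtain ⟨i, hi⟩ := FiniteField.isSquare_neg_one_iff.2 (show Fintype.card F % 4 ≠ 3 by omega)
    exact ⟨i, hi.symm⟩
  have hs2 : σ 2 = 2 := map_ofNat σ 2
  obtain ⟨κ, hκ⟩ := hF.norm (1 / 2) (by rw [map_div₀, map_one, hs2])
  have hκ0 : κ ≠ 0 := by
    rintro rfl
    rw [zero_mul] at hκ
    exact (one_div_ne_zero h2) hκ.symm
  have hsi : (σ i - i) * (σ i + i) = 0 := by
    have h3 : σ i * σ i = -1 := by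
      rw [← map_mul, hi, map_neg, map_one]
    linear_combination h3 - hi
  rcases mul_eq_zero.1 hsi with h3 | h3
  · -- the semidihedral case
    have w : UD σ i κ := ⟨hF, h2, hi, sub_eq_zero.1 h3, hκ0, hκ⟩
    obtain ⟨φ, hinj, hsurj⟩ := exists_bij (n := 3) hF hσq
    let pr : SUJ σ 3 →* Cfsg.PSU 3 F q := (QuotientGroup.mk' (Subgroup.center (SU 3 F q))).comp φ
    refine w.simple_semi (pr := pr) ?_ ?_ S
    · intro x
      show (QuotientGroup.mk' (Subgroup.center (SU 3 F q))) (φ x) = 1 ↔ _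
      rw [QuotientGroup.mk'_apply, QuotientGroup.eq_one_iff]
      constructor
      · intro h
        refine Subgroup.mem_center_iff.2 fun y => hinj ?_
        rw [map_mul, map_mul]
        exact (Subgroup.mem_center_iff.1 h) (φ y)
      · intro h
        refine Subgroup.mem_center_iff.2 fun z => ?_
        obtain ⟨y, rfl⟩ := hsurj z
        rw [← map_mul, ← map_mul, (Subgroup.mem_center_iff.1 h) y]
    · exact (QuotientGroup.mk'_surjective _).comp hsurj
  · -- the wreathed case
    have hσi : σ i = -i := by linear_combination h3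
    have w : WD (SU 3 F q) i κ := wd_SU hσq hF.inv h2 hi hσi hκ0 hκ
    refine w.simple_wreathed (pr := QuotientGroup.mk' (Subgroup.center (SU 3 F q))) ?_ (QuotientGroup.mk'_surjective _) S
    intro x
    rw [QuotientGroup.mk'_apply, QuotientGroup.eq_one_iff]

end Cfsg.Agent.H25
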