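import Cfsg.Agent.Lib.H25.SimSp11
set_option autoImplicit false
set_option linter.style.haveILetI false

/-! The fusion system of `PSU_n` in the defining characteristic: the group in antidiagonal coordinates and its root elements. -/

namespace Cfsg.Agent.H25

open Cfsg Matrix
open scoped MatrixGroups

variable {K : Type*} [Field K] {n : ℕ}

/-- The antidiagonal matrix. -/
def JJ (n : ℕ) (K : Type*) [Field K] : Matrix (Fin n) (Fin n) K := Matrix.of fun a b => if a.rev = b then 1 else 0

theorem JJ_apply (a b : Fin n) : (JJ n K) a b = if a.rev = b then 1 else 0 := rfl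

theorem mul_JJ_apply (M : Matrix (Fin n) (Fin n) K) (a b : Fin n) : (M * JJ n K) a b = M a b.rev := by
  rw [Matrix.mul_apply, Finset.sum_eq_single b.rev]
  · rw [JJ_apply, Fin.rev_rev, if_pos rfl, mul_one]
  · intro k _ hk
    rw [JJ_apply, if_neg, mul_zero]
    rintro rfl
    exact hk (Fin.rev_rev k).symm
  · simp

theorem JJ_mul_apply (M : Matrix (Fin n) (Fin n) K) (a b : Fin n) : (JJ n K * M) a b = M a.rev b := by
  rw [Matrix.mul_apply, Finset.sum_eq_single a.rev]
  · rw [JJ_apply, if_pos rfl, one_mul]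
  · intro k _ hk
    rw [JJ_apply, if_neg (Ne.symm hk), zero_mul]
  · simp

theorem rev_eq_iff' {a b : Fin n} : a.rev = b ↔ a = b.rev := by
  constructor
  · rintro rfl
    rw [Fin.rev_rev]
  · rintro rfl
    rw [Fin.rev_rev]

theorem single_mul_JJ (a b : Fin n) (t : K) : Matrix.single a b t * JJ n K = Matrix.single a b.rev t := by
  ext x y
  rw [mul_JJ_apply, Matrix.single_apply, Matrix.single_apply]
  exact if_congr (and_congr Iff.rfl rev_eq_iff'.symm) rfl rfl

theorem JJ_mul_single (a b : Fin n) (t : K) : JJ n K * Matrix.single a b t = Matrix.single a.rev b t := by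
  ext x y
  rw [JJ_mul_apply, Matrix.single_apply, Matrix.single_apply]
  exact if_congr (and_congr rev_eq_iff'.symm Iff.rfl) rfl rfl

theorem JJ_transpose : (JJ n K)ᵀ = JJ n K := by
  ext a b
  rw [transpose_apply, JJ_apply, JJ_apply]
  exact if_congr (by rw [rev_eq_iff', eq_comm]) rfl rfl

theorem JJ_sq : JJ n K * JJ n K = 1 := by
  ext a b
  rw [mul_JJ_apply, JJ_apply, Matrix.one_apply]
  exact if_congr Fin.rev_inj rfl rfl

theorem mapMatrix_single (σ : K →+* K) (i j : Fin n) (t : K) :
    σ.mapMatrix (Matrix.single i j t) = Matrix.single i j (σ t) := by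
  ext a b
  rw [RingHom.mapMatrix_apply, Matrix.map_apply, Matrix.single_apply, Matrix.single_apply]
  split_ifs
  · rfl
  · exact map_zero σ

theorem mapMatrix_JJ (σ : K →+* K) : σ.mapMatrix (JJ n K) = JJ n K := by
  ext a b
  rw [RingHom.mapMatrix_apply, Matrix.map_apply, JJ_apply]
  split_ifs
  · exact map_one σ
  · exact map_zero σ

theorem single_neg' (i j : Fin n) (t : K) : Matrix.single i j (-t) = -Matrix.single i j t := by
  ext a b
  rw [Matrix.neg_apply, Matrix.single_apply, Matrix.single_apply]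
  split_ifs <;> simp

variable (σ : K →+* K)

/-- Preservation of the form given by `J`. -/
def IsU (A : Matrix (Fin n) (Fin n) K) : Prop := Aᵀ * JJ n K * σ.mapMatrix A = JJ n K

theorem IsU_one : IsU σ (1 : Matrix (Fin n) (Fin n) K) := by
  unfold IsU
  rw [transpose_one, one_mul, map_one, mul_one]

variable {σ}

theorem IsU.mul {A B : Matrix (Fin n) (Fin n) K} (hA : IsU σ A) (hB : IsU σ B) : IsU σ (A * B) := by
  unfold IsU at *
  rw [transpose_mul, map_mul]
  calc Bᵀ * Aᵀ * JJ n K * (σ.mapMatrix A * σ.mapMatrix B) = Bᵀ * (Aᵀ * JJ n K * σ.mapMatrix A) * σ.mapMatrix B := by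
        simp only [Matrix.mul_assoc]
    _ = JJ n K := by rw [hA, hB]

theorem IsU.of_mul {A B : Matrix (Fin n) (Fin n) K} (hA : IsU σ A) (h : A * B = 1) : IsU σ B := by
  unfold IsU at *
  have h1 : (A * B)ᵀ * JJ n K * σ.mapMatrix (A * B) = JJ n K := by
    rw [h, transpose_one, one_mul, map_one, mul_one]
  rw [transpose_mul, map_mul] at h1
  calc Bᵀ * JJ n K * σ.mapMatrix B = Bᵀ * (Aᵀ * JJ n K * σ.mapMatrix A) * σ.mapMatrix B := by rw [hA]
    _ = Bᵀ * Aᵀ * JJ n K * (σ.mapMatrix A * σ.mapMatrix B) := by simp only [Matrix.mul_assoc]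
    _ = JJ n K := h1

variable (σ)

/-- The special unitary group for the antidiagonal form. -/
def SUJ (n : ℕ) : Subgroup (SpecialLinearGroup (Fin n) K) where
  carrier := {A | IsU σ (A : Matrix (Fin n) (Fin n) K)}
  mul_mem' := fun ha hb => IsU.mul ha hb
  one_mem' := IsU_one σ
  inv_mem' := fun {a} ha => IsU.of_mul ha (congrArg Subtype.val (mul_inv_cancel a))

variable {σ}

/-- The matrix of an element. -/
abbrev mt (g : SUJ σ n) : Matrix (Fin n) (Fin n) K := ((g : SpecialLinearGroup (Fin n) K) : Matrix (Fin n) (Fin n) K)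

theorem mt_mul (a b : SUJ σ n) : mt (a * b) = mt a * mt b := rfl

theorem mt_one : mt (1 : SUJ σ n) = 1 := rfl

theorem mt_mul_inv (a : SUJ σ n) : mt a * mt a⁻¹ = 1 := by
  rw [← mt_mul, mul_inv_cancel, mt_one]

theorem mt_inv_mul (a : SUJ σ n) : mt a⁻¹ * mt a = 1 := by
  rw [← mt_mul, inv_mul_cancel, mt_one]

theorem mt_inj {a b : SUJ σ n} (h : mt a = mt b) : a = b := Subtype.ext (Subtype.ext h)

theorem mt_pow (a : SUJ σ n) (k : ℕ) : mt (a ^ k) = mt a ^ k := by
  induction k with
  | zero => rw [pow_zero, pow_zero, mt_one]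
  | succ k IH => rw [pow_succ, pow_succ, mt_mul, IH]

theorem mt_isU (a : SUJ σ n) : IsU σ (mt a) := a.2

/-- Building an element. -/
def mkU (M : Matrix (Fin n) (Fin n) K) (h1 : M.det = 1) (h2 : IsU σ M) : SUJ σ n := ⟨⟨M, h1⟩, h2⟩

theorem mt_mkU (M : Matrix (Fin n) (Fin n) K) (h1 : M.det = 1) (h2 : IsU σ M) : mt (mkU M h1 h2 : SUJ σ n) = M := rfl

theorem inv_eq_of_mt {a b : SUJ σ n} (h : mt a * mt b = 1) : a⁻¹ = b := by
  apply inv_eq_of_mul_eq_one_right
  apply mt_inj
  rw [mt_mul, h, mt_one]

/-! ### Short root elements -/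

/-- Conditions for a short root. -/
def SR (i j : Fin n) : Prop := i ≠ j ∧ i ≠ j.rev ∧ i ≠ i.rev ∧ j ≠ j.rev

theorem SR.rev_ne {i j : Fin n} (h : SR i j) : i.rev ≠ j.rev := fun e => h.1 (Fin.rev_injective e)

theorem SR.ne_rev' {i j : Fin n} (h : SR i j) : j ≠ i.rev := fun e => h.2.1 (by rw [e, Fin.rev_rev])

/-- The matrix of a long root element. -/
def llM (i : Fin n) (t : K) : Matrix (Fin n) (Fin n) K := 1 + Matrix.single i i.rev t

variable (σ)

/-- The matrix of a short root element. -/
def xmM (i j : Fin n) (t : K) : Matrix (Fin n) (Fin n) K :=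
  1 + Matrix.single i j t + Matrix.single j.rev i.rev (-σ t)

/-- The matrix of an element of the root group for a short root through the middle. -/
def yyM (i c : Fin n) (a b : K) : Matrix (Fin n) (Fin n) K :=
  1 + Matrix.single i c a + Matrix.single c i.rev (-σ a) + Matrix.single i i.rev b

variable {σ}

theorem xmM_isU (hσ : ∀ x, σ (σ x) = x) {i j : Fin n} (h : SR i j) (t : K) : IsU σ (xmM σ i j t) := by
  obtain ⟨h1, h2, h3, h4⟩ := h
  have h5 : i.rev ≠ j.rev := fun e => h1 (Fin.rev_injective e)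
  have h6 : j ≠ i.rev := fun e => h2 (by rw [e, Fin.rev_rev])
  unfold IsU xmM
  simp only [transpose_add, transpose_one, Matrix.transpose_single, map_add, map_one, mapMatrix_single, map_neg, hσ,
    mul_add, add_mul, one_mul, mul_one, single_mul_JJ, JJ_mul_single, Fin.rev_rev, sm]
  simp only [h1, h2, h3, h4, h5, h6, h1.symm, h2.symm, h3.symm, h4.symm, h5.symm, h6.symm, if_false, add_zero, single_neg']
  abel

theorem llM_isU {i : Fin n} (hi : i ≠ i.rev) {t : K} (ht : t + σ t = 0) : IsU σ (llM i t) := by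
  unfold IsU llM
  simp only [transpose_add, transpose_one, Matrix.transpose_single, map_add, map_one, mapMatrix_single,
    mul_add, add_mul, one_mul, mul_one, single_mul_JJ, JJ_mul_single, Fin.rev_rev, sm]
  simp only [hi, hi.symm, if_false, add_zero]
  have : σ t = -t := by
    have := ht
    linear_combination ht
  rw [this, single_neg']
  abel

theorem rev_fix {a b : Fin n} (ha : a.rev = a) (hb : b.rev = b) : a = b := by
  have h1 := congrArg Fin.val ha
  have h2 := congrArg Fin.val hb
  rw [Fin.val_rev] at h1 h2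
  have := a.2
  have := b.2
  exact Fin.ext (by omega)

theorem ne_rev_of {i c : Fin n} (hc : c.rev = c) (hi : i ≠ c) : i ≠ i.rev := fun e => hi (rev_fix e.symm hc)

theorem yyM_isU (hσ : ∀ x, σ (σ x) = x) {i c : Fin n} (hc : c.rev = c) (hi : i ≠ c) {a b : K} (hb : b + σ b + a * σ a = 0) : IsU σ (yyM σ i c a b) := by
  have h1 : i ≠ i.rev := ne_rev_of hc hi
  have h2 : i.rev ≠ c := fun e => hi (by rw [← Fin.rev_rev i, e, hc])
  unfold IsU yyM
  simp only [transpose_add, transpose_one, Matrix.transpose_single, map_add, map_one, mapMatrix_single, map_neg, hσ,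
    mul_add, add_mul, one_mul, mul_one, single_mul_JJ, JJ_mul_single, Fin.rev_rev, sm, hc]
  simp only [h1, h2, hi, h1.symm, h2.symm, hi.symm, if_false, if_true, add_zero, zero_add, single_neg']
  have h3 : σ b = -b - a * σ a := by linear_combination hb
  rw [h3]
  ext x y
  simp only [Matrix.add_apply, Matrix.neg_apply, Matrix.single_apply]
  split_ifs <;> ring

end Cfsg.Agent.H25
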