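import Cfsg.Agent.Lib.H25.SimU9
set_option autoImplicit false
set_option linter.style.haveILetI false

/-! The fusion system of `PSU_n` in the defining characteristic: central elements and generators of the unipotent group. -/

namespace Cfsg.Agent.H25

open Cfsg Matrix
open scoped MatrixGroups

variable {K : Type*} [Field K] [Fintype K] {n : ℕ} {σ : K →+* K}

/-- The form of a central element of the unipotent group. -/
theorem central_formU (hF : UFld σ) (hn : 4 ≤ n) {x : SUJ σ n} (hx : x ∈ UJ σ n) (hc : ∀ y ∈ UJ σ n, x * y = y * x) {i₀ : Fin n} (h0 : (i₀ : ℕ) = 0) :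
    mt x = llM i₀ (mt x i₀ i₀.rev) := by
  have hσ := hF.inv
  obtain ⟨b₀, hb0, hb1⟩ := hF.tz
  obtain ⟨t₀, ht₀⟩ := hF.ne
  have hV : ∀ y ∈ UJ σ n, mt x * mt y = mt y * mt x := by
    intro y hy
    rw [← mt_mul, ← mt_mul, hc y hy]
  obtain ⟨V, hVd⟩ : ∃ V, V = mt x := ⟨_, rfl⟩
  rw [← hVd] at hV ⊢
  have hU : UniT V := by
    rw [hVd]
    exact UJ_uni hx
  have hi0 := val_rev' i₀
  -- long roots
  have hll : ∀ i : Fin n, i < i.rev → V * Matrix.single i i.rev b₀ = Matrix.single i i.rev b₀ * V := by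
    intro i hi
    have := hV _ (ll_mem_UJ (ne_of_lt hi) hi hb1)
    rw [mt_llG] at this
    exact comm_of_one_add this
  have hcol : ∀ i : Fin n, i < i.rev → ∀ k, k ≠ i → V k i = 0 := by
    intro i hi k hk
    have h1 := congrFun (congrFun (hll i hi) k) i.rev
    rw [Matrix.mul_single_apply_same, Matrix.single_mul_apply_of_ne _ _ _ _ _ hk] at h1
    exact (mul_eq_zero.1 h1).resolve_right hb0
  have hrow : ∀ i : Fin n, i < i.rev → ∀ l, l ≠ i.rev → V i.rev l = 0 := by
    intro i hi l hl
    have h1 := congrFun (congrFun (hll i hi) i) l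
    rw [Matrix.single_mul_apply_same, Matrix.mul_single_apply_of_ne _ _ _ _ _ hl] at h1
    exact (mul_eq_zero.1 h1.symm).resolve_left hb0
  -- short roots
  have hsh : ∀ (j : Fin n) (t : K), (i₀ : Fin n) < j → j < j.rev → V * (Matrix.single i₀ j t + Matrix.single j.rev i₀.rev (-σ t)) =
      (Matrix.single i₀ j t + Matrix.single j.rev i₀.rev (-σ t)) * V := by
    intro j t h1 h2
    have hjr := val_rev' j
    have h1' := Fin.lt_def.1 h1
    have h2' := Fin.lt_def.1 h2
    have hS : SR i₀ j := ⟨ne_of_lt h1, fne (by omega), fne (by omega), ne_of_lt h2⟩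
    have := hV _ (xm_mem_UJ hσ hS h1 t)
    rw [mt_xmG] at this
    unfold xmM at this
    rw [add_assoc] at this
    exact comm_of_one_add this
  have hmain : ∀ (j : Fin n), (i₀ : Fin n) < j → j < j.rev → V i₀ j.rev = 0 ∧ V j i₀.rev = 0 := by
    intro j h1 h2
    have hjr := val_rev' j
    have h1' := Fin.lt_def.1 h1
    have h2' := Fin.lt_def.1 h2
    have key : ∀ t : K, V i₀ j.rev * (-σ t) = t * V j i₀.rev := by
      intro t
      have h3 := congrFun (congrFun (hsh j t h1 h2) i₀) i₀.rev
      rw [mul_add, add_mul, Matrix.add_apply, Matrix.add_apply, Matrix.mul_single_apply_of_ne _ _ _ _ _ (fne (by omega)), Matrix.mul_single_apply_same,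
        Matrix.single_mul_apply_same, Matrix.single_mul_apply_of_ne _ _ _ _ _ (fne (by omega)), zero_add, add_zero] at h3
      exact h3
    have h3 := key 1
    rw [map_one, one_mul, mul_neg, mul_one] at h3
    have h4 := key t₀
    rw [← h3] at h4
    have h5 : V i₀ j.rev * (t₀ - σ t₀) = 0 := by linear_combination h4
    have h6 : V i₀ j.rev = 0 := (mul_eq_zero.1 h5).resolve_right (sub_ne_zero.2 (Ne.symm ht₀))
    refine ⟨h6, ?_⟩
    rw [h6, neg_zero] at h3
    exact h3.symm
  have hcol2 : ∀ (j k : Fin n), (i₀ : Fin n) < j → j < j.rev → k ≠ j.rev → V k j.rev = 0 := by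
    intro j k h1 h2 hk
    by_cases hk0 : k = i₀
    · rw [hk0]
      exact (hmain j h1 h2).1
    · have hjr := val_rev' j
      have h1' := Fin.lt_def.1 h1
      have h2' := Fin.lt_def.1 h2
      have h3 := congrFun (congrFun (hsh j 1 h1 h2) k) i₀.rev
      rw [mul_add, add_mul, Matrix.add_apply, Matrix.add_apply, Matrix.mul_single_apply_of_ne _ _ _ _ _ (fne (by omega)), Matrix.mul_single_apply_same,
        Matrix.single_mul_apply_of_ne _ _ _ _ _ hk0, Matrix.single_mul_apply_of_ne _ _ _ _ _ hk, zero_add, add_zero, map_one] at h3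
      simpa using h3
  have hrow2 : ∀ (j l : Fin n), (i₀ : Fin n) < j → j < j.rev → l ≠ j → V j l = 0 := by
    intro j l h1 h2 hl
    by_cases hl0 : l = i₀.rev
    · rw [hl0]
      exact (hmain j h1 h2).2
    · have hjr := val_rev' j
      have h1' := Fin.lt_def.1 h1
      have h2' := Fin.lt_def.1 h2
      have h3 := congrFun (congrFun (hsh j 1 h1 h2) i₀) l
      rw [mul_add, add_mul, Matrix.add_apply, Matrix.add_apply, Matrix.mul_single_apply_of_ne _ _ _ _ _ hl, Matrix.mul_single_apply_of_ne _ _ _ _ _ hl0,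
        Matrix.single_mul_apply_same, Matrix.single_mul_apply_of_ne _ _ _ _ _ (fne (by omega)), zero_add, add_zero] at h3
      simpa using h3.symm
  -- assemble
  have hentry : ∀ k l : Fin n, k < l → ¬ (k = i₀ ∧ l = i₀.rev) → V k l = 0 := by
    intro k l hkl hne
    have hkl' := Fin.lt_def.1 hkl
    have hkr := val_rev' k
    have hlr := val_rev' l
    -- column in the lower half
    by_cases h1 : l < l.rev
    · exact hcol l h1 k (ne_of_lt hkl)
    -- row in the upper half
    by_cases h2 : k.rev < k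
    · have h3 := hrow k.rev (by rwa [Fin.rev_rev]) l (by rw [Fin.rev_rev]; exact (ne_of_lt hkl).symm)
      rwa [Fin.rev_rev] at h3
    have h1' := Fin.lt_def.not.1 h1
    have h2' := Fin.lt_def.not.1 h2
    -- row in the lower half, away from the first
    by_cases h3 : (k : ℕ) ≠ 0 ∧ (k : ℕ) * 2 + 1 ≠ n
    · have h4 : i₀ < k := by
        rw [Fin.lt_def]
        omega
      have h5 : k < k.rev := by
        rw [Fin.lt_def]
        omega
      exact hrow2 k l h4 h5 (ne_of_lt hkl).symm
    by_cases h4 : (l : ℕ) + 1 ≠ n ∧ (l : ℕ) * 2 + 1 ≠ n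
    · have h5 : i₀ < l.rev := by
        rw [Fin.lt_def]
        omega
      have h6 : l.rev < l.rev.rev := by
        rw [Fin.lt_def, Fin.rev_rev]
        omega
      have h7 := hcol2 l.rev k h5 h6 (by rw [Fin.rev_rev]; exact ne_of_lt hkl)
      rwa [Fin.rev_rev] at h7
    -- what remains involves the middle
    have hcases : ((k : ℕ) = 0 ∧ (l : ℕ) * 2 + 1 = n) ∨ ((k : ℕ) * 2 + 1 = n ∧ (l : ℕ) + 1 = n) := by
      have h5 : ¬ ((k : ℕ) = 0 ∧ (l : ℕ) + 1 = n) := by
        rintro ⟨h5, h6⟩
        exact hne ⟨Fin.ext (by omega), Fin.ext (by omega)⟩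
      omega
    have hodd : ∃ a c : Fin n, (c : ℕ) * 2 + 1 = n ∧ (a : ℕ) + 1 = c := by
      rcases hcases with ⟨_, h6⟩ | ⟨h6, _⟩
      · exact ⟨⟨(l : ℕ) - 1, by omega⟩, l, h6, by simp; omega⟩
      · exact ⟨⟨(k : ℕ) - 1, by omega⟩, k, h6, by simp; omega⟩
    obtain ⟨a, c, hcn, hac⟩ := hodd
    have hcr := val_rev' c
    have har := val_rev' a
    have hcc : c.rev = c := Fin.ext (by omega)
    have hac2 : a ≠ c := fne (by omega)
    have hlt : a < c := by
      rw [Fin.lt_def]
      omega
    obtain ⟨β, hβ⟩ := hF.ex_b 1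
    have hyy := hV _ (yy_mem_UJ hσ hcc hac2 hlt hβ)
    rw [mt_yyG] at hyy
    unfold yyM at hyy
    rw [add_assoc, add_assoc] at hyy
    have hcomm := comm_of_one_add hyy
    have ha0 : i₀ ≠ a := fne (by omega)
    have halt : a < a.rev := by
      rw [Fin.lt_def]
      omega
    rcases hcases with ⟨h5, h6⟩ | ⟨h5, h6⟩
    · have hk0 : k = i₀ := Fin.ext (by omega)
      have hlc : l = c := Fin.ext (by omega)
      rw [hk0, hlc]
      have h7 := congrFun (congrFun hcomm i₀) a.rev
      rw [mul_add, mul_add, add_mul, add_mul, Matrix.add_apply, Matrix.add_apply, Matrix.add_apply, Matrix.add_apply,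
        Matrix.mul_single_apply_of_ne _ _ _ _ _ (fne (by omega)), Matrix.mul_single_apply_same, Matrix.mul_single_apply_same,
        Matrix.single_mul_apply_of_ne _ _ _ _ _ ha0, Matrix.single_mul_apply_of_ne _ _ _ _ _ (fne (by omega)), Matrix.single_mul_apply_of_ne _ _ _ _ _ ha0,
        hcol a halt i₀ ha0, map_one] at h7
      simpa using h7
    · have hkc : k = c := Fin.ext (by omega)
      have hli : l = i₀.rev := Fin.ext (by omega)
      rw [hkc, hli]
      have h7 := congrFun (congrFun hcomm a) i₀.rev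
      rw [mul_add, mul_add, add_mul, add_mul, Matrix.add_apply, Matrix.add_apply, Matrix.add_apply, Matrix.add_apply,
        Matrix.mul_single_apply_of_ne _ _ _ _ _ (fne (by omega)), Matrix.mul_single_apply_of_ne _ _ _ _ _ (fne (by omega)), Matrix.mul_single_apply_of_ne _ _ _ _ _ (fne (by omega)),
        Matrix.single_mul_apply_same, Matrix.single_mul_apply_of_ne _ _ _ _ _ hac2, Matrix.single_mul_apply_same,
        hrow a halt i₀.rev (fne (by omega))] at h7
      simpa using h7.symm
  ext k l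
  unfold llM
  rw [Matrix.add_apply, Matrix.single_apply]
  by_cases hkl : k = i₀ ∧ l = i₀.rev
  · obtain ⟨rfl, rfl⟩ := hkl
    rw [if_pos ⟨rfl, rfl⟩, Matrix.one_apply_ne (fne (by omega)), zero_add]
  · rw [if_neg (fun e => hkl ⟨e.1.symm, e.2.symm⟩), add_zero]
    by_cases h1 : k < l
    · rw [hentry k l h1 hkl, Matrix.one_apply_ne (ne_of_lt h1)]
    · exact hU k l (not_lt.1 h1)

end Cfsg.Agent.H25
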