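import Cfsg.Agent.Lib.H25.SimU10
set_option autoImplicit false
set_option linter.style.haveILetI false

/-! The fusion system of `PSU_n` in the defining characteristic: generators of the unipotent group. -/

namespace Cfsg.Agent.H25

open Cfsg Matrix
open scoped MatrixGroups

variable {K : Type*} [Field K] [Fintype K] {n : ℕ} {σ : K →+* K}

/-- Vanishing below a position in the order by height. -/
def SSu (u : Matrix (Fin n) (Fin n) K) (h a : ℕ) : Prop :=
  ∀ x y : Fin n, x < y → ((y : ℕ) - x < h ∨ ((y : ℕ) - x = h ∧ (x : ℕ) < a)) → u x y = 0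

theorem SSu_mul {u r : SUJ σ n} (hu : u ∈ UJ σ n) (hr : r ∈ UJ σ n) {h a : ℕ} (hS : SSu (mt u) h a) {x y : Fin n} (hxy : x < y) (hh : (y : ℕ) - x ≤ h) :
    mt (u * r) x y = mt u x y + mt r x y := by
  rw [mt_mul, Matrix.mul_apply, Finset.sum_eq_add x y (ne_of_lt hxy)]
  · rw [UJ_diag hu, UJ_diag hr, one_mul, mul_one, add_comm]
  · intro k _ hk
    have hxy' := Fin.lt_def.1 hxy
    by_cases h1 : k < x
    · rw [UJ_low hu h1, zero_mul]
    · by_cases h2 : y < k
      · rw [UJ_low hr h2, mul_zero]
      · have h3 : x < k := lt_of_le_of_ne (not_lt.1 h1) (Ne.symm hk.1)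
        have h4 : k < y := lt_of_le_of_ne (not_lt.1 h2) hk.2
        have h3' := Fin.lt_def.1 h3
        have h4' := Fin.lt_def.1 h4
        rw [hS x k h3 (Or.inl (by omega)), zero_mul]
  · simp
  · simp

theorem SSu_step {u r : SUJ σ n} (hu : u ∈ UJ σ n) (hr : r ∈ UJ σ n) {h a : ℕ} (hS : SSu (mt u) h a) (hS' : SSu (mt r) h a) {x₀ y₀ : Fin n} (hx₀ : (x₀ : ℕ) = a) (hy₀ : (y₀ : ℕ) = a + h)
    (he : mt r x₀ y₀ = -mt u x₀ y₀) : SSu (mt (u * r)) h (a + 1) := by
  intro x y hxy hc
  have hle : (y : ℕ) - x ≤ h := by omega
  rw [SSu_mul hu hr hS hxy hle]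
  by_cases h1 : (y : ℕ) - x < h ∨ ((y : ℕ) - x = h ∧ (x : ℕ) < a)
  · rw [hS x y hxy h1, hS' x y hxy h1, add_zero]
  · have hxy' := Fin.lt_def.1 hxy
    have h2 : x = x₀ := Fin.ext (by omega)
    have h3 : y = y₀ := Fin.ext (by omega)
    rw [h2, h3, he, add_neg_cancel]

theorem unit_rel {u : SUJ σ n} (hu : u ∈ UJ σ n) {a b : Fin n} (hab : a < b) (h0 : ∀ l, a < l → l < b → mt u l b = 0) :
    mt u b.rev a.rev + σ (mt u a b) = 0 := by
  have h1 := mt_isU u
  unfold IsU at h1
  have h2 := congrFun (congrFun h1 a.rev) b
  have h3 : ∀ l, ((mt u)ᵀ * JJ n K) a.rev l = mt u l.rev a.rev := by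
    intro l
    rw [mul_JJ_apply, transpose_apply]
  rw [Matrix.mul_apply] at h2
  simp only [h3, RingHom.mapMatrix_apply, Matrix.map_apply] at h2
  rw [Finset.sum_eq_add a b (ne_of_lt hab), UJ_diag hu, UJ_diag hu, map_one, one_mul, mul_one, JJ_apply, Fin.rev_rev, if_neg (ne_of_lt hab), add_comm] at h2
  · exact h2
  · intro l _ hl
    by_cases h4 : l < a
    · rw [UJ_low hu (Fin.rev_lt_rev.2 h4), zero_mul]
    · by_cases h5 : b < l
      · rw [UJ_low hu h5, map_zero, mul_zero]
      · have h6 : a < l := lt_of_le_of_ne (not_lt.1 h4) (Ne.symm hl.1)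
        have h7 : l < b := lt_of_le_of_ne (not_lt.1 h5) hl.2
        rw [h0 l h6 h7, map_zero, mul_zero]
  · simp
  · simp

/-- Generators of the unipotent group. -/
theorem uu_genU (hF : UFld σ) (C : Subgroup (SUJ σ n))
    (hx : ∀ (a b : Fin n) (h : SR a b) (_ : a < b) (_ : (a : ℕ) + b + 1 < n) (t : K), xmG hF.inv h t ∈ C)
    (hl : ∀ (a : Fin n) (ha : a ≠ a.rev) (_ : a < a.rev) (t : K) (ht : t + σ t = 0), llG ha ht ∈ C)
    (hy : ∀ (a c : Fin n) (hc : c.rev = c) (hac : a ≠ c) (_ : a < c) (s t : K) (h : t + σ t + s * σ s = 0), yyG hF.inv hc hac h ∈ C) :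
    UJ σ n ≤ C := by
  have hσ := hF.inv
  have main : ∀ (d h : ℕ), 1 ≤ h → n ≤ h + d → ∀ (a : ℕ) (u : SUJ σ n), u ∈ UJ σ n → SSu (mt u) h a → u ∈ C := by
    intro d
    induction d with
    | zero =>
      intro h h1 h2 a u hu hS
      have : u = 1 := by
        apply mt_inj
        ext x y
        rw [mt_one]
        by_cases hxy : x < y
        · have := Fin.lt_def.1 hxy
          have hy2 := y.2
          rw [hS x y hxy (Or.inl (by omega)), Matrix.one_apply_ne (ne_of_lt hxy)]
        · exact mem_UJ.1 hu x y (not_lt.1 hxy)
      rw [this]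
      exact C.one_mem
    | succ d IH =>
      intro h h1 h2
      have inner : ∀ (e a : ℕ), n ≤ a + e → ∀ (u : SUJ σ n), u ∈ UJ σ n → SSu (mt u) h a → u ∈ C := by
        intro e
        induction e with
        | zero =>
          intro a ha u hu hS
          refine IH (h + 1) (by omega) (by omega) 0 u hu fun x y hxy hc => hS x y hxy ?_
          have hx2 := x.2
          rcases hc with hc | hc
          · by_cases h3 : (y : ℕ) - x < h
            · exact Or.inl h3
            · exact Or.inr ⟨by omega, by omega⟩
          · omega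
        | succ e IHe =>
          intro a ha u hu hS
          by_cases hab : n ≤ a + h
          · refine IH (h + 1) (by omega) (by omega) 0 u hu fun x y hxy hc => hS x y hxy ?_
            have hy2 := y.2
            have hxy' := Fin.lt_def.1 hxy
            rcases hc with hc | hc
            · by_cases h3 : (y : ℕ) - x < h
              · exact Or.inl h3
              · exact Or.inr ⟨by omega, by omega⟩
            · omega
          obtain ⟨x₀, hx₀⟩ : ∃ x₀ : Fin n, (x₀ : ℕ) = a := ⟨⟨a, by omega⟩, rfl⟩
          obtain ⟨y₀, hy₀⟩ : ∃ y₀ : Fin n, (y₀ : ℕ) = a + h := ⟨⟨a + h, by omega⟩, rfl⟩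
          have hlt : x₀ < y₀ := by
            rw [Fin.lt_def]
            omega
          have hxr := val_rev' x₀
          have hyr := val_rev' y₀
          have hrel := unit_rel hu hlt (fun l h3 h4 => hS l y₀ h4 (Or.inl (by
            have h5 := Fin.lt_def.1 h3
            have h6 := Fin.lt_def.1 h4
            omega)))
          have hfin : ∀ r ∈ C, r ∈ UJ σ n → SSu (mt r) h a → mt r x₀ y₀ = -mt u x₀ y₀ → u ∈ C := by
            intro r hrC hrU hrS hre
            have h3 := IHe (a + 1) (by omega) _ ((UJ σ n).mul_mem hu hrU) (SSu_step hu hrU hS hrS hx₀ hy₀ hre)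
            have h4 := C.mul_mem h3 (C.inv_mem hrC)
            rwa [mul_inv_cancel_right] at h4
          rcases lt_trichotomy ((a : ℕ) + (a + h) + 1) n with hc | hc | hc
          · -- a short root
            by_cases hmid : y₀.rev = y₀
            · obtain ⟨β, hβ⟩ := hF.ex_b (-mt u x₀ y₀)
              have hne : x₀ ≠ y₀ := ne_of_lt hlt
              refine hfin _ (hy x₀ y₀ hmid hne hlt _ _ hβ) (yy_mem_UJ hσ hmid hne hlt hβ) ?_ ?_
              · intro x y hxy hcc
                rw [mt_yyG]
                unfold yyM
                have hxy' := Fin.lt_def.1 hxy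
                have hmv := congrArg Fin.val hmid
                rw [Matrix.add_apply, Matrix.add_apply, Matrix.add_apply, Matrix.one_apply_ne (ne_of_lt hxy), Matrix.single_apply, Matrix.single_apply, Matrix.single_apply,
                  if_neg, if_neg, if_neg]
                · ring
                · rintro ⟨rfl, rfl⟩
                  omega
                · rintro ⟨rfl, rfl⟩
                  omega
                · rintro ⟨rfl, rfl⟩
                  omega
              · rw [mt_yyG]
                unfold yyM
                have h5 : x₀ ≠ y₀.rev := by rwa [hmid]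
                have h6 : y₀ ≠ x₀ := hne.symm
                have h7 : x₀.rev ≠ y₀ := fne (by omega)
                simp [Matrix.single_apply, Matrix.one_apply, hne, h6, h7]
            · have hS2 : SR x₀ y₀ := ⟨ne_of_lt hlt, fne (by omega), fne (by omega), fun e => hmid e.symm⟩
              refine hfin _ (hx x₀ y₀ hS2 hlt (by omega) _) (xm_mem_UJ hσ hS2 hlt (-mt u x₀ y₀)) ?_ ?_
              · intro x y hxy hcc
                rw [mt_xmG]
                unfold xmM
                have hxy' := Fin.lt_def.1 hxy
                rw [Matrix.add_apply, Matrix.add_apply, Matrix.one_apply_ne (ne_of_lt hxy), Matrix.single_apply, Matrix.single_apply, if_neg, if_neg]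
                · ring
                · rintro ⟨rfl, rfl⟩
                  omega
                · rintro ⟨rfl, rfl⟩
                  omega
              · rw [mt_xmG]
                unfold xmM
                have h5 : x₀ ≠ y₀ := ne_of_lt hlt
                have h6 : y₀.rev ≠ x₀ := fne (by omega)
                simp [Matrix.single_apply, Matrix.one_apply, h5, h6]
          · -- a long root
            have hyx : y₀ = x₀.rev := Fin.ext (by omega)
            have hxy2 : y₀.rev = x₀ := by rw [hyx, Fin.rev_rev]
            rw [hxy2, ← hyx] at hrel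
            have htr : -mt u x₀ y₀ + σ (-mt u x₀ y₀) = 0 := by
              rw [map_neg]
              linear_combination -hrel
            have hlt2 : x₀ < x₀.rev := by rwa [← hyx]
            have hne : x₀ ≠ x₀.rev := ne_of_lt hlt2
            refine hfin _ (hl x₀ hne hlt2 _ htr) (ll_mem_UJ hne hlt2 htr) ?_ ?_
            · intro x y hxy hcc
              rw [mt_llG]
              unfold llM
              have hxy' := Fin.lt_def.1 hxy
              rw [Matrix.add_apply, Matrix.one_apply_ne (ne_of_lt hxy), Matrix.single_apply, if_neg]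
              · ring
              · rintro ⟨rfl, rfl⟩
                rw [← hyx] at hcc
                omega
            · rw [mt_llG]
              unfold llM
              rw [← hyx]
              simp [Matrix.single_apply, Matrix.one_apply, ne_of_lt hlt]
          · -- the second half of the roots
            have hp := hS y₀.rev x₀.rev (Fin.rev_lt_rev.2 hlt) (Or.inr ⟨by omega, by omega⟩)
            rw [hp, zero_add] at hrel
            have h3 : mt u x₀ y₀ = 0 := by
              have := congrArg σ hrel
              rwa [hσ, map_zero] at this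
            refine IHe (a + 1) (by omega) u hu fun x y hxy hcc => ?_
            by_cases h4 : (y : ℕ) - x < h ∨ ((y : ℕ) - x = h ∧ (x : ℕ) < a)
            · exact hS x y hxy h4
            · have hxy' := Fin.lt_def.1 hxy
              have h5 : x = x₀ := Fin.ext (by omega)
              have h6 : y = y₀ := Fin.ext (by omega)
              rw [h5, h6, h3]
      intro a u hu hS
      exact inner n a (by omega) u hu hS
  intro u hu
  exact main n 1 le_rfl (by omega) 0 u hu fun x y hxy hc => by
    have := Fin.lt_def.1 hxy
    omega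

end Cfsg.Agent.H25
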