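import Cfsg.Agent.Lib.H25.SimU11
set_option autoImplicit false
set_option linter.style.haveILetI false

/-! The fusion system of `PSU_n` in the defining characteristic: commutator identities. -/

namespace Cfsg.Agent.H25

open Cfsg Matrix
open scoped MatrixGroups

variable {K : Type*} [Field K] {n : ℕ} {σ : K →+* K}

/-- A shape. -/
def L4 (s : K) : Matrix (Fin 4) (Fin 4) K := 1 + Matrix.single 1 2 s

/-- A shape. -/
def Z4 (r r' : K) : Matrix (Fin 4) (Fin 4) K := 1 + (Matrix.single 0 2 r + Matrix.single 1 3 r')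

/-- A shape. -/
def Q4 (w : K) : Matrix (Fin 4) (Fin 4) K := 1 + Matrix.single 0 3 w

theorem prod_c1 (t T s : K) : X4 t T * L4 s = (Z4 (t * s) (-(s * T)) * Q4 (-(t * s * T))) * L4 s * X4 t T := by
  ext i j
  fin_cases i <;> fin_cases j <;>
    simp [X4, L4, Z4, Q4, Matrix.mul_apply, Fin.sum_univ_four, Matrix.one_apply, Matrix.single_apply]

/-- A shape. -/
def X5 (t T : K) : Matrix (Fin 5) (Fin 5) K := 1 + (Matrix.single 0 1 t + Matrix.single 3 4 T)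

/-- A shape. -/
def Y5 (a u b : K) : Matrix (Fin 5) (Fin 5) K := 1 + (Matrix.single 1 2 a + Matrix.single 2 3 u + Matrix.single 1 3 b)

/-- A shape. -/
def E5 (a u b : K) : Matrix (Fin 5) (Fin 5) K := 1 + (Matrix.single 0 2 a + Matrix.single 2 4 u + Matrix.single 0 4 b)

/-- A shape. -/
def F5 (r r' : K) : Matrix (Fin 5) (Fin 5) K := 1 + (Matrix.single 0 3 r + Matrix.single 1 4 r')

theorem prod_c2 {a u b b' t T : K} (h : b + b' - a * u = 0) :
    Y5 a u b * X5 t T = (E5 (-(t * a)) (u * T) (-(t * b' * T)) * F5 (t * b') (b * T)) * X5 t T * Y5 a u b := by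
  ext i j
  fin_cases i <;> fin_cases j <;>
    simp [X5, Y5, E5, F5, Matrix.mul_apply, Fin.sum_univ_five, Matrix.one_apply, Matrix.single_apply] <;> grind

section F
variable [Fintype K]

/-- Closure under conjugation inside `UJ`. -/
def ClU (W : Subgroup (SUJ σ n)) : Prop := ∀ u ∈ W, ∀ g : SUJ σ n, g * u * g⁻¹ ∈ UJ σ n → g * u * g⁻¹ ∈ W

theorem rev_swap (a b x : Fin n) : (Equiv.swap a b x).rev = Equiv.swap a.rev b.rev x.rev := by
  rw [Equiv.swap_apply_def, Equiv.swap_apply_def]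
  simp only [Fin.rev_inj]
  split_ifs <;> rfl

theorem sw_rev (b x : Fin n) : Equiv.swap b b.rev x.rev = (Equiv.swap b b.rev x).rev := by
  rw [rev_swap, Fin.rev_rev, Equiv.swap_comm]

theorem sw2_rev {a b : Fin n} (h : [a, b, a.rev, b.rev].Nodup) (x : Fin n) :
    (Equiv.swap a b * Equiv.swap a.rev b.rev) x.rev = ((Equiv.swap a b * Equiv.swap a.rev b.rev) x).rev := by
  have hc := (Equiv.Perm.disjoint_swap_swap h).commute
  have h1 := congrArg (fun π : Equiv.Perm (Fin n) => π x.rev) hc.eq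
  simp only [Equiv.Perm.mul_apply] at h1 ⊢
  rw [h1, rev_swap a b, rev_swap a.rev b.rev, Fin.rev_rev, Fin.rev_rev]

theorem sw2_det {a b : Fin n} (h1 : a ≠ b) (h2 : a.rev ≠ b.rev) : (moM (Equiv.swap a b * Equiv.swap a.rev b.rev) (fun _ => (1 : K))).det = 1 := by
  rw [moM_det, Equiv.Perm.sign_mul, Equiv.Perm.sign_swap h1, Equiv.Perm.sign_swap h2]
  simp

theorem moG_conj_ll (hσ : ∀ x, σ (σ x) = x) {π : Equiv.Perm (Fin n)} {f : Fin n → K} (hπ : ∀ i, π i.rev = (π i).rev)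
    (hf : ∀ i, f i * σ (f i.rev) = 1) (hd : (moM π f).det = 1) {i i₂ : Fin n} (e : π i = i₂) {t t₂ : K} (et : t₂ = f i * t * σ (f i))
    (hi : i ≠ i.rev) (hi₂ : i₂ ≠ i₂.rev) (ht : t + σ t = 0) (ht₂ : t₂ + σ t₂ = 0) : moG hσ hπ hf hd * llG hi ht * (moG hσ hπ hf hd)⁻¹ = llG hi₂ ht₂ := by
  subst e et
  exact conj_of_comm (moM_comm_ll hσ hπ hf i t)

theorem moG_conj_xm (hσ : ∀ x, σ (σ x) = x) {π : Equiv.Perm (Fin n)} {f : Fin n → K} (hπ : ∀ i, π i.rev = (π i).rev)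
    (hf : ∀ i, f i * σ (f i.rev) = 1) (hd : (moM π f).det = 1) {i j i₂ j₂ : Fin n} (e : π i = i₂) (e' : π j = j₂) {t t₂ : K} (et : t₂ = f i * t * (f j)⁻¹)
    (h : SR i j) (h₂ : SR i₂ j₂) : moG hσ hπ hf hd * xmG hσ h t * (moG hσ hπ hf hd)⁻¹ = xmG hσ h₂ t₂ := by
  subst e e' et
  exact conj_of_comm (moM_comm_xm hσ hπ hf i j t)

theorem moG_conj_yy (hσ : ∀ x, σ (σ x) = x) {π : Equiv.Perm (Fin n)} {f : Fin n → K} (hπ : ∀ i, π i.rev = (π i).rev)
    (hf : ∀ i, f i * σ (f i.rev) = 1) (hd : (moM π f).det = 1) {i i₂ c : Fin n} (hc : c.rev = c) (hπc : π c = c) (e : π i = i₂) {x y x₂ y₂ : K}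
    (ex : x₂ = f i * x * (f c)⁻¹) (ey : y₂ = f i * y * σ (f i)) (hi : i ≠ c) (hi₂ : i₂ ≠ c) (h : y + σ y + x * σ x = 0) (h₂ : y₂ + σ y₂ + x₂ * σ x₂ = 0) :
    moG hσ hπ hf hd * yyG hσ hc hi h * (moG hσ hπ hf hd)⁻¹ = yyG hσ hc hi₂ h₂ := by
  subst e ex ey
  exact conj_of_comm (moM_comm_yy hσ hπ hf i c hc hπc x y)

theorem diag_conj_ll (hσ : ∀ x, σ (σ x) = x) {t : SUJ σ n} {d : Fin n → K} (ht : mt t = diagonal d) {i : Fin n} (hi : i ≠ i.rev) {x x₂ : K} (hx : x + σ x = 0) (hx₂ : x₂ + σ x₂ = 0)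
    (e : x₂ = d i * x * σ (d i)) : t * llG hi hx * t⁻¹ = llG hi hx₂ := by
  subst e
  refine conj_of_comm ?_
  rw [ht, ← moM_one, mt_llG, mt_llG]
  exact moM_comm_ll (π := 1) hσ (fun _ => rfl) (diag_facts hσ (ht.trans (moM_one d).symm |>.trans (moM_one d))).1 i x

variable {W : Subgroup (SUJ σ n)}

theorem ll_scale (hF : UFld σ) (cl : ClU W) {i₀ i₁ : Fin n} (hr : (i₁ : ℕ) = i₀ + 1) (hlt : i₁ < i₁.rev) {b : K} (hi : i₀ < i₀.rev) (hb : b + σ b = 0) (hb0 : b ≠ 0)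
    (hm : llG (ne_of_lt hi) hb ∈ W) {b' : K} (hb' : b' + σ b' = 0) : llG (ne_of_lt hi) hb' ∈ W := by
  have hσ := hF.inv
  by_cases hz : b' = 0
  · subst hz
    have : llG (ne_of_lt hi) hb' = 1 := by
      apply mt_inj
      rw [mt_llG, llM_zero, mt_one]
    rw [this]
    exact W.one_mem
  have hσb : σ b = -b := by linear_combination hb
  have hσb' : σ b' = -b' := by linear_combination hb'
  have hc : σ (b' / b) = b' / b := by
    rw [map_div₀, hσb, hσb', neg_div_neg_eq]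
  obtain ⟨d, hd⟩ := hF.norm _ hc
  have hd0 : d ≠ 0 := by
    rintro rfl
    rw [zero_mul] at hd
    exact (div_ne_zero hz hb0) hd.symm
  have h1 := val_rev' i₀
  have h2 := val_rev' i₁
  have h3 := Fin.lt_def.1 hlt
  have hS : SR i₀ i₁ := ⟨fne (by omega), fne (by omega), fne (by omega), ne_of_lt hlt⟩
  have hS' : SR i₁ i₀ := ⟨fne (by omega), fne (by omega), fne (by omega), fne (by omega)⟩
  have ht := mt_gS hσ hS hS' hd0
  have e := diag_conj_ll hσ ht (ne_of_lt hi) hb hb' (by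
    have : D4f i₀ i₁ i₁.rev i₀.rev d d⁻¹ (σ d) (σ d)⁻¹ i₀ = d := by
      unfold D4f
      rw [if_pos rfl]
    rw [this]
    have h4 : d * b * σ d = (d * σ d) * b := by ring
    rw [h4, hd]
    field_simp)
  rw [← e]
  refine cl _ hm _ ?_
  rw [e]
  exact ll_mem_UJ _ hi _

end F

end Cfsg.Agent.H25
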