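import Cfsg.Agent.Lib.H25.SimU12
set_option autoImplicit false
set_option linter.style.haveILetI false

/-! The fusion system of `PSU_n` in the defining characteristic: strong closure. -/

namespace Cfsg.Agent.H25

open Cfsg Matrix
open scoped MatrixGroups

variable {K : Type*} [Field K] [Fintype K] {n : ℕ} {σ : K →+* K} {W : Subgroup (SUJ σ n)}

/-- Moving long root elements. -/
theorem ll_move (hσ : ∀ x, σ (σ x) = x) (cl : ClU W) {i₀ a : Fin n} (h0 : (i₀ : ℕ) = 0) (hne : i₀ ≠ a) (ha : a < a.rev) {t : K} (ht : t + σ t = 0)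
    (hm : llG (ne_of_lt (show i₀ < i₀.rev by
      have := val_rev' i₀
      have h1 := Fin.lt_def.1 ha
      have h2 := val_rev' a
      rw [Fin.lt_def]
      omega)) ht ∈ W) : llG (ne_of_lt ha) ht ∈ W := by
  have h1 := val_rev' i₀
  have h2 := val_rev' a
  have h3 := Fin.lt_def.1 ha
  have h4 : (a : ℕ) ≠ 0 := fun e => hne (Fin.ext (by omega))
  have hnd : [i₀, a, i₀.rev, a.rev].Nodup := by
    simp only [List.nodup_cons, List.mem_cons, List.not_mem_nil, or_false, not_or, List.nodup_nil, and_true, not_false_eq_true]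
    exact ⟨⟨hne, fne (by omega), fne (by omega)⟩, ⟨fne (by omega), fne (by omega)⟩, fne (by omega)⟩
  have hf : ∀ i : Fin n, (fun _ => (1 : K)) i * σ ((fun _ => (1 : K)) i.rev) = 1 := by
    intro i
    simp
  have e := moG_conj_ll hσ (sw2_rev hnd) hf (sw2_det hne (fne (by omega))) (i := i₀) (i₂ := a)
    (by
      rw [Equiv.Perm.mul_apply, Equiv.swap_apply_of_ne_of_ne (a := i₀.rev) (b := a.rev) (x := i₀) (fne (by omega)) (fne (by omega)), Equiv.swap_apply_left])
    (t := t) (t₂ := t) (by simp) (fne (by omega)) (ne_of_lt ha) ht ht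
  rw [← e]
  refine cl _ hm _ ?_
  rw [e]
  exact ll_mem_UJ _ ha _

/-- The short roots with large second index. -/
theorem xm_II (hF : UFld σ) (cl : ClU W) {a d : Fin n} (hlt : a < d) (hd : d < d.rev) (hS : SR a d.rev) (hS2 : SR a d)
    (hll : ∀ (i : Fin n) (hi : i ≠ i.rev) (_ : i < i.rev) (t : K) (ht : t + σ t = 0), llG hi ht ∈ W) (r : K) : xmG hF.inv hS r ∈ W := by
  have hσ := hF.inv
  obtain ⟨s, hs0, hs⟩ := hF.tz
  have hσs : σ s = -s := by linear_combination hs
  have h1 := val_rev' a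
  have h2 := val_rev' d
  have h3 := Fin.lt_def.1 hlt
  have h4 := Fin.lt_def.1 hd
  have hda : d ≠ d.rev := ne_of_lt hd
  have haa : a < a.rev := by
    rw [Fin.lt_def]
    omega
  obtain ⟨t, ht⟩ : ∃ t, t * s = r := ⟨r / s, by field_simp⟩
  have h01 : a ≠ d := ne_of_lt hlt
  have h02 : a ≠ d.rev := hS.1
  have h03 : a ≠ a.rev := ne_of_lt haa
  have h12 : d ≠ d.rev := hda
  have h13 : d ≠ a.rev := fne (by omega)
  have h23 : d.rev ≠ a.rev := fne (by omega)
  have hinj := inj4 h01 h02 h03 h12 h13 h23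
  have hw : (-(t * s * (-σ t))) + σ (-(t * s * (-σ t))) = 0 := by
    simp only [map_neg, map_mul, hσ, hσs]
    ring
  have e1 : ∀ x : K, xmM σ a d x = emb ![a, d, d.rev, a.rev] (X4 x (-σ x)) := fun x => by rw [emb_X4]; rfl
  have e2 : llM d s = emb ![a, d, d.rev, a.rev] (L4 s) := by
    unfold L4
    rw [emb_one_add, io_single]
    rfl
  have e3 : xmM σ a d.rev r = emb ![a, d, d.rev, a.rev] (Z4 r (-σ r)) := by
    unfold Z4 xmM
    rw [emb_one_add, io_add, io_single, io_single, Fin.rev_rev, add_assoc]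
    rfl
  have e4 : ∀ w : K, llM a w = emb ![a, d, d.rev, a.rev] (Q4 w) := by
    intro w
    unfold Q4
    rw [emb_one_add, io_single]
    rfl
  have e5 : -σ r = -(s * -σ t) := by
    rw [← ht, map_mul, hσs]
    ring
  have key : xmG hσ hS2 t * llG hda hs * (xmG hσ hS2 t)⁻¹ = (xmG hσ hS r * llG h03 hw) * llG hda hs := by
    refine conj_of_comm ?_
    rw [mt_mul, mt_mul, mt_xmG, mt_xmG, mt_llG, mt_llG, e1, e2, e3, e4, ← emb_mul hinj, ← emb_mul hinj, ← emb_mul hinj, ← emb_mul hinj, prod_c1, ht, e5]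
  have hL := hll d hda hd s hs
  have h5 : (xmG hσ hS r * llG h03 hw) * llG hda hs ∈ W := by
    rw [← key]
    refine cl _ hL _ ?_
    exact (UJ σ n).mul_mem ((UJ σ n).mul_mem (xm_mem_UJ hσ hS2 hlt t) (ll_mem_UJ hda hd hs)) ((UJ σ n).inv_mem (xm_mem_UJ hσ hS2 hlt t))
  have h6 := W.mul_mem h5 (W.inv_mem hL)
  rw [mul_inv_cancel_right] at h6
  have h7 := W.mul_mem h6 (W.inv_mem (hll a h03 haa _ hw))
  rwa [mul_inv_cancel_right] at h7

/-- The short roots with small second index. -/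
theorem xm_I (hF : UFld σ) (cl : ClU W) {a b : Fin n} (hlt : a < b) (hb : b < b.rev) (hS : SR a b)
    (hII : ∀ (r : K), ∀ hS' : SR a b.rev, xmG hF.inv hS' r ∈ W) (r : K) : xmG hF.inv hS r ∈ W := by
  have hσ := hF.inv
  obtain ⟨τ, hτ0, hτ⟩ := hF.tz
  have hστ : σ τ = -τ := by linear_combination hτ
  have h1 := val_rev' a
  have h2 := val_rev' b
  have h3 := Fin.lt_def.1 hlt
  have h4 := Fin.lt_def.1 hb
  have hS' : SR a b.rev := ⟨fne (by omega), by rw [Fin.rev_rev]; exact ne_of_lt hlt, fne (by omega), by rw [Fin.rev_rev]; exact (ne_of_lt hb).symm⟩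
  have hbb : b ≠ b.rev := ne_of_lt hb
  obtain ⟨f, hfd⟩ : ∃ f : Fin n → K, f = fun i => if i = b then τ else if i = b.rev then (σ τ)⁻¹ else 1 := ⟨_, rfl⟩
  have hfb : f b = τ := by rw [hfd]; simp
  have hfr : f b.rev = (σ τ)⁻¹ := by rw [hfd]; simp [hbb.symm]
  have hfo : ∀ i, i ≠ b → i ≠ b.rev → f i = 1 := by
    intro i h5 h6
    rw [hfd]
    simp [h5, h6]
  have hSτ : σ τ ≠ 0 := by
    rw [hστ]
    exact neg_ne_zero.2 hτ0
  have hf : ∀ i, f i * σ (f i.rev) = 1 := by
    intro i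
    by_cases h5 : i = b
    · rw [h5, hfb, hfr, map_inv₀, hσ]
      exact mul_inv_cancel₀ hτ0
    · by_cases h6 : i = b.rev
      · rw [h6, Fin.rev_rev, hfr, hfb]
        exact inv_mul_cancel₀ hSτ
      · have h7 : i.rev ≠ b := fun e => h6 (by rw [← e, Fin.rev_rev])
        have h8 : i.rev ≠ b.rev := fun e => h5 (Fin.rev_injective e)
        rw [hfo i h5 h6, hfo _ h7 h8, map_one, one_mul]
  have hd : (moM (Equiv.swap b b.rev) f).det = 1 := by
    rw [moM_det, Equiv.Perm.sign_swap hbb, Finset.prod_eq_mul b b.rev hbb (fun c _ hc => hfo c hc.1 hc.2) (by simp) (by simp), hfb, hfr, hστ]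
    simp only [Units.val_neg, Units.val_one, Int.cast_neg, Int.cast_one, inv_neg]
    field_simp
  have e := moG_conj_xm hσ (fun x => sw_rev b x) hf hd (i := a) (j := b.rev) (i₂ := a) (j₂ := b)
    (Equiv.swap_apply_of_ne_of_ne (fne (by omega)) (fne (by omega))) (Equiv.swap_apply_right _ _)
    (t := r * (f b.rev)) (t₂ := r) (by
      rw [hfo a (fne (by omega)) (fne (by omega))]
      have h5 : f b.rev ≠ 0 := by
        rw [hfr]
        exact inv_ne_zero hSτ
      field_simp) hS' hS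
  rw [← e]
  refine cl _ (hII _ hS') _ ?_
  rw [e]
  exact xm_mem_UJ _ _ hlt _

end Cfsg.Agent.H25
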