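import Cfsg.Agent.Lib.H25.SimU13
import Cfsg.Agent.Lib.H09.KSeq2
set_option autoImplicit false
set_option linter.style.haveILetI false

/-! The fusion system of `PSU_n` in the defining characteristic: the middle root elements and the conclusion for the unipotent group. -/

namespace Cfsg.Agent.H25

open Cfsg Matrix
open scoped MatrixGroups

variable {K : Type*} [Field K] [Fintype K] {n : ℕ} {σ : K →+* K} {W : Subgroup (SUJ σ n)}

theorem inj5 {x0 x1 x2 x3 x4 : Fin n} (h01 : x0 ≠ x1) (h02 : x0 ≠ x2) (h03 : x0 ≠ x3) (h04 : x0 ≠ x4) (h12 : x1 ≠ x2) (h13 : x1 ≠ x3) (h14 : x1 ≠ x4)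
    (h23 : x2 ≠ x3) (h24 : x2 ≠ x4) (h34 : x3 ≠ x4) : Function.Injective ![x0, x1, x2, x3, x4] := by
  intro a b h
  by_contra hab
  fin_cases a <;> fin_cases b <;> simp_all

/-- Middle root elements at the first position, up to a long root element. -/
theorem yy_I (hF : UFld σ) (cl : ClU W) {a b c : Fin n} (hc : c.rev = c) (hab : a < b) (hbc : b < c)
    (hS : SR a b) (hS' : SR a b.rev) (hX : ∀ t, xmG hF.inv hS t ∈ W) (hX' : ∀ t, xmG hF.inv hS' t ∈ W)
    {β : K} (hβ : β + σ β + 1 * σ 1 = 0) (t : K) {y : K} (hy : y + σ y + (-(t * 1)) * σ (-(t * 1)) = 0) (ey : y = t * σ β * σ t) :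
    yyG hF.inv hc (ne_of_lt (hab.trans hbc)) hy ∈ W := by
  have hσ := hF.inv
  have h1 := val_rev' a
  have h2 := val_rev' b
  have h3 := val_rev' c
  have hc' : (c.rev : ℕ) = c := by rw [hc]
  have h4 := Fin.lt_def.1 hab
  have h5 := Fin.lt_def.1 hbc
  have h01 : a ≠ b := ne_of_lt hab
  have h02 : a ≠ c := ne_of_lt (hab.trans hbc)
  have h03 : a ≠ b.rev := hS'.1
  have h04 : a ≠ a.rev := hS.2.2.1
  have h12 : b ≠ c := ne_of_lt hbc
  have h13 : b ≠ b.rev := fne (by omega)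
  have h14 : b ≠ a.rev := fne (by omega)
  have h23 : c ≠ b.rev := fne (by omega)
  have h24 : c ≠ a.rev := fne (by omega)
  have h34 : b.rev ≠ a.rev := fne (by omega)
  have hinj := inj5 h01 h02 h03 h04 h12 h13 h14 h23 h24 h34
  have hbr : b < b.rev := by
    rw [Fin.lt_def]
    omega
  obtain ⟨f, hfd⟩ : ∃ f : Fin 5 → Fin n, f = ![a, b, c, b.rev, a.rev] := ⟨_, rfl⟩
  rw [← hfd] at hinj
  have e1 : xmM σ a b t = emb f (X5 t (-σ t)) := by
    unfold X5 xmM
    rw [emb_one_add, io_add, io_single, io_single, add_assoc, hfd]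
    rfl
  have e2 : yyM σ b c 1 β = emb f (Y5 1 (-σ 1) β) := by
    unfold Y5 yyM
    rw [emb_one_add, io_add, io_add, io_single, io_single, io_single, add_assoc, add_assoc, add_assoc, hfd]
    rfl
  have e3 : yyM σ a c (-(t * 1)) y = emb f (E5 (-(t * 1)) (-σ 1 * -σ t) (-(t * σ β * -σ t))) := by
    unfold E5 yyM
    rw [emb_one_add, io_add, io_add, io_single, io_single, io_single, hfd, ey]
    simp only [map_neg, map_mul, map_one, neg_neg, mul_neg, neg_mul, one_mul, mul_one]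
    rw [add_assoc, add_assoc, add_assoc]
    rfl
  have e4 : xmM σ a b.rev (t * σ β) = emb f (F5 (t * σ β) (β * -σ t)) := by
    unfold F5 xmM
    rw [emb_one_add, io_add, io_single, io_single, add_assoc, hfd, Fin.rev_rev]
    simp only [map_mul, hσ, mul_neg]
    rw [mul_comm (σ t) β]
    rfl
  have hβ' : β + σ β - 1 * -σ 1 = 0 := by
    linear_combination hβ
  have key : yyG hσ hc (ne_of_lt hbc) hβ * xmG hσ hS t * (yyG hσ hc (ne_of_lt hbc) hβ)⁻¹ =
      (yyG hσ hc (ne_of_lt (hab.trans hbc)) hy * xmG hσ hS' (t * σ β)) * xmG hσ hS t := by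
    refine conj_of_comm ?_
    rw [mt_mul, mt_mul, mt_yyG, mt_yyG, mt_xmG, mt_xmG, e1, e2, e3, e4, ← emb_mul hinj, ← emb_mul hinj, ← emb_mul hinj, ← emb_mul hinj, prod_c2 hβ']
  have h6 : (yyG hσ hc (ne_of_lt (hab.trans hbc)) hy * xmG hσ hS' (t * σ β)) * xmG hσ hS t ∈ W := by
    rw [← key]
    refine cl _ (hX t) _ ?_
    exact (UJ σ n).mul_mem ((UJ σ n).mul_mem (yy_mem_UJ hσ hc _ hbc hβ) (xm_mem_UJ hσ hS hab t)) ((UJ σ n).inv_mem (yy_mem_UJ hσ hc _ hbc hβ))
  have h7 := W.mul_mem h6 (W.inv_mem (hX t))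
  rw [mul_inv_cancel_right] at h7
  have h8 := W.mul_mem h7 (W.inv_mem (hX' (t * σ β)))
  rwa [mul_inv_cancel_right] at h8

theorem yy_zero_eq (hσ : ∀ x, σ (σ x) = x) {a c : Fin n} (hc : c.rev = c) (hac : a ≠ c) {y : K} (hy : y + σ y + 0 * σ 0 = 0) (hy' : y + σ y = 0) :
    yyG hσ hc hac hy = llG (ne_rev_of hc hac) hy' := by
  apply mt_inj
  rw [mt_yyG, mt_llG]
  unfold yyM llM
  rw [map_zero, neg_zero, Matrix.single_zero, Matrix.single_zero, add_zero, add_zero]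

/-- All middle root elements at one position. -/
theorem yy_all (hF : UFld σ) (cl : ClU W) {a b c : Fin n} (hc : c.rev = c) (hab : a < b) (hbc : b < c)
    (hS : SR a b) (hS' : SR a b.rev) (hX : ∀ t, xmG hF.inv hS t ∈ W) (hX' : ∀ t, xmG hF.inv hS' t ∈ W)
    (hL : ∀ (y : K) (hy : y + σ y = 0), llG (ne_rev_of hc (ne_of_lt (hab.trans hbc))) hy ∈ W)
    (s y : K) (h : y + σ y + s * σ s = 0) : yyG hF.inv hc (ne_of_lt (hab.trans hbc)) h ∈ W := by
  have hσ := hF.inv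
  obtain ⟨β, hβ⟩ := hF.ex_b 1
  have hy1 : (-s * σ β * σ (-s)) + σ (-s * σ β * σ (-s)) + (-(-s * 1)) * σ (-(-s * 1)) = 0 := by
    simp only [map_neg, map_mul, hσ, map_one] at hβ ⊢
    linear_combination (s * σ s) * hβ
  have h1 := yy_I hF cl hc hab hbc hS hS' hX hX' hβ (-s) hy1 rfl
  have hcast : ∀ {x : K} (hx : x = s) {w : K} (hw : w + σ w + x * σ x = 0) (hw' : w + σ w + s * σ s = 0), yyG hσ hc (ne_of_lt (hab.trans hbc)) hw = yyG hσ hc (ne_of_lt (hab.trans hbc)) hw' := by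
    intro x hx w hw hw'
    subst hx
    rfl
  have h2 : (-(-s * 1)) = s := by ring
  have hw' : (-s * σ β * σ (-s)) + σ (-s * σ β * σ (-s)) + s * σ s = 0 := by
    rw [h2] at hy1
    exact hy1
  rw [hcast h2 hy1 hw'] at h1
  have hr : (y - (-s * σ β * σ (-s))) + σ (y - (-s * σ β * σ (-s))) = 0 := by
    rw [map_sub]
    linear_combination h - hw'
  have h3 := hL _ hr
  have e : yyG hσ hc (ne_of_lt (hab.trans hbc)) h = yyG hσ hc (ne_of_lt (hab.trans hbc)) hw' * llG (ne_rev_of hc (ne_of_lt (hab.trans hbc))) hr := by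
    apply mt_inj
    rw [mt_mul, mt_yyG, mt_yyG, mt_llG]
    have e5 : llM (i := a) (y - (-s * σ β * σ (-s))) = yyM σ a c 0 (y - (-s * σ β * σ (-s))) := by
      unfold yyM llM
      rw [map_zero, neg_zero, Matrix.single_zero, Matrix.single_zero, add_zero, add_zero]
    rw [e5, yyM_mul hc (ne_of_lt (hab.trans hbc))]
    congr 1
    · ring
    · rw [map_zero]
      ring
  rw [e]
  exact W.mul_mem h1 h3

/-- Moving middle root elements. -/
theorem yy_move (hσ : ∀ x, σ (σ x) = x) (cl : ClU W) {i₀ a c : Fin n} (hc : c.rev = c) (h0 : (i₀ : ℕ) = 0) (hne : i₀ ≠ a) (ha : a < c)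
    (h0c : i₀ ≠ c) {s y : K} (h : y + σ y + s * σ s = 0) (hm : yyG hσ hc h0c h ∈ W) : yyG hσ hc (ne_of_lt ha) h ∈ W := by
  have h1 := val_rev' i₀
  have h2 := val_rev' a
  have h3 := val_rev' c
  have hc' : (c.rev : ℕ) = c := by rw [hc]
  have h4 := Fin.lt_def.1 ha
  have h5 : (a : ℕ) ≠ 0 := fun e => hne (Fin.ext (by omega))
  have hnd : [i₀, a, i₀.rev, a.rev].Nodup := by
    simp only [List.nodup_cons, List.mem_cons, List.not_mem_nil, or_false, not_or, List.nodup_nil, and_true, not_false_eq_true]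
    exact ⟨⟨hne, fne (by omega), fne (by omega)⟩, ⟨fne (by omega), fne (by omega)⟩, fne (by omega)⟩
  have hf : ∀ i : Fin n, (fun _ => (1 : K)) i * σ ((fun _ => (1 : K)) i.rev) = 1 := by
    intro i
    simp
  have e := moG_conj_yy hσ (sw2_rev hnd) hf (sw2_det hne (fne (by omega))) hc
    (by
      rw [Equiv.Perm.mul_apply, Equiv.swap_apply_of_ne_of_ne (a := i₀.rev) (b := a.rev) (x := c) (fne (by omega)) (fne (by omega)), Equiv.swap_apply_of_ne_of_ne (fne (by omega)) (fne (by omega))])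
    (i := i₀) (i₂ := a)
    (by
      rw [Equiv.Perm.mul_apply, Equiv.swap_apply_of_ne_of_ne (a := i₀.rev) (b := a.rev) (x := i₀) (fne (by omega)) (fne (by omega)), Equiv.swap_apply_left])
    (x := s) (y := y) (x₂ := s) (y₂ := y) (by simp) (by simp) h0c (ne_of_lt ha) h h
  rw [← e]
  refine cl _ hm _ ?_
  rw [e]
  exact yy_mem_UJ _ _ _ ha _

/-- The subgroup is everything. -/
theorem W_eqU {p : ℕ} [Fact p.Prime] [CharP K p] (hF : UFld σ) (hn : 4 ≤ n) (hle : W ≤ UJ σ n) (cl : ClU W) (hb : W ≠ ⊥) : W = UJ σ n := by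
  classical
  have hσ := hF.inv
  have hUp := isPGroup_UJ (p := p) (σ := σ) (n := n) (K := K)
  obtain ⟨x, hxW, hxc, hx1⟩ : ∃ x ∈ W, (∀ y ∈ UJ σ n, x * y = y * x) ∧ x ≠ 1 := by
    haveI hN : (W.subgroupOf (UJ σ n)).Normal := by
      refine ⟨fun a ha g => ?_⟩
      rw [Subgroup.mem_subgroupOf] at ha ⊢
      have h1 : (g : SUJ σ n) * a * (g : SUJ σ n)⁻¹ ∈ UJ σ n :=
        (UJ σ n).mul_mem ((UJ σ n).mul_mem g.2 a.2) ((UJ σ n).inv_mem g.2)
      exact cl _ ha _ h1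
    have hM : W.subgroupOf (UJ σ n) ≠ ⊥ := by
      intro h
      apply hb
      rw [eq_bot_iff]
      intro y hy
      have h1 : (⟨y, hle hy⟩ : UJ σ n) ∈ W.subgroupOf (UJ σ n) := hy
      rw [h] at h1
      have h2 : (⟨y, hle hy⟩ : UJ σ n) = 1 := Subgroup.mem_bot.1 h1
      exact Subgroup.mem_bot.2 (congrArg Subtype.val h2)
    have h1 := Cfsg.Agent.H09.normal_inf_center_ne_bot hUp (W.subgroupOf (UJ σ n)) hM
    rcases Subgroup.bot_or_exists_ne_one (W.subgroupOf (UJ σ n) ⊓ Subgroup.center (UJ σ n)) with h2 | ⟨y, hy, hy1⟩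
    · exact absurd h2 h1
    · obtain ⟨hyT, hyc⟩ := Subgroup.mem_inf.1 hy
      refine ⟨y, hyT, fun z hz => ?_, fun h => hy1 (Subtype.ext h)⟩
      have := (Subgroup.mem_center_iff.1 hyc) ⟨z, hz⟩
      exact (congrArg Subtype.val this).symm
  obtain ⟨i₀, h0⟩ : ∃ i₀ : Fin n, (i₀ : ℕ) = 0 := ⟨⟨0, by omega⟩, rfl⟩
  obtain ⟨i₁, h1⟩ : ∃ i₁ : Fin n, (i₁ : ℕ) = 1 := ⟨⟨1, by omega⟩, rfl⟩
  have hv0 := val_rev' i₀
  have hv1 := val_rev' i₁
  have hi0 : i₀ < i₀.rev := by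
    rw [Fin.lt_def]
    omega
  have hi1 : i₁ < i₁.rev := by
    rw [Fin.lt_def]
    omega
  have hform := central_formU hF hn (hle hxW) hxc h0
  obtain ⟨b₀, hb₀⟩ : ∃ b₀, b₀ = mt x i₀ i₀.rev := ⟨_, rfl⟩
  rw [← hb₀] at hform
  have hrel : b₀ + σ b₀ = 0 := by
    have h2 := unit_rel (hle hxW) hi0 (a := i₀) (b := i₀.rev) (fun l h3 h4 => by
      rw [hform]
      unfold llM
      rw [Matrix.add_apply, Matrix.one_apply_ne (ne_of_lt h4), Matrix.single_apply, if_neg, add_zero]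
      rintro ⟨rfl, -⟩
      exact (lt_irrefl _ h3))
    rw [Fin.rev_rev, ← hb₀] at h2
    exact h2
  have hb00 : b₀ ≠ 0 := by
    rintro rfl
    apply hx1
    apply mt_inj
    rw [hform, llM_zero, mt_one]
  have hxe : x = llG (ne_of_lt hi0) hrel := mt_inj (by rw [hform, mt_llG])
  rw [hxe] at hxW
  have hlz : ∀ (b' : K) (hb' : b' + σ b' = 0), llG (ne_of_lt hi0) hb' ∈ W := fun b' hb' =>
    ll_scale hF cl (i₀ := i₀) (i₁ := i₁) (by omega) hi1 hi0 hrel hb00 hxW hb'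
  have hll : ∀ (i : Fin n) (hi : i ≠ i.rev) (_ : i < i.rev) (t : K) (ht : t + σ t = 0), llG hi ht ∈ W := by
    intro i hi hlt t ht
    by_cases h2 : i₀ = i
    · subst h2
      exact hlz t ht
    · exact ll_move hσ cl h0 h2 hlt ht (hlz t ht)
  have hII : ∀ (a d : Fin n) (_ : a < d) (_ : d < d.rev) (hS : SR a d.rev) (_ : SR a d) (r : K), xmG hσ hS r ∈ W :=
    fun a d h2 h3 hS hS2 r => xm_II hF cl h2 h3 hS hS2 hll r
  have hI : ∀ (a b : Fin n) (_ : a < b) (_ : b < b.rev) (hS : SR a b) (r : K), xmG hσ hS r ∈ W :=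
    fun a b h2 h3 hS r => xm_I hF cl h2 h3 hS (fun r' hS' => hII a b h2 h3 hS' hS r') r
  refine le_antisymm hle ?_
  refine uu_genU hF W ?_ hll ?_
  · intro a b h hab hs t
    have h2 := val_rev' a
    have h3 := val_rev' b
    have h4 := Fin.lt_def.1 hab
    rcases lt_or_gt_of_ne h.2.2.2 with h5 | h5
    · exact hI a b hab h5 h t
    · obtain ⟨d, rfl⟩ : ∃ d, b = d.rev := ⟨b.rev, (Fin.rev_rev b).symm⟩
      rw [Fin.rev_rev] at h5
      have h6 := val_rev' d
      refine hII a d ?_ h5 h ⟨?_, ?_, ?_, ?_⟩ t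
      · rw [Fin.lt_def]
        omega
      · exact fne (by omega)
      · have := h.1
        exact this
      · exact h.2.2.1
      · exact ne_of_lt h5
  · intro a c hc hac hlt s t h
    have hv2 := val_rev' c
    have hc' : (c.rev : ℕ) = c := by rw [hc]
    have h4 := Fin.lt_def.1 hlt
    have h5 : i₀ < i₁ := by
      rw [Fin.lt_def]
      omega
    have h6 : i₁ < c := by
      rw [Fin.lt_def]
      omega
    have h7 : i₀ ≠ c := fne (by omega)
    have hS : SR i₀ i₁ := ⟨fne (by omega), fne (by omega), fne (by omega), ne_of_lt hi1⟩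
    have hS' : SR i₀ i₁.rev := ⟨fne (by omega), by rw [Fin.rev_rev]; exact ne_of_lt h5, fne (by omega), by rw [Fin.rev_rev]; exact (ne_of_lt hi1).symm⟩
    have hX := fun t => hI i₀ i₁ h5 hi1 hS t
    have hX' := fun t => hII i₀ i₁ h5 hi1 hS' hS t
    have hz := yy_all hF cl hc h5 h6 hS hS' hX hX' (fun y hy => hll i₀ _ hi0 y hy) s t h
    by_cases h8 : i₀ = a
    · subst h8
      exact hz
    · exact yy_move hσ cl hc h0 h8 hlt h7 h hz

end Cfsg.Agent.H25
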