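import Cfsg.Agent.Lib.H25.SimU14
set_option autoImplicit false
set_option linter.style.haveILetI false

/-! The fusion system of `PSU_n` in the defining characteristic: the abstract theorem. -/

namespace Cfsg.Agent.H25

open Cfsg Cfsg.FusionSystem Matrix
open scoped MatrixGroups

variable {K : Type*} [Field K] [Fintype K] {n : ℕ} {σ : K →+* K}
variable {G : Type*} [Group G] {pr : SUJ σ n →* G}

theorem GCaU {p : ℕ} [Fact p.Prime] [CharP K p] (hF : UFld σ) (hn : 4 ≤ n) : GCa ((UJ σ n).map pr) := by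
  intro T hT hcl
  by_cases hb : T = ⊥
  · exact Or.inl hb
  right
  set W : Subgroup (SUJ σ n) := T.comap pr ⊓ UJ σ n with hW
  have hle : W ≤ UJ σ n := inf_le_right
  have cl : ClU W := by
    intro u hu g hg
    refine ⟨?_, hg⟩
    have h1 : pr u ∈ T := hu.1
    have h2 : pr g * pr u * (pr g)⁻¹ ∈ (UJ σ n).map pr := by
      refine ⟨_, hg, ?_⟩
      rw [map_mul, map_mul, map_inv]
    have h3 := hcl _ h1 _ h2
    show pr (g * u * g⁻¹) ∈ T
    rw [map_mul, map_mul, map_inv]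
    exact h3
  have hW1 : W ≠ ⊥ := by
    intro h
    apply hb
    rw [eq_bot_iff]
    intro t ht
    obtain ⟨u, hu, rfl⟩ := hT ht
    have h1 : u ∈ W := ⟨ht, hu⟩
    rw [h] at h1
    rw [Subgroup.mem_bot.1 h1, map_one]
    exact Subgroup.one_mem _
  have h := W_eqU (p := p) hF hn hle cl hW1
  refine le_antisymm hT ?_
  rintro _ ⟨u, hu, rfl⟩
  rw [← h] at hu
  exact hu.1

theorem UB_eq_sylow {p : ℕ} [Fact p.Prime] [CharP K p] [Finite G] (hF : UFld σ) (hn : 4 ≤ n) (hker : ∀ x, pr x = 1 ↔ x ∈ Subgroup.center (SUJ σ n))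
    (hsurj : Function.Surjective pr) (Q : Sylow p G) (hQ : (UJ σ n).map pr ≤ (Q : Subgroup G)) : (Q : Subgroup G) = (UJ σ n).map pr := by
  classical
  have hσ := hF.inv
  by_contra hne
  have hp := Cfsg.Agent.H24.sylow_isPGroup Q
  obtain ⟨g, hg, hgn⟩ := exists_normalizer_not_mem hp hQ (Ne.symm hne)
  obtain ⟨hgQ, hgN⟩ := mem_normalizerIn.1 hg
  obtain ⟨s, rfl⟩ := hsurj g
  have hup := upper_of_norm (p := p) hF (by omega) hker hgN
  obtain ⟨d, hd, hdet, u, hu, e⟩ := exists_tor_uni' hσ hup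
  apply hgn
  obtain ⟨t, ht⟩ : ∃ t, t = moG (π := 1) hσ (fun _ => rfl) hd hdet := ⟨_, rfl⟩
  rw [← ht] at e
  have hmt : mt t = diagonal d := by
    rw [ht]
    exact moM_one d
  have htd : pr t ∈ (Q : Subgroup G) := by
    have h1 : t = s * u⁻¹ := by rw [e]; group
    rw [h1, map_mul, map_inv]
    exact Q.mul_mem hgQ (Q.inv_mem (hQ ⟨u, hu, rfl⟩))
  obtain ⟨k, hk⟩ := hp ⟨pr t, htd⟩
  have hk' : (pr t) ^ p ^ k = 1 := congrArg Subtype.val hk
  rw [← map_pow] at hk'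
  have hcen : t ^ p ^ k ∈ Subgroup.center (SUJ σ n) := (hker _).1 hk'
  obtain ⟨c, hc⟩ := centerU_scalar hF (by omega) hcen
  rw [mt_pow, hmt, Matrix.diagonal_pow] at hc
  have h1 : ∀ i, d i ^ p ^ k = c := by
    intro i
    have := congrFun (congrFun hc i) i
    simpa using this
  obtain ⟨i₀⟩ : Nonempty (Fin n) := ⟨⟨0, by omega⟩⟩
  have h3 : ∀ i, d i = d i₀ := fun i => frob_inj (p := p) k ((h1 i).trans (h1 i₀).symm)
  have hsc : mt t = d i₀ • 1 := by
    rw [hmt]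
    ext a b
    rw [Matrix.smul_apply, smul_eq_mul]
    by_cases hab : a = b
    · subst hab
      rw [Matrix.diagonal_apply_eq, Matrix.one_apply_eq, mul_one, h3 a]
    · rw [Matrix.diagonal_apply_ne _ hab, Matrix.one_apply_ne hab, mul_zero]
  have hcen2 : t ∈ Subgroup.center (SUJ σ n) := by
    refine Subgroup.mem_center_iff.2 fun x => mt_inj ?_
    rw [mt_mul, mt_mul, hsc, Matrix.mul_smul, Matrix.smul_mul, Matrix.mul_one, Matrix.one_mul]
  have h5 : pr t = 1 := (hker _).2 hcen2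
  rw [e, map_mul, h5, one_mul]
  exact ⟨u, hu, rfl⟩

theorem UB_ne_bot (hF : UFld σ) (hn : 4 ≤ n) (hker : ∀ x, pr x = 1 ↔ x ∈ Subgroup.center (SUJ σ n)) : (UJ σ n).map pr ≠ ⊥ := by
  intro h
  obtain ⟨b₀, hb0, hb1⟩ := hF.tz
  obtain ⟨i₀, h0⟩ : ∃ i₀ : Fin n, (i₀ : ℕ) = 0 := ⟨⟨0, by omega⟩, rfl⟩
  have hv := val_rev' i₀
  have hi : i₀ < i₀.rev := by
    rw [Fin.lt_def]
    omega
  have h1 : pr (llG (ne_of_lt hi) hb1) ∈ (UJ σ n).map pr := ⟨_, ll_mem_UJ _ hi _, rfl⟩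
  rw [h] at h1
  have h2 := (hker _).1 (Subgroup.mem_bot.1 h1)
  obtain ⟨c, hc⟩ := centerU_scalar hF (by omega) h2
  have h3 := congrFun (congrFun hc i₀) i₀.rev
  rw [mt_llG] at h3
  unfold llM at h3
  simp [Matrix.single_apply, Matrix.one_apply, ne_of_lt hi] at h3
  exact hb0 h3

/-- The abstract theorem. -/
theorem psu_abs {p : ℕ} [Fact p.Prime] [CharP K p] [Finite G] (hF : UFld σ) (hn : 4 ≤ n) (hker : ∀ x, pr x = 1 ↔ x ∈ Subgroup.center (SUJ σ n))
    (hsurj : Function.Surjective pr) (S : Sylow p G) : (groupFusionSystem (S : Subgroup G)).IsSimple p := by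
  have hP : IsPGroup p ((UJ σ n).map pr) := (isPGroup_UJ (p := p) (σ := σ) (n := n) (K := K)).map pr
  obtain ⟨Q, hQ⟩ := hP.exists_le_sylow
  have hQ' := UB_eq_sylow hF hn hker hsurj Q hQ
  refine simple_of_crit_conj Q S ?_ ?_ ?_
  · rw [hQ']
    exact UB_ne_bot hF hn hker
  · rw [hQ']
    exact GCaU (p := p) hF hn
  · rw [hQ']
    exact GCbU hF hn hker hsurj

end Cfsg.Agent.H25
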