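import Cfsg.Agent.Lib.H25.SimU15
set_option autoImplicit false
set_option linter.style.haveILetI false

/-! The fusion system of `PSU_n` in the defining characteristic: the change of form. -/

namespace Cfsg.Agent.H25

open Cfsg Cfsg.FusionSystem Matrix
open scoped MatrixGroups

variable {K : Type*} [Field K] {n : ℕ} {σ : K →+* K}

/-- A diagonal plus antidiagonal matrix. -/
def PMat (d e : Fin n → K) : Matrix (Fin n) (Fin n) K := diagonal d + diagonal e * JJ n K

theorem JJ_diag (f : Fin n → K) : JJ n K * diagonal f = diagonal (fun k => f k.rev) * JJ n K := by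
  ext a b
  rw [JJ_mul_apply, Matrix.diagonal_mul, JJ_apply, Matrix.diagonal_apply]
  by_cases h : a.rev = b
  · rw [if_pos h, if_pos h, mul_one]
  · rw [if_neg h, if_neg h, mul_zero]

theorem mapMatrix_diag (σ : K →+* K) (f : Fin n → K) : σ.mapMatrix (diagonal f) = diagonal (fun k => σ (f k)) := by
  rw [RingHom.mapMatrix_apply]
  exact Matrix.diagonal_map (map_zero σ)

theorem PMat_prod (σ : K →+* K) (d e : Fin n → K) :
    (PMat d e)ᵀ * σ.mapMatrix (PMat d e) = diagonal (fun k => d k * σ (d k) + e k.rev * σ (e k.rev)) + diagonal (fun k => d k * σ (e k) + e k.rev * σ (d k.rev)) * JJ n K := by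
  have h1 : (PMat d e)ᵀ = diagonal d + JJ n K * diagonal e := by
    unfold PMat
    rw [transpose_add, transpose_mul, diagonal_transpose, diagonal_transpose, JJ_transpose]
  have h2 : σ.mapMatrix (PMat d e) = diagonal (fun k => σ (d k)) + diagonal (fun k => σ (e k)) * JJ n K := by
    unfold PMat
    rw [map_add, map_mul, mapMatrix_JJ, mapMatrix_diag, mapMatrix_diag]
  rw [h1, h2]
  have h3 : (diagonal d + JJ n K * diagonal e) * (diagonal (fun k => σ (d k)) + diagonal (fun k => σ (e k)) * JJ n K) =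
      diagonal d * diagonal (fun k => σ (d k)) + (diagonal d * diagonal (fun k => σ (e k))) * JJ n K + JJ n K * (diagonal e * diagonal (fun k => σ (d k))) + JJ n K * (diagonal e * diagonal (fun k => σ (e k))) * JJ n K := by
    simp only [add_mul, mul_add, Matrix.mul_assoc]
    abel
  rw [h3, diagonal_mul_diagonal, diagonal_mul_diagonal, diagonal_mul_diagonal, diagonal_mul_diagonal, JJ_diag, JJ_diag, Matrix.mul_assoc _ (JJ n K) (JJ n K), JJ_sq, Matrix.mul_one, ← diagonal_add, ← diagonal_add, Matrix.add_mul]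
  abel

theorem exists_P (hF : UFld σ) : ∃ P : Matrix (Fin n) (Fin n) K, Pᵀ * σ.mapMatrix P = JJ n K := by
  classical
  have hσ := hF.inv
  obtain ⟨y, hy⟩ := hF.ne
  have hy0 : y ≠ 0 := by
    rintro rfl
    exact hy (map_zero σ)
  have hσy : σ y ≠ 0 := by
    intro h
    exact hy0 (by rw [← hσ y, h, map_zero])
  obtain ⟨ζ, hζ⟩ : ∃ ζ, ζ = σ y / y := ⟨_, rfl⟩
  have hζ1 : ζ * σ ζ = 1 := by
    rw [hζ, map_div₀, hσ]
    field_simp
  have hζne : 1 - ζ ≠ 0 := by
    rw [sub_ne_zero]
    intro h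
    rw [hζ] at h
    apply hy
    field_simp at h
    exact h.symm
  obtain ⟨b, hb⟩ := hF.norm (-1) (by simp)
  obtain ⟨u, hu⟩ : ∃ u, u * (1 - ζ) = 1 := ⟨(1 - ζ)⁻¹, inv_mul_cancel₀ hζne⟩
  have hσu : σ u * (1 - σ ζ) = 1 := by
    have := congrArg σ hu
    simpa using this
  obtain ⟨d, hd⟩ : ∃ d : Fin n → K, d = fun k => if k < k.rev then 1 else if k.rev < k then u * ζ * b else 1 := ⟨_, rfl⟩
  obtain ⟨e, he⟩ : ∃ e : Fin n → K, e = fun k => if k < k.rev then u else if k.rev < k then b else 0 := ⟨_, rfl⟩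
  refine ⟨PMat d e, ?_⟩
  rw [PMat_prod]
  ext k l
  rw [Matrix.add_apply, Matrix.diagonal_apply, Matrix.diagonal_mul, JJ_apply]
  show (if k = l then (d k * σ (d k) + e k.rev * σ (e k.rev)) else 0) + (d k * σ (e k) + e k.rev * σ (d k.rev)) * (if k.rev = l then 1 else 0) = if k.rev = l then 1 else 0
  have hrr := Fin.rev_rev k
  rcases lt_trichotomy k k.rev with h | h | h
  · have h' : ¬ k.rev < k := not_lt.2 h.le
    have hk1 : d k = 1 := by rw [hd]; simp only [if_pos h]
    have hk2 : e k = u := by rw [he]; simp only [if_pos h]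
    have hk3 : d k.rev = u * ζ * b := by
      rw [hd]
      simp only [hrr]
      rw [if_neg h', if_pos h]
    have hk4 : e k.rev = b := by
      rw [he]
      simp only [hrr]
      rw [if_neg h', if_pos h]
    rw [hk1, hk2, hk3, hk4]
    have hA : 1 * σ 1 + b * σ b = 0 := by
      rw [hb]
      simp
    have hB : 1 * σ u + b * σ (u * ζ * b) = 1 := by
      simp only [map_mul]
      linear_combination hσu + (σ u * σ ζ) * hb
    rw [hA, hB]
    simp
  · have hk1 : d k = 1 := by
      rw [hd]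
      simp only [← h, lt_irrefl, if_false]
    have hk2 : e k = 0 := by
      rw [he]
      simp only [← h, lt_irrefl, if_false]
    rw [← h, hk1, hk2]
    simp
  · have h' : ¬ k < k.rev := not_lt.2 h.le
    have hk1 : d k = u * ζ * b := by
      rw [hd]
      simp only [if_neg h', if_pos h]
    have hk2 : e k = b := by
      rw [he]
      simp only [if_neg h', if_pos h]
    have hk3 : d k.rev = 1 := by
      rw [hd]
      simp only [hrr]
      rw [if_pos h]
    have hk4 : e k.rev = u := by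
      rw [he]
      simp only [hrr]
      rw [if_pos h]
    rw [hk1, hk2, hk3, hk4]
    have hA : u * ζ * b * σ (u * ζ * b) + u * σ u = 0 := by
      simp only [map_mul]
      linear_combination (u * σ u * (b * σ b)) * hζ1 + (u * σ u) * hb
    have hB : u * ζ * b * σ b + u * σ 1 = 1 := by
      rw [map_one]
      linear_combination hu + (u * ζ) * hb
    rw [hA, hB]
    simp

theorem herm_eq {q : ℕ} (hq : ∀ x, σ x = x ^ q) (u v : Fin n → K) : hermForm n K q u v = u ⬝ᵥ (σ ∘ v) := by
  unfold hermForm dotProduct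
  simp only [Function.comp, hq]

theorem mem_SU_iff {q : ℕ} (hq : ∀ x, σ x = x ^ q) (A : Matrix.SpecialLinearGroup (Fin n) K) :
    A ∈ SU n K q ↔ (A : Matrix (Fin n) (Fin n) K)ᵀ * σ.mapMatrix (A : Matrix (Fin n) (Fin n) K) = 1 := by
  classical
  show (∀ u v, hermForm n K q ((A : Matrix (Fin n) (Fin n) K) *ᵥ u) ((A : Matrix (Fin n) (Fin n) K) *ᵥ v) = hermForm n K q u v) ↔ _
  constructor
  · intro h
    ext k l
    have h1 := h (Pi.single k 1) (Pi.single l 1)
    rw [herm_eq hq, herm_eq hq, Matrix.mulVec_single_one, Matrix.mulVec_single_one] at h1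
    rw [Matrix.mul_apply, Matrix.one_apply]
    have h2 : (Pi.single k 1 : Fin n → K) ⬝ᵥ (σ ∘ Pi.single l 1) = if k = l then 1 else 0 := by
      rw [single_one_dotProduct]
      by_cases hkl : k = l
      · subst hkl
        simp
      · simp [hkl, Pi.single_apply, Ne.symm hkl]
    rw [h2] at h1
    rw [← h1]
    rfl
  · intro h u v
    rw [herm_eq hq, herm_eq hq]
    have e1 : σ ∘ ((A : Matrix (Fin n) (Fin n) K) *ᵥ v) = (σ.mapMatrix (A : Matrix (Fin n) (Fin n) K)) *ᵥ (σ ∘ v) :=
      funext fun i => RingHom.map_mulVec σ _ v i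
    rw [e1, Matrix.dotProduct_mulVec, ← Matrix.vecMul_transpose, Matrix.vecMul_vecMul, h, Matrix.vecMul_one]

section Hom
variable {P Q : Matrix (Fin n) (Fin n) K}

theorem isH_of_U (hPQ : P * Q = 1) (hP : Pᵀ * σ.mapMatrix P = JJ n K) {B : Matrix (Fin n) (Fin n) K} (hB : IsU σ B) :
    (P * B * Q)ᵀ * σ.mapMatrix (P * B * Q) = 1 := by
  calc (P * B * Q)ᵀ * σ.mapMatrix (P * B * Q) = Qᵀ * (Bᵀ * (Pᵀ * σ.mapMatrix P) * σ.mapMatrix B) * σ.mapMatrix Q := by
        rw [transpose_mul, transpose_mul, map_mul, map_mul]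
        simp only [Matrix.mul_assoc]
    _ = Qᵀ * (Pᵀ * σ.mapMatrix P) * σ.mapMatrix Q := by
        rw [hP, hB]
    _ = (P * Q)ᵀ * σ.mapMatrix (P * Q) := by
        rw [transpose_mul, map_mul]
        simp only [Matrix.mul_assoc]
    _ = 1 := by
        rw [hPQ, transpose_one, map_one, Matrix.mul_one]

theorem isU_of_H (hPQ : P * Q = 1) (hP : Pᵀ * σ.mapMatrix P = JJ n K) {A : Matrix (Fin n) (Fin n) K} (hA : Aᵀ * σ.mapMatrix A = 1) :
    IsU σ (Q * A * P) := by
  unfold IsU
  calc (Q * A * P)ᵀ * JJ n K * σ.mapMatrix (Q * A * P) = Pᵀ * (Aᵀ * (Qᵀ * (Pᵀ * σ.mapMatrix P) * σ.mapMatrix Q) * σ.mapMatrix A) * σ.mapMatrix P := by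
        rw [hP, transpose_mul, transpose_mul, map_mul, map_mul]
        simp only [Matrix.mul_assoc]
    _ = Pᵀ * (Aᵀ * ((P * Q)ᵀ * σ.mapMatrix (P * Q)) * σ.mapMatrix A) * σ.mapMatrix P := by
        rw [transpose_mul, map_mul]
        simp only [Matrix.mul_assoc]
    _ = Pᵀ * (Aᵀ * σ.mapMatrix A) * σ.mapMatrix P := by
        rw [hPQ, transpose_one, map_one, Matrix.mul_one, Matrix.mul_one]
    _ = JJ n K := by
        rw [hA, Matrix.mul_one, hP]

theorem exists_bij (hF : UFld σ) {q : ℕ} (hq : ∀ x, σ x = x ^ q) : ∃ φ : SUJ σ n →* SU n K q, Function.Bijective φ := by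
  classical
  obtain ⟨P, hP⟩ := exists_P (n := n) hF
  have hdet : IsUnit P.det := by
    have h1 := congrArg Matrix.det hP
    rw [Matrix.det_mul, Matrix.det_transpose] at h1
    have h2 : (JJ n K).det ≠ 0 := by
      intro h3
      have h4 := congrArg Matrix.det (JJ_sq (n := n) (K := K))
      rw [Matrix.det_mul, h3, zero_mul, Matrix.det_one] at h4
      exact zero_ne_one h4
    rw [isUnit_iff_ne_zero]
    intro h3
    rw [h3, zero_mul] at h1
    exact h2 h1.symm
  obtain ⟨Q, hQ⟩ : ∃ Q, Q = P⁻¹ := ⟨_, rfl⟩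
  have hPQ : P * Q = 1 := by
    rw [hQ]
    exact Matrix.mul_nonsing_inv _ hdet
  have hQP : Q * P = 1 := by
    rw [hQ]
    exact Matrix.nonsing_inv_mul _ hdet
  have hPQd : P.det * Q.det = 1 := by
    rw [← Matrix.det_mul, hPQ, Matrix.det_one]
  have hd1 : ∀ B : Matrix (Fin n) (Fin n) K, B.det = 1 → (P * B * Q).det = 1 := by
    intro B hB
    rw [Matrix.det_mul, Matrix.det_mul, hB, mul_one, hPQd]
  have hd2 : ∀ B : Matrix (Fin n) (Fin n) K, B.det = 1 → (Q * B * P).det = 1 := by
    intro B hB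
    rw [Matrix.det_mul, Matrix.det_mul, hB, mul_one, mul_comm, hPQd]
  let f : SUJ σ n → SU n K q := fun x =>
    ⟨⟨P * mt x * Q, hd1 _ x.1.2⟩, (mem_SU_iff hq _).2 (isH_of_U hPQ hP (mt_isU x))⟩
  have hf : ∀ x, (((f x : SU n K q) : Matrix.SpecialLinearGroup (Fin n) K) : Matrix (Fin n) (Fin n) K) = P * mt x * Q := fun _ => rfl
  have hmul : ∀ x y, f (x * y) = f x * f y := by
    intro x y
    apply Subtype.ext
    apply Subtype.ext
    show P * mt (x * y) * Q = (P * mt x * Q) * (P * mt y * Q)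
    rw [mt_mul]
    calc P * (mt x * mt y) * Q = P * mt x * (Q * P) * mt y * Q := by
          rw [hQP]
          simp only [Matrix.mul_assoc, Matrix.mul_one]
      _ = _ := by simp only [Matrix.mul_assoc]
  refine ⟨MonoidHom.mk' f hmul, ?_, ?_⟩
  · intro x y h
    have h1 : P * mt x * Q = P * mt y * Q := congrArg (fun z : SU n K q => ((z : Matrix.SpecialLinearGroup (Fin n) K) : Matrix (Fin n) (Fin n) K)) h
    apply mt_inj
    calc mt x = Q * (P * mt x * Q) * P := by
          simp only [Matrix.mul_assoc, hQP, Matrix.mul_one]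
          rw [← Matrix.mul_assoc, hQP, Matrix.one_mul]
      _ = Q * (P * mt y * Q) * P := by rw [h1]
      _ = mt y := by
          simp only [Matrix.mul_assoc, hQP, Matrix.mul_one]
          rw [← Matrix.mul_assoc, hQP, Matrix.one_mul]
  · intro A
    have hA := (mem_SU_iff hq A.1).1 A.2
    refine ⟨mkU (Q * (A.1 : Matrix (Fin n) (Fin n) K) * P) (hd2 _ A.1.2) (isU_of_H hPQ hP hA), ?_⟩
    apply Subtype.ext
    apply Subtype.ext
    show P * (Q * (A.1 : Matrix (Fin n) (Fin n) K) * P) * Q = (A.1 : Matrix (Fin n) (Fin n) K)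
    simp only [Matrix.mul_assoc, hPQ, Matrix.mul_one]
    rw [← Matrix.mul_assoc, hPQ, Matrix.one_mul]

end Hom

end Cfsg.Agent.H25
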