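import Cfsg.Agent.Lib.H25.SimU16
set_option autoImplicit false
set_option linter.style.haveILetI false

/-! The fusion system of `PSU_n` in the defining characteristic: the field data and the theorem. -/

namespace Cfsg.Agent.H25

open Cfsg Cfsg.FusionSystem Matrix
open scoped MatrixGroups

variable {K : Type*} [Field K] [Fintype K]

theorem exists_ufld {p q : ℕ} [Fact p.Prime] [CharP K p] (hK : Fintype.card K = q ^ 2) :
    ∃ σ : K →+* K, UFld σ ∧ ∀ x, σ x = x ^ q := by
  classical
  have hp : p.Prime := Fact.out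
  obtain ⟨f, -, hf⟩ := FiniteField.card K p
  have hdvd : q ∣ p ^ (f : ℕ) := by
    rw [← hf, hK]
    exact dvd_pow_self q two_ne_zero
  obtain ⟨g, -, hg⟩ := (Nat.dvd_prime_pow hp).1 hdvd
  have hcard : 1 < Fintype.card K := Fintype.one_lt_card
  have hq : 2 ≤ q := by
    by_contra h
    have h1 : q = 0 ∨ q = 1 := by omega
    rcases h1 with rfl | rfl
    · rw [hK] at hcard
      norm_num at hcard
    · rw [hK] at hcard
      norm_num at hcard
  haveI : ExpChar K p := ExpChar.prime hp
  have hσ : ∀ x, iterateFrobenius K p g x = x ^ q := fun x => by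
    rw [iterateFrobenius_def, hg]
  refine ⟨iterateFrobenius K p g, ⟨?_, ?_, ?_⟩, hσ⟩
  · intro x
    rw [hσ, hσ, ← pow_mul, ← sq, ← hK, FiniteField.pow_card]
  · by_contra hall
    push Not at hall
    have h1 : ∀ x : Kˣ, x ^ (q - 1) = 1 := by
      intro x
      apply Units.ext
      have h2 := hall x
      rw [hσ] at h2
      have h3 : (x : K) ^ (q - 1) * x = x := by
        rw [← pow_succ, Nat.sub_add_cancel (by omega), h2]
      rw [Units.val_pow_eq_pow_val, Units.val_one]
      exact mul_right_cancel₀ x.ne_zero (by rw [h3, one_mul])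
    have h2 := (FiniteField.forall_pow_eq_one_iff K (q - 1)).1 h1
    have h3 := Nat.le_of_dvd (by omega) h2
    rw [hK] at h3
    have h4 : q ^ 2 = q * q := sq q
    have h5 : q * 2 ≤ q * q := Nat.mul_le_mul_left q hq
    omega
  · intro c hc
    rw [hσ] at hc
    by_cases hc0 : c = 0
    · refine ⟨0, ?_⟩
      rw [hc0, zero_mul]
    obtain ⟨g₀, hg₀⟩ := IsCyclic.exists_generator (α := Kˣ)
    have hord : orderOf g₀ = q ^ 2 - 1 := by
      rw [orderOf_eq_card_of_forall_mem_zpowers hg₀, Nat.card_eq_fintype_card, Fintype.card_units, hK]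
    obtain ⟨i, hi⟩ := (mem_powers_iff_mem_zpowers).2 (hg₀ (Units.mk0 c hc0))
    have h1 : g₀ ^ (i * (q - 1)) = 1 := by
      rw [pow_mul]
      simp only at hi
      rw [hi]
      apply Units.ext
      rw [Units.val_pow_eq_pow_val, Units.val_one, Units.val_mk0]
      have h3 : c ^ (q - 1) * c = c := by
        rw [← pow_succ, Nat.sub_add_cancel (by omega), hc]
      exact mul_right_cancel₀ hc0 (by rw [h3, one_mul])
    have h2 := orderOf_dvd_of_pow_eq_one h1
    rw [hord] at h2
    have h3 : q ^ 2 - 1 = (q + 1) * (q - 1) := by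
      obtain ⟨r, rfl⟩ : ∃ r, q = r + 1 := ⟨q - 1, by omega⟩
      simp only [Nat.add_sub_cancel]
      have : (r + 1) ^ 2 = (r + 1 + 1) * r + 1 := by ring
      omega
    rw [h3] at h2
    have h4 : q + 1 ∣ i := Nat.dvd_of_mul_dvd_mul_right (by omega) h2
    obtain ⟨j, rfl⟩ := h4
    refine ⟨((g₀ ^ j : Kˣ) : K), ?_⟩
    have h5 := congrArg Units.val hi
    simp only [Units.val_mk0] at h5
    rw [hσ, ← pow_succ', ← h5, mul_comm (q + 1) j, pow_mul]
    simp only [Units.val_pow_eq_pow_val]

/-- The theorem. -/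
theorem psu_char_simple {p q : ℕ} [Fact p.Prime] [CharP K p] (hK : Fintype.card K = q ^ 2) {n : ℕ} (hn : 4 ≤ n)
    (S : Sylow p (Cfsg.PSU n K q)) : (groupFusionSystem (S : Subgroup (Cfsg.PSU n K q))).IsSimple p := by
  obtain ⟨σ, hF, hq⟩ := exists_ufld (p := p) hK
  obtain ⟨φ, hinj, hsurj⟩ := exists_bij (n := n) hF hq
  let pr : SUJ σ n →* Cfsg.PSU n K q := (QuotientGroup.mk' (Subgroup.center (SU n K q))).comp φ
  refine psu_abs (pr := pr) (p := p) hF hn ?_ ?_ S
  · intro x
    show (QuotientGroup.mk' (Subgroup.center (SU n K q))) (φ x) = 1 ↔ _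
    rw [QuotientGroup.mk'_apply, QuotientGroup.eq_one_iff]
    constructor
    · intro h
      refine Subgroup.mem_center_iff.2 fun y => hinj ?_
      rw [map_mul, map_mul]
      exact (Subgroup.mem_center_iff.1 h) (φ y)
    · intro h
      refine Subgroup.mem_center_iff.2 fun z => ?_
      obtain ⟨y, rfl⟩ := hsurj z
      rw [← map_mul, ← map_mul, (Subgroup.mem_center_iff.1 h) y]
  · exact (QuotientGroup.mk'_surjective _).comp hsurj

end Cfsg.Agent.H25
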