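import Cfsg.Agent.Lib.H25.SimU1
set_option autoImplicit false
set_option linter.style.haveILetI false

/-! The fusion system of `PSU_n` in the defining characteristic: root elements in the group. -/

namespace Cfsg.Agent.H25

open Cfsg Matrix
open scoped MatrixGroups

variable {K : Type*} [Field K] {n : ℕ} {σ : K →+* K}

theorem xmM_factor {i j : Fin n} (h : SR i j) (t : K) :
    xmM σ i j t = Matrix.transvection i j t * Matrix.transvection j.rev i.rev (-σ t) := by
  obtain ⟨h1, h2, h3, h4⟩ := h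
  have h5 : i.rev ≠ j.rev := fun e => h1 (Fin.rev_injective e)
  have h6 : j ≠ i.rev := fun e => h2 (by rw [e, Fin.rev_rev])
  unfold xmM Matrix.transvection
  simp only [mul_add, add_mul, one_mul, mul_one, sm, h4, if_false, add_zero]

theorem xmM_det {i j : Fin n} (h : SR i j) (t : K) : (xmM σ i j t).det = 1 := by
  rw [xmM_factor h, det_mul, Matrix.det_transvection_of_ne _ _ h.1, Matrix.det_transvection_of_ne _ _ h.rev_ne.symm, one_mul]

theorem llM_det {i : Fin n} (hi : i ≠ i.rev) (t : K) : (llM i t).det = 1 :=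
  Matrix.det_transvection_of_ne _ _ hi _

theorem yyM_factor {i c : Fin n} (hc : c.rev = c) (hi : i ≠ c) (a b : K) :
    yyM σ i c a b = Matrix.transvection i c a * Matrix.transvection c i.rev (-σ a) * Matrix.transvection i i.rev (b + a * σ a) := by
  have h1 : i ≠ i.rev := ne_rev_of hc hi
  have h2 : i.rev ≠ c := fun e => hi (by rw [← Fin.rev_rev i, e, hc])
  unfold yyM Matrix.transvection
  simp only [mul_add, add_mul, one_mul, mul_one, sm, h1, h2, hi, h1.symm, h2.symm, hi.symm, if_false, if_true, add_zero, zero_add, zero_mul, mul_zero]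
  ext x y
  simp only [Matrix.add_apply, Matrix.single_apply]
  split_ifs <;> ring

theorem yyM_det {i c : Fin n} (hc : c.rev = c) (hi : i ≠ c) (a b : K) : (yyM σ i c a b).det = 1 := by
  have h1 : i ≠ i.rev := ne_rev_of hc hi
  have h2 : i.rev ≠ c := fun e => hi (by rw [← Fin.rev_rev i, e, hc])
  rw [yyM_factor hc hi, det_mul, det_mul, Matrix.det_transvection_of_ne _ _ hi, Matrix.det_transvection_of_ne _ _ h2.symm,
    Matrix.det_transvection_of_ne _ _ h1, one_mul, one_mul]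

/-- A short root element. -/
def xmG (hσ : ∀ x, σ (σ x) = x) {i j : Fin n} (h : SR i j) (t : K) : SUJ σ n := mkU (xmM σ i j t) (xmM_det h t) (xmM_isU hσ h t)

/-- A long root element. -/
def llG {i : Fin n} (hi : i ≠ i.rev) {t : K} (ht : t + σ t = 0) : SUJ σ n := mkU (llM i t) (llM_det hi t) (llM_isU hi ht)

/-- A middle root element. -/
def yyG (hσ : ∀ x, σ (σ x) = x) {i c : Fin n} (hc : c.rev = c) (hi : i ≠ c) {a b : K} (hb : b + σ b + a * σ a = 0) : SUJ σ n :=
  mkU (yyM σ i c a b) (yyM_det hc hi a b) (yyM_isU hσ hc hi hb)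

theorem mt_xmG (hσ : ∀ x, σ (σ x) = x) {i j : Fin n} (h : SR i j) (t : K) : mt (xmG hσ h t) = xmM σ i j t := rfl

theorem mt_llG {i : Fin n} (hi : i ≠ i.rev) {t : K} (ht : t + σ t = 0) : mt (llG hi ht) = llM i t := rfl

theorem mt_yyG (hσ : ∀ x, σ (σ x) = x) {i c : Fin n} (hc : c.rev = c) (hi : i ≠ c) {a b : K} (hb : b + σ b + a * σ a = 0) :
    mt (yyG hσ hc hi hb) = yyM σ i c a b := rfl

/-! ### Products -/

theorem xmM_mul {i j : Fin n} (h : SR i j) (s t : K) : xmM σ i j s * xmM σ i j t = xmM σ i j (s + t) := by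
  obtain ⟨h1, h2, h3, h4⟩ := h
  have h5 : i.rev ≠ j.rev := fun e => h1 (Fin.rev_injective e)
  have h6 : j ≠ i.rev := fun e => h2 (by rw [e, Fin.rev_rev])
  unfold xmM
  simp only [mul_add, add_mul, one_mul, mul_one, sm, h1, h2, h3, h4, h5, h6, h1.symm, h2.symm, h3.symm, h4.symm, h5.symm, h6.symm, if_false, add_zero, map_add]
  simp only [neg_add, Matrix.single_add]
  abel

theorem llM_mul {i : Fin n} (hi : i ≠ i.rev) (s t : K) : llM i s * llM i t = llM i (s + t) := by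
  unfold llM
  simp only [mul_add, add_mul, one_mul, mul_one, sm, hi, hi.symm, if_false, add_zero, Matrix.single_add]
  abel

theorem yyM_mul {i c : Fin n} (hc : c.rev = c) (hi : i ≠ c) (a b a' b' : K) :
    yyM σ i c a b * yyM σ i c a' b' = yyM σ i c (a + a') (b + b' - a * σ a') := by
  have h1 : i ≠ i.rev := ne_rev_of hc hi
  have h2 : i.rev ≠ c := fun e => hi (by rw [← Fin.rev_rev i, e, hc])
  unfold yyM
  simp only [mul_add, add_mul, one_mul, mul_one, sm, h1, h2, hi, h1.symm, h2.symm, hi.symm, if_false, if_true, add_zero, zero_add, map_add]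
  ext x y
  simp only [Matrix.add_apply, Matrix.single_apply]
  split_ifs <;> ring

theorem xmM_zero {i j : Fin n} : xmM σ i j 0 = 1 := by
  unfold xmM
  rw [map_zero, neg_zero, Matrix.single_zero, Matrix.single_zero, add_zero, add_zero]

theorem llM_zero {i : Fin n} : (llM i 0 : Matrix (Fin n) (Fin n) K) = 1 := by
  unfold llM
  rw [Matrix.single_zero, add_zero]

theorem yyM_zero {i c : Fin n} : yyM σ i c 0 0 = 1 := by
  unfold yyM
  rw [map_zero, neg_zero, Matrix.single_zero, Matrix.single_zero, Matrix.single_zero, add_zero, add_zero, add_zero]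

theorem xmG_inv (hσ : ∀ x, σ (σ x) = x) {i j : Fin n} (h : SR i j) (t : K) : (xmG hσ h t)⁻¹ = xmG hσ h (-t) := by
  apply inv_eq_of_mt
  rw [mt_xmG, mt_xmG, xmM_mul h, add_neg_cancel, xmM_zero]

theorem llG_inv {i : Fin n} (hi : i ≠ i.rev) {t : K} (ht : t + σ t = 0) (ht' : -t + σ (-t) = 0) : (llG hi ht)⁻¹ = llG hi ht' := by
  apply inv_eq_of_mt
  rw [mt_llG, mt_llG, llM_mul hi, add_neg_cancel, llM_zero]

theorem yyG_inv (hσ : ∀ x, σ (σ x) = x) {i c : Fin n} (hc : c.rev = c) (hi : i ≠ c) {a b : K} (hb : b + σ b + a * σ a = 0)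
    (hb' : σ b + σ (σ b) + (-a) * σ (-a) = 0) : (yyG hσ hc hi hb)⁻¹ = yyG hσ hc hi hb' := by
  apply inv_eq_of_mt
  rw [mt_yyG, mt_yyG, yyM_mul hc hi]
  have e1 : a + -a = 0 := add_neg_cancel a
  have e2 : b + σ b - a * σ (-a) = 0 := by
    rw [map_neg]
    linear_combination hb
  rw [e1, e2, yyM_zero]

theorem yy_neg_cond (hσ : ∀ x, σ (σ x) = x) {a b : K} (hb : b + σ b + a * σ a = 0) : σ b + σ (σ b) + (-a) * σ (-a) = 0 := by
  rw [hσ, map_neg]
  linear_combination hb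

theorem ll_neg_cond {t : K} (ht : t + σ t = 0) : -t + σ (-t) = 0 := by
  rw [map_neg]
  linear_combination -ht

/-! ### Orders -/

theorem pow_of_cube {p : ℕ} [Fact p.Prime] [CharP K p] (hn : 0 < n) (g : SUJ σ n) (h : (mt g - 1) * (mt g - 1) * (mt g - 1) = 0) : g ^ p ^ 2 = 1 := by
  have hp : 2 ≤ p := (Fact.out : p.Prime).two_le
  haveI : Nonempty (Fin n) := ⟨⟨0, hn⟩⟩
  haveI : CharP (Matrix (Fin n) (Fin n) K) p := inferInstance
  apply mt_inj
  rw [mt_pow, mt_one]
  obtain ⟨N, hN⟩ : ∃ N, N = mt g - 1 := ⟨_, rfl⟩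
  rw [← hN] at h
  have hM : mt g = 1 + N := by rw [hN]; abel
  rw [hM, add_pow_char_pow_of_commute p 2 (Commute.one_left N), one_pow]
  have h3 : p ^ 2 = 3 + (p ^ 2 - 3) := by
    have : 4 ≤ p ^ 2 := by nlinarith
    omega
  have h4 : N ^ 3 = 0 := by
    rw [pow_succ, pow_two, h]
  rw [h3, pow_add, h4, zero_mul, add_zero]

theorem xm_cube (hσ : ∀ x, σ (σ x) = x) {i j : Fin n} (h : SR i j) (t : K) :
    (mt (xmG hσ h t) - 1) * (mt (xmG hσ h t) - 1) * (mt (xmG hσ h t) - 1) = 0 := by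
  have h0 := h
  obtain ⟨h1, h2, h3, h4⟩ := h0
  have h5 : i.rev ≠ j.rev := fun e => h1 (Fin.rev_injective e)
  have h6 : j ≠ i.rev := fun e => h2 (by rw [e, Fin.rev_rev])
  have e : mt (xmG hσ h t) - 1 = Matrix.single i j t + Matrix.single j.rev i.rev (-σ t) := by
    rw [mt_xmG]
    unfold xmM
    abel
  rw [e]
  simp only [mul_add, add_mul, sm, h1, h2, h3, h4, h5, h6, h1.symm, h2.symm, h3.symm, h4.symm, h5.symm, h6.symm, if_false, add_zero, zero_mul]

theorem ll_cube {i : Fin n} (hi : i ≠ i.rev) {t : K} (ht : t + σ t = 0) :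
    (mt (llG hi ht) - 1) * (mt (llG hi ht) - 1) * (mt (llG hi ht) - 1) = 0 := by
  have e : mt (llG hi ht) - 1 = Matrix.single i i.rev t := by
    rw [mt_llG]
    unfold llM
    abel
  rw [e]
  simp only [sm, hi, hi.symm, if_false, zero_mul]

theorem yy_cube (hσ : ∀ x, σ (σ x) = x) {i c : Fin n} (hc : c.rev = c) (hi : i ≠ c) {a b : K} (hb : b + σ b + a * σ a = 0) :
    (mt (yyG hσ hc hi hb) - 1) * (mt (yyG hσ hc hi hb) - 1) * (mt (yyG hσ hc hi hb) - 1) = 0 := by
  have h1 : i ≠ i.rev := ne_rev_of hc hi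
  have h2 : i.rev ≠ c := fun e => hi (by rw [← Fin.rev_rev i, e, hc])
  have e : mt (yyG hσ hc hi hb) - 1 = Matrix.single i c a + Matrix.single c i.rev (-σ a) + Matrix.single i i.rev b := by
    rw [mt_yyG]
    unfold yyM
    abel
  rw [e]
  simp only [mul_add, add_mul, sm, h1, h2, hi, h1.symm, h2.symm, hi.symm, if_false, if_true, add_zero, zero_add, zero_mul, mul_zero]

section F
variable [Fintype K]

variable (σ) in
/-- The unipotent subgroup. -/
def UJ (n : ℕ) : Subgroup (SUJ σ n) := (Cfsg.Agent.Lead.AutPSL.UU n K).subgroupOf (SUJ σ n)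

theorem mem_UJ {g : SUJ σ n} : g ∈ UJ σ n ↔ ∀ i j, j ≤ i → mt g i j = (1 : Matrix (Fin n) (Fin n) K) i j := Iff.rfl

theorem UJ_low {g : SUJ σ n} (hg : g ∈ UJ σ n) {i j : Fin n} (h : j < i) : mt g i j = 0 := by
  rw [mem_UJ.1 hg i j h.le, Matrix.one_apply_ne (ne_of_gt h)]

theorem UJ_diag {g : SUJ σ n} (hg : g ∈ UJ σ n) (i : Fin n) : mt g i i = 1 := by
  rw [mem_UJ.1 hg i i le_rfl, Matrix.one_apply_eq]

theorem isPGroup_UJ {p : ℕ} [Fact p.Prime] [CharP K p] : IsPGroup p (UJ σ n) := by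
  obtain ⟨f, -, hf⟩ := FiniteField.card K p
  have h1 : IsPGroup p (Cfsg.Agent.Lead.AutPSL.UU n K) := by
    refine IsPGroup.of_card (n := f * ∑ i : Fin n, (i : ℕ)) ?_
    rw [Cfsg.Agent.Lead.AutPSL.card_UU, hf, pow_mul]
  intro g
  obtain ⟨k, hk⟩ := h1 ⟨(g : SUJ σ n).1, g.2⟩
  refine ⟨k, Subtype.ext (Subtype.ext ?_)⟩
  have h2 := congrArg Subtype.val hk
  simpa using h2

theorem uni_single {M : Matrix (Fin n) (Fin n) K} (hM : ∀ a b, b ≤ a → M a b = (1 : Matrix (Fin n) (Fin n) K) a b) {i j : Fin n} (h : i < j) (t : K) :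
    ∀ a b, b ≤ a → (M + Matrix.single i j t) a b = (1 : Matrix (Fin n) (Fin n) K) a b := by
  intro a b hab
  rw [Matrix.add_apply, hM a b hab, Matrix.single_apply, if_neg, add_zero]
  rintro ⟨rfl, rfl⟩
  exact absurd hab (not_le.2 h)

theorem xm_mem_UJ (hσ : ∀ x, σ (σ x) = x) {i j : Fin n} (h : SR i j) (hlt : i < j) (t : K) : xmG hσ h t ∈ UJ σ n := by
  rw [mem_UJ, mt_xmG]
  exact uni_single (uni_single (fun _ _ _ => rfl) hlt t) (Fin.rev_lt_rev.2 hlt) _

theorem ll_mem_UJ {i : Fin n} (hi : i ≠ i.rev) (hlt : i < i.rev) {t : K} (ht : t + σ t = 0) : llG hi ht ∈ UJ σ n := by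
  rw [mem_UJ, mt_llG]
  exact uni_single (fun _ _ _ => rfl) hlt t

theorem yy_mem_UJ (hσ : ∀ x, σ (σ x) = x) {i c : Fin n} (hc : c.rev = c) (hi : i ≠ c) (hlt : i < c) {a b : K} (hb : b + σ b + a * σ a = 0) :
    yyG hσ hc hi hb ∈ UJ σ n := by
  have h2 : c < i.rev := by
    rw [← hc]
    exact Fin.rev_lt_rev.2 hlt
  rw [mem_UJ, mt_yyG]
  exact uni_single (uni_single (uni_single (fun _ _ _ => rfl) hlt a) h2 _) (hlt.trans h2) _

end F

end Cfsg.Agent.H25
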