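import Cfsg.Agent.Lib.H25.SimU2
set_option autoImplicit false
set_option linter.style.haveILetI false

/-! The fusion system of `PSU_n` in the defining characteristic: field facts, the centre. -/

namespace Cfsg.Agent.H25

open Cfsg Matrix
open scoped MatrixGroups

variable {K : Type*} [Field K] {n : ℕ} {σ : K →+* K}

/-- The properties of the field automorphism used below. -/
structure UFld (σ : K →+* K) : Prop where
  inv : ∀ x, σ (σ x) = x
  ne : ∃ y, σ y ≠ y
  norm : ∀ c, σ c = c → ∃ d, d * σ d = c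

theorem UFld.tr (hF : UFld σ) {c : K} (hc : σ c = c) : ∃ b, b + σ b = c := by
  obtain ⟨y, hy⟩ := hF.ne
  have h1 : y - σ y ≠ 0 := sub_ne_zero.2 (Ne.symm hy)
  refine ⟨c * (y / (y - σ y)), ?_⟩
  rw [map_mul, map_div₀, map_sub, hF.inv, hc]
  have h2 : σ y - y ≠ 0 := by
    intro h
    apply h1
    linear_combination -h
  field_simp
  ring

theorem UFld.tz (hF : UFld σ) : ∃ b : K, b ≠ 0 ∧ b + σ b = 0 := by
  obtain ⟨y, hy⟩ := hF.ne
  refine ⟨y - σ y, sub_ne_zero.2 (Ne.symm hy), ?_⟩
  rw [map_sub, hF.inv]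
  ring

theorem UFld.ex_b (hF : UFld σ) (a : K) : ∃ b, b + σ b + a * σ a = 0 := by
  have h1 : σ (-(a * σ a)) = -(a * σ a) := by
    rw [map_neg, map_mul, hF.inv, mul_comm]
  obtain ⟨b, hb⟩ := hF.tr h1
  exact ⟨b, by rw [hb]; ring⟩

theorem comm_of_one_add {V N : Matrix (Fin n) (Fin n) K} (h : V * (1 + N) = (1 + N) * V) : V * N = N * V := by
  rw [mul_add, add_mul, mul_one, one_mul] at h
  exact add_left_cancel h

/-- Any element commuting with long root elements has zero off-diagonal entries in non-central rows. -/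
theorem centerU_scalar (hF : UFld σ) (hn : 2 ≤ n) {z : SUJ σ n} (hz : z ∈ Subgroup.center (SUJ σ n)) :
    ∃ c : K, mt z = c • 1 := by
  obtain ⟨b₀, hb0, hb1⟩ := hF.tz
  have hσ := hF.inv
  have hcomm : ∀ g : SUJ σ n, mt z * mt g = mt g * mt z := by
    intro g
    rw [← mt_mul, ← mt_mul, (Subgroup.mem_center_iff.1 hz) g]
  set Z := mt z with hZ
  have hll : ∀ (i : Fin n) (_ : i ≠ i.rev), Z * Matrix.single i i.rev b₀ = Matrix.single i i.rev b₀ * Z := by
    intro i hi
    have := hcomm (llG hi hb1)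
    rw [mt_llG] at this
    exact comm_of_one_add this
  have hrow : ∀ (k l : Fin n), k ≠ k.rev → l ≠ k → Z k l = 0 := by
    intro k l hk hl
    have hk' : k.rev ≠ k.rev.rev := by
      rw [Fin.rev_rev]
      exact hk.symm
    have h1 := congrFun (congrFun (hll k.rev hk') k.rev) l
    rw [Fin.rev_rev, Matrix.single_mul_apply_same, Matrix.mul_single_apply_of_ne _ _ _ _ _ hl] at h1
    exact ((mul_eq_zero.1 h1.symm).resolve_left hb0)
  have hcol : ∀ (k l : Fin n), l ≠ l.rev → k ≠ l → Z k l = 0 := by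
    intro k l hl hk
    have h1 := congrFun (congrFun (hll l hl) k) l.rev
    rw [Matrix.mul_single_apply_same, Matrix.single_mul_apply_of_ne _ _ _ _ _ hk] at h1
    exact (mul_eq_zero.1 h1).resolve_right hb0
  have hoff : ∀ k l : Fin n, k ≠ l → Z k l = 0 := by
    intro k l hkl
    by_cases hk : k = k.rev
    · refine hcol k l ?_ hkl
      intro hl
      exact hkl (rev_fix hk.symm hl.symm)
    · exact hrow k l hk hkl.symm
  have hrr : ∀ i : Fin n, i ≠ i.rev → Z i.rev i.rev = Z i i := by
    intro i hi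
    have h1 := congrFun (congrFun (hll i hi) i) i.rev
    rw [Matrix.mul_single_apply_same, Matrix.single_mul_apply_same] at h1
    have h2 : b₀ * (Z i i - Z i.rev i.rev) = 0 := by linear_combination h1
    have h3 := (mul_eq_zero.1 h2).resolve_left hb0
    linear_combination -h3
  have hxm : ∀ (i j : Fin n), SR i j → Z i i = Z j j := by
    intro i j h
    have h0 := h
    obtain ⟨h1, h2, h3, h4⟩ := h0
    have h5 : i.rev ≠ j.rev := fun e => h1 (Fin.rev_injective e)
    have h6 : j ≠ i.rev := fun e => h2 (by rw [e, Fin.rev_rev])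
    have e := hcomm (xmG hσ h 1)
    rw [mt_xmG] at e
    unfold xmM at e
    rw [add_assoc] at e
    have e2 := congrFun (congrFun (comm_of_one_add e) i) j
    rw [mul_add, add_mul, Matrix.add_apply, Matrix.add_apply, Matrix.mul_single_apply_same, Matrix.mul_single_apply_of_ne _ _ _ _ _ h6,
      Matrix.single_mul_apply_same, Matrix.single_mul_apply_of_ne _ _ _ _ _ h2] at e2
    simpa using e2
  have hyy : ∀ (i c : Fin n), c.rev = c → i ≠ c → Z i i = Z c c := by
    intro i c hc hi
    have h1 : i ≠ i.rev := ne_rev_of hc hi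
    have h2 : i.rev ≠ c := fun e => hi (by rw [← Fin.rev_rev i, e, hc])
    obtain ⟨b, hb⟩ := hF.ex_b 1
    have e := hcomm (yyG hσ hc hi hb)
    rw [mt_yyG] at e
    unfold yyM at e
    rw [add_assoc, add_assoc] at e
    have e2 := congrFun (congrFun (comm_of_one_add e) i) c
    rw [mul_add, mul_add, add_mul, add_mul, Matrix.add_apply, Matrix.add_apply, Matrix.add_apply, Matrix.add_apply, Matrix.mul_single_apply_same,
      Matrix.mul_single_apply_of_ne _ _ _ _ _ h2.symm, Matrix.mul_single_apply_of_ne _ _ _ _ _ h2.symm,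
      Matrix.single_mul_apply_same, Matrix.single_mul_apply_of_ne _ _ _ _ _ hi, Matrix.single_mul_apply_same, hoff i.rev c h2] at e2
    simpa using e2
  obtain ⟨i₀, h0⟩ : ∃ i₀ : Fin n, (i₀ : ℕ) = 0 := ⟨⟨0, by omega⟩, rfl⟩
  have hi0 : i₀ ≠ i₀.rev := by
    intro e
    have := congrArg Fin.val e
    rw [Fin.val_rev, h0] at this
    omega
  refine ⟨Z i₀ i₀, ?_⟩
  ext a b
  rw [Matrix.smul_apply, smul_eq_mul]
  by_cases hab : a = b
  · subst hab
    rw [Matrix.one_apply_eq, mul_one]
    by_cases ha : a.rev = a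
    · by_cases h1 : i₀ = a
      · rw [h1]
      · exact (hyy i₀ a ha h1).symm
    · by_cases h1 : a = i₀
      · rw [h1]
      · by_cases h2 : a = i₀.rev
        · rw [h2, hrr i₀ hi0]
        · refine (hxm i₀ a ⟨Ne.symm h1, ?_, hi0, fun e => ha e.symm⟩).symm
          intro e
          apply h2
          rw [e, Fin.rev_rev]
  · rw [hoff a b hab, Matrix.one_apply_ne hab, mul_zero]

end Cfsg.Agent.H25
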