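import Cfsg.Agent.Lib.H25.SimU3
set_option autoImplicit false
set_option linter.style.haveILetI false

/-! The fusion system of `PSU_n` in the defining characteristic: the normalizer of the unipotent subgroup. -/

namespace Cfsg.Agent.H25

open Cfsg Matrix
open scoped MatrixGroups

variable {K : Type*} [Field K] {n : ℕ} {σ : K →+* K}

theorem val_rev' (a : Fin n) : (a.rev : ℕ) + a + 1 = n := by
  rw [Fin.val_rev]
  have := a.2
  omega

theorem fne {a b : Fin n} (h : (a : ℕ) ≠ b) : a ≠ b := fun e => h (congrArg _ e)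

/-- The upper triangular criterion. -/
theorem upper_of_conj' (g : Matrix (Fin n) (Fin n) K)
    (hsim : ∀ j d : Fin n, (d : ℕ) = j + 1 → ∃ r u : Matrix (Fin n) (Fin n) K,
      (∀ a b, b ≤ a → r a b = (1 : Matrix (Fin n) (Fin n) K) a b) ∧ (∀ a b, b ≤ a → u a b = (1 : Matrix (Fin n) (Fin n) K) a b) ∧
        g * r = u * g ∧ r j d ≠ 0) : ∀ i j, j < i → g i j = 0 := by
  have key : ∀ k : ℕ, ∀ i : Fin n, n - i = k → ∀ j, j < i → g i j = 0 := by
    intro k
    induction k using Nat.strong_induction_on with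
    | _ k IH =>
      intro i hk
      have inner : ∀ t : ℕ, ∀ j : Fin n, (j : ℕ) = t → j < i → g i j = 0 := by
        intro t
        induction t using Nat.strong_induction_on with
        | _ t IHt =>
          intro j hjt hji
          rw [Fin.lt_def] at hji
          have hd : (j : ℕ) + 1 < n := by
            have := i.2
            omega
          obtain ⟨d, hdd⟩ : ∃ d : Fin n, (d : ℕ) = j + 1 := ⟨⟨j + 1, hd⟩, rfl⟩
          obtain ⟨r, u, hr, hu, hc, h0⟩ := hsim j d hdd
          have e := congrFun (congrFun hc i) d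
          rw [Matrix.mul_apply, Matrix.mul_apply] at e
          have hjd : d ≠ j := by
            intro e
            rw [e] at hdd
            omega
          have hL : ∑ l, g i l * r l d = g i d + g i j * r j d := by
            rw [Finset.sum_eq_add d j hjd]
            · rw [hr d d le_rfl, Matrix.one_apply_eq, mul_one]
            · intro l _ hl
              rcases lt_trichotomy (l : ℕ) j with h1 | h1 | h1
              · rw [IHt l (by omega) l rfl (by rw [Fin.lt_def]; omega), zero_mul]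
              · exact absurd (Fin.ext h1) hl.2
              · have h2 : (l : ℕ) ≠ d := fun e => hl.1 (Fin.ext e)
                have h3 : d < l := by
                  rw [Fin.lt_def]
                  omega
                rw [hr l d h3.le, Matrix.one_apply_ne (ne_of_gt h3), mul_zero]
            · simp
            · simp
          have hR : ∑ l, u i l * g l d = g i d := by
            rw [Finset.sum_eq_single i]
            · rw [hu i i le_rfl, Matrix.one_apply_eq, one_mul]
            · intro l _ hl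
              rcases lt_trichotomy (l : ℕ) i with h1 | h1 | h1
              · have h3 : l < i := h1
                rw [hu i l h3.le, Matrix.one_apply_ne (ne_of_gt h3), zero_mul]
              · exact absurd (Fin.ext h1) hl
              · have hl2 := l.2
                rw [IH (n - l) (by omega) l rfl d (by rw [Fin.lt_def]; omega), mul_zero]
            · simp
          rw [hL, hR] at e
          have e2 : g i j * r j d = 0 := by linear_combination e
          exact (mul_eq_zero.1 e2).resolve_right h0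
      intro j hj
      exact inner _ j rfl hj
  intro i j hij
  exact key _ i rfl j hij

section F
variable [Fintype K]

/-- A root element in each adjacent position. -/
theorem exists_simple (hF : UFld σ) {j d : Fin n} (hd : (d : ℕ) = j + 1) : ∃ r ∈ UJ σ n, mt r j d ≠ 0 := by
  have hσ := hF.inv
  have hjr := val_rev' j
  have hdr := val_rev' d
  have hjd : j ≠ d := fne (by omega)
  have hlt : j < d := by
    rw [Fin.lt_def]
    omega
  rcases lt_trichotomy (2 * (j : ℕ) + 1 + 1) n with hc | hc | hc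
  · by_cases hdd : d.rev = d
    · obtain ⟨b, hb⟩ := hF.ex_b 1
      refine ⟨yyG hσ hdd hjd hb, yy_mem_UJ hσ hdd hjd hlt hb, ?_⟩
      rw [mt_yyG]
      unfold yyM
      have h1 : d ≠ j := hjd.symm
      have h2 : j.rev ≠ d := fun e => hjd (by rw [← Fin.rev_rev j, e, hdd])
      simp [Matrix.single_apply, Matrix.one_apply, hjd, h1, h2]
    · have hS : SR j d := ⟨hjd, fne (by omega), fne (by omega), fun e => hdd e.symm⟩
      refine ⟨xmG hσ hS 1, xm_mem_UJ hσ hS hlt 1, ?_⟩
      rw [mt_xmG]
      unfold xmM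
      have h1 : d.rev ≠ j := fne (by omega)
      simp [Matrix.single_apply, Matrix.one_apply, hjd, h1]
  · have hj : j ≠ j.rev := fne (by omega)
    have hdj : d = j.rev := Fin.ext (by omega)
    obtain ⟨b, hb0, hb⟩ := hF.tz
    have hlt' : j < j.rev := by
      rw [Fin.lt_def]
      omega
    refine ⟨llG hj hb, ll_mem_UJ hj hlt' hb, ?_⟩
    rw [mt_llG]
    unfold llM
    rw [hdj]
    simpa [Matrix.single_apply, Matrix.one_apply, hj] using hb0
  · by_cases hjj : j.rev = j
    · obtain ⟨b, hb⟩ := hF.ex_b 1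
      have h1 : d.rev ≠ j := fne (by omega)
      have h2 : d.rev < j := by
        rw [Fin.lt_def]
        omega
      refine ⟨yyG hσ hjj h1 hb, yy_mem_UJ hσ hjj h1 h2 hb, ?_⟩
      rw [mt_yyG]
      unfold yyM
      rw [Fin.rev_rev]
      simp [Matrix.single_apply, Matrix.one_apply, hjd, h1]
    · have h1 : d.rev ≠ j.rev := fne (by omega)
      have h2 : d.rev < j.rev := by
        rw [Fin.lt_def]
        omega
      have hS : SR d.rev j.rev := by
        refine ⟨h1, ?_, ?_, ?_⟩
        · rw [Fin.rev_rev]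
          exact fne (by omega)
        · rw [Fin.rev_rev]
          exact fne (by omega)
        · rw [Fin.rev_rev]
          exact hjj
      refine ⟨xmG hσ hS 1, xm_mem_UJ hσ hS h2 1, ?_⟩
      rw [mt_xmG]
      unfold xmM
      rw [Fin.rev_rev, Fin.rev_rev]
      have h3 : d.rev ≠ j := fne (by omega)
      simp [Matrix.single_apply, Matrix.one_apply, hjd, h3]

variable {G : Type*} [Group G] {pr : SUJ σ n →* G}

theorem eq_scalar_of_pr (hF : UFld σ) (hn : 2 ≤ n) (hker : ∀ x, pr x = 1 ↔ x ∈ Subgroup.center (SUJ σ n)) {a b : SUJ σ n}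
    (h : pr a = pr b) : ∃ c : K, mt b = c • mt a := by
  have h1 : a⁻¹ * b ∈ Subgroup.center (SUJ σ n) := (hker _).1 (by rw [map_mul, map_inv, h, inv_mul_cancel])
  obtain ⟨c, hc⟩ := centerU_scalar hF hn h1
  refine ⟨c, ?_⟩
  calc mt b = mt (a * (a⁻¹ * b)) := by rw [mul_inv_cancel_left]
    _ = c • mt a := by rw [mt_mul, hc, Matrix.mul_smul, mul_one]

theorem conj_UJ {p : ℕ} [Fact p.Prime] [CharP K p] (hF : UFld σ) (hn : 2 ≤ n) (hker : ∀ x, pr x = 1 ↔ x ∈ Subgroup.center (SUJ σ n))
    {g r : SUJ σ n} (hr : r ∈ UJ σ n) (h : pr (g * r * g⁻¹) ∈ (UJ σ n).map pr) : g * r * g⁻¹ ∈ UJ σ n := by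
  obtain ⟨u, hu, hpr⟩ := h
  obtain ⟨c, hc⟩ := eq_scalar_of_pr hF hn hker hpr
  obtain ⟨k, hk⟩ := isPGroup_UJ (p := p) ⟨r, hr⟩
  obtain ⟨l, hl⟩ := isPGroup_UJ (p := p) ⟨u, hu⟩
  have hk' : r ^ p ^ k = 1 := congrArg Subtype.val hk
  have hl' : u ^ p ^ l = 1 := congrArg Subtype.val hl
  have hW : (g * r * g⁻¹) ^ p ^ (k + l) = 1 := by
    rw [conj_pow, pow_add, pow_mul, hk', one_pow, mul_one, mul_inv_cancel]
  have hU : u ^ p ^ (k + l) = 1 := by
    rw [pow_add, mul_comm, pow_mul, hl', one_pow]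
  have h1 := congrArg mt hW
  rw [mt_pow, hc, smul_pow, ← mt_pow, hU, mt_one] at h1
  obtain ⟨i₀, -⟩ : ∃ i₀ : Fin n, (i₀ : ℕ) = 0 := ⟨⟨0, by omega⟩, rfl⟩
  have h2 := congrFun (congrFun h1 i₀) i₀
  rw [Matrix.smul_apply, Matrix.one_apply_eq, smul_eq_mul, mul_one] at h2
  have hc1 : c = 1 := frob_inj (p := p) (k + l) (by rw [h2, one_pow])
  rw [hc1, one_smul] at hc
  rw [mt_inj hc]
  exact hu

theorem upper_of_norm {p : ℕ} [Fact p.Prime] [CharP K p] (hF : UFld σ) (hn : 2 ≤ n) (hker : ∀ x, pr x = 1 ↔ x ∈ Subgroup.center (SUJ σ n))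
    {g : SUJ σ n} (hg : pr g ∈ Subgroup.normalizer (((UJ σ n).map pr : Subgroup G) : Set G)) : ∀ i j, j < i → mt g i j = 0 := by
  refine upper_of_conj' _ fun j d hd => ?_
  obtain ⟨r, hr, h0⟩ := exists_simple hF hd
  have h1 : g * r * g⁻¹ ∈ UJ σ n := by
    refine conj_UJ (p := p) hF hn hker hr ?_
    rw [map_mul, map_mul, map_inv]
    exact (Subgroup.mem_normalizer_iff.1 hg _).1 ⟨r, hr, rfl⟩
  refine ⟨mt r, mt (g * r * g⁻¹), mem_UJ.1 hr, mem_UJ.1 h1, ?_, h0⟩
  rw [← mt_mul, ← mt_mul]
  apply congrArg mt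
  group

end F

/-! ### Monomial elements -/

/-- The monomial matrix. -/
def moM (π : Equiv.Perm (Fin n)) (f : Fin n → K) : Matrix (Fin n) (Fin n) K := Pm π * diagonal f

theorem moM_apply (π : Equiv.Perm (Fin n)) (f : Fin n → K) (a b : Fin n) : moM π f a b = if a = π b then f b else 0 := by
  unfold moM
  rw [Matrix.mul_diagonal, Pm_apply]
  split_ifs <;> simp

theorem moM_single (π : Equiv.Perm (Fin n)) (f : Fin n → K) (x y : Fin n) (t : K) :
    moM π f * Matrix.single x y t = Matrix.single (π x) y (f x * t) := by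
  ext a b
  by_cases hb : b = y
  · subst hb
    rw [Matrix.mul_single_apply_same, moM_apply, Matrix.single_apply]
    by_cases ha : a = π x
    · simp [ha]
    · have : ¬ (π x = a) := fun e => ha e.symm
      simp [ha, this]
  · rw [Matrix.mul_single_apply_of_ne _ _ _ _ _ hb, Matrix.single_apply, if_neg]
    exact fun e => hb e.2.symm

theorem single_moM (π : Equiv.Perm (Fin n)) (f : Fin n → K) (x y : Fin n) (s : K) :
    Matrix.single x (π y) s * moM π f = Matrix.single x y (s * f y) := by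
  ext a b
  by_cases ha : a = x
  · subst ha
    rw [Matrix.single_mul_apply_same, moM_apply, Matrix.single_apply]
    by_cases hb : b = y
    · simp [hb]
    · have h1 : ¬ (π y = π b) := fun e => hb (π.injective e).symm
      have h2 : ¬ (y = b) := fun e => hb e.symm
      simp [h1, h2]
  · rw [Matrix.single_mul_apply_of_ne _ _ _ _ _ ha, Matrix.single_apply, if_neg]
    exact fun e => ha e.1.symm

theorem moM_isU (hσ : ∀ x, σ (σ x) = x) {π : Equiv.Perm (Fin n)} {f : Fin n → K} (hπ : ∀ i, π i.rev = (π i).rev)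
    (hf : ∀ i, f i * σ (f i.rev) = 1) : IsU σ (moM π f) := by
  unfold IsU
  ext x y
  rw [Matrix.mul_apply, JJ_apply]
  have h1 : ∀ l, ((moM π f)ᵀ * JJ n K) x l = if l.rev = π x then f x else 0 := by
    intro l
    rw [mul_JJ_apply, transpose_apply, moM_apply]
  simp only [h1, RingHom.mapMatrix_apply, Matrix.map_apply, moM_apply]
  rw [Finset.sum_eq_single (π x).rev]
  · rw [Fin.rev_rev, if_pos rfl, ← hπ]
    by_cases hxy : x.rev = y
    · subst hxy
      rw [if_pos rfl, if_pos rfl, hf]
    · have h2 : ¬ (π x.rev = π y) := fun e => hxy (π.injective e)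
      rw [if_neg h2, if_neg hxy, map_zero, mul_zero]
  · intro l _ hl
    rw [if_neg, zero_mul]
    intro e
    apply hl
    rw [← e, Fin.rev_rev]
  · simp

theorem Pm_eq_submatrix (π : Equiv.Perm (Fin n)) : (Pm π : Matrix (Fin n) (Fin n) K) = (1 : Matrix (Fin n) (Fin n) K).submatrix ((π⁻¹ : Equiv.Perm (Fin n)) : Fin n → Fin n) id := by
  ext a b
  rw [Pm_apply, Matrix.submatrix_apply, Matrix.one_apply, id]
  exact if_congr (by rw [Equiv.Perm.inv_eq_iff_eq]) rfl rfl

theorem Pm_one : (Pm 1 : Matrix (Fin n) (Fin n) K) = 1 := by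
  ext a b
  rw [Pm_apply, Matrix.one_apply]
  rfl

theorem moM_det (π : Equiv.Perm (Fin n)) (f : Fin n → K) :
    (moM π f).det = ((Equiv.Perm.sign π : ℤˣ) : K) * ∏ i, f i := by
  unfold moM
  rw [det_mul, Matrix.det_diagonal, Pm_eq_submatrix, Matrix.det_permute, det_one, mul_one, Equiv.Perm.sign_inv]

/-- A monomial element. -/
def moG (hσ : ∀ x, σ (σ x) = x) {π : Equiv.Perm (Fin n)} {f : Fin n → K} (hπ : ∀ i, π i.rev = (π i).rev)
    (hf : ∀ i, f i * σ (f i.rev) = 1) (hd : (moM π f).det = 1) : SUJ σ n := mkU (moM π f) hd (moM_isU hσ hπ hf)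

theorem mt_moG (hσ : ∀ x, σ (σ x) = x) {π : Equiv.Perm (Fin n)} {f : Fin n → K} (hπ : ∀ i, π i.rev = (π i).rev)
    (hf : ∀ i, f i * σ (f i.rev) = 1) (hd : (moM π f).det = 1) : mt (moG hσ hπ hf hd) = moM π f := rfl

theorem ne_zero_of_hf {f : Fin n → K} (hf : ∀ i, f i * σ (f i.rev) = 1) (i : Fin n) : f i ≠ 0 := by
  intro h
  have := hf i
  rw [h, zero_mul] at this
  exact zero_ne_one this

theorem sig_of_hf (hσ : ∀ x, σ (σ x) = x) {f : Fin n → K} (hf : ∀ i, f i * σ (f i.rev) = 1) (i : Fin n) : f i.rev = (σ (f i))⁻¹ := by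
  have h1 := hf i
  have h2 := congrArg σ h1
  rw [map_mul, hσ, map_one] at h2
  exact eq_inv_of_mul_eq_one_right h2

theorem conj_of_comm {a x y : SUJ σ n} (h : mt a * mt x = mt y * mt a) : a * x * a⁻¹ = y := by
  rw [mul_inv_eq_iff_eq_mul]
  apply mt_inj
  rw [mt_mul, mt_mul, h]

theorem moM_comm_xm (hσ : ∀ x, σ (σ x) = x) {π : Equiv.Perm (Fin n)} {f : Fin n → K} (hπ : ∀ i, π i.rev = (π i).rev)
    (hf : ∀ i, f i * σ (f i.rev) = 1) (i j : Fin n) (t : K) :
    moM π f * xmM σ i j t = xmM σ (π i) (π j) (f i * t * (f j)⁻¹) * moM π f := by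
  have hfj := ne_zero_of_hf hf j
  unfold xmM
  rw [← hπ, ← hπ, mul_add, mul_add, add_mul, add_mul, mul_one, one_mul, moM_single, moM_single, single_moM, single_moM]
  have e1 : f j.rev * -σ t = -σ (f i * t * (f j)⁻¹) * f i.rev := by
    rw [sig_of_hf hσ hf i, sig_of_hf hσ hf j, map_mul, map_mul, map_inv₀]
    have h1 : σ (f i) ≠ 0 := by
      intro h
      apply ne_zero_of_hf hf i
      have := congrArg σ h
      rwa [hσ, map_zero] at this
    field_simp
  have e2 : f i * t = f i * t * (f j)⁻¹ * f j := by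
    field_simp
  rw [e1, ← e2]

theorem moM_comm_ll {π : Equiv.Perm (Fin n)} (hσ : ∀ x, σ (σ x) = x) {f : Fin n → K} (hπ : ∀ i, π i.rev = (π i).rev)
    (hf : ∀ i, f i * σ (f i.rev) = 1) (i : Fin n) (t : K) :
    moM π f * llM i t = llM (π i) (f i * t * σ (f i)) * moM π f := by
  unfold llM
  rw [← hπ, mul_add, add_mul, mul_one, one_mul, moM_single, single_moM, sig_of_hf hσ hf i]
  have h1 : σ (f i) ≠ 0 := by
    intro h
    apply ne_zero_of_hf hf i
    have := congrArg σ h
    rwa [hσ, map_zero] at this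
  have e2 : f i * t = f i * t * σ (f i) * (σ (f i))⁻¹ := by
    field_simp
  rw [← e2]

theorem moM_comm_yy {π : Equiv.Perm (Fin n)} (hσ : ∀ x, σ (σ x) = x) {f : Fin n → K} (hπ : ∀ i, π i.rev = (π i).rev)
    (hf : ∀ i, f i * σ (f i.rev) = 1) (i c : Fin n) (hc : c.rev = c) (hπc : π c = c) (a b : K) :
    moM π f * yyM σ i c a b = yyM σ (π i) c (f i * a * (f c)⁻¹) (f i * b * σ (f i)) * moM π f := by
  unfold yyM
  have h1 : σ (f i) ≠ 0 := by
    intro h
    apply ne_zero_of_hf hf i
    have := congrArg σ h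
    rwa [hσ, map_zero] at this
  have hfc := ne_zero_of_hf hf c
  have hsc : σ (f c) = (f c)⁻¹ := by
    have := hf c
    rw [hc] at this
    exact eq_inv_of_mul_eq_one_right this
  have h2 := single_moM π f c i.rev
  have h3 := single_moM π f (π i) c
  have h4 := single_moM π f (π i) i.rev
  rw [hπc] at h3
  rw [← hπ, mul_add, mul_add, mul_add, add_mul, add_mul, add_mul, mul_one, one_mul, moM_single, moM_single, moM_single, h3, h2, h4, hπc,
    sig_of_hf hσ hf i]
  have e1 : f i * a = f i * a * (f c)⁻¹ * f c := by field_simp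
  have e2 : f c * -σ a = -σ (f i * a * (f c)⁻¹) * (σ (f i))⁻¹ := by
    rw [map_mul, map_mul, map_inv₀, hsc, inv_inv]
    field_simp
  have e3 : f i * b = f i * b * σ (f i) * (σ (f i))⁻¹ := by field_simp
  rw [← e1, e2, ← e3]

section F
variable [Fintype K]

/-! ### Diagonal elements -/

/-- The diagonal part of a triangular element. -/
theorem diag_of_upper {g : SUJ σ n} (hg : ∀ i j, j < i → mt g i j = 0) (i : Fin n) : mt g i i * σ (mt g i.rev i.rev) = 1 := by
  have h1 := mt_isU g
  unfold IsU at h1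
  have h2 := congrFun (congrFun h1 i) i.rev
  rw [JJ_apply, if_pos rfl, Matrix.mul_apply] at h2
  rw [← h2]
  have h3 : ∀ l, ((mt g)ᵀ * JJ n K) i l = mt g l.rev i := by
    intro l
    rw [mul_JJ_apply, transpose_apply]
  simp only [h3, RingHom.mapMatrix_apply, Matrix.map_apply]
  rw [Finset.sum_eq_single i.rev]
  · rw [Fin.rev_rev]
  · intro l _ hl
    by_cases h4 : i.rev < l
    · rw [hg l i.rev h4, map_zero, mul_zero]
    · have h5 : l < i.rev := lt_of_le_of_ne (not_lt.1 h4) hl
      have h6 : i < l.rev := by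
        have := Fin.rev_lt_rev.2 h5
        rwa [Fin.rev_rev] at this
      rw [hg l.rev i h6, zero_mul]
  · simp

theorem moM_one (d : Fin n → K) : moM 1 d = diagonal d := by
  unfold moM
  rw [Pm_one, one_mul]

theorem exists_tor_uni' {g : SUJ σ n} (hσ : ∀ x, σ (σ x) = x) (hg : ∀ i j, j < i → mt g i j = 0) :
    ∃ (d : Fin n → K) (hd : ∀ i, d i * σ (d i.rev) = 1) (hdet : (moM 1 d).det = 1), ∃ u ∈ UJ σ n, g = moG (π := 1) hσ (fun _ => rfl) hd hdet * u := by
  have hdet : (moM 1 (fun i => mt g i i)).det = 1 := by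
    rw [moM_det]
    simp only [map_one, Units.val_one, Int.cast_one, one_mul]
    have h1 := Matrix.det_of_upperTriangular (M := mt g) (by
      intro i j hij
      exact hg i j hij)
    rw [← h1]
    exact g.1.2
  refine ⟨fun i => mt g i i, diag_of_upper hg, hdet, ?_⟩
  obtain ⟨t, ht⟩ : ∃ t : SUJ σ n, t = moG (π := 1) hσ (fun _ => rfl) (diag_of_upper hg) hdet := ⟨_, rfl⟩
  have hm : mt t = diagonal (fun i => mt g i i) := by
    rw [ht]
    exact moM_one _
  refine ⟨t⁻¹ * g, ?_, by rw [← ht]; group⟩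
  have e : ∀ i j, mt g i i * mt (t⁻¹ * g) i j = mt g i j := by
    intro i j
    have h1 : mt t * mt (t⁻¹ * g) = mt g := by
      rw [← mt_mul, mul_inv_cancel_left]
    have h2 := congrFun (congrFun h1 i) j
    rwa [hm, Matrix.diagonal_mul] at h2
  have hne : ∀ i, mt g i i ≠ 0 := ne_zero_of_hf (diag_of_upper hg)
  rw [mem_UJ]
  intro i j hji
  rcases lt_or_eq_of_le hji with h1 | h1
  · have h2 := e i j
    rw [hg i j h1] at h2
    rw [(mul_eq_zero.1 h2).resolve_left (hne i), Matrix.one_apply_ne (ne_of_gt h1)]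
  · subst h1
    have h2 := e j j
    rw [Matrix.one_apply_eq]
    exact mul_left_cancel₀ (hne j) (by rw [h2, mul_one])

end F

end Cfsg.Agent.H25
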