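import Cfsg.Agent.Lib.H25.SimU4
set_option autoImplicit false
set_option linter.style.haveILetI false

/-! The fusion system of `PSU_n` in the defining characteristic: the radicals of parabolic subgroups. -/

namespace Cfsg.Agent.H25

open Cfsg Matrix
open scoped MatrixGroups

variable {K : Type*} [Field K] {n : ℕ} {σ : K →+* K}

/-- Identity on the blocks of `φ`. -/
def Blk (φ : Fin n → ℕ) (M : Matrix (Fin n) (Fin n) K) : Prop := ∀ i j, φ i = φ j → M i j = (1 : Matrix (Fin n) (Fin n) K) i j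

/-- Block diagonal. -/
def Lev (φ : Fin n → ℕ) (M : Matrix (Fin n) (Fin n) K) : Prop := ∀ i j, φ i ≠ φ j → M i j = 0

/-- Unitriangular. -/
def UniT (M : Matrix (Fin n) (Fin n) K) : Prop := ∀ i j, j ≤ i → M i j = (1 : Matrix (Fin n) (Fin n) K) i j

theorem UniT.low {M : Matrix (Fin n) (Fin n) K} (h : UniT M) {i j : Fin n} (hj : j < i) : M i j = 0 := by
  rw [h i j hj.le, Matrix.one_apply_ne (ne_of_gt hj)]

variable {φ : Fin n → ℕ}

theorem uni_mul_blk (hφ : Monotone φ) {v u : Matrix (Fin n) (Fin n) K} (hv : UniT v) (hu : UniT u) (hb : Blk φ u) {i j : Fin n} (h : φ i = φ j) :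
    (v * u) i j = v i j := by
  rw [Matrix.mul_apply]
  have : ∀ k, v i k * u k j = v i k * (1 : Matrix (Fin n) (Fin n) K) k j := by
    intro k
    by_cases h1 : k < i
    · rw [hv.low h1, zero_mul, zero_mul]
    · by_cases h2 : j ≤ k
      · rw [hu k j h2]
      · have h3 := hφ (not_lt.1 h1)
        have h4 := hφ (le_of_lt (not_le.1 h2))
        rw [hb k j (by omega)]
  simp only [this]
  rw [← Matrix.mul_apply, mul_one]

theorem blk_mul_uni (hφ : Monotone φ) {v u : Matrix (Fin n) (Fin n) K} (hv : UniT v) (hu : UniT u) (hb : Blk φ u) {i j : Fin n} (h : φ i = φ j) :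
    (u * v) i j = v i j := by
  rw [Matrix.mul_apply]
  have : ∀ k, u i k * v k j = (1 : Matrix (Fin n) (Fin n) K) i k * v k j := by
    intro k
    by_cases h1 : k < i
    · rw [hu i k h1.le]
    · by_cases h2 : j < k
      · rw [hv.low h2, mul_zero, mul_zero]
      · have h3 := hφ (not_lt.1 h1)
        have h4 := hφ (not_lt.1 h2)
        rw [hb i k (by omega)]
  simp only [this]
  rw [← Matrix.mul_apply, one_mul]

theorem Blk_conj (hφ : Monotone φ) {v v' u w : Matrix (Fin n) (Fin n) K} (hv : UniT v) (hv' : UniT v') (hu : UniT u) (hb : Blk φ u)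
    (hw : w = v * u) (huw : UniT w) (hvv : v * v' = 1) : Blk φ (w * v') := by
  intro i j h
  rw [Matrix.mul_apply, ← hvv, Matrix.mul_apply]
  refine Finset.sum_congr rfl fun k _ => ?_
  by_cases h1 : k < i
  · rw [hv.low h1, huw.low h1]
  · by_cases h2 : j < k
    · rw [hv'.low h2, mul_zero, mul_zero]
    · have h3 := hφ (not_lt.1 h1)
      have h4 := hφ (not_lt.1 h2)
      rw [hw, uni_mul_blk hφ hv hu hb (show φ i = φ k by omega)]

theorem conj_lev (hφ : Monotone φ) {M M' u : Matrix (Fin n) (Fin n) K} (hu : UniT u) (hb : Blk φ u) (hM : Lev φ M) (hM' : Lev φ M') (hMM : M * M' = 1)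
    {i j : Fin n} (h : φ j ≤ φ i) : (M * u * M') i j = (1 : Matrix (Fin n) (Fin n) K) i j := by
  rw [Matrix.mul_apply, ← hMM, Matrix.mul_apply]
  refine Finset.sum_congr rfl fun l _ => ?_
  by_cases h1 : φ l = φ j
  · congr 1
    rw [Matrix.mul_apply]
    have : ∀ k, M i k * u k l = M i k * (1 : Matrix (Fin n) (Fin n) K) k l := by
      intro k
      by_cases h2 : φ i = φ k
      · by_cases h3 : l ≤ k
        · rw [hu k l h3]
        · have h4 := hφ (le_of_lt (not_le.1 h3))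
          rw [hb k l (by omega)]
      · rw [hM i k h2, zero_mul, zero_mul]
    simp only [this]
    rw [← Matrix.mul_apply, mul_one]
  · rw [hM' l j h1, mul_zero, mul_zero]

section F
variable [Fintype K]

theorem UJ_uni {g : SUJ σ n} (hg : g ∈ UJ σ n) : UniT (mt g) := mem_UJ.1 hg

/-- The radical for a block system. -/
def RU (σ : K →+* K) (φ : Fin n → ℕ) (hφ : Monotone φ) : Subgroup (SUJ σ n) where
  carrier := {u | u ∈ UJ σ n ∧ Blk φ (mt u)}
  one_mem' := ⟨(UJ σ n).one_mem, fun _ _ _ => rfl⟩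
  mul_mem' := by
    rintro a b ⟨ha, ha1⟩ ⟨hb, hb1⟩
    refine ⟨(UJ σ n).mul_mem ha hb, fun i j h => ?_⟩
    rw [mt_mul, uni_mul_blk hφ (UJ_uni ha) (UJ_uni hb) hb1 h, ha1 i j h]
  inv_mem' := by
    rintro a ⟨ha, ha1⟩
    have hi := (UJ σ n).inv_mem ha
    refine ⟨hi, fun i j h => ?_⟩
    rw [← blk_mul_uni hφ (UJ_uni hi) (UJ_uni ha) ha1 h, mt_mul_inv]

theorem mem_RU {hφ : Monotone φ} {u : SUJ σ n} : u ∈ RU σ φ hφ ↔ u ∈ UJ σ n ∧ Blk φ (mt u) := Iff.rfl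

theorem RU_le {hφ : Monotone φ} : RU σ φ hφ ≤ UJ σ n := fun _ h => h.1

theorem RU_conj {hφ : Monotone φ} {v u : SUJ σ n} (hv : v ∈ UJ σ n) (hu : u ∈ RU σ φ hφ) : v * u * v⁻¹ ∈ RU σ φ hφ := by
  obtain ⟨hu0, hu1⟩ := hu
  have hvi := (UJ σ n).inv_mem hv
  refine ⟨(UJ σ n).mul_mem ((UJ σ n).mul_mem hv hu0) hvi, ?_⟩
  rw [mt_mul]
  exact Blk_conj hφ (UJ_uni hv) (UJ_uni hvi) (UJ_uni hu0) hu1 (mt_mul v u) (UJ_uni ((UJ σ n).mul_mem hv hu0)) (mt_mul_inv v)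

/-- Levi elements. -/
def LG (φ : Fin n → ℕ) (g : SUJ σ n) : Prop := Lev φ (mt g) ∧ Lev φ (mt g⁻¹)

theorem RU_lev {hφ : Monotone φ} {g u : SUJ σ n} (hg : LG φ g) (hu : u ∈ RU σ φ hφ) : g * u * g⁻¹ ∈ RU σ φ hφ := by
  obtain ⟨hu0, hu1⟩ := hu
  have h1 : ∀ i j, φ j ≤ φ i → mt (g * u * g⁻¹) i j = (1 : Matrix (Fin n) (Fin n) K) i j := by
    intro i j h
    rw [mt_mul, mt_mul]
    exact conj_lev hφ (UJ_uni hu0) hu1 hg.1 hg.2 (mt_mul_inv g) h
  refine ⟨mem_UJ.2 fun i j hij => h1 i j (hφ hij), fun i j h => h1 i j h.symm.le⟩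

theorem LG.inv {g : SUJ σ n} (hg : LG φ g) : LG φ g⁻¹ := by
  refine ⟨hg.2, ?_⟩
  rw [inv_inv]
  exact hg.1

theorem Lev_one : Lev φ (1 : Matrix (Fin n) (Fin n) K) := by
  intro i j h
  apply Matrix.one_apply_ne
  rintro rfl
  exact h rfl

theorem Lev.add_single {M : Matrix (Fin n) (Fin n) K} (hM : Lev φ M) {a b : Fin n} (hab : φ a = φ b) (t : K) : Lev φ (M + Matrix.single a b t) := by
  intro i j h
  rw [Matrix.add_apply, hM i j h, Matrix.single_apply, if_neg, add_zero]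
  rintro ⟨rfl, rfl⟩
  exact h hab

theorem LG_xm (hσ : ∀ x, σ (σ x) = x) {i j : Fin n} (h : SR i j) (t : K) (h1 : φ i = φ j) (h2 : φ j.rev = φ i.rev) : LG φ (xmG hσ h t) := by
  refine ⟨?_, ?_⟩
  · rw [mt_xmG]
    exact (Lev_one.add_single h1 t).add_single h2 _
  · rw [xmG_inv, mt_xmG]
    exact (Lev_one.add_single h1 _).add_single h2 _

theorem LG_ll {i : Fin n} (hi : i ≠ i.rev) {t : K} (ht : t + σ t = 0) (h1 : φ i = φ i.rev) : LG φ (llG hi ht) := by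
  refine ⟨?_, ?_⟩
  · rw [mt_llG]
    exact Lev_one.add_single h1 t
  · rw [llG_inv hi ht (ll_neg_cond ht), mt_llG]
    exact Lev_one.add_single h1 _

theorem LG_yy (hσ : ∀ x, σ (σ x) = x) {i c : Fin n} (hc : c.rev = c) (hi : i ≠ c) {a b : K} (hb : b + σ b + a * σ a = 0)
    (h1 : φ i = φ c) (h2 : φ c = φ i.rev) : LG φ (yyG hσ hc hi hb) := by
  refine ⟨?_, ?_⟩
  · rw [mt_yyG]
    exact ((Lev_one.add_single h1 a).add_single h2 _).add_single (h1.trans h2) _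
  · rw [yyG_inv hσ hc hi hb (yy_neg_cond hσ hb), mt_yyG]
    exact ((Lev_one.add_single h1 _).add_single h2 _).add_single (h1.trans h2) _

variable {G : Type*} [Group G] {pr : SUJ σ n →* G}

theorem pr_norm {U' : Subgroup (SUJ σ n)} {s : SUJ σ n} (h1 : ∀ u ∈ U', s * u * s⁻¹ ∈ U') (h2 : ∀ u ∈ U', s⁻¹ * u * s ∈ U') :
    pr s ∈ Subgroup.normalizer ((U'.map pr : Subgroup G) : Set G) := by
  refine mem_normalizer_of_conj ?_ ?_
  · rintro _ ⟨u, hu, rfl⟩
    exact ⟨_, h1 u hu, by simp only [map_mul, map_inv]⟩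
  · rintro _ ⟨u, hu, rfl⟩
    exact ⟨_, h2 u hu, by simp only [map_mul, map_inv]⟩

theorem LG_norm {hφ : Monotone φ} {g : SUJ σ n} (hg : LG φ g) : pr g ∈ Subgroup.normalizer (((RU σ φ hφ).map pr : Subgroup G) : Set G) := by
  refine pr_norm (fun u hu => RU_lev hg hu) (fun u hu => ?_)
  have := RU_lev hg.inv hu
  rwa [inv_inv] at this

theorem UJ_norm_RU {hφ : Monotone φ} {v : SUJ σ n} (hv : v ∈ UJ σ n) : pr v ∈ Subgroup.normalizer (((RU σ φ hφ).map pr : Subgroup G) : Set G) := by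
  refine pr_norm (fun u hu => RU_conj hv hu) (fun u hu => ?_)
  have := RU_conj ((UJ σ n).inv_mem hv) hu
  rwa [inv_inv] at this

theorem comm_of_pr (hF : UFld σ) (hn : 2 ≤ n) (hker : ∀ x, pr x = 1 ↔ x ∈ Subgroup.center (SUJ σ n)) {v r : SUJ σ n} (hv : v ∈ UJ σ n) (hr : r ∈ UJ σ n)
    (hc : pr v * pr r = pr r * pr v) : v * r = r * v := by
  rw [← map_mul, ← map_mul] at hc
  obtain ⟨c, hc₀⟩ := eq_scalar_of_pr hF hn hker hc
  have hvr := UJ_diag ((UJ σ n).mul_mem hv hr)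
  have hrv := UJ_diag ((UJ σ n).mul_mem hr hv)
  obtain ⟨i₀, -⟩ : ∃ i₀ : Fin n, (i₀ : ℕ) = 0 := ⟨⟨0, by omega⟩, rfl⟩
  have h1 := congrFun (congrFun hc₀ i₀) i₀
  rw [Matrix.smul_apply, hrv, hvr, smul_eq_mul, mul_one] at h1
  apply mt_inj
  rw [hc₀, ← h1, one_smul]

/-- The generation criterion. -/
theorem gen_of_closure {p : ℕ} [Fact p.Prime] (hφ : Monotone φ) {x : SUJ σ n}
    (hcen : ∀ y ∈ (UJ σ n).map pr, (∀ r ∈ (RU σ φ hφ).map pr, y * r = r * y) → y ∈ (RU σ φ hφ).map pr)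
    (hN : pr x ∈ Subgroup.normalizer (((UJ σ n).map pr : Subgroup G) : Set G))
    (hx : x ∈ Subgroup.closure {g : SUJ σ n | (LG φ g ∨ g ∈ UJ σ n) ∧ ∃ k : ℕ, g ^ p ^ k = 1}) : pr x ∈ GGen p ((UJ σ n).map pr) := by
  right
  refine ⟨hN, (RU σ φ hφ).map pr, Subgroup.map_mono RU_le, ?_, hcen, ?_⟩
  · rintro _ ⟨u, hu, rfl⟩
    exact UJ_norm_RU hu
  · have h1 : Subgroup.closure {g : SUJ σ n | (LG φ g ∨ g ∈ UJ σ n) ∧ ∃ k : ℕ, g ^ p ^ k = 1} ≤
        (Subgroup.closure {g : G | g ∈ Subgroup.normalizer (((RU σ φ hφ).map pr : Subgroup G) : Set G) ∧ ∃ k : ℕ, orderOf g = p ^ k}).comap pr := by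
      rw [Subgroup.closure_le]
      rintro g ⟨hg, k, hk⟩
      refine Subgroup.subset_closure ⟨?_, ?_⟩
      · rcases hg with hg | hg
        · exact LG_norm hg
        · exact UJ_norm_RU hg
      · have h2 : (pr g) ^ p ^ k = 1 := by rw [← map_pow, hk, map_one]
        obtain ⟨j, -, hj⟩ := (Nat.dvd_prime_pow Fact.out).1 (orderOf_dvd_of_pow_eq_one h2)
        exact ⟨j, hj⟩
    exact h1 hx

/-- Block functions. -/
def ph1 (d : ℕ) (i : Fin n) : ℕ := (i : ℕ) - (if d ≤ i then 1 else 0)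

/-- Block functions. -/
def ph2 (d₁ d₂ : ℕ) (i : Fin n) : ℕ := (i : ℕ) - (if d₁ ≤ i then 1 else 0) - (if d₂ ≤ i then 1 else 0)

theorem ph1_mono (d : ℕ) : Monotone (ph1 d : Fin n → ℕ) := by
  intro i j h
  have h1 := Fin.le_def.1 h
  unfold ph1
  split_ifs <;> omega

theorem ph2_mono {d₁ d₂ : ℕ} (h : d₁ < d₂) : Monotone (ph2 d₁ d₂ : Fin n → ℕ) := by
  intro i j hij
  have h1 := Fin.le_def.1 hij
  unfold ph2
  split_ifs <;> omega

theorem UniT.blk_of {M : Matrix (Fin n) (Fin n) K} (hM : UniT M) (h : ∀ i j, φ i = φ j → i < j → M i j = 0) : Blk φ M := by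
  intro i j hij
  by_cases h1 : j ≤ i
  · exact hM i j h1
  · have h2 := not_le.1 h1
    rw [h i j hij h2, Matrix.one_apply_ne (ne_of_lt h2)]

theorem centric_short (hF : UFld σ) (hn : 2 ≤ n) (hker : ∀ x, pr x = 1 ↔ x ∈ Subgroup.center (SUJ σ n)) {r r' : Fin n} (hr : (r' : ℕ) = r + 1) (hlt : r' < r'.rev)
    (hφ : Monotone (ph2 (r' : ℕ) (r.rev : ℕ) : Fin n → ℕ)) :
    ∀ y ∈ (UJ σ n).map pr, (∀ x ∈ (RU σ (ph2 (r' : ℕ) (r.rev : ℕ)) hφ).map pr, y * x = x * y) → y ∈ (RU σ (ph2 (r' : ℕ) (r.rev : ℕ)) hφ).map pr := by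
  rintro _ ⟨v, hv, rfl⟩ hc
  obtain ⟨b₀, hb0, hb1⟩ := hF.tz
  have hi : r' ≠ r'.rev := ne_of_lt hlt
  have hrv := val_rev' r
  have hrv' := val_rev' r'
  have hlt2 := Fin.lt_def.1 hlt
  have hT : llG hi hb1 ∈ RU σ (ph2 (r' : ℕ) (r.rev : ℕ)) hφ := by
    refine ⟨ll_mem_UJ hi hlt hb1, ?_⟩
    rw [mt_llG]
    intro i j hij
    rw [llM, Matrix.add_apply, Matrix.single_apply, if_neg, add_zero]
    rintro ⟨rfl, rfl⟩
    unfold ph2 at hij
    split_ifs at hij <;> omega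
  have h1 := comm_of_pr hF hn hker hv hT.1 (hc _ ⟨_, hT, rfl⟩)
  have h2 := congrArg mt h1
  rw [mt_mul, mt_mul, mt_llG] at h2
  unfold llM at h2
  have h3 := comm_of_one_add h2
  refine ⟨v, ⟨hv, (UJ_uni hv).blk_of fun i j hij hlt3 => ?_⟩, rfl⟩
  have hlt4 := Fin.lt_def.1 hlt3
  have hval : (r' : ℕ) + r'.rev + 1 = n := by omega
  have hcase : (i = r ∧ j = r') ∨ (i = r'.rev ∧ j = r.rev) := by
    unfold ph2 at hij
    have : ((i : ℕ) = r ∧ (j : ℕ) = r') ∨ ((i : ℕ) = r'.rev ∧ (j : ℕ) = r.rev) := by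
      split_ifs at hij <;> omega
    rcases this with ⟨h5, h6⟩ | ⟨h5, h6⟩
    · exact Or.inl ⟨Fin.ext h5, Fin.ext h6⟩
    · exact Or.inr ⟨Fin.ext h5, Fin.ext h6⟩
  rcases hcase with ⟨rfl, rfl⟩ | ⟨rfl, rfl⟩
  · have h4 := congrFun (congrFun h3 i) j.rev
    rw [Matrix.mul_single_apply_same, Matrix.single_mul_apply_of_ne _ _ _ _ _ (fne (by omega))] at h4
    exact (mul_eq_zero.1 h4).resolve_right hb0
  · have h4 := congrFun (congrFun h3 r') r.rev
    rw [Matrix.single_mul_apply_same, Matrix.mul_single_apply_of_ne _ _ _ _ _ (fne (by omega))] at h4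
    exact (mul_eq_zero.1 h4.symm).resolve_left hb0

theorem centric_even (hF : UFld σ) (hn : 2 ≤ n) (hker : ∀ x, pr x = 1 ↔ x ∈ Subgroup.center (SUJ σ n)) {s a : Fin n} (hs : (a : ℕ) = s + 1) (hn2 : (a : ℕ) * 2 + 2 = n)
    (hφ : Monotone (ph1 ((a : ℕ) + 1) : Fin n → ℕ)) :
    ∀ y ∈ (UJ σ n).map pr, (∀ x ∈ (RU σ (ph1 ((a : ℕ) + 1)) hφ).map pr, y * x = x * y) → y ∈ (RU σ (ph1 ((a : ℕ) + 1)) hφ).map pr := by
  rintro _ ⟨v, hv, rfl⟩ hc
  have hσ := hF.inv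
  have hsr := val_rev' s
  have har := val_rev' a
  have hS : SR s a := ⟨fne (by omega), fne (by omega), fne (by omega), fne (by omega)⟩
  have hlt : s < a := by
    rw [Fin.lt_def]
    omega
  have hT : xmG hσ hS 1 ∈ RU σ (ph1 ((a : ℕ) + 1)) hφ := by
    refine ⟨xm_mem_UJ hσ hS hlt 1, ?_⟩
    rw [mt_xmG]
    intro i j hij
    unfold xmM
    rw [Matrix.add_apply, Matrix.add_apply, Matrix.single_apply, Matrix.single_apply, if_neg, if_neg, add_zero, add_zero]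
    · rintro ⟨rfl, rfl⟩
      unfold ph1 at hij
      split_ifs at hij <;> omega
    · rintro ⟨rfl, rfl⟩
      unfold ph1 at hij
      split_ifs at hij <;> omega
  have h1 := comm_of_pr hF hn hker hv hT.1 (hc _ ⟨_, hT, rfl⟩)
  have h2 := congrArg mt h1
  rw [mt_mul, mt_mul, mt_xmG] at h2
  unfold xmM at h2
  rw [add_assoc] at h2
  have h3 := comm_of_one_add h2
  refine ⟨v, ⟨hv, (UJ_uni hv).blk_of fun i j hij hlt3 => ?_⟩, rfl⟩
  have hlt4 := Fin.lt_def.1 hlt3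
  have hcase : i = a ∧ j = a.rev := by
    unfold ph1 at hij
    have : (i : ℕ) = a ∧ (j : ℕ) = a.rev := by
      split_ifs at hij <;> omega
    exact ⟨Fin.ext this.1, Fin.ext this.2⟩
  obtain ⟨rfl, rfl⟩ := hcase
  have h4 := congrFun (congrFun h3 i) s.rev
  rw [mul_add, add_mul, Matrix.add_apply, Matrix.add_apply, Matrix.mul_single_apply_of_ne _ _ _ _ _ (fne (by omega)), Matrix.mul_single_apply_same,
    Matrix.single_mul_apply_of_ne _ _ _ _ _ (fne (by omega)), Matrix.single_mul_apply_of_ne _ _ _ _ _ (fne (by omega))] at h4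
  simpa using h4

theorem centric_odd (hF : UFld σ) (hn : 2 ≤ n) (hker : ∀ x, pr x = 1 ↔ x ∈ Subgroup.center (SUJ σ n)) {s a : Fin n} (hs : (a : ℕ) = s + 1) (hn2 : (a : ℕ) * 2 + 3 = n)
    (hφ : Monotone (ph2 ((a : ℕ) + 1) ((a : ℕ) + 2) : Fin n → ℕ)) :
    ∀ y ∈ (UJ σ n).map pr, (∀ x ∈ (RU σ (ph2 ((a : ℕ) + 1) ((a : ℕ) + 2)) hφ).map pr, y * x = x * y) → y ∈ (RU σ (ph2 ((a : ℕ) + 1) ((a : ℕ) + 2)) hφ).map pr := by
  rintro _ ⟨v, hv, rfl⟩ hc
  have hσ := hF.inv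
  have hsr := val_rev' s
  have har := val_rev' a
  have hS : SR s a := ⟨fne (by omega), fne (by omega), fne (by omega), fne (by omega)⟩
  have hlt : s < a := by
    rw [Fin.lt_def]
    omega
  have hT : xmG hσ hS 1 ∈ RU σ (ph2 ((a : ℕ) + 1) ((a : ℕ) + 2)) hφ := by
    refine ⟨xm_mem_UJ hσ hS hlt 1, ?_⟩
    rw [mt_xmG]
    intro i j hij
    unfold xmM
    rw [Matrix.add_apply, Matrix.add_apply, Matrix.single_apply, Matrix.single_apply, if_neg, if_neg, add_zero, add_zero]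
    · rintro ⟨rfl, rfl⟩
      unfold ph2 at hij
      split_ifs at hij <;> omega
    · rintro ⟨rfl, rfl⟩
      unfold ph2 at hij
      split_ifs at hij <;> omega
  have h1 := comm_of_pr hF hn hker hv hT.1 (hc _ ⟨_, hT, rfl⟩)
  have h2 := congrArg mt h1
  rw [mt_mul, mt_mul, mt_xmG] at h2
  unfold xmM at h2
  rw [add_assoc] at h2
  have h3 := comm_of_one_add h2
  refine ⟨v, ⟨hv, (UJ_uni hv).blk_of fun i j hij hlt3 => ?_⟩, rfl⟩
  have hlt4 := Fin.lt_def.1 hlt3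
  have hcase : ((i : ℕ) = a ∧ (j : ℕ) = a + 1) ∨ ((i : ℕ) = a + 1 ∧ (j : ℕ) = a + 2) ∨ ((i : ℕ) = a ∧ (j : ℕ) = a + 2) := by
    unfold ph2 at hij
    split_ifs at hij <;> omega
  rcases hcase with ⟨h5, h6⟩ | ⟨h5, h6⟩ | ⟨h5, h6⟩
  · have h4 := congrFun (congrFun h3 s) j
    rw [mul_add, add_mul, Matrix.add_apply, Matrix.add_apply, Matrix.mul_single_apply_of_ne _ _ _ _ _ (fne (by omega)), Matrix.mul_single_apply_of_ne _ _ _ _ _ (fne (by omega)),
      Matrix.single_mul_apply_same, Matrix.single_mul_apply_of_ne _ _ _ _ _ (fne (by omega))] at h4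
    have h7 : i = a := Fin.ext h5
    rw [h7]
    simpa using h4.symm
  · have h4 := congrFun (congrFun h3 i) s.rev
    have h7 : j = a.rev := Fin.ext (by omega)
    rw [mul_add, add_mul, Matrix.add_apply, Matrix.add_apply, Matrix.mul_single_apply_of_ne _ _ _ _ _ (fne (by omega)), Matrix.mul_single_apply_same,
      Matrix.single_mul_apply_of_ne _ _ _ _ _ (fne (by omega)), Matrix.single_mul_apply_of_ne _ _ _ _ _ (fne (by omega))] at h4
    rw [h7]
    simpa using h4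
  · have h4 := congrFun (congrFun h3 i) s.rev
    have h7 : j = a.rev := Fin.ext (by omega)
    rw [mul_add, add_mul, Matrix.add_apply, Matrix.add_apply, Matrix.mul_single_apply_of_ne _ _ _ _ _ (fne (by omega)), Matrix.mul_single_apply_same,
      Matrix.single_mul_apply_of_ne _ _ _ _ _ (fne (by omega)), Matrix.single_mul_apply_of_ne _ _ _ _ _ (fne (by omega))] at h4
    rw [h7]
    simpa using h4

end F

end Cfsg.Agent.H25
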