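import Cfsg.Agent.Lib.H25.SimU5
set_option autoImplicit false
set_option linter.style.haveILetI false

/-! The fusion system of `PSU_n` in the defining characteristic: block embeddings and torus elements. -/

namespace Cfsg.Agent.H25

open Cfsg Matrix
open scoped MatrixGroups

variable {K : Type*} [Field K] {n : ℕ} {σ : K →+* K}

section Emb
variable {k : ℕ}

/-- The inclusion of a set of coordinates. -/
def Fm (K : Type*) [Field K] (f : Fin k → Fin n) : Matrix (Fin n) (Fin k) K := Matrix.of fun i a => if i = f a then 1 else 0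

theorem Fm_t_mul {f : Fin k → Fin n} (hf : Function.Injective f) : (Fm K f)ᵀ * Fm K f = 1 := by
  ext a b
  rw [Matrix.mul_apply]
  simp only [transpose_apply, Fm, Matrix.of_apply]
  rw [Finset.sum_eq_single (f a)]
  · rw [if_pos rfl, one_mul, Matrix.one_apply]
    exact if_congr hf.eq_iff rfl rfl
  · intro i _ hi
    rw [if_neg hi, zero_mul]
  · simp

/-- The image of a matrix on the coordinates. -/
def io (f : Fin k → Fin n) (X : Matrix (Fin k) (Fin k) K) : Matrix (Fin n) (Fin n) K := Fm K f * X * (Fm K f)ᵀ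

theorem io_add (f : Fin k → Fin n) (X Y : Matrix (Fin k) (Fin k) K) : io f (X + Y) = io f X + io f Y := by
  unfold io
  rw [Matrix.mul_add, Matrix.add_mul]

theorem io_mul {f : Fin k → Fin n} (hf : Function.Injective f) (X Y : Matrix (Fin k) (Fin k) K) : io f (X * Y) = io f X * io f Y := by
  unfold io
  calc Fm K f * (X * Y) * (Fm K f)ᵀ = Fm K f * (X * ((Fm K f)ᵀ * Fm K f) * Y) * (Fm K f)ᵀ := by rw [Fm_t_mul hf, Matrix.mul_one]
    _ = _ := by simp only [Matrix.mul_assoc]

theorem io_single (f : Fin k → Fin n) (a b : Fin k) (t : K) : io f (Matrix.single a b t) = Matrix.single (f a) (f b) t := by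
  ext x y
  unfold io
  rw [Matrix.mul_apply]
  have h1 : ∀ l, (Fm K f * Matrix.single a b t) x l = if l = b then (if x = f a then t else 0) else 0 := by
    intro l
    rw [Matrix.mul_apply, Finset.sum_eq_single a]
    · rw [Matrix.single_apply]
      simp only [Fm, Matrix.of_apply, true_and]
      by_cases h2 : l = b
      · subst h2
        by_cases h3 : x = f a <;> simp [h3]
      · have h3 : ¬ (b = l) := fun e => h2 e.symm
        simp [h2, h3]
    · intro c _ hc
      rw [Matrix.single_apply, if_neg (fun e => hc e.1.symm), mul_zero]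
    · simp
  have h2 : ∀ l, (Fm K f)ᵀ l y = if y = f l then 1 else 0 := fun l => rfl
  simp only [h1, h2]
  rw [Finset.sum_eq_single b]
  · rw [if_pos rfl, Matrix.single_apply]
    by_cases h2 : x = f a
    · by_cases h3 : y = f b
      · simp [h2, h3]
      · have h4 : ¬ (f b = y) := fun e => h3 e.symm
        simp [h2, h3, h4]
    · have h4 : ¬ (f a = x) := fun e => h2 e.symm
      simp [h2, h4]
  · intro l _ hl
    rw [if_neg hl, zero_mul]
  · simp

/-- The block embedding. -/
def emb (f : Fin k → Fin n) (A : Matrix (Fin k) (Fin k) K) : Matrix (Fin n) (Fin n) K := 1 + io f (A - 1)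

theorem emb_mul {f : Fin k → Fin n} (hf : Function.Injective f) (A B : Matrix (Fin k) (Fin k) K) : emb f (A * B) = emb f A * emb f B := by
  unfold emb
  have e : A * B - 1 = (A - 1) + (B - 1) + (A - 1) * (B - 1) := by noncomm_ring
  rw [e, io_add, io_add, io_mul hf]
  simp only [mul_add, add_mul, one_mul, mul_one]
  abel

theorem emb_one_add (f : Fin k → Fin n) (X : Matrix (Fin k) (Fin k) K) : emb f (1 + X) = 1 + io f X := by
  unfold emb
  rw [add_sub_cancel_left]

end Emb

/-! ### The four by four computation -/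

/-- A shape. -/
def X4 (t u : K) : Matrix (Fin 4) (Fin 4) K := 1 + (Matrix.single 0 1 t + Matrix.single 2 3 u)

/-- A shape. -/
def Y4 (t u : K) : Matrix (Fin 4) (Fin 4) K := 1 + (Matrix.single 1 0 t + Matrix.single 3 2 u)

/-- A shape. -/
def D4 (a b c d : K) : Matrix (Fin 4) (Fin 4) K :=
  1 + (Matrix.single 0 0 (a - 1) + Matrix.single 1 1 (b - 1) + Matrix.single 2 2 (c - 1) + Matrix.single 3 3 (d - 1))

theorem prod4 {s S : K} (hs : s ≠ 0) (hS : S ≠ 0) :
    X4 (s - 1) (1 - S) * Y4 1 (-1) * X4 (s⁻¹ - 1) (1 - S⁻¹) * Y4 (-s) S = D4 s s⁻¹ S S⁻¹ := by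
  ext i j
  fin_cases i <;> fin_cases j <;>
    simp [X4, Y4, D4, Matrix.mul_apply, Fin.sum_univ_four, Matrix.one_apply, Matrix.single_apply] <;> (try field_simp) <;> (try ring_nf) <;> (try simp)

theorem emb_X4 (f : Fin 4 → Fin n) (t u : K) : emb f (X4 t u) = 1 + Matrix.single (f 0) (f 1) t + Matrix.single (f 2) (f 3) u := by
  unfold X4
  rw [emb_one_add, io_add, io_single, io_single, add_assoc]

theorem emb_Y4 (f : Fin 4 → Fin n) (t u : K) : emb f (Y4 t u) = 1 + Matrix.single (f 1) (f 0) t + Matrix.single (f 3) (f 2) u := by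
  unfold Y4
  rw [emb_one_add, io_add, io_single, io_single, add_assoc]

theorem emb_D4 (f : Fin 4 → Fin n) (a b c d : K) : emb f (D4 a b c d) =
    1 + Matrix.single (f 0) (f 0) (a - 1) + Matrix.single (f 1) (f 1) (b - 1) + Matrix.single (f 2) (f 2) (c - 1) + Matrix.single (f 3) (f 3) (d - 1) := by
  unfold D4
  rw [emb_one_add, io_add, io_add, io_add, io_single, io_single, io_single, io_single]
  simp only [add_assoc]

/-- A diagonal function with four special positions. -/
def D4f (x0 x1 x2 x3 : Fin n) (a b c d : K) : Fin n → K :=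
  fun i => if i = x0 then a else if i = x1 then b else if i = x2 then c else if i = x3 then d else 1

theorem diag4 {x0 x1 x2 x3 : Fin n} (h01 : x0 ≠ x1) (h02 : x0 ≠ x2) (h03 : x0 ≠ x3) (h12 : x1 ≠ x2) (h13 : x1 ≠ x3) (h23 : x2 ≠ x3) (a b c d : K) :
    1 + Matrix.single x0 x0 (a - 1) + Matrix.single x1 x1 (b - 1) + Matrix.single x2 x2 (c - 1) + Matrix.single x3 x3 (d - 1) =
      diagonal (D4f x0 x1 x2 x3 a b c d) := by
  ext i j
  simp only [Matrix.add_apply, Matrix.single_apply]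
  by_cases hij : i = j
  · subst hij
    rw [Matrix.diagonal_apply_eq, Matrix.one_apply_eq]
    unfold D4f
    by_cases h0 : x0 = i
    · subst h0
      simp [h01, h02, h03, h01.symm, h02.symm, h03.symm]
    · by_cases h1 : x1 = i
      · subst h1
        simp [h01.symm, h12, h13, h01, h12.symm, h13.symm]
      · by_cases h2 : x2 = i
        · subst h2
          simp [h02.symm, h12.symm, h23, h02, h12, h23.symm]
        · by_cases h3 : x3 = i
          · subst h3
            simp [h03.symm, h13.symm, h23.symm, h03, h13, h23]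
          · have h0' : i ≠ x0 := fun e => h0 e.symm
            have h1' : i ≠ x1 := fun e => h1 e.symm
            have h2' : i ≠ x2 := fun e => h2 e.symm
            have h3' : i ≠ x3 := fun e => h3 e.symm
            simp [h0, h1, h2, h3, h0', h1', h2', h3']
  · rw [Matrix.diagonal_apply_ne _ hij, Matrix.one_apply_ne hij]
    have h0 : ∀ x : Fin n, ¬ (x = i ∧ x = j) := fun x e => hij (e.1.symm.trans e.2)
    simp [h0]

theorem inj4 {x0 x1 x2 x3 : Fin n} (h01 : x0 ≠ x1) (h02 : x0 ≠ x2) (h03 : x0 ≠ x3) (h12 : x1 ≠ x2) (h13 : x1 ≠ x3) (h23 : x2 ≠ x3) :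
    Function.Injective ![x0, x1, x2, x3] := by
  intro a b h
  by_contra hab
  fin_cases a <;> fin_cases b <;> simp_all

/-- A torus element in the Levi factor for a pair of adjacent roots. -/
noncomputable def gS (hσ : ∀ x, σ (σ x) = x) {r r' : Fin n} (h : SR r r') (h' : SR r' r) (s : K) : SUJ σ n :=
  xmG hσ h (s - 1) * xmG hσ h' 1 * xmG hσ h (s⁻¹ - 1) * xmG hσ h' (-s)

theorem mt_gS (hσ : ∀ x, σ (σ x) = x) {r r' : Fin n} (h : SR r r') (h' : SR r' r) {s : K} (hs : s ≠ 0) :
    mt (gS hσ h h' s) = diagonal (D4f r r' r'.rev r.rev s s⁻¹ (σ s) (σ s)⁻¹) := by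
  have hS : σ s ≠ 0 := by
    intro e
    apply hs
    have := congrArg σ e
    rwa [hσ, map_zero] at this
  have h01 : r ≠ r' := h.1
  have h02 : r ≠ r'.rev := h.2.1
  have h03 : r ≠ r.rev := h.2.2.1
  have h12 : r' ≠ r'.rev := h.2.2.2
  have h13 : r' ≠ r.rev := h'.2.1
  have h23 : r'.rev ≠ r.rev := fun e => h01 (Fin.rev_injective e).symm
  have hinj := inj4 h01 h02 h03 h12 h13 h23
  have e1 : ∀ t, xmM σ r r' t = emb ![r, r', r'.rev, r.rev] (X4 t (-σ t)) := fun t => by rw [emb_X4]; rfl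
  have e2 : ∀ t, xmM σ r' r t = emb ![r, r', r'.rev, r.rev] (Y4 t (-σ t)) := fun t => by rw [emb_Y4]; rfl
  unfold gS
  rw [mt_mul, mt_mul, mt_mul, mt_xmG, mt_xmG, mt_xmG, mt_xmG, e1, e2, e1, e2, ← emb_mul hinj, ← emb_mul hinj, ← emb_mul hinj]
  have e3 : -σ (s - 1) = 1 - σ s := by
    rw [map_sub, map_one]
    ring
  have e4 : -σ (1 : K) = -1 := by rw [map_one]
  have e5 : -σ (s⁻¹ - 1) = 1 - (σ s)⁻¹ := by
    rw [map_sub, map_one, map_inv₀]
    ring
  have e6 : -σ (-s) = σ s := by rw [map_neg, neg_neg]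
  rw [e3, e4, e5, e6, prod4 hs hS, emb_D4]
  exact diag4 h01 h02 h03 h12 h13 h23 _ _ _ _

/-! ### The even case -/

/-- A shape. -/
def X2 (t : K) : Matrix (Fin 2) (Fin 2) K := 1 + Matrix.single 0 1 t

/-- A shape. -/
def Y2 (t : K) : Matrix (Fin 2) (Fin 2) K := 1 + Matrix.single 1 0 t

/-- A shape. -/
def W2 (b c : K) : Matrix (Fin 2) (Fin 2) K :=
  1 + (Matrix.single 0 0 (-1) + Matrix.single 1 1 (-1) + Matrix.single 0 1 b + Matrix.single 1 0 c)

/-- A shape. -/
def D2 (a b : K) : Matrix (Fin 2) (Fin 2) K := 1 + (Matrix.single 0 0 (a - 1) + Matrix.single 1 1 (b - 1))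

theorem prod2 {b : K} (hb : b ≠ 0) : X2 b * Y2 (-b⁻¹) * X2 b = W2 b (-b⁻¹) := by
  ext i j
  fin_cases i <;> fin_cases j <;>
    simp [X2, Y2, W2, Matrix.mul_apply, Fin.sum_univ_two, Matrix.one_apply, Matrix.single_apply] <;> (try field_simp) <;> (try ring_nf) <;> (try simp)

theorem prod2' (a d b c : K) : D2 a d * W2 b c = W2 (a * b) (d * c) := by
  ext i j
  fin_cases i <;> fin_cases j <;>
    simp [D2, W2, Matrix.mul_apply, Fin.sum_univ_two, Matrix.one_apply, Matrix.single_apply]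

theorem emb_X2 (f : Fin 2 → Fin n) (t : K) : emb f (X2 t) = 1 + Matrix.single (f 0) (f 1) t := by
  unfold X2
  rw [emb_one_add, io_single]

theorem emb_Y2 (f : Fin 2 → Fin n) (t : K) : emb f (Y2 t) = 1 + Matrix.single (f 1) (f 0) t := by
  unfold Y2
  rw [emb_one_add, io_single]

theorem emb_D2 (f : Fin 2 → Fin n) (a b : K) : emb f (D2 a b) = 1 + Matrix.single (f 0) (f 0) (a - 1) + Matrix.single (f 1) (f 1) (b - 1) := by
  unfold D2
  rw [emb_one_add, io_add, io_single, io_single, add_assoc]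

/-- A diagonal function with two special positions. -/
def D2f (x0 x1 : Fin n) (a b : K) : Fin n → K := fun i => if i = x0 then a else if i = x1 then b else 1

theorem diag2 {x0 x1 : Fin n} (h01 : x0 ≠ x1) (a b : K) :
    1 + Matrix.single x0 x0 (a - 1) + Matrix.single x1 x1 (b - 1) = diagonal (D2f x0 x1 a b) := by
  ext i j
  simp only [Matrix.add_apply, Matrix.single_apply]
  by_cases hij : i = j
  · subst hij
    rw [Matrix.diagonal_apply_eq, Matrix.one_apply_eq]
    unfold D2f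
    by_cases h0 : x0 = i
    · subst h0
      simp [h01, h01.symm]
    · by_cases h1 : x1 = i
      · subst h1
        simp [h01.symm, h01]
      · have h0' : i ≠ x0 := fun e => h0 e.symm
        have h1' : i ≠ x1 := fun e => h1 e.symm
        simp [h0, h1, h0', h1']
  · rw [Matrix.diagonal_apply_ne _ hij, Matrix.one_apply_ne hij]
    have h0 : ∀ x : Fin n, ¬ (x = i ∧ x = j) := fun x e => hij (e.1.symm.trans e.2)
    simp [h0]

theorem inj2 {x0 x1 : Fin n} (h01 : x0 ≠ x1) : Function.Injective ![x0, x1] := by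
  intro a b h
  by_contra hab
  fin_cases a <;> fin_cases b <;> simp_all

/-- A Weyl element for the last root in the even case. -/
noncomputable def wE {a : Fin n} (h : a ≠ a.rev) (h' : a.rev ≠ a.rev.rev) {b c : K} (hb : b + σ b = 0) (hc : c + σ c = 0) : SUJ σ n :=
  llG h hb * llG h' hc * llG h hb

theorem mt_wE {a : Fin n} (h : a ≠ a.rev) (h' : a.rev ≠ a.rev.rev) {b c : K} (hb : b + σ b = 0) (hc : c + σ c = 0) (hbc : c = -b⁻¹) (hb0 : b ≠ 0) :
    mt (wE h h' hb hc) = emb ![a, a.rev] (W2 b (-b⁻¹)) := by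
  have hinj := inj2 h
  have e1 : ∀ t : K, llM a t = emb ![a, a.rev] (X2 t) := fun t => by rw [emb_X2]; rfl
  have e2 : ∀ t : K, llM a.rev t = emb ![a, a.rev] (Y2 t) := by
    intro t
    rw [emb_Y2]
    unfold llM
    rw [Fin.rev_rev]
    rfl
  unfold wE
  rw [mt_mul, mt_mul, mt_llG, mt_llG, e1, e2, ← emb_mul hinj, ← emb_mul hinj, hbc, prod2 hb0]

/-- A torus element for the last root in the even case. -/
theorem exists_gE (hF : UFld σ) {a : Fin n} (h : a ≠ a.rev) (h' : a.rev ≠ a.rev.rev) {d : K} (hd : σ d = d) (hd0 : d ≠ 0) :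
    ∃ (b c b₀ c₀ : K) (hb : b + σ b = 0) (hc : c + σ c = 0) (hb₀ : b₀ + σ b₀ = 0) (hc₀ : c₀ + σ c₀ = 0),
      mt (wE h h' hb hc * (wE h h' hb₀ hc₀)⁻¹) = diagonal (D2f a a.rev d d⁻¹) := by
  obtain ⟨b₀, hb0, hb1⟩ := hF.tz
  have hz : ∀ {b : K}, b + σ b = 0 → -b⁻¹ + σ (-b⁻¹) = 0 := by
    intro b hb
    have : σ b = -b := by linear_combination hb
    rw [map_neg, map_inv₀, this, inv_neg]
    ring
  have hb2 : d * b₀ + σ (d * b₀) = 0 := by
    rw [map_mul, hd]
    linear_combination d * hb1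
  have hb3 : d * b₀ ≠ 0 := mul_ne_zero hd0 hb0
  refine ⟨d * b₀, -(d * b₀)⁻¹, b₀, -b₀⁻¹, hb2, hz hb2, hb1, hz hb1, ?_⟩
  have hinj := inj2 h
  have e0 := mt_wE h h' hb1 (hz hb1) rfl hb0
  have e1 := mt_wE h h' hb2 (hz hb2) rfl hb3
  have e2 : diagonal (D2f a a.rev d d⁻¹) * mt (wE h h' hb1 (hz hb1)) = mt (wE h h' hb2 (hz hb2)) := by
    rw [e0, e1, ← diag2 h, ]
    have := emb_D2 (n := n) ![a, a.rev] d d⁻¹
    have e3 : (1 + Matrix.single a a (d - 1) + Matrix.single a.rev a.rev (d⁻¹ - 1) : Matrix (Fin n) (Fin n) K) = emb ![a, a.rev] (D2 d d⁻¹) := this.symm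
    rw [e3, ← emb_mul hinj, prod2']
    congr 2
    · rw [mul_inv]
      field_simp
  rw [mt_mul, ← e2, Matrix.mul_assoc, mt_mul_inv, mul_one]

end Cfsg.Agent.H25
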