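import Cfsg.Agent.Lib.H25.SimU6
set_option autoImplicit false
set_option linter.style.haveILetI false

/-! The fusion system of `PSU_n` in the defining characteristic: torus elements in the odd case. -/

namespace Cfsg.Agent.H25

open Cfsg Matrix
open scoped MatrixGroups

variable {K : Type*} [Field K] {n : ℕ} {σ : K →+* K}

/-- A shape. -/
def X3 (x u y : K) : Matrix (Fin 3) (Fin 3) K := 1 + (Matrix.single 0 1 x + Matrix.single 1 2 u + Matrix.single 0 2 y)

/-- A shape. -/
def L3 (x u y : K) : Matrix (Fin 3) (Fin 3) K := 1 + (Matrix.single 2 1 x + Matrix.single 1 0 u + Matrix.single 2 0 y)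

/-- A shape. -/
def W3 (b c d : K) : Matrix (Fin 3) (Fin 3) K :=
  1 + (Matrix.single 0 0 (-1) + Matrix.single 1 1 (c - 1) + Matrix.single 2 2 (-1) + Matrix.single 0 2 b + Matrix.single 2 0 d)

/-- A shape. -/
def D3 (a b c : K) : Matrix (Fin 3) (Fin 3) K :=
  1 + (Matrix.single 0 0 (a - 1) + Matrix.single 1 1 (b - 1) + Matrix.single 2 2 (c - 1))

theorem prod3 {A a B C : K} (hB : B ≠ 0) (hC : C ≠ 0) (h : B + C + A * a = 0) :
    X3 (-A) a C * L3 (A / C) (-a / B) (1 / B) * X3 (-(A * B / C)) (a * C / B) C = W3 C (-B / C) (1 / B) := by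
  have e0 : A * a = -B - C := by linear_combination h
  ext i j
  fin_cases i <;> fin_cases j <;>
    simp [X3, L3, W3, Matrix.mul_apply, Fin.sum_univ_three, Matrix.one_apply, Matrix.single_apply] <;> field_simp <;> grind

theorem prod3' (a d e b c f : K) : D3 a d e * W3 b c f = W3 (a * b) (d * c) (e * f) := by
  ext i j
  fin_cases i <;> fin_cases j <;>
    simp [D3, W3, Matrix.mul_apply, Fin.sum_univ_three, Matrix.one_apply, Matrix.single_apply]

theorem emb_X3 (f : Fin 3 → Fin n) (x u y : K) : emb f (X3 x u y) = 1 + Matrix.single (f 0) (f 1) x + Matrix.single (f 1) (f 2) u + Matrix.single (f 0) (f 2) y := by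
  unfold X3
  rw [emb_one_add, io_add, io_add, io_single, io_single, io_single]
  simp only [add_assoc]

theorem emb_L3 (f : Fin 3 → Fin n) (x u y : K) : emb f (L3 x u y) = 1 + Matrix.single (f 2) (f 1) x + Matrix.single (f 1) (f 0) u + Matrix.single (f 2) (f 0) y := by
  unfold L3
  rw [emb_one_add, io_add, io_add, io_single, io_single, io_single]
  simp only [add_assoc]

theorem emb_D3 (f : Fin 3 → Fin n) (a b c : K) : emb f (D3 a b c) =
    1 + Matrix.single (f 0) (f 0) (a - 1) + Matrix.single (f 1) (f 1) (b - 1) + Matrix.single (f 2) (f 2) (c - 1) := by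
  unfold D3
  rw [emb_one_add, io_add, io_add, io_single, io_single, io_single]
  simp only [add_assoc]

/-- A diagonal function with three special positions. -/
def D3f (x0 x1 x2 : Fin n) (a b c : K) : Fin n → K :=
  fun i => if i = x0 then a else if i = x1 then b else if i = x2 then c else 1

theorem diag3 {x0 x1 x2 : Fin n} (h01 : x0 ≠ x1) (h02 : x0 ≠ x2) (h12 : x1 ≠ x2) (a b c : K) :
    1 + Matrix.single x0 x0 (a - 1) + Matrix.single x1 x1 (b - 1) + Matrix.single x2 x2 (c - 1) = diagonal (D3f x0 x1 x2 a b c) := by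
  ext i j
  simp only [Matrix.add_apply, Matrix.single_apply]
  by_cases hij : i = j
  · subst hij
    rw [Matrix.diagonal_apply_eq, Matrix.one_apply_eq]
    unfold D3f
    by_cases h0 : x0 = i
    · subst h0
      simp [h01, h02, h01.symm, h02.symm]
    · by_cases h1 : x1 = i
      · subst h1
        simp [h01.symm, h12, h01, h12.symm]
      · by_cases h2 : x2 = i
        · subst h2
          simp [h02.symm, h12.symm, h02, h12]
        · have h0' : i ≠ x0 := fun e => h0 e.symm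
          have h1' : i ≠ x1 := fun e => h1 e.symm
          have h2' : i ≠ x2 := fun e => h2 e.symm
          simp [h0, h1, h2, h0', h1', h2']
  · rw [Matrix.diagonal_apply_ne _ hij, Matrix.one_apply_ne hij]
    have h0 : ∀ x : Fin n, ¬ (x = i ∧ x = j) := fun x e => hij (e.1.symm.trans e.2)
    simp [h0]

theorem inj3 {x0 x1 x2 : Fin n} (h01 : x0 ≠ x1) (h02 : x0 ≠ x2) (h12 : x1 ≠ x2) : Function.Injective ![x0, x1, x2] := by
  intro a b h
  by_contra hab
  fin_cases a <;> fin_cases b <;> simp_all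

/-- A Weyl element in the odd case. -/
theorem exists_wO (hF : UFld σ) {a c : Fin n} (hc : c.rev = c) (ha : a ≠ c) (ha' : a.rev ≠ c) (C : Subgroup (SUJ σ n))
    (h1 : ∀ (x y : K) (h : y + σ y + x * σ x = 0), yyG hF.inv hc ha h ∈ C)
    (h2 : ∀ (x y : K) (h : y + σ y + x * σ x = 0), yyG hF.inv hc ha' h ∈ C) {A B : K} (hB : B ≠ 0) (h : B + σ B + A * σ A = 0) :
    ∃ w ∈ C, mt w = emb ![a, c, a.rev] (W3 (σ B) (-B / σ B) (1 / B)) := by
  have hσ := hF.inv
  have hC : σ B ≠ 0 := by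
    intro e
    apply hB
    have := congrArg σ e
    rwa [hσ, map_zero] at this
  have haa : a ≠ a.rev := ne_rev_of hc ha
  have hinj := inj3 ha haa ha'.symm
  have e1 : ∀ x y : K, yyM σ a c x y = emb ![a, c, a.rev] (X3 x (-σ x) y) := fun x y => by rw [emb_X3]; rfl
  have e2 : ∀ x y : K, yyM σ a.rev c x y = emb ![a, c, a.rev] (L3 x (-σ x) y) := by
    intro x y
    rw [emb_L3]
    unfold yyM
    rw [Fin.rev_rev]
    rfl
  have h3 : σ B + σ (σ B) + (-A) * σ (-A) = 0 := by
    rw [hσ, map_neg]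
    linear_combination h
  have h4 : 1 / B + σ (1 / B) + (A / σ B) * σ (A / σ B) = 0 := by
    rw [map_div₀, map_div₀, hσ, map_one]
    field_simp
    linear_combination h
  have h5 : σ B + σ (σ B) + (-(A * B / σ B)) * σ (-(A * B / σ B)) = 0 := by
    rw [hσ, map_neg, map_div₀, map_mul, hσ]
    field_simp
    linear_combination h
  refine ⟨yyG hσ hc ha h3 * yyG hσ hc ha' h4 * yyG hσ hc ha h5, C.mul_mem (C.mul_mem (h1 _ _ _) (h2 _ _ _)) (h1 _ _ _), ?_⟩
  rw [mt_mul, mt_mul, mt_yyG, mt_yyG, mt_yyG, e1, e2, e1, ← emb_mul hinj, ← emb_mul hinj]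
  have e3 : -σ (-A) = σ A := by rw [map_neg, neg_neg]
  have e4 : -σ (A / σ B) = -σ A / B := by
    rw [map_div₀, hσ]
    ring
  have e5 : -σ (-(A * B / σ B)) = σ A * σ B / B := by
    rw [map_neg, neg_neg, map_div₀, map_mul, hσ]
  rw [e3, e4, e5, prod3 hB hC h]

/-- A torus element in the odd case. -/
theorem exists_gO (hF : UFld σ) {a c : Fin n} (hc : c.rev = c) (ha : a ≠ c) (ha' : a.rev ≠ c) (C : Subgroup (SUJ σ n))
    (h1 : ∀ (x y : K) (h : y + σ y + x * σ x = 0), yyG hF.inv hc ha h ∈ C)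
    (h2 : ∀ (x y : K) (h : y + σ y + x * σ x = 0), yyG hF.inv hc ha' h ∈ C) {s : K} (hs : s ≠ 0) :
    ∃ t ∈ C, mt t = diagonal (D3f a c a.rev s (σ s / s) (σ s)⁻¹) := by
  have hσ := hF.inv
  have hS : σ s ≠ 0 := by
    intro e
    apply hs
    have := congrArg σ e
    rwa [hσ, map_zero] at this
  have haa : a ≠ a.rev := ne_rev_of hc ha
  have hinj := inj3 ha haa ha'.symm
  obtain ⟨A, hA⟩ : ∃ A, σ s + s + A * σ A = 0 := by
    have h3 : σ (-(σ s + s)) = -(σ s + s) := by
      rw [map_neg, map_add, hσ]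
      ring
    obtain ⟨A, hA⟩ := hF.norm _ h3
    exact ⟨A, by rw [hA]; ring⟩
  obtain ⟨A₀, hA₀⟩ : ∃ A₀ : K, 1 + σ 1 + A₀ * σ A₀ = 0 := by
    have h3 : σ (-(1 + σ 1 : K)) = -(1 + σ 1) := by
      simp only [map_neg, map_add, map_one]
    obtain ⟨A, hA⟩ := hF.norm _ h3
    exact ⟨A, by rw [hA]; ring⟩
  have hA' : σ s + σ (σ s) + A * σ A = 0 := by
    rw [hσ]
    exact hA
  obtain ⟨w₁, hw₁, hm₁⟩ := exists_wO hF hc ha ha' C h1 h2 hS hA'
  obtain ⟨w₀, hw₀, hm₀⟩ := exists_wO hF hc ha ha' C h1 h2 (one_ne_zero) hA₀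
  refine ⟨w₁ * w₀⁻¹, C.mul_mem hw₁ (C.inv_mem hw₀), ?_⟩
  have e2 : diagonal (D3f a c a.rev s (σ s / s) (σ s)⁻¹) * mt w₀ = mt w₁ := by
    rw [hm₀, hm₁, ← diag3 ha haa ha'.symm]
    have e3 : (1 + Matrix.single a a (s - 1) + Matrix.single c c (σ s / s - 1) + Matrix.single a.rev a.rev ((σ s)⁻¹ - 1) : Matrix (Fin n) (Fin n) K) =
        emb ![a, c, a.rev] (D3 s (σ s / s) (σ s)⁻¹) := by
      rw [emb_D3]
      rfl
    rw [e3, ← emb_mul hinj, prod3']
    congr 2
    · rw [map_one, hσ, mul_one]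
    · rw [map_one, hσ]
      field_simp
    · field_simp
  rw [mt_mul, ← e2, Matrix.mul_assoc, mt_mul_inv, mul_one]

end Cfsg.Agent.H25
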