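import Cfsg.Agent.Lib.H25.SimU7
set_option autoImplicit false
set_option linter.style.haveILetI false

/-! The fusion system of `PSU_n` in the defining characteristic: the generation criterion. -/

namespace Cfsg.Agent.H25

open Cfsg Matrix
open scoped MatrixGroups

variable {K : Type*} [Field K] [Fintype K] {n : ℕ} {σ : K →+* K}

theorem mt_inv_diag {g : SUJ σ n} {d : Fin n → K} (hg : mt g = diagonal d) (hne : ∀ i, d i ≠ 0) : mt g⁻¹ = diagonal (fun i => (d i)⁻¹) := by
  refine left_inv_eq_right_inv (mt_inv_mul g) ?_
  rw [hg, diagonal_mul_diagonal, ← diagonal_one]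
  congr 1
  funext i
  exact mul_inv_cancel₀ (hne i)

theorem diag_facts (hσ : ∀ x, σ (σ x) = x) {g : SUJ σ n} {d : Fin n → K} (hg : mt g = diagonal d) :
    (∀ i, d i * σ (d i.rev) = 1) ∧ ∏ i, d i = 1 := by
  have hup : ∀ i j, j < i → mt g i j = 0 := by
    intro i j hij
    rw [hg, Matrix.diagonal_apply_ne _ (ne_of_gt hij)]
  have h1 : ∀ i, mt g i i = d i := by
    intro i
    rw [hg, Matrix.diagonal_apply_eq]
  constructor
  · intro i
    have := diag_of_upper hup i
    rwa [h1, h1] at this
  · have := g.1.2
    have h2 : (mt g).det = 1 := this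
    rwa [hg, Matrix.det_diagonal] at h2

/-- Diagonal elements are products of simple ones. -/
theorem torU_mem_of (hF : UFld σ) (hn : 4 ≤ n) (C : Subgroup (SUJ σ n))
    (h1 : ∀ (r r' : Fin n) (_ : (r' : ℕ) = r + 1) (_ : r' < r'.rev) (h : SR r r') (h' : SR r' r) (s : K) (_ : s ≠ 0), gS hF.inv h h' s ∈ C)
    (h2e : ∀ (a : Fin n) (_ : (a : ℕ) * 2 + 2 = n) (d : K) (_ : σ d = d) (_ : d ≠ 0), ∃ t ∈ C, mt t = diagonal (D2f a a.rev d d⁻¹))
    (h2o : ∀ (a c : Fin n) (_ : (a : ℕ) * 2 + 3 = n) (_ : (c : ℕ) = a + 1) (s : K) (_ : s ≠ 0), ∃ t ∈ C, mt t = diagonal (D3f a c a.rev s (σ s / s) (σ s)⁻¹))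
    {g : SUJ σ n} {d : Fin n → K} (hg : mt g = diagonal d) : g ∈ C := by
  have hσ := hF.inv
  have key : ∀ (N k : ℕ), k + N = (n - 2) / 2 → ∀ (g : SUJ σ n) (d : Fin n → K), mt g = diagonal d → (∀ i : Fin n, (i : ℕ) < k → d i = 1) → g ∈ C := by
    intro N
    induction N with
    | zero =>
      intro k hk g d hg hd
      obtain ⟨hd1, hd2⟩ := diag_facts hσ hg
      have hone : ∀ i : Fin n, (i : ℕ) < k → d i.rev = 1 := by
        intro i hi
        have := sig_of_hf hσ hd1 i
        rw [this, hd i hi, map_one, inv_one]
      have hne := ne_zero_of_hf hd1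
      rcases Nat.even_or_odd' n with ⟨m, hm | hm⟩
      · -- the even case
        have hk2 : k * 2 + 2 = n := by omega
        obtain ⟨a, ha⟩ : ∃ a : Fin n, (a : ℕ) = k := ⟨⟨k, by omega⟩, rfl⟩
        have har := val_rev' a
        have haa : a ≠ a.rev := fne (by omega)
        have hrest : ∀ c : Fin n, c ≠ a ∧ c ≠ a.rev → d c = 1 := by
          rintro c ⟨hc1, hc2⟩
          have hcr := val_rev' c
          by_cases hlt : (c : ℕ) < k
          · exact hd c hlt
          · have h3 : (c.rev : ℕ) < k := by
              have h4 : (c : ℕ) ≠ a := fun e => hc1 (Fin.ext e)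
              have h5 : (c : ℕ) ≠ a.rev := fun e => hc2 (Fin.ext e)
              omega
            have := hone c.rev h3
            rwa [Fin.rev_rev] at this
        have hprod : d a * d a.rev = 1 := by
          rw [← hd2]
          exact (Finset.prod_eq_mul a a.rev haa (fun c _ hc => hrest c hc) (by simp) (by simp)).symm
        have hrev : d a.rev = (d a)⁻¹ := eq_inv_of_mul_eq_one_right hprod
        have hfix : σ (d a) = d a := by
          have h3 := hd1 a
          rw [hrev, map_inv₀] at h3
          have h4 : σ (d a) ≠ 0 := by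
            intro e
            rw [e, _root_.inv_zero, mul_zero] at h3
            exact zero_ne_one h3
          field_simp at h3
          exact h3.symm
        obtain ⟨t, ht, hm⟩ := h2e a (by omega) (d a) hfix (hne a)
        have : g = t := by
          apply mt_inj
          rw [hg, hm]
          congr 1
          funext c
          unfold D2f
          by_cases hc1 : c = a
          · rw [if_pos hc1, hc1]
          · by_cases hc2 : c = a.rev
            · rw [if_neg hc1, if_pos hc2, hc2, hrev]
            · rw [if_neg hc1, if_neg hc2, hrest c ⟨hc1, hc2⟩]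
        rw [this]
        exact ht
      · -- the odd case
        have hk2 : k * 2 + 3 = n := by omega
        obtain ⟨a, ha⟩ : ∃ a : Fin n, (a : ℕ) = k := ⟨⟨k, by omega⟩, rfl⟩
        obtain ⟨c, hc⟩ : ∃ c : Fin n, (c : ℕ) = k + 1 := ⟨⟨k + 1, by omega⟩, rfl⟩
        have har := val_rev' a
        have hcc : c.rev = c := Fin.ext (by have := val_rev' c; omega)
        have h01 : a ≠ c := fne (by omega)
        have h02 : a ≠ a.rev := fne (by omega)
        have h12 : c ≠ a.rev := fne (by omega)
        have hrest : ∀ e : Fin n, e ≠ a → e ≠ c → e ≠ a.rev → d e = 1 := by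
          intro e he1 he2 he3
          have hcr := val_rev' e
          have h4 : (e : ℕ) ≠ a := fun e' => he1 (Fin.ext e')
          have h5 : (e : ℕ) ≠ c := fun e' => he2 (Fin.ext e')
          have h6 : (e : ℕ) ≠ a.rev := fun e' => he3 (Fin.ext e')
          by_cases hlt : (e : ℕ) < k
          · exact hd e hlt
          · have h3 : (e.rev : ℕ) < k := by omega
            have := hone e.rev h3
            rwa [Fin.rev_rev] at this
        have hprod : d a * d c * d a.rev = 1 := by
          rw [← hd2]
          have hsub : ({a, c, a.rev} : Finset (Fin n)) ⊆ Finset.univ := Finset.subset_univ _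
          rw [← Finset.prod_subset hsub (fun e _ he => by
            simp only [Finset.mem_insert, Finset.mem_singleton, not_or] at he
            exact hrest e he.1 he.2.1 he.2.2)]
          rw [Finset.prod_insert (by simp [h01, h02]), Finset.prod_insert (by simp [h12]), Finset.prod_singleton, mul_assoc]
        have hrev := sig_of_hf hσ hd1 a
        have hS : σ (d a) ≠ 0 := by
          intro e
          apply hne a
          have := congrArg σ e
          rwa [hσ, map_zero] at this
        have hmid : d c = σ (d a) / d a := by
          rw [hrev] at hprod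
          have := hne a
          field_simp at hprod ⊢
          exact hprod
        obtain ⟨t, ht, hm⟩ := h2o a c (by omega) (by omega) (d a) (hne a)
        have : g = t := by
          apply mt_inj
          rw [hg, hm]
          congr 1
          funext e
          unfold D3f
          by_cases hc1 : e = a
          · rw [if_pos hc1, hc1]
          · by_cases hc2 : e = c
            · rw [if_neg hc1, if_pos hc2, hc2, hmid]
            · by_cases hc3 : e = a.rev
              · rw [if_neg hc1, if_neg hc2, if_pos hc3, hc3, hrev]
              · rw [if_neg hc1, if_neg hc2, if_neg hc3, hrest e hc1 hc2 hc3]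
        rw [this]
        exact ht
    | succ N IH =>
      intro k hk g d hg hd
      obtain ⟨hd1, hd2⟩ := diag_facts hσ hg
      have hne := ne_zero_of_hf hd1
      have hk2 : k + 1 + 1 ≤ (n - 2) / 2 + 1 := by omega
      have hk3 : (k + 1) * 2 + 2 ≤ n := by omega
      obtain ⟨r, hr⟩ : ∃ r : Fin n, (r : ℕ) = k := ⟨⟨k, by omega⟩, rfl⟩
      obtain ⟨r', hr'⟩ : ∃ r' : Fin n, (r' : ℕ) = k + 1 := ⟨⟨k + 1, by omega⟩, rfl⟩
      have hrv := val_rev' r
      have hrv' := val_rev' r'
      have hlt : r' < r'.rev := by
        rw [Fin.lt_def]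
        omega
      have hS : SR r r' := ⟨fne (by omega), fne (by omega), fne (by omega), fne (by omega)⟩
      have hS' : SR r' r := ⟨fne (by omega), fne (by omega), fne (by omega), fne (by omega)⟩
      have hgS := h1 r r' (by omega) hlt hS hS' (d r) (hne r)
      have hm := mt_gS hσ hS hS' (hne r)
      have hSne : σ (d r) ≠ 0 := by
        intro e
        apply hne r
        have := congrArg σ e
        rwa [hσ, map_zero] at this
      have hne2 : ∀ i, D4f r r' r'.rev r.rev (d r) (d r)⁻¹ (σ (d r)) (σ (d r))⁻¹ i ≠ 0 := by
        intro i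
        unfold D4f
        split_ifs
        · exact hne r
        · exact inv_ne_zero (hne r)
        · exact hSne
        · exact inv_ne_zero hSne
        · exact one_ne_zero
      have hinv := mt_inv_diag hm hne2
      have h3 : g * (gS hσ hS hS' (d r))⁻¹ ∈ C := by
        refine IH (k + 1) (by omega) _ (fun i => d i * (D4f r r' r'.rev r.rev (d r) (d r)⁻¹ (σ (d r)) (σ (d r))⁻¹ i)⁻¹) ?_ ?_
        · rw [mt_mul, hg, hinv, diagonal_mul_diagonal]
        · intro i hi
          by_cases hik : (i : ℕ) = k
          · have : i = r := Fin.ext (by omega)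
            subst this
            simp only [D4f, if_true]
            exact mul_inv_cancel₀ (hne i)
          · have h4 : (i : ℕ) < k := by omega
            have h5 : i ≠ r := fne (by omega)
            have h6 : i ≠ r' := fne (by omega)
            have h7 : i ≠ r'.rev := fne (by omega)
            have h8 : i ≠ r.rev := fne (by omega)
            simp only [D4f, h5, h6, h7, h8, if_false, inv_one, mul_one]
            exact hd i h4
      have h4 := C.mul_mem h3 hgS
      rwa [inv_mul_cancel_right] at h4
  exact key ((n - 2) / 2) 0 (by omega) g d hg (fun i hi => absurd hi (by omega))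

end Cfsg.Agent.H25
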