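import Cfsg.Agent.Lib.H25.SimU8
set_option autoImplicit false
set_option linter.style.haveILetI false

/-! The fusion system of `PSU_n` in the defining characteristic: the generation criterion. -/

namespace Cfsg.Agent.H25

open Cfsg Matrix
open scoped MatrixGroups

variable {K : Type*} [Field K] [Fintype K] {n : ℕ} {σ : K →+* K}

theorem diag_conj_UJ (hσ : ∀ x, σ (σ x) = x) {t u : SUJ σ n} {d : Fin n → K} (ht : mt t = diagonal d) (hu : u ∈ UJ σ n) : t * u * t⁻¹ ∈ UJ σ n := by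
  obtain ⟨hd1, -⟩ := diag_facts hσ ht
  have hne := ne_zero_of_hf hd1
  have hinv := mt_inv_diag ht hne
  rw [mem_UJ]
  intro i j hji
  rw [mt_mul, mt_mul, ht, hinv, Matrix.mul_diagonal, Matrix.diagonal_mul]
  rcases lt_or_eq_of_le hji with h | h
  · rw [UJ_low hu h, Matrix.one_apply_ne (ne_of_gt h)]
    ring
  · subst h
    rw [UJ_diag hu, Matrix.one_apply_eq, mul_one]
    exact mul_inv_cancel₀ (hne j)

variable {G : Type*} [Group G] {pr : SUJ σ n →* G}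

theorem diag_norm (hσ : ∀ x, σ (σ x) = x) {t : SUJ σ n} {d : Fin n → K} (ht : mt t = diagonal d) :
    pr t ∈ Subgroup.normalizer (((UJ σ n).map pr : Subgroup G) : Set G) := by
  refine pr_norm (fun u hu => diag_conj_UJ hσ ht hu) (fun u hu => ?_)
  obtain ⟨hd1, -⟩ := diag_facts hσ ht
  have := diag_conj_UJ hσ (mt_inv_diag ht (ne_zero_of_hf hd1)) hu
  rwa [inv_inv] at this

variable {p : ℕ} [Fact p.Prime] [CharP K p]

/-- The set of generators of the closure for a block system. -/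
abbrev SL' (p : ℕ) (σ : K →+* K) (n : ℕ) (φ : Fin n → ℕ) : Set (SUJ σ n) := {g : SUJ σ n | (LG φ g ∨ g ∈ UJ σ n) ∧ ∃ k : ℕ, g ^ p ^ k = 1}

theorem xm_mem_SL (hσ : ∀ x, σ (σ x) = x) (hn : 0 < n) {φ : Fin n → ℕ} {i j : Fin n} (h : SR i j) (t : K) (h1 : φ i = φ j) (h2 : φ j.rev = φ i.rev) :
    xmG hσ h t ∈ SL' p σ n φ :=
  ⟨Or.inl (LG_xm hσ h t h1 h2), 2, pow_of_cube hn _ (xm_cube hσ h t)⟩

theorem ll_mem_SL (hn : 0 < n) {φ : Fin n → ℕ} {i : Fin n} (hi : i ≠ i.rev) {t : K} (ht : t + σ t = 0) (h1 : φ i = φ i.rev) :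
    llG hi ht ∈ SL' p σ n φ :=
  ⟨Or.inl (LG_ll hi ht h1), 2, pow_of_cube hn _ (ll_cube hi ht)⟩

theorem yy_mem_SL (hσ : ∀ x, σ (σ x) = x) (hn : 0 < n) {φ : Fin n → ℕ} {i c : Fin n} (hc : c.rev = c) (hi : i ≠ c) {a b : K} (hb : b + σ b + a * σ a = 0)
    (h1 : φ i = φ c) (h2 : φ c = φ i.rev) : yyG hσ hc hi hb ∈ SL' p σ n φ :=
  ⟨Or.inl (LG_yy hσ hc hi hb h1 h2), 2, pow_of_cube hn _ (yy_cube hσ hc hi hb)⟩

theorem uj_mem_SL {φ : Fin n → ℕ} {u : SUJ σ n} (hu : u ∈ UJ σ n) : u ∈ SL' p σ n φ := by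
  obtain ⟨k, hk⟩ := isPGroup_UJ (p := p) ⟨u, hu⟩
  exact ⟨Or.inr hu, k, congrArg Subtype.val hk⟩

theorem ph2_short {r r' : Fin n} (hr : (r' : ℕ) = r + 1) (hlt : r' < r'.rev) :
    ph2 (r' : ℕ) (r.rev : ℕ) r = ph2 (r' : ℕ) (r.rev : ℕ) r' ∧ ph2 (r' : ℕ) (r.rev : ℕ) r'.rev = ph2 (r' : ℕ) (r.rev : ℕ) r.rev := by
  have h1 := val_rev' r
  have h2 := val_rev' r'
  have h3 := Fin.lt_def.1 hlt
  unfold ph2
  constructor <;> split_ifs <;> omega

theorem gen_short (hF : UFld σ) (hn : 4 ≤ n) (hker : ∀ x, pr x = 1 ↔ x ∈ Subgroup.center (SUJ σ n)) {r r' : Fin n} (hr : (r' : ℕ) = r + 1) (hlt : r' < r'.rev)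
    (h : SR r r') (h' : SR r' r) {s : K} (hs : s ≠ 0) : pr (gS hF.inv h h' s) ∈ GGen p ((UJ σ n).map pr) := by
  have hσ := hF.inv
  have hlt2 : (r' : ℕ) < r.rev := by
    have h1 := val_rev' r
    have h2 := val_rev' r'
    have h3 := Fin.lt_def.1 hlt
    omega
  have hφ := ph2_mono (n := n) hlt2
  obtain ⟨e1, e2⟩ := ph2_short hr hlt
  refine gen_of_closure hφ (centric_short hF (by omega) hker hr hlt hφ) (diag_norm hσ (mt_gS hσ h h' hs)) ?_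
  have hx : ∀ t : K, xmG hσ h t ∈ Subgroup.closure (SL' p σ n (ph2 (r' : ℕ) (r.rev : ℕ))) :=
    fun t => Subgroup.subset_closure (xm_mem_SL hσ (by omega) h t e1 e2)
  have hy : ∀ t : K, xmG hσ h' t ∈ Subgroup.closure (SL' p σ n (ph2 (r' : ℕ) (r.rev : ℕ))) :=
    fun t => Subgroup.subset_closure (xm_mem_SL hσ (by omega) h' t e1.symm e2.symm)
  exact Subgroup.mul_mem _ (Subgroup.mul_mem _ (Subgroup.mul_mem _ (hx _) (hy _)) (hx _)) (hy _)

theorem ph1_even {a : Fin n} (hn2 : (a : ℕ) * 2 + 2 = n) : ph1 ((a : ℕ) + 1) a = ph1 ((a : ℕ) + 1) a.rev := by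
  have h1 := val_rev' a
  unfold ph1
  split_ifs <;> omega

theorem gen_even (hF : UFld σ) (hn : 4 ≤ n) (hker : ∀ x, pr x = 1 ↔ x ∈ Subgroup.center (SUJ σ n)) {a : Fin n} (hn2 : (a : ℕ) * 2 + 2 = n) {d : K} (hd : σ d = d) (hd0 : d ≠ 0) :
    ∃ t, pr t ∈ GGen p ((UJ σ n).map pr) ∧ mt t = diagonal (D2f a a.rev d d⁻¹) := by
  have hσ := hF.inv
  have har := val_rev' a
  have h : a ≠ a.rev := fne (by omega)
  have h' : a.rev ≠ a.rev.rev := by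
    rw [Fin.rev_rev]
    exact h.symm
  obtain ⟨b, c, b₀, c₀, hb, hc, hb₀, hc₀, hm⟩ := exists_gE hF h h' hd hd0
  have hs : (a : ℕ) - 1 < n := by omega
  obtain ⟨s, hss⟩ : ∃ s : Fin n, (s : ℕ) = (a : ℕ) - 1 := ⟨⟨_, hs⟩, rfl⟩
  have hφ := ph1_mono (n := n) ((a : ℕ) + 1)
  have e1 := ph1_even hn2
  refine ⟨_, gen_of_closure hφ (centric_even hF (by omega) hker (s := s) (by omega) hn2 hφ) (diag_norm hσ hm) ?_, hm⟩
  have hx : ∀ (b : K) (hb : b + σ b = 0), llG h hb ∈ Subgroup.closure (SL' p σ n (ph1 ((a : ℕ) + 1))) :=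
    fun b hb => Subgroup.subset_closure (ll_mem_SL (by omega) h hb e1)
  have hy : ∀ (b : K) (hb : b + σ b = 0), llG h' hb ∈ Subgroup.closure (SL' p σ n (ph1 ((a : ℕ) + 1))) := by
    intro b hb
    refine Subgroup.subset_closure (ll_mem_SL (by omega) h' hb ?_)
    rw [Fin.rev_rev]
    exact e1.symm
  have hw : ∀ {b c : K} (hb : b + σ b = 0) (hc : c + σ c = 0), wE h h' hb hc ∈ Subgroup.closure (SL' p σ n (ph1 ((a : ℕ) + 1))) :=
    fun hb hc => Subgroup.mul_mem _ (Subgroup.mul_mem _ (hx _ hb) (hy _ hc)) (hx _ hb)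
  exact Subgroup.mul_mem _ (hw hb hc) (Subgroup.inv_mem _ (hw hb₀ hc₀))

theorem ph2_odd {a c : Fin n} (hn2 : (a : ℕ) * 2 + 3 = n) (hc : (c : ℕ) = a + 1) :
    ph2 ((a : ℕ) + 1) ((a : ℕ) + 2) a = ph2 ((a : ℕ) + 1) ((a : ℕ) + 2) c ∧ ph2 ((a : ℕ) + 1) ((a : ℕ) + 2) c = ph2 ((a : ℕ) + 1) ((a : ℕ) + 2) a.rev := by
  have h1 := val_rev' a
  unfold ph2
  constructor <;> split_ifs <;> omega

theorem gen_odd (hF : UFld σ) (hn : 4 ≤ n) (hker : ∀ x, pr x = 1 ↔ x ∈ Subgroup.center (SUJ σ n)) {a c : Fin n} (hn2 : (a : ℕ) * 2 + 3 = n) (hc : (c : ℕ) = a + 1) {s : K} (hs0 : s ≠ 0) :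
    ∃ t, pr t ∈ GGen p ((UJ σ n).map pr) ∧ mt t = diagonal (D3f a c a.rev s (σ s / s) (σ s)⁻¹) := by
  have hσ := hF.inv
  have har := val_rev' a
  have hcc : c.rev = c := Fin.ext (by have := val_rev' c; omega)
  have h1 : a ≠ c := fne (by omega)
  have h2 : a.rev ≠ c := fne (by omega)
  have hs : (a : ℕ) - 1 < n := by omega
  obtain ⟨s', hss⟩ : ∃ s' : Fin n, (s' : ℕ) = (a : ℕ) - 1 := ⟨⟨_, hs⟩, rfl⟩
  have hφ := ph2_mono (n := n) (d₁ := (a : ℕ) + 1) (d₂ := (a : ℕ) + 2) (by omega)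
  obtain ⟨e1, e2⟩ := ph2_odd hn2 hc
  obtain ⟨t, ht, hm⟩ := exists_gO hF hcc h1 h2 (Subgroup.closure (SL' p σ n (ph2 ((a : ℕ) + 1) ((a : ℕ) + 2))))
    (fun x y h => Subgroup.subset_closure (yy_mem_SL hσ (by omega) hcc h1 h e1 e2))
    (fun x y h => Subgroup.subset_closure (yy_mem_SL hσ (by omega) hcc h2 h e2.symm (by rw [Fin.rev_rev]; exact e1.symm))) hs0
  exact ⟨t, gen_of_closure hφ (centric_odd hF (by omega) hker (s := s') (by omega) hn2 hφ) (diag_norm hσ hm) ht, hm⟩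

theorem gen_uj (hF : UFld σ) (hn : 4 ≤ n) (hker : ∀ x, pr x = 1 ↔ x ∈ Subgroup.center (SUJ σ n)) {u : SUJ σ n} (hu : u ∈ UJ σ n) :
    pr u ∈ GGen p ((UJ σ n).map pr) := by
  have hN : pr u ∈ Subgroup.normalizer (((UJ σ n).map pr : Subgroup G) : Set G) := by
    refine pr_norm (fun v hv => ?_) (fun v hv => ?_)
    · exact (UJ σ n).mul_mem ((UJ σ n).mul_mem hu hv) ((UJ σ n).inv_mem hu)
    · exact (UJ σ n).mul_mem ((UJ σ n).mul_mem ((UJ σ n).inv_mem hu) hv) hu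
  obtain ⟨s', hss⟩ : ∃ s' : Fin n, (s' : ℕ) = (n - 2) / 2 - 1 := ⟨⟨_, by omega⟩, rfl⟩
  obtain ⟨a, ha⟩ : ∃ a : Fin n, (a : ℕ) = (n - 2) / 2 := ⟨⟨_, by omega⟩, rfl⟩
  rcases Nat.even_or_odd' n with ⟨m, hm | hm⟩
  · have hφ := ph1_mono (n := n) ((a : ℕ) + 1)
    exact gen_of_closure hφ (centric_even hF (by omega) hker (s := s') (by omega) (by omega) hφ) hN (Subgroup.subset_closure (uj_mem_SL hu))
  · have hφ := ph2_mono (n := n) (d₁ := (a : ℕ) + 1) (d₂ := (a : ℕ) + 2) (by omega)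
    exact gen_of_closure hφ (centric_odd hF (by omega) hker (s := s') (by omega) (by omega) hφ) hN (Subgroup.subset_closure (uj_mem_SL hu))

/-- The generation condition. -/
theorem GCbU (hF : UFld σ) (hn : 4 ≤ n) (hker : ∀ x, pr x = 1 ↔ x ∈ Subgroup.center (SUJ σ n)) (hsurj : Function.Surjective pr) :
    GCb p ((UJ σ n).map pr) := by
  intro g hg
  obtain ⟨s, rfl⟩ := hsurj g
  have hσ := hF.inv
  have hup := upper_of_norm (p := p) hF (by omega) hker hg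
  obtain ⟨d, hd, hdet, u, hu, e⟩ := exists_tor_uni' hσ hup
  rw [e, map_mul]
  refine Subgroup.mul_mem _ ?_ (Subgroup.subset_closure (gen_uj hF hn hker hu))
  refine torU_mem_of (d := d) hF hn ((Subgroup.closure (GGen p ((UJ σ n).map pr))).comap pr) ?_ ?_ ?_ (moM_one d)
  · intro r r' hr hlt h h' t ht
    exact Subgroup.subset_closure (gen_short hF hn hker hr hlt h h' ht)
  · intro a ha d hd hd0
    obtain ⟨t, ht, hm⟩ := gen_even (p := p) hF hn hker ha hd hd0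
    exact ⟨t, Subgroup.subset_closure ht, hm⟩
  · intro a c ha hc s hs
    obtain ⟨t, ht, hm⟩ := gen_odd (p := p) hF hn hker ha hc hs
    exact ⟨t, Subgroup.subset_closure ht, hm⟩

end Cfsg.Agent.H25
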