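import Cfsg.Agent.Lib.H25.AxGT2
import Cfsg.Agent.Lib.H01.SZ2

set_option autoImplicit false

/-! A Tate-type statement for normal subgroups inside the Frattini subgroup. -/

namespace Cfsg.Agent.H25

open Cfsg Cfsg.FusionSystem H13 H14

universe u

section Gp

variable {G : Type*} [Group G] [Finite G] {p : ℕ} [Fact p.Prime]

/-- The Frattini argument with a complement. -/
theorem exists_mul_normalizer_complement {O K L : Subgroup G} [hOn : O.Normal] [hKn : K.Normal] (hOp : IsPGroup p O) (hOK : O ≤ K)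
    (hLK : L ≤ K) (hcop : (Nat.card L).Coprime p) (hK : ∀ k ∈ K, ∃ o ∈ O, ∃ l ∈ L, k = o * l) (hcard : Nat.card O * Nat.card L = Nat.card K)
    (g : G) : ∃ o ∈ O, ∃ n ∈ Subgroup.normalizer (L : Set G), g = o * n := by
  classical
  obtain ⟨N₀, hN₀⟩ : ∃ N₀ : Subgroup K, N₀ = O.subgroupOf K := ⟨_, rfl⟩
  obtain ⟨L₀, hL₀⟩ : ∃ L₀ : Subgroup K, L₀ = L.subgroupOf K := ⟨_, rfl⟩
  haveI hN₀n : N₀.Normal := by
    rw [hN₀]
    exact Subgroup.normal_subgroupOf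
  have hcN : Nat.card N₀ = Nat.card O := by
    rw [hN₀]
    exact Nat.card_congr (Subgroup.subgroupOfEquivOfLe hOK).toEquiv
  have hcL : Nat.card L₀ = Nat.card L := by
    rw [hL₀]
    exact Nat.card_congr (Subgroup.subgroupOfEquivOfLe hLK).toEquiv
  obtain ⟨a, ha⟩ := IsPGroup.iff_card.mp hOp
  have hcop2 : (Nat.card O).Coprime (Nat.card L) := by
    rw [ha]
    exact (Nat.Coprime.pow_left a hcop.symm)
  have hc₀ : Subgroup.IsComplement' N₀ L₀ := by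
    apply Subgroup.isComplement'_of_coprime
    · rw [hcN, hcL, hcard]
    · rw [hcN, hcL]
      exact hcop2
  -- the conjugate complement
  obtain ⟨φ, hφ⟩ : ∃ φ : K →* K, φ = (MulAut.conjNormal g : MulAut K).toMonoidHom := ⟨_, rfl⟩
  have hφv : ∀ k : K, ((φ k : K) : G) = g * k * g⁻¹ := by
    intro k
    rw [hφ]
    rfl
  have hφinj : Function.Injective φ := by
    rw [hφ]
    exact MulEquiv.injective _
  obtain ⟨L₁, hL₁⟩ : ∃ L₁, L₁ = L₀.map φ := ⟨_, rfl⟩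
  have hcL₁ : Nat.card L₁ = Nat.card L₀ := by
    rw [hL₁]
    exact Nat.card_congr (L₀.equivMapOfInjective φ hφinj).toEquiv.symm
  have hc₁ : Subgroup.IsComplement' N₀ L₁ := by
    apply Subgroup.isComplement'_of_coprime
    · rw [hcN, hcL₁, hcL, hcard]
    · rw [hcN, hcL₁, hcL]
      exact hcop2
  have hcopN : (Nat.card N₀).Coprime N₀.index := by
    have h1 : N₀.index = Nat.card L₀ := by
      exact hc₀.symm.index_eq_card
    rw [h1, hcN, hcL]
    exact hcop2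
  have hsolv : Group.IsSolvable N₀ := by
    have hN₀p : IsPGroup p N₀ := by
      rw [hN₀]
      exact hOp.comap_subtype
    haveI : Group.IsNilpotent N₀ := hN₀p.isNilpotent
    infer_instance
  obtain ⟨k, hk⟩ := Cfsg.Agent.H01.sz_conj N₀ hcopN L₀ L₁ hc₀ hc₁ (Or.inl hsolv)
  -- `k⁻¹ g` normalizes `L`
  have hmem : ∀ l ∈ L, (k : G)⁻¹ * g * l * ((k : G)⁻¹ * g)⁻¹ ∈ L := by
    intro l hl
    have hlK := hLK hl
    have h1 : φ ⟨l, hlK⟩ ∈ L₁ := by
      rw [hL₁]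
      exact ⟨⟨l, hlK⟩, by rw [hL₀]; exact Subgroup.mem_subgroupOf.mpr hl, rfl⟩
    rw [← hk] at h1
    obtain ⟨y, hy, e⟩ := h1
    have h2 := congrArg (Subtype.val : K → G) e
    rw [hφv] at h2
    have h2' : (k : G) * (y : G) * (k : G)⁻¹ = g * l * g⁻¹ := h2
    have h4 : (y : G) ∈ L := by
      rw [hL₀] at hy
      exact Subgroup.mem_subgroupOf.mp hy
    have e2 : (k : G)⁻¹ * g * l * ((k : G)⁻¹ * g)⁻¹ = (k : G)⁻¹ * (g * l * g⁻¹) * k := by group
    rw [e2, ← h2']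
    have e3 : (k : G)⁻¹ * ((k : G) * y * (k : G)⁻¹) * k = y := by group
    rw [e3]
    exact h4
  have hn : (k : G)⁻¹ * g ∈ Subgroup.normalizer (L : Set G) := Cfsg.Agent.H13.mem_normalizer_of_map_conj_le (by
    rintro _ ⟨l, hl, rfl⟩
    exact hmem l hl)
  obtain ⟨o, ho, l, hl, e⟩ := hK k k.2
  refine ⟨o, ho, l * ((k : G)⁻¹ * g), ?_, ?_⟩
  · exact Subgroup.mul_mem _ (Subgroup.le_normalizer hl) hn
  · rw [← mul_assoc, ← mul_assoc, ← e]
    group

/-- A normal subgroup inside the Frattini subgroup of a Sylow subgroup with `p`-nilpotent quotient, in a `p`-constrained group. -/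
theorem frob_of_frattini (T : Sylow p G) (hc : Subgroup.centralizer (Cfsg.pCore p G : Set G) ≤ Cfsg.pCore p G) (O : Subgroup G) [hOn : O.Normal]
    (hOΦ : O ≤ (frattini ↥(T : Subgroup G)).map (T : Subgroup G).subtype) (hq : FrobCond p (G ⧸ O)) : FrobCond p G := by
  classical
  have hp : p.Prime := Fact.out
  have hOT : O ≤ (T : Subgroup G) := hOΦ.trans (Subgroup.map_subtype_le _)
  have hOp : IsPGroup p O := T.isPGroup'.to_le hOT
  obtain ⟨Nb, hNbn, hNbc, k, hk⟩ := npc_iff.mp (hasNormalPComplement_of_frobCond hq)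
  obtain ⟨K, hKdef⟩ : ∃ K : Subgroup G, K = Nb.comap (QuotientGroup.mk' O) := ⟨_, rfl⟩
  have hπ1 : ∀ x : G, QuotientGroup.mk' O x = 1 ↔ x ∈ O := fun x => QuotientGroup.eq_one_iff x
  haveI hKn : K.Normal := by
    rw [hKdef]
    exact hNbn.comap _
  have hOK : O ≤ K := by
    intro x hx
    rw [hKdef, Subgroup.mem_comap, (hπ1 x).mpr hx]
    exact Nb.one_mem
  -- complement
  obtain ⟨N₀, hN₀⟩ : ∃ N₀ : Subgroup K, N₀ = O.subgroupOf K := ⟨_, rfl⟩
  haveI hN₀n : N₀.Normal := by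
    rw [hN₀]
    exact Subgroup.normal_subgroupOf
  have hcN : Nat.card N₀ = Nat.card O := by
    rw [hN₀]
    exact Nat.card_congr (Subgroup.subgroupOfEquivOfLe hOK).toEquiv
  have hKidx : K.index = p ^ k := by
    rw [hKdef, ← hk]
    exact Subgroup.index_comap_of_surjective Nb (QuotientGroup.mk'_surjective O)
  have hidx : N₀.index = Nat.card Nb := by
    have e1 : N₀.index * K.index = O.index := by
      rw [hN₀]
      exact Subgroup.relIndex_mul_index hOK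
    have e2 : Nat.card Nb * Nb.index = Nat.card (G ⧸ O) := Subgroup.card_mul_index Nb
    have e3 : O.index = Nat.card (G ⧸ O) := rfl
    rw [hk] at e2
    rw [hKidx, e3, ← e2] at e1
    exact Nat.eq_of_mul_eq_mul_right (pow_pos hp.pos k) e1
  obtain ⟨a, ha⟩ := IsPGroup.iff_card.mp hOp
  have hcopN : (Nat.card N₀).Coprime N₀.index := by
    rw [hcN, hidx, ha]
    exact Nat.Coprime.pow_left a hNbc.symm
  obtain ⟨L₀, hL₀⟩ := Subgroup.exists_right_complement'_of_coprime hcopN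
  obtain ⟨L, hLdef⟩ : ∃ L : Subgroup G, L = L₀.map K.subtype := ⟨_, rfl⟩
  have hLK : L ≤ K := by
    rw [hLdef]
    exact Subgroup.map_subtype_le _
  have hcL : Nat.card L = Nat.card L₀ := by
    rw [hLdef]
    exact Nat.card_congr (L₀.equivMapOfInjective K.subtype K.subtype_injective).toEquiv.symm
  have hcL₀ : Nat.card L₀ = Nat.card Nb := by
    rw [← hidx]
    exact hL₀.symm.index_eq_card.symm
  have hLcop : (Nat.card L).Coprime p := by
    rw [hcL, hcL₀]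
    exact hNbc
  have hKdec : ∀ x ∈ K, ∃ o ∈ O, ∃ l ∈ L, x = o * l := by
    intro x hx
    obtain ⟨⟨⟨o, ho⟩, ⟨l, hl⟩⟩, e⟩ := hL₀.2 ⟨x, hx⟩
    refine ⟨o, ?_, l, ?_, ?_⟩
    · rw [hN₀] at ho
      exact Subgroup.mem_subgroupOf.mp ho
    · rw [hLdef]
      exact ⟨l, hl, rfl⟩
    · exact (congrArg Subtype.val e).symm
  have hcardK : Nat.card O * Nat.card L = Nat.card K := by
    rw [← hcN, hcL]
    exact hL₀.card_mul_card
  have hdec : ∀ g : G, ∃ o ∈ O, ∃ n ∈ Subgroup.normalizer (L : Set G), g = o * n :=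
    exists_mul_normalizer_complement hOp hOK hLK hLcop hKdec hcardK
  -- a Sylow subgroup of the normalizer
  obtain ⟨Ng, hNg⟩ : ∃ Ng, Ng = Subgroup.normalizer (L : Set G) := ⟨_, rfl⟩
  rw [← hNg] at hdec
  obtain ⟨T₁⟩ : Nonempty (Sylow p Ng) := inferInstance
  obtain ⟨T₁', hT₁'⟩ : ∃ T₁', T₁' = (T₁ : Subgroup Ng).map Ng.subtype := ⟨_, rfl⟩
  have hT₁p : IsPGroup p T₁' := by
    rw [hT₁']
    exact T₁.isPGroup'.map _
  obtain ⟨T₂, hT₂⟩ := hT₁p.exists_le_sylow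
  obtain ⟨b, hb⟩ := MulAction.exists_smul_eq G T T₂
  have hmemT₂ : ∀ x, x ∈ (T₂ : Subgroup G) ↔ b⁻¹ * x * b ∈ (T : Subgroup G) := by
    intro x
    rw [← hb]
    constructor
    · rintro ⟨t, ht, rfl⟩
      have e : b⁻¹ * (b * t * b⁻¹) * b = t := by group
      show b⁻¹ * (b * t * b⁻¹) * b ∈ (T : Subgroup G)
      rw [e]
      exact ht
    · intro h
      refine ⟨_, h, ?_⟩
      show b * (b⁻¹ * x * b) * b⁻¹ = x
      group
  have hOT₂ : O ≤ (T₂ : Subgroup G) := by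
    intro o ho
    rw [hmemT₂]
    have h1 := hOn.conj_mem o ho b⁻¹
    rw [inv_inv] at h1
    exact hOT h1
  have hmax : (T₂ : Subgroup G).subgroupOf Ng = (T₁ : Subgroup Ng) := by
    refine T₁.is_maximal' ((T₂.isPGroup').comap_subtype) ?_
    intro x hx
    rw [Subgroup.mem_subgroupOf]
    apply hT₂
    rw [hT₁']
    exact ⟨x, hx, rfl⟩
  have hOT₁ : O ≤ T₁' := by
    obtain ⟨Y₁, hY₁⟩ : ∃ Y₁ : Subgroup ↥(T : Subgroup G), Y₁ = (T₁'.map (MulAut.conj b⁻¹).toMonoidHom).subgroupOf (T : Subgroup G) := ⟨_, rfl⟩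
    have hgen : Y₁ ⊔ frattini ↥(T : Subgroup G) = ⊤ := by
      rw [eq_top_iff]
      rintro ⟨t, ht⟩ -
      have hx : b * t * b⁻¹ ∈ (T₂ : Subgroup G) := by
        rw [hmemT₂]
        have e : b⁻¹ * (b * t * b⁻¹) * b = t := by group
        rw [e]
        exact ht
      obtain ⟨o, ho, n, hn, e⟩ := hdec (b * t * b⁻¹)
      have hnT₂ : n ∈ (T₂ : Subgroup G) := by
        have e2 : n = o⁻¹ * (b * t * b⁻¹) := by rw [e]; group
        rw [e2]
        exact Subgroup.mul_mem _ (Subgroup.inv_mem _ (hOT₂ ho)) hx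
      have hnT₁ : n ∈ T₁' := by
        rw [hT₁']
        refine ⟨⟨n, hn⟩, ?_, rfl⟩
        rw [SetLike.mem_coe, ← hmax, Subgroup.mem_subgroupOf]
        exact hnT₂
      have ho' : b⁻¹ * o * b ∈ O := by
        have h1 := hOn.conj_mem o ho b⁻¹
        rwa [inv_inv] at h1
      have hn' : b⁻¹ * n * b ∈ (T : Subgroup G) := (hmemT₂ n).mp hnT₂
      have e3 : (⟨t, ht⟩ : ↥(T : Subgroup G)) = ⟨b⁻¹ * n * b, hn'⟩ * (⟨b⁻¹ * n * b, hn'⟩⁻¹ * ⟨t, ht⟩) := by group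
      rw [e3]
      refine Subgroup.mul_mem _ (Subgroup.mem_sup_left ?_) (Subgroup.mem_sup_right ?_)
      · rw [hY₁, Subgroup.mem_subgroupOf]
        refine ⟨n, hnT₁, ?_⟩
        show b⁻¹ * n * b⁻¹⁻¹ = b⁻¹ * n * b
        rw [inv_inv]
      · have hmem : (⟨b⁻¹ * n * b, hn'⟩⁻¹ * ⟨t, ht⟩ : ↥(T : Subgroup G)) = ⟨(b⁻¹ * n * b)⁻¹ * t, Subgroup.mul_mem _ (Subgroup.inv_mem _ hn') ht⟩ := rfl
        rw [hmem]
        have hval : (b⁻¹ * n * b)⁻¹ * t = b⁻¹ * n⁻¹ * o⁻¹ * n * b * ((b⁻¹ * n * b)⁻¹ * t) * ((b⁻¹ * n⁻¹ * o⁻¹ * n * b))⁻¹ := by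
          have ht' : t = b⁻¹ * (o * n) * b := by rw [← e]; group
          rw [ht']
          group
        have hin : (b⁻¹ * n * b)⁻¹ * t ∈ O := by
          have ht' : t = b⁻¹ * (o * n) * b := by rw [← e]; group
          have e4 : (b⁻¹ * n * b)⁻¹ * t = b⁻¹ * (n⁻¹ * o * n) * b := by
            rw [ht']
            group
          rw [e4]
          have h1 := hOn.conj_mem o ho n⁻¹
          rw [inv_inv] at h1
          have h2 := hOn.conj_mem _ h1 b⁻¹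
          rw [inv_inv] at h2
          exact h2
        obtain ⟨y, hy, ey⟩ := Subgroup.mem_map.mp (hOΦ hin)
        have : y = ⟨(b⁻¹ * n * b)⁻¹ * t, Subgroup.mul_mem _ (Subgroup.inv_mem _ hn') ht⟩ := Subtype.ext ey
        rw [← this]
        exact hy
    have htop := frattini_nongenerating hgen
    intro o ho
    have h1 : b⁻¹ * o * b ∈ O := by
      have h1 := hOn.conj_mem o ho b⁻¹
      rwa [inv_inv] at h1
    have h2 : (⟨b⁻¹ * o * b, hOT h1⟩ : ↥(T : Subgroup G)) ∈ Y₁ := by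
      rw [htop]
      trivial
    rw [hY₁, Subgroup.mem_subgroupOf] at h2
    obtain ⟨y, hy, e⟩ := h2
    have e' : b⁻¹ * y * b⁻¹⁻¹ = b⁻¹ * o * b := e
    have : y = o := by
      rw [inv_inv] at e'
      exact mul_left_cancel (mul_right_cancel e')
    rwa [← this]
  have hT₁Ng : T₁' ≤ Ng := by
    rw [hT₁']
    exact Subgroup.map_subtype_le _
  have hNgtop : Ng = ⊤ := by
    rw [eq_top_iff]
    intro g _
    obtain ⟨o, ho, n, hn, rfl⟩ := hdec g
    exact Subgroup.mul_mem _ (hT₁Ng (hOT₁ ho)) hn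
  have hLn : L.Normal := by
    rw [hNg] at hNgtop
    exact Subgroup.normalizer_eq_top_iff.mp hNgtop
  have hPn := Cfsg.Agent.H01.pCore_normal (G := G) p
  have hPp := Cfsg.Agent.H01.pCore_isPGroup (G := G) p
  have hint : ∀ x, x ∈ L → x ∈ Cfsg.pCore p G → x = 1 := by
    intro x hxL hxP
    obtain ⟨j, hj⟩ := hPp ⟨x, hxP⟩
    have hj' : x ^ p ^ j = 1 := congrArg Subtype.val hj
    have hcoO : (orderOf x).Coprime p := by
      have h1 : orderOf x ∣ Nat.card L := by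
        have h2 := orderOf_dvd_natCard (⟨x, hxL⟩ : L)
        rwa [Subgroup.orderOf_mk] at h2
      exact Nat.Coprime.coprime_dvd_left h1 hLcop
    exact eq_one_of_coprime_order hj' hcoO
  have hLbot : L = ⊥ := by
    rw [eq_bot_iff]
    intro l hl
    have h1 : l ∈ Subgroup.centralizer (Cfsg.pCore p G : Set G) := by
      rw [Subgroup.mem_centralizer_iff]
      intro q hq
      have h2 : q * l * q⁻¹ * l⁻¹ ∈ L := Subgroup.mul_mem _ (hLn.conj_mem l hl q) (Subgroup.inv_mem _ hl)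
      have h3 : q * l * q⁻¹ * l⁻¹ ∈ Cfsg.pCore p G := by
        have h4 := hPn.conj_mem q⁻¹ (Subgroup.inv_mem _ hq) l
        have e : q * l * q⁻¹ * l⁻¹ = q * (l * q⁻¹ * l⁻¹) := by group
        rw [e]
        exact Subgroup.mul_mem _ hq h4
      have h5 := hint _ h2 h3
      have h6 : q * l * q⁻¹ = l := mul_inv_eq_one.mp h5
      calc q * l = (q * l * q⁻¹) * q := by group
        _ = l * q := by rw [h6]
    have h7 := hint l hl (hc h1)
    rw [h7]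
    exact Subgroup.mem_bot.mpr rfl
  have hNbcard : Nat.card Nb = 1 := by
    rw [← hcL₀, ← hcL, hLbot]
    exact Subgroup.card_bot
  have hquotcard : Nat.card (G ⧸ O) = p ^ k := by
    have e2 : Nat.card Nb * Nb.index = Nat.card (G ⧸ O) := Subgroup.card_mul_index Nb
    rw [hNbcard, one_mul, hk] at e2
    exact e2.symm
  intro Q hQ g hg hgc
  have h1 : (QuotientGroup.mk' O g) ^ p ^ k = 1 := by
    rw [← hquotcard]
    exact pow_card_eq_one'
  have h2 : g ^ p ^ k ∈ O := by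
    rw [← hπ1, map_pow]
    exact h1
  obtain ⟨j, hj⟩ := hOp ⟨_, h2⟩
  have hj' : (g ^ p ^ k) ^ p ^ j = 1 := congrArg Subtype.val hj
  rw [← pow_mul, ← pow_add] at hj'
  have h3 : g = 1 := eq_one_of_coprime_order hj' hgc
  rw [h3]
  exact Subgroup.one_mem _

end Gp

section Fus

variable {Ω : Type u} [Group Ω] {S : Subgroup Ω} [Finite S] {Q : Subgroup Ω} {p : ℕ} [Fact p.Prime]

/-- A normal subgroup inside the Frattini subgroup containing the focal subgroup. -/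
theorem pn_of_foc_frattini (hS : IsPGroup p S) {E : FusionSystem S} (hE : E.IsSaturated p) (hQ : E.IsNormal Q)
    (hfoc : ∀ (P : Subgroup Ω) (f : Ω → Ω), Mp E P f → ∀ x ∈ P, x⁻¹ * f x ∈ Q)
    (hΦ : Q ≤ (frattini ↥S).map S.subtype) : PN E p := by
  classical
  have hcon := constrained_of_factor_nil hS hE hQ (fun P f _ hf => ⟨0, fun x hx => by
    rw [pow_zero, Function.iterate_one]
    exact hfoc P f hf.mp x hx⟩)
  obtain ⟨G, _, ι, hG⟩ := H24.exists_model hS hcon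
  have hcore := H24.preimage_eq_core hG
  obtain ⟨hfG, hr, ⟨T, hT⟩, hCG⟩ := hG
  haveI := hfG
  have hι := hr.1
  have hQS := hQ.1
  have hOT₀ : Cfsg.pCore p G ≤ (T : Subgroup G) := H01.pCore_le_sylow p T
  have hQcore : ∀ x (hx : x ∈ Q), ι ⟨x, hQS hx⟩ ∈ Cfsg.pCore p G := by
    intro x hx
    have h1 : x ∈ E.core := (le_sSup hQ : Q ≤ E.core) hx
    rw [← hcore] at h1
    obtain ⟨y, hy, e⟩ := h1
    have : y = ⟨x, hQS hx⟩ := Subtype.ext e
    rw [← this]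
    exact hy
  obtain ⟨O, hOdef⟩ : ∃ O : Subgroup G, O = (Q.subgroupOf S).map ι := ⟨_, rfl⟩
  have hOmem : ∀ x (hx : x ∈ Q), ι ⟨x, hQS hx⟩ ∈ O := by
    intro x hx
    rw [hOdef]
    exact ⟨⟨x, hQS hx⟩, Subgroup.mem_subgroupOf.mpr hx, rfl⟩
  have hPn := H01.pCore_normal (G := G) p
  haveI hOn : O.Normal := by
    constructor
    intro n hn g
    rw [hOdef] at hn
    obtain ⟨⟨q, hqS⟩, hq, rfl⟩ := hn
    have hq' : q ∈ Q := Subgroup.mem_subgroupOf.mp hq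
    obtain ⟨f, hf, hfι⟩ := mp_of_conj hr hQS g (fun y => by
      rw [← hT]
      apply hOT₀
      exact hPn.conj_mem _ (hQcore y y.2) g)
    obtain ⟨h', e⟩ := hfι ⟨q, hq'⟩
    have e' : ι ⟨f q, h'⟩ = g * ι ⟨q, hqS⟩ * g⁻¹ := e
    rw [← e']
    exact hOmem _ ((normal_good hQ le_rfl hf).1 q hq')
  have hOT : O ≤ (T : Subgroup G) := by
    rw [hOdef]
    rintro _ ⟨s, -, rfl⟩
    rw [hT]
    exact ⟨s, rfl⟩
  obtain ⟨φ, hφ⟩ : ∃ φ : ↥S →* ↥(T : Subgroup G), φ = ι.codRestrict (T : Subgroup G) (fun s => by rw [hT]; exact ⟨s, rfl⟩) := ⟨_, rfl⟩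
  have hφv : ∀ s, ((φ s : ↥(T : Subgroup G)) : G) = ι s := fun s => by
    rw [hφ]
    rfl
  have hφs : Function.Surjective φ := by
    rintro ⟨t, ht⟩
    have ht' := ht
    rw [hT] at ht'
    obtain ⟨s, rfl⟩ := ht'
    exact ⟨s, Subtype.ext (hφv s)⟩
  have hOΦ : O ≤ (frattini ↥(T : Subgroup G)).map (T : Subgroup G).subtype := by
    rw [hOdef]
    rintro _ ⟨⟨q, hqS⟩, hq, rfl⟩
    obtain ⟨y, hy, e⟩ := hΦ (Subgroup.mem_subgroupOf.mp hq)
    have hy' : y = ⟨q, hqS⟩ := Subtype.ext e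
    rw [← hy']
    exact ⟨φ y, frattini_le_comap_frattini_of_surjective hφs hy, hφv y⟩
  have hquot : FrobCond p (G ⧸ O) := frob_quot hr T hT hOT hQS hOmem (fun P f _ hf => ⟨0, fun x hx => by
    rw [pow_zero, Function.iterate_one]
    exact hfoc P f hf.mp x hx⟩)
  exact pn_of_frob hS hr (frob_of_frattini T hCG O hOΦ hquot)

/-- The focal subgroup lies in a normal subgroup containing `S'` if `Aut(S)` acts trivially modulo it. -/
theorem foc_le_of_abelian_quot (hS : IsPGroup p S) {E : FusionSystem S} (hE : E.IsSaturated p) (hQ : E.IsNormal Q)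
    (hab : ∀ x ∈ S, ∀ y ∈ S, x * y * x⁻¹ * y⁻¹ ∈ Q)
    (hinn : ∀ f : Ω → Ω, Mp E S f → ∀ x ∈ S, x⁻¹ * f x ∈ Q) :
    ∀ (P : Subgroup Ω) (f : Ω → Ω), Mp E P f → ∀ x ∈ P, x⁻¹ * f x ∈ Q := by
  classical
  have hQS := hQ.1
  have hQsc := H24.stronglyClosed_of_isNormal hQ
  have hSN : S ≤ Subgroup.normalizer (Q : Set Ω) := H24.normalizer_of_isNormal hQ
  haveI hQnorm : (Q.subgroupOf S).Normal := by
    constructor
    intro n hn g
    rw [Subgroup.mem_subgroupOf] at hn ⊢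
    exact conj_mem_of_normalizer (hSN g.2) hn
  obtain ⟨E₁, hE₁⟩ := H24.exists_factorSystem_quotient hQsc
  obtain ⟨hmor, hE₁sat, hpS⟩ := H24.factor_facts hS hE hQsc hE₁
  obtain ⟨α, hα⟩ : ∃ α, α = QuotientGroup.mk' (Q.subgroupOf S) := ⟨_, rfl⟩
  rw [← hα] at hmor
  have hker : ∀ s : S, α s = 1 ↔ (s : Ω) ∈ Q := by
    rw [hα]
    exact hE₁.2.1
  have hsurj : Function.Surjective α := by
    rw [hα]
    exact QuotientGroup.mk'_surjective _
  have habS : ∀ x ∈ (⊤ : Subgroup (S ⧸ Q.subgroupOf S)), ∀ y ∈ (⊤ : Subgroup (S ⧸ Q.subgroupOf S)), x * y = y * x := by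
    intro x _ y _
    obtain ⟨a, rfl⟩ := hsurj x
    obtain ⟨b, rfl⟩ := hsurj y
    have h1 : α (a * b * a⁻¹ * b⁻¹) = 1 := (hker _).mpr (hab a a.2 b b.2)
    simp only [map_mul, map_inv] at h1
    exact mul_inv_eq_one.mp (by rw [mul_inv_rev, ← mul_assoc]; exact h1)
  have hpre : preimageAlong α (⊤ : Subgroup (S ⧸ Q.subgroupOf S)) = S := by
    refine le_antisymm (H24.preimageAlong_le _) fun s hs => ?_
    exact H24.mem_preimageAlong.2 ⟨hs, Subgroup.mem_top _⟩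
  intro P f hf x hx
  obtain ⟨φ, hφ, hφf⟩ := hf
  obtain ⟨φ', hφ', hP, hv, hP', hind⟩ := hmor.1.2 P φ hφ
  obtain ⟨h, hh, hhf⟩ := ab_extends hpS habS hE₁sat (mp_of_mem hφ')
  obtain ⟨ψ', hψ', hψ'f⟩ := hh.mp
  obtain ⟨ψ, hψ, hPB, hv₂, hP₂, hind₂⟩ := hmor.2.2 ⊤ le_rfl ψ' hψ'
  have hmp : Mp E (preimageAlong α (⊤ : Subgroup (S ⧸ Q.subgroupOf S))) (toFun ψ) := mp_of_mem hψ
  obtain ⟨g₀, hg₀⟩ : ∃ g₀, g₀ = toFun ψ := ⟨_, rfl⟩
  rw [← hg₀, hpre] at hmp
  have hxS : x ∈ S := hP hx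
  have hxpre : x ∈ preimageAlong α (⊤ : Subgroup (S ⧸ Q.subgroupOf S)) := by
    rw [hpre]
    exact hxS
  have h1 := hinn _ hmp x hxS
  have h2 : g₀ x ∈ S := hmp.mem hxS
  have h3 : α ⟨x, hxS⟩⁻¹ * α ⟨g₀ x, h2⟩ = 1 := by
    rw [← map_mul]
    exact (hker _).mpr h1
  have h4 : α ⟨g₀ x, h2⟩ = α ⟨x, hxS⟩ := by
    rw [map_inv] at h3
    exact (inv_mul_eq_one.mp h3).symm
  have h5 : ψ' ⟨α ⟨x, hPB hxpre⟩, hP₂ ⟨x, hxpre⟩⟩ = α ⟨g₀ x, h2⟩ := by
    have h6 := hind₂ ⟨x, hxpre⟩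
    have h7 : (⟨g₀ x, h2⟩ : ↥S) = ⟨ψ ⟨x, hxpre⟩, hv₂ _⟩ := Subtype.ext ((congrFun hg₀ x).trans (toFun_coe ψ ⟨x, hxpre⟩))
    rw [h7, ← h6]
  have h8 : h (α ⟨x, hxS⟩) = α ⟨x, hxS⟩ := by
    rw [← hψ'f ⟨_, Subgroup.mem_top _⟩]
    exact h5.trans h4
  have h9 := hhf (α ⟨x, hxS⟩) (hP' ⟨x, hx⟩)
  rw [h8, toFun_coe φ' ⟨_, hP' ⟨x, hx⟩⟩, hind ⟨x, hx⟩] at h9
  have h10 := hφf ⟨x, hx⟩
  have h11 : f x ∈ S := h10 ▸ hv _
  have h12 : α ⟨f x, h11⟩ = α ⟨x, hxS⟩ := by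
    rw [h9]
    congr 1
    exact Subtype.ext h10.symm
  have h13 : α (⟨x, hxS⟩⁻¹ * ⟨f x, h11⟩) = 1 := by
    rw [map_mul, map_inv, h12, inv_mul_cancel]
  exact (hker _).mp h13

end Fus

end Cfsg.Agent.H25
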