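import Cfsg.Agent.Lib.H25.XS
import Cfsg.Agent.Lib.H14.ZJ
import Cfsg.Agent.Lib.H01.Transfer
set_option autoImplicit false
set_option linter.style.haveILetI false

/-! Automizers generated by transvections: the basic setting. -/

namespace Cfsg.Agent.H25

open Cfsg Cfsg.FusionSystem

variable {Ω : Type*} [Group Ω] {S : Subgroup Ω} {F : FusionSystem S} {p : ℕ} [Finite S] [Fact p.Prime]
variable {K P : Subgroup Ω} {x : Ω} {u : MulAut P}

/-- The centre of `S`, as a subgroup of the ambient group. -/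
abbrev ZS (S : Subgroup Ω) : Subgroup Ω := S ⊓ Subgroup.centralizer (S : Set Ω)

theorem mem_ZS {z : Ω} : z ∈ ZS S ↔ z ∈ S ∧ ∀ s ∈ S, s * z = z * s :=
  ⟨fun h => ⟨h.1, fun s hs => Subgroup.mem_centralizer_iff.1 h.2 s hs⟩,
    fun h => ⟨h.1, Subgroup.mem_centralizer_iff.2 h.2⟩⟩

/-- Essential subgroups are proper. -/
theorem essential_ne_self (hS : IsPGroup p S) (hF : F.IsSaturated p) (hE : F.IsEssential p S) : False := by
  obtain ⟨-, hFN, hN, Y, hdvd, -, -⟩ := hE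
  have hfar : Far F p S := far_of_fullyNormalized hS hF hFN
  obtain ⟨-, R₀, hR₀⟩ := hfar.auto
  apply R₀.not_dvd_index
  have hle : (R₀ : Subgroup (F.autGroup S)) ≤ (Inn S).subgroupOf (F.autGroup S) := by
    intro α hα
    rw [hR₀, Subgroup.mem_subgroupOf] at hα
    obtain ⟨s, hs, hsα⟩ := exists_of_mem_autInducedBy hα
    rw [Subgroup.mem_subgroupOf]
    exact IsC.mem_inn hs hsα
  have h1 := Subgroup.index_dvd_of_le hle
  refine dvd_trans ?_ h1
  rw [Subgroup.index_eq_card]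
  exact hdvd

/-- The setting: `K ≤ Z(S)` of order `p` containing the commutators of the nonabelian group `S`. -/
structure TvC (F : FusionSystem S) (p : ℕ) (K : Subgroup Ω) : Prop where
  hS : IsPGroup p S
  hF : F.IsSaturated p
  hKS : K ≤ S
  hKc : K ≤ Subgroup.centralizer (S : Set Ω)
  hKp : Nat.card K = p
  hcm : ∀ s ∈ S, ∀ t ∈ S, s * t * s⁻¹ * t⁻¹ ∈ K
  hna : ∃ s ∈ S, ∃ t ∈ S, s * t ≠ t * s

/-- Abelian subgroups of index `p` containing the centre. -/
structure TvP (S : Subgroup Ω) (p : ℕ) (P : Subgroup Ω) : Prop where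
  le : P ≤ S
  zl : ZS S ≤ P
  ab : ∀ s ∈ P, ∀ t ∈ P, s * t = t * s
  idx : (P.subgroupOf S).index = p

omit [Fact p.Prime] in
theorem TvC.kz (C : TvC F p K) : K ≤ ZS S := le_inf C.hKS C.hKc

section Pt


theorem TvP.conj_mem (C : TvC F p K) (hP : TvP S p P) {s t : Ω} (hs : s ∈ S) (ht : t ∈ P) : s * t * s⁻¹ ∈ P := by
  have h1 := C.hcm s hs t (hP.le ht)
  have h2 : s * t * s⁻¹ = (s * t * s⁻¹ * t⁻¹) * t := by group
  rw [h2]
  exact P.mul_mem (hP.zl (C.kz h1)) ht

theorem TvP.normal (C : TvC F p K) (hP : TvP S p P) : S ≤ Subgroup.normalizer (P : Set Ω) := by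
  intro s hs
  exact mem_normalizer_of_conj (fun y hy => hP.conj_mem C hs hy) (fun y hy => by
    have := hP.conj_mem C (S.inv_mem hs) hy
    simpa using this)

end Pt

theorem TvP.le_of (hP : TvP S p P) {y : Ω} (hyS : y ∈ S) (hyP : y ∉ P) {L : Subgroup Ω} (hPL : P ≤ L) (hyL : y ∈ L) :
    S ≤ L := by
  have h := eq_top_of_index_prime (L := L.subgroupOf S) hP.idx
    (fun z hz => Subgroup.mem_subgroupOf.mpr (hPL (Subgroup.mem_subgroupOf.mp hz)))
    (x := ⟨y, hyS⟩) (Subgroup.mem_subgroupOf.mpr hyL) (fun h => hyP (Subgroup.mem_subgroupOf.mp h))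
  intro s hs
  have h1 : (⟨s, hs⟩ : S) ∈ L.subgroupOf S := by
    rw [h]
    exact Subgroup.mem_top _
  exact Subgroup.mem_subgroupOf.mp h1

theorem TvP.exists_x (hP : TvP S p P) : ∃ y ∈ S, y ∉ P := by
  by_contra hcon
  push Not at hcon
  have h1 : P.subgroupOf S = ⊤ := by
    rw [eq_top_iff]
    intro y _
    exact Subgroup.mem_subgroupOf.mpr (hcon y y.2)
  have h2 := hP.idx
  rw [h1, Subgroup.index_top] at h2
  exact (Fact.out : p.Prime).one_lt.ne h2

theorem TvP.mem_Z (hP : TvP S p P) (hxS : x ∈ S) (hxP : x ∉ P) {t : Ω} (ht : t ∈ P) (hc : x * t * x⁻¹ = t) : t ∈ ZS S := by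
  refine mem_ZS.mpr ⟨hP.le ht, ?_⟩
  have h1 : S ≤ Subgroup.centralizer ({t} : Set Ω) := by
    refine hP.le_of hxS hxP ?_ ?_
    · intro y hy
      rw [Subgroup.mem_centralizer_singleton_iff]
      exact hP.ab y hy t ht
    · rw [Subgroup.mem_centralizer_singleton_iff]
      rw [mul_inv_eq_iff_eq_mul] at hc
      exact hc
  intro s hs
  have h2 := h1 hs
  rw [Subgroup.mem_centralizer_singleton_iff] at h2
  exact h2

theorem TvP.decomp (C : TvC F p K) (hP : TvP S p P) (hxS : x ∈ S) (hxP : x ∉ P) {s : Ω} (hs : s ∈ S) :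
    ∃ r ∈ P, ∃ i : ℤ, s = r * x ^ i := by
  have h1 : S ≤ P ⊔ Subgroup.zpowers x :=
    hP.le_of hxS hxP le_sup_left (Subgroup.mem_sup_right (Subgroup.mem_zpowers x))
  have hA : Subgroup.zpowers x ≤ Subgroup.normalizer (P : Set Ω) := by
    rw [Subgroup.zpowers_le]
    exact hP.normal C hxS
  obtain ⟨r, hr, a, ⟨i, rfl⟩, e⟩ := Cfsg.Agent.H01.exists_mul_of_mem_sup hA (h1 hs)
  exact ⟨r, hr, i, e⟩

theorem TvP.exists_not_Z (C : TvC F p K) (hP : TvP S p P) : ∃ y : P, (y : Ω) ∉ ZS S := by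
  by_contra hcon
  push Not at hcon
  obtain ⟨x, hxS, hxP⟩ := hP.exists_x
  apply hxP
  apply hP.zl
  refine mem_ZS.mpr ⟨hxS, ?_⟩
  have h1 : S ≤ Subgroup.centralizer ({x} : Set Ω) := by
    refine hP.le_of hxS hxP ?_ ?_
    · intro y hy
      rw [Subgroup.mem_centralizer_singleton_iff]
      have := (mem_ZS.mp (hcon ⟨y, hy⟩)).2 x hxS
      exact this.symm
    · rw [Subgroup.mem_centralizer_singleton_iff]
  intro s hs
  have h2 := h1 hs
  rw [Subgroup.mem_centralizer_singleton_iff] at h2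
  exact h2

theorem isC_zpow {P : Subgroup Ω} {x : Ω} {u : MulAut P} (h : IsC x u) (i : ℤ) : IsC (x ^ i) (u ^ i) := by
  have hit : ∀ n : ℕ, IsC (x ^ n) (u ^ n) := by
    intro n
    induction n with
    | zero =>
      intro y
      simp
    | succ n ih =>
      rw [pow_succ, pow_succ]
      exact ih.mul h
  cases i with
  | ofNat n =>
    simpa using hit n
  | negSucc n =>
    have := (hit (n + 1)).inv
    simpa [zpow_negSucc] using this

section Basic

variable (C : TvC F p K) (hP : TvP S p P) (hxS : x ∈ S) (hxP : x ∉ P) (huC : IsC x u)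

include C hP hxS in
/-- Conjugation by an element of `S` on `P` is a power of `u`. -/
theorem TvP.isC_decomp {s : Ω} (hs : s ∈ S) (hxP : x ∉ P) (huC : IsC x u) {α : MulAut P} (hα : IsC s α) :
    ∃ i : ℤ, α = u ^ i := by
  obtain ⟨r, hr, i, rfl⟩ := hP.decomp C hxS hxP hs
  refine ⟨i, ?_⟩
  ext y
  rw [hα y]
  have h1 := isC_zpow huC i y
  rw [h1]
  have h2 : x ^ i * (y : Ω) * (x ^ i)⁻¹ ∈ P := by
    rw [← h1]
    exact ((u ^ i) y).2
  have h3 := hP.ab r hr _ h2
  calc r * x ^ i * (y : Ω) * (r * x ^ i)⁻¹ = (r * (x ^ i * (y : Ω) * (x ^ i)⁻¹)) * r⁻¹ := by group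
    _ = ((x ^ i * (y : Ω) * (x ^ i)⁻¹) * r) * r⁻¹ := by rw [h3]
    _ = _ := by group

include C hP hxS hxP huC

/-- The Sylow `p`-subgroup of the automizer is generated by `u`. -/
theorem exists_sylow_zp :
    ∃ R₀ : Sylow p (F.autGroup P), (R₀ : Subgroup (F.autGroup P)) = (Subgroup.zpowers u).subgroupOf (F.autGroup P) := by
  have hfar : Far F p P := far_of_fullyNormalized C.hS C.hF (fullyNormalized_of_normal hP.le (hP.normal C))
  obtain ⟨-, R₀, hR₀⟩ := hfar.auto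
  refine ⟨R₀, ?_⟩
  rw [hR₀]
  apply le_antisymm
  · intro α hα
    rw [Subgroup.mem_subgroupOf] at hα ⊢
    obtain ⟨s, hs, hsα⟩ := exists_of_mem_autInducedBy hα
    obtain ⟨i, hi⟩ := hP.isC_decomp C hxS hs hxP huC hsα
    exact ⟨i, hi.symm⟩
  · intro α hα
    rw [Subgroup.mem_subgroupOf] at hα ⊢
    obtain ⟨i, hi⟩ := hα
    have hu : u ∈ autInducedBy S P := mem_autInducedBy_of_conj hxS huC
    rw [← hi]
    exact Subgroup.zpow_mem _ hu i

/-- A `p`-subgroup of the automizer containing `u` is generated by `u`. -/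
theorem rigid {v : MulAut P} (hv : v ∈ F.autGroup P) (hpg : IsPGroup p (Subgroup.closure {u, v})) :
    v ∈ Subgroup.zpowers u := by
  classical
  obtain ⟨R₀, hR₀⟩ := exists_sylow_zp C hP hxS hxP huC
  have hT : IsPGroup p ((Subgroup.closure {u, v}).subgroupOf (F.autGroup P)) :=
    IsPGroup.comap_of_injective hpg (F.autGroup P).subtype (Subgroup.subtype_injective _)
  obtain ⟨T₁, hT₁⟩ := hT.exists_le_sylow
  have hle : (R₀ : Subgroup (F.autGroup P)) ≤ (T₁ : Subgroup (F.autGroup P)) := by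
    rw [hR₀]
    intro α hα
    apply hT₁
    rw [Subgroup.mem_subgroupOf] at hα ⊢
    have h1 : Subgroup.zpowers u ≤ Subgroup.closure {u, v} := by
      rw [Subgroup.zpowers_le]
      exact Subgroup.subset_closure (by simp)
    exact h1 hα
  haveI : Finite P := finite_of_le hP.le
  have hcard : Nat.card (T₁ : Subgroup (F.autGroup P)) ≤ Nat.card (R₀ : Subgroup (F.autGroup P)) :=
    (Nat.card_congr (Sylow.equiv T₁ R₀).toEquiv).le
  have heq := Subgroup.eq_of_le_of_card_ge hle hcard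
  have h2 : (⟨v, hv⟩ : F.autGroup P) ∈ (T₁ : Subgroup (F.autGroup P)) := by
    apply hT₁
    rw [Subgroup.mem_subgroupOf]
    exact Subgroup.subset_closure (by simp)
  rw [← heq, hR₀, Subgroup.mem_subgroupOf] at h2
  exact h2

end Basic

/-- The image of a subgroup of `P` under an automorphism of `P`. -/
def imO (b : MulAut P) (L : Subgroup Ω) : Subgroup Ω := ((L.subgroupOf P).map b.toMonoidHom).map P.subtype

theorem mem_imO {b : MulAut P} {L : Subgroup Ω} (t : P) : (t : Ω) ∈ imO b L ↔ ((b⁻¹ t : P) : Ω) ∈ L := by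
  constructor
  · rintro ⟨_, ⟨y, hy, rfl⟩, e⟩
    have e' : (b y : P) = t := Subtype.ext e
    rw [← e']
    have : b⁻¹ (b y) = y := by simp
    rw [this]
    exact Subgroup.mem_subgroupOf.mp hy
  · intro h
    refine ⟨b (b⁻¹ t), ⟨b⁻¹ t, Subgroup.mem_subgroupOf.mpr h, rfl⟩, ?_⟩
    show ((b (b⁻¹ t) : P) : Ω) = t
    simp

theorem imO_le {b : MulAut P} {L : Subgroup Ω} : imO b L ≤ P := by
  rintro _ ⟨y, -, rfl⟩
  exact y.2

theorem card_imO {b : MulAut P} {L : Subgroup Ω} (hL : L ≤ P) : Nat.card (imO b L) = Nat.card L := by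
  unfold imO
  rw [Subgroup.card_map_of_injective P.subtype_injective, Subgroup.card_map_of_injective b.injective]
  exact Nat.card_congr (Subgroup.subgroupOfEquivOfLe hL).toEquiv

theorem eq_of_common {K₁ K₂ : Subgroup Ω} (h1 : Nat.card K₁ = p) (h2 : Nat.card K₂ = p) {g : Ω} (hg1 : g ∈ K₁) (hg2 : g ∈ K₂)
    (hg : g ≠ 1) : K₁ = K₂ := by
  have hf2 : Finite K₂ := Nat.finite_of_card_ne_zero (by
    rw [h2]
    exact (Fact.out : p.Prime).ne_zero)
  have hne : (⟨g, hg1⟩ : K₁) ≠ 1 := fun h => hg (congrArg Subtype.val h)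
  have h3 : Subgroup.zpowers (⟨g, hg1⟩ : K₁) = ⊤ := zpowers_eq_top_of_prime_card h1 hne
  have hle : K₁ ≤ K₂ := by
    intro y hy
    have h4 : (⟨y, hy⟩ : K₁) ∈ Subgroup.zpowers (⟨g, hg1⟩ : K₁) := by
      rw [h3]
      exact Subgroup.mem_top _
    obtain ⟨n, hn⟩ := h4
    have h5 : g ^ n = y := congrArg Subtype.val hn
    rw [← h5]
    exact K₂.zpow_mem hg2 n
  exact Subgroup.eq_of_le_of_card_ge hle (by rw [h1, h2])

section Dich

variable (C : TvC F p K) (hP : TvP S p P) (hxS : x ∈ S) (hxP : x ∉ P) (huC : IsC x u)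

include C hP hxS huC

theorem u_fix {t : P} (ht : (t : Ω) ∈ ZS S) : u t = t := by
  apply Subtype.ext
  rw [huC t]
  have := (mem_ZS.mp ht).2 x hxS
  rw [this]
  group

theorem u_quot (t : P) : (t : Ω)⁻¹ * (u t : P) ∈ K := by
  rw [huC t]
  have h1 := C.hcm _ (S.inv_mem (hP.le t.2)) x hxS
  have e : (t : Ω)⁻¹ * x * (t : Ω)⁻¹⁻¹ * x⁻¹ = (t : Ω)⁻¹ * (x * (t : Ω) * x⁻¹) := by group
  rw [e] at h1
  exact h1

theorem u_stab : u ∈ stabCh P K :=
  ⟨fun t ht => u_fix C hP hxS huC (C.kz ht), fun t => u_quot C hP hxS huC t⟩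

theorem conj_stab (b : MulAut P) : b * u * b⁻¹ ∈ stabCh P (imO b K) := by
  refine ⟨fun t ht => ?_, fun t => ?_⟩
  · have h1 := (mem_imO t).1 ht
    show b (u (b⁻¹ t)) = t
    rw [u_fix C hP hxS huC (C.kz h1)]
    simp
  · rw [show (t : Ω)⁻¹ * ((b * u * b⁻¹) t : P) = ((t⁻¹ * (b * u * b⁻¹) t : P) : Ω) from rfl]
    rw [mem_imO]
    have e : b⁻¹ (t⁻¹ * (b * u * b⁻¹) t) = (b⁻¹ t)⁻¹ * u (b⁻¹ t) := by
      rw [map_mul, map_inv]
      congr 1
      show b⁻¹ (b (u (b⁻¹ t))) = _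
      simp
    rw [e]
    exact u_quot C hP hxS huC _

include hxP

theorem conj_mem_stab_same {b : MulAut P} (hb : b ∈ F.autGroup P) (h : imO b K = K) :
    b * u * b⁻¹ ∈ Subgroup.zpowers u := by
  have hu : u ∈ F.autGroup P := conj_mem_autGroup hP.le hxS huC
  have hK' : Finite K := finite_of_le C.hKS
  have hKpg : IsPGroup p K := IsPGroup.of_card (n := 1) (by rw [C.hKp, pow_one])
  refine rigid C hP hxS hxP huC (mul_mem (mul_mem hb hu) (inv_mem hb)) ?_
  refine (stabCh_isPGroup (Q := P) hKpg).to_le ?_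
  rw [Subgroup.closure_le]
  rintro y (rfl | rfl)
  · exact u_stab C hP hxS huC
  · have := conj_stab C hP hxS huC b
    rw [h] at this
    exact this

/-- If `b(K)` is central then `b(K) = K`. -/
theorem imO_eq_of_le {b : MulAut P} (hb : b ∈ F.autGroup P) (h : imO b K ≤ ZS S) : imO b K = K := by
  classical
  have hKP : K ≤ P := C.kz.trans hP.zl
  have hu : u ∈ F.autGroup P := conj_mem_autGroup hP.le hxS huC
  have hc : Nat.card (imO b K) = p := by
    rw [card_imO hKP]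
    exact C.hKp
  have hK' : Finite (imO b K) := finite_of_le (imO_le.trans hP.le)
  have hKpg : IsPGroup p (imO b K) := IsPGroup.of_card (n := 1) (by rw [hc, pow_one])
  obtain ⟨m, hm⟩ := isC_pow C.hS hxS huC
  have hfix : ∀ t : P, (t : Ω) ∈ imO b K → u t = t := fun t ht => u_fix C hP hxS huC (h ht)
  have hp1 := closure_isPGroup hKpg (conj_stab C hP hxS huC b) hm (fun t => by
    constructor
    · intro ht
      rw [hfix t ht]
      exact ht
    · intro ht
      have h1 := hfix _ ht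
      have h2 : u t = t := u.injective h1
      rw [h2] at ht
      exact ht)
  rw [Set.pair_comm] at hp1
  have hv := rigid C hP hxS hxP huC (v := b * u * b⁻¹) (mul_mem (mul_mem hb hu) (inv_mem hb)) hp1
  -- an element moved
  obtain ⟨y, hy⟩ := hP.exists_not_Z C
  have huy : u y ≠ y := by
    intro h1
    apply hy
    apply hP.mem_Z hxS hxP y.2
    rw [← huC y, h1]
  have hg1 : (((b y)⁻¹ * (b * u * b⁻¹) (b y) : P) : Ω) ∈ K := by
    have h2 : Subgroup.zpowers u ≤ stabCh P K := by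
      rw [Subgroup.zpowers_le]
      exact u_stab C hP hxS huC
    exact (h2 hv).2 (b y)
  have hg2 : (((b y)⁻¹ * (b * u * b⁻¹) (b y) : P) : Ω) ∈ imO b K :=
    (conj_stab C hP hxS huC b).2 (b y)
  refine (eq_of_common hc C.hKp hg2 hg1 ?_)
  intro h1
  apply huy
  have h2 : (b y)⁻¹ * (b * u * b⁻¹) (b y) = 1 := Subtype.ext h1
  have h3 : (b * u * b⁻¹) (b y) = b y := by
    rw [inv_mul_eq_one] at h2
    exact h2.symm
  have h4 : b (u y) = b y := by
    have e : (b * u * b⁻¹) (b y) = b (u (b⁻¹ (b y))) := rfl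
    rw [e] at h3
    simpa using h3
  exact b.injective h4

/-- If `K ≤ b(Z)` then `b(K) = K`. -/
theorem imO_eq_of_le' {b : MulAut P} (hb : b ∈ F.autGroup P) (h : ∀ t : P, (t : Ω) ∈ K → ((b⁻¹ t : P) : Ω) ∈ ZS S) :
    imO b K = K := by
  have hKP : K ≤ P := C.kz.trans hP.zl
  have h1 : imO b⁻¹ K = K := by
    refine imO_eq_of_le C hP hxS hxP huC (inv_mem hb) ?_
    intro y hy
    have hyP : y ∈ P := imO_le hy
    have h2 := (mem_imO (⟨y, hyP⟩ : P)).1 hy
    have h3 := h _ h2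
    simpa using h3
  have hle : imO b K ≤ K := by
    intro y hy
    have hyP : y ∈ P := imO_le hy
    have h2 := (mem_imO (⟨y, hyP⟩ : P)).1 hy
    have h3 : ((b⁻¹ ⟨y, hyP⟩ : P) : Ω) ∈ imO b⁻¹ K := by
      rw [h1]
      exact h2
    have h4 := (mem_imO _).1 h3
    simpa using h4
  have hK' : Finite K := finite_of_le C.hKS
  exact Subgroup.eq_of_le_of_card_ge hle (by rw [card_imO hKP])

/-- Frattini's argument for the automizer. -/
theorem frat {H : Subgroup (MulAut P)} (hH : ∀ b ∈ F.autGroup P, b * u * b⁻¹ ∈ H) {a : MulAut P} (ha : a ∈ F.autGroup P) :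
    ∃ d ∈ H, ∃ n ∈ F.autGroup P, n * u * n⁻¹ ∈ Subgroup.zpowers u ∧ a = d * n := by
  classical
  haveI : Finite P := finite_of_le hP.le
  have hu : u ∈ F.autGroup P := conj_mem_autGroup hP.le hxS huC
  obtain ⟨R₀, hR₀⟩ := exists_sylow_zp C hP hxS hxP huC
  obtain ⟨D, hDdef⟩ : ∃ D : Subgroup (F.autGroup P), D = Subgroup.normalClosure {(⟨u, hu⟩ : F.autGroup P)} := ⟨_, rfl⟩
  haveI hDn : D.Normal := by
    rw [hDdef]
    infer_instance
  have huD : (⟨u, hu⟩ : F.autGroup P) ∈ D := by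
    rw [hDdef]
    exact Subgroup.subset_normalClosure (by simp)
  have hRD : (R₀ : Subgroup (F.autGroup P)) ≤ D := by
    rw [hR₀]
    intro α hα
    rw [Subgroup.mem_subgroupOf] at hα
    obtain ⟨i, hi⟩ := hα
    have : α = (⟨u, hu⟩ : F.autGroup P) ^ i := Subtype.ext hi.symm
    rw [this]
    exact D.zpow_mem huD i
  have hDH : ∀ d ∈ D, (d : MulAut P) ∈ H := by
    have hle : D ≤ H.subgroupOf (F.autGroup P) := by
      rw [hDdef]
      refine (Subgroup.closure_le _).2 ?_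
      intro y hy
      obtain ⟨a', ha', hconj⟩ := Group.mem_conjugatesOfSet_iff.1 hy
      obtain ⟨c, hc⟩ := _root_.isConj_iff.1 hconj
      rw [Set.mem_singleton_iff] at ha'
      subst ha'
      rw [← hc]
      exact hH c c.2
    intro d hd
    exact Subgroup.mem_subgroupOf.mp (hle hd)
  have hsup := Cfsg.Agent.H14.frattini_inf R₀ D
  rw [inf_eq_left.mpr hRD] at hsup
  have hmem : (⟨a, ha⟩ : F.autGroup P) ∈ Subgroup.normalizer ((R₀ : Subgroup (F.autGroup P)) : Set (F.autGroup P)) ⊔ D := by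
    rw [hsup]
    exact Subgroup.mem_top _
  rw [sup_comm] at hmem
  obtain ⟨d, hd, n, hn, e⟩ := Cfsg.Agent.H01.exists_mul_of_mem_sup (N := D)
    (A := Subgroup.normalizer ((R₀ : Subgroup (F.autGroup P)) : Set (F.autGroup P)))
    (le_top.trans (Subgroup.normalizer_eq_top_iff.mpr hDn).ge) hmem
  refine ⟨d, hDH d hd, n, n.2, ?_, congrArg Subtype.val e⟩
  have h1 : (⟨u, hu⟩ : F.autGroup P) ∈ (R₀ : Subgroup (F.autGroup P)) := by
    rw [hR₀, Subgroup.mem_subgroupOf]
    exact Subgroup.mem_zpowers u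
  have h2 := (Subgroup.mem_normalizer_iff.mp hn _).mp h1
  rw [hR₀, Subgroup.mem_subgroupOf] at h2
  exact h2

/-- Automorphisms of `P` normalizing the Sylow extend to `S`. -/
theorem lift_norm {n : MulAut P} (hn : n ∈ F.autGroup P) (hnu : n * u * n⁻¹ ∈ Subgroup.zpowers u) :
    ∃ e, Iso F S S e ∧ ∀ y : P, e y = ((n y : P) : Ω) := by
  have hfar : Far F p P := far_of_fullyNormalized C.hS C.hF (fullyNormalized_of_normal hP.le (hP.normal C))
  have hb := Iso.of_mem_autGroup hP.le hn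
  have hbapp : ∀ y : P, toFun (P.subtype.comp n.toMonoidHom) y = ((n y : P) : Ω) := toFun_aut _
  obtain ⟨b, hbdef⟩ : ∃ b, b = toFun (P.subtype.comp n.toMonoidHom) := ⟨_, rfl⟩
  rw [← hbdef] at hb hbapp
  obtain ⟨e, he, heb⟩ := recept_ext hfar.recep hb (K := S) hP.le (by
    intro g hg
    apply Subgroup.subset_closure
    have hgN := hP.normal C hg
    refine ⟨hg, hgN, ?_⟩
    obtain ⟨α, hαC, -⟩ := exists_isC (F := F) hP.le hg hgN
    obtain ⟨i, hi⟩ := hP.isC_decomp C hxS hg hxP huC hαC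
    obtain ⟨j, hj⟩ := hnu
    refine ⟨x ^ (j * i), S.zpow_mem hxS _, fun y hy => ?_⟩
    have hgy : g * y * g⁻¹ ∈ P := conj_mem_of_normalizer hgN hy
    have h1 : (⟨g * y * g⁻¹, hgy⟩ : P) = (u ^ i) ⟨y, hy⟩ := by
      apply Subtype.ext
      rw [← hi, hαC]
    have hj' : u ^ j = n * u * n⁻¹ := hj
    have h2 : n * u ^ i * n⁻¹ = u ^ (j * i) := by
      rw [zpow_mul, hj', conj_zpow]
    have h3 : ((u ^ (j * i)) (n ⟨y, hy⟩) : P) = n ((u ^ i) ⟨y, hy⟩) := by
      rw [← h2]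
      show n ((u ^ i) (n⁻¹ (n ⟨y, hy⟩))) = _
      simp
    have h4 := isC_zpow huC (j * i) (n ⟨y, hy⟩)
    rw [hbapp ⟨g * y * g⁻¹, hgy⟩, hbapp ⟨y, hy⟩, h1, ← h3, h4])
  refine ⟨e, Iso.of_maps he (fun _ hz => he.mem hz), fun y => ?_⟩
  rw [heb y y.2, hbapp]

end Dich

end Cfsg.Agent.H25
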