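import Cfsg.Agent.Lib.H25.TvA
import Cfsg.Agent.Lib.H24.FusAG3
set_option autoImplicit false
set_option linter.style.haveILetI false

/-! The subgroup of the centre fixed by all transvections. -/

namespace Cfsg.Agent.H25

open Cfsg Cfsg.FusionSystem

variable {Ω : Type*} [Group Ω] {S : Subgroup Ω} {F : FusionSystem S} {p : ℕ} [Finite S] [Fact p.Prime]
variable {K P E : Subgroup Ω} {x : Ω} {u : MulAut P}

/-- Essential subgroups in the setting. -/
theorem ess_tvp (C : TvC F p K) (hE : F.IsEssential p E) :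
    TvP S p E ∧ ∃ a ∈ F.autGroup E, ∃ t : E, (t : Ω) ∈ K ∧ (a t : Ω) ∉ K := by
  classical
  have hES : E ≤ S := hE.1.1
  have hc : centralizerIn S E ≤ E := hE.1.2 E (isConj_refl hES)
  haveI hfinE : Finite E := finite_of_le hES
  have hne : E ≠ S := by
    rintro rfl
    exact essential_ne_self C.hS C.hF hE
  obtain ⟨s₀, hs₀, hs₀E⟩ := exists_normalizer_not_mem C.hS hES hne
  have hcm' : ∀ s ∈ S, ∀ y ∈ S, y⁻¹ * (s * y * s⁻¹) ∈ K := by
    intro s hs y hy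
    have h1 := C.hcm _ (S.inv_mem hy) s hs
    have e1 : y⁻¹ * s * y⁻¹⁻¹ * s⁻¹ = y⁻¹ * (s * y * s⁻¹) := by group
    rw [← e1]
    exact h1
  obtain ⟨hKE, a, ha, ⟨t, htK, hatK⟩, e, hae, he1, hee⟩ := ess_transv C.hS C.hF hE C.hKS C.hKc C.hKp
    (U := normalizerIn S E) normalizerIn_le inf_le_right (fun s hs y hy => hcm' s hs.1 y (hES hy)) hs₀ hs₀E
  have hKp := C.hKp
  have hKcS : ∀ k ∈ K, ∀ v ∈ S, v * k = k * v := fun k hk v hv => Subgroup.mem_centralizer_iff.1 (C.hKc hk) v hv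
  -- `E` is abelian
  have hEab : ∀ y ∈ E, ∀ z ∈ E, y * z = z * y := by
    intro y hy z hz
    by_contra hyz
    have hw : y * z * y⁻¹ * z⁻¹ ∈ K := C.hcm y (hES hy) z (hES hz)
    have hw1 : y * z * y⁻¹ * z⁻¹ ≠ 1 := by
      intro h
      apply hyz
      rw [mul_inv_eq_one, mul_inv_eq_iff_eq_mul] at h
      exact h
    have hne1 : (⟨_, hw⟩ : K) ≠ 1 := fun h => hw1 (congrArg Subtype.val h)
    have h1 : Subgroup.zpowers (⟨_, hw⟩ : K) = ⊤ := zpowers_eq_top_of_prime_card hKp hne1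
    have h2 : (⟨(t : Ω), htK⟩ : K) ∈ Subgroup.zpowers (⟨_, hw⟩ : K) := by
      rw [h1]
      exact Subgroup.mem_top _
    obtain ⟨n, hn⟩ := h2
    have hn' : (y * z * y⁻¹ * z⁻¹) ^ n = (t : Ω) := congrArg Subtype.val hn
    have hy' : (⟨y, hy⟩ : E) * ⟨z, hz⟩ * (⟨y, hy⟩ : E)⁻¹ * (⟨z, hz⟩ : E)⁻¹ = ⟨y * z * y⁻¹ * z⁻¹, E.mul_mem (E.mul_mem (E.mul_mem hy hz) (E.inv_mem hy)) (E.inv_mem hz)⟩ := rfl
    have hx' : t = (⟨y * z * y⁻¹ * z⁻¹, E.mul_mem (E.mul_mem (E.mul_mem hy hz) (E.inv_mem hy)) (E.inv_mem hz)⟩ : E) ^ n := by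
      apply Subtype.ext
      rw [← hn']
      rfl
    apply hatK
    rw [hx', ← hy', map_zpow, map_mul, map_mul, map_mul, map_inv, map_inv]
    have h3 := C.hcm _ (hES (a ⟨y, hy⟩).2) _ (hES (a ⟨z, hz⟩).2)
    have h4 : (((a ⟨y, hy⟩ * a ⟨z, hz⟩ * (a ⟨y, hy⟩)⁻¹ * (a ⟨z, hz⟩)⁻¹) ^ n : E) : Ω) =
        (((a ⟨y, hy⟩ : E) : Ω) * (a ⟨z, hz⟩ : E) * ((a ⟨y, hy⟩ : E) : Ω)⁻¹ * ((a ⟨z, hz⟩ : E) : Ω)⁻¹) ^ n := by
      simp
    rw [h4]
    exact K.zpow_mem h3 n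
  -- the centralizer of `e`
  have hC1 : (Subgroup.centralizer ({(e : Ω)} : Set Ω)).relIndex S ∣ p :=
    index_cent_dvd hKp hKcS (fun v hv => C.hcm v hv _ (hES e.2))
  have hCe : S ⊓ Subgroup.centralizer ({(e : Ω)} : Set Ω) = E := by
    by_contra hcon
    have hEle : E ≤ S ⊓ Subgroup.centralizer ({(e : Ω)} : Set Ω) := by
      refine le_inf hES ?_
      intro y hy
      rw [Subgroup.mem_centralizer_singleton_iff]
      exact hEab y hy _ e.2
    haveI : Finite ↥(S ⊓ Subgroup.centralizer ({(e : Ω)} : Set Ω)) := finite_of_le inf_le_left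
    obtain ⟨s, hs, hsE⟩ := exists_normalizer_not_mem (C.hS.to_le inf_le_left) hEle (Ne.symm hcon)
    refine hee s ⟨hs.1.1, hs.2⟩ hsE ?_
    have h1 : s ∈ Subgroup.centralizer ({(e : Ω)} : Set Ω) := hs.1.2
    rw [Subgroup.mem_centralizer_singleton_iff] at h1
    rw [h1]
    group
  have hsg : E.subgroupOf S = (Subgroup.centralizer ({(e : Ω)} : Set Ω)).subgroupOf S := by
    ext y
    rw [Subgroup.mem_subgroupOf, Subgroup.mem_subgroupOf]
    exact ⟨fun h => (hCe.ge h).2, fun h => hCe.le ⟨y.2, h⟩⟩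
  have hidx : (E.subgroupOf S).index = p := by
    have h1 : (E.subgroupOf S).index ∣ p := by
      rw [hsg]
      exact hC1
    rcases (Nat.dvd_prime (Fact.out : p.Prime)).1 h1 with h2 | h2
    · exfalso
      rw [Subgroup.index_eq_one] at h2
      apply hne
      apply le_antisymm hES
      intro y hy
      have h5 : (⟨y, hy⟩ : S) ∈ E.subgroupOf S := by
        rw [h2]
        exact Subgroup.mem_top _
      exact Subgroup.mem_subgroupOf.mp h5
    · exact h2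
  refine ⟨⟨hES, ?_, hEab, hidx⟩, a, ha, t, htK, hatK⟩
  intro z hz
  refine hc (mem_centralizerIn.mpr ⟨hz.1, fun y hy => ?_⟩)
  exact Subgroup.mem_centralizer_iff.1 hz.2 y (hES hy)

/-- The elements of the centre of `S` staying central under the automizers of abelian maximal subgroups. -/
def WW₀ (F : FusionSystem S) (p : ℕ) : Subgroup Ω where
  carrier := {z | z ∈ ZS S ∧ ∀ P, TvP S p P → ∀ b ∈ F.autGroup P, ∀ h : z ∈ P, ((b ⟨z, h⟩ : P) : Ω) ∈ ZS S}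
  one_mem' := by
    refine ⟨(ZS S).one_mem, fun P _ b _ h => ?_⟩
    have : b ⟨1, h⟩ = 1 := map_one b
    rw [this]
    exact (ZS S).one_mem
  mul_mem' := by
    rintro y z ⟨hy, hy'⟩ ⟨hz, hz'⟩
    refine ⟨(ZS S).mul_mem hy hz, fun P hP b hb h => ?_⟩
    have h1 : (⟨y * z, h⟩ : P) = ⟨y, hP.zl hy⟩ * ⟨z, hP.zl hz⟩ := rfl
    rw [h1, map_mul]
    exact (ZS S).mul_mem (hy' P hP b hb _) (hz' P hP b hb _)
  inv_mem' := by
    rintro y ⟨hy, hy'⟩
    refine ⟨(ZS S).inv_mem hy, fun P hP b hb h => ?_⟩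
    have h1 : (⟨y⁻¹, h⟩ : P) = (⟨y, hP.zl hy⟩ : P)⁻¹ := rfl
    rw [h1, map_inv]
    exact (ZS S).inv_mem (hy' P hP b hb _)

theorem iso_ZS {β : Ω → Ω} (hβ : Iso F S S β) {z : Ω} (hz : z ∈ ZS S) : β z ∈ ZS S := by
  refine mem_ZS.mpr ⟨hβ.maps z hz.1, fun s hs => ?_⟩
  obtain ⟨s', hs', rfl⟩ := hβ.surj s hs
  rw [← hβ.mp.map_mul hs' hz.1, ← hβ.mp.map_mul hz.1 hs', (mem_ZS.mp hz).2 s' hs']

theorem index_of_card {P Q : Subgroup Ω} (hP : P ≤ S) (hQ : Q ≤ S) (hc : Nat.card P = Nat.card Q) :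
    (P.subgroupOf S).index = (Q.subgroupOf S).index := by
  have h1 := Subgroup.card_mul_index (P.subgroupOf S)
  have h2 := Subgroup.card_mul_index (Q.subgroupOf S)
  have h3 : Nat.card (P.subgroupOf S) = Nat.card P := Nat.card_congr (Subgroup.subgroupOfEquivOfLe hP).toEquiv
  have h4 : Nat.card (Q.subgroupOf S) = Nat.card Q := Nat.card_congr (Subgroup.subgroupOfEquivOfLe hQ).toEquiv
  rw [h3] at h1
  rw [h4, ← hc] at h2
  haveI : Finite P := finite_of_le hP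
  have hpos : 0 < Nat.card P := Nat.card_pos
  exact Nat.eq_of_mul_eq_mul_left hpos (h1.trans h2.symm)

/-- `WW₀` is invariant under the automorphisms of `S`. -/
theorem WW_iso {β : Ω → Ω} (hβ : Iso F S S β) {z : Ω} (hz : z ∈ WW₀ F p) : β z ∈ WW₀ F p := by
  classical
  refine ⟨iso_ZS hβ hz.1, fun P hP b hb h => ?_⟩
  obtain ⟨γ, hγ, hγβ, hβγ⟩ := hβ.inv
  have hγP : Mp F P γ := hγ.mp.restrict hP.le
  have hI1 : Iso F P hγP.img γ := Iso.of_mp hγP
  obtain ⟨Q, hQ⟩ : ∃ Q, Q = hγP.img := ⟨_, rfl⟩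
  rw [← hQ] at hI1
  have hQS : Q ≤ S := by
    intro y hy
    obtain ⟨x, hx, rfl⟩ := hI1.surj y hy
    exact hγ.maps x (hP.le hx)
  have hQmem : ∀ y ∈ S, β y ∈ P → y ∈ Q := by
    intro y hy hβy
    have := hI1.maps _ hβy
    rwa [hγβ y hy] at this
  have hQ' : TvP S p Q := by
    refine ⟨hQS, fun y hy => hQmem y hy.1 (hP.zl (iso_ZS hβ hy)), ?_, ?_⟩
    · intro y hy w hw
      obtain ⟨y', hy', rfl⟩ := hI1.surj y hy
      obtain ⟨w', hw', rfl⟩ := hI1.surj w hw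
      rw [← hI1.mp.map_mul hy' hw', ← hI1.mp.map_mul hw' hy', hP.ab y' hy' w' hw']
    · rw [← hP.idx]
      exact index_of_card hQS hP.le hI1.card_eq.symm
  have hI2 : Iso F Q P β := by
    refine ⟨hβ.mp.restrict hQS, fun y hy => ?_, fun y hy => ⟨γ y, hI1.maps y hy, hβγ y (hP.le hy)⟩⟩
    obtain ⟨y', hy', rfl⟩ := hI1.surj y hy
    rwa [hβγ y' (hP.le hy')]
  have hI3 := (hI2.comp (Iso.of_mem_autGroup hP.le hb)).comp hI1
  have hzQ : z ∈ Q := hQmem z hz.1.1 h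
  have h1 := hz.2 Q hQ' (autOfIso hI3) (autOfIso_mem hI3) hzQ
  rw [autOfIso_apply] at h1
  have h2 : (γ ∘ toFun (P.subtype.comp b.toMonoidHom) ∘ β) z = γ ((b ⟨β z, h⟩ : P) : Ω) := by
    show γ (toFun (P.subtype.comp b.toMonoidHom) (β z)) = _
    exact congrArg γ (toFun_aut b ⟨β z, h⟩)
  have h1' : (γ ∘ toFun (P.subtype.comp b.toMonoidHom) ∘ β) z ∈ ZS S := h1
  rw [h2] at h1'
  have h3 := iso_ZS hβ h1'
  rwa [hβγ _ (hP.le (b ⟨β z, h⟩).2)] at h3

/-- The automorphisms of `P` fixing `W` pointwise. -/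
def fixOn (P W : Subgroup Ω) : Subgroup (MulAut P) where
  carrier := {h | ∀ y : P, (y : Ω) ∈ W → h y = y}
  one_mem' := fun _ _ => rfl
  mul_mem' := by
    intro g h hg hh y hy
    show g (h y) = y
    rw [hh y hy, hg y hy]
  inv_mem' := by
    intro h hh y hy
    have := hh y hy
    calc h⁻¹ y = h⁻¹ (h y) := by rw [this]
      _ = y := by simp

theorem WW_aut (C : TvC F p K) (hP : TvP S p P) {b : MulAut P} (hb : b ∈ F.autGroup P) {z : Ω} (hz : z ∈ WW₀ F p) :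
    ((b ⟨z, hP.zl hz.1⟩ : P) : Ω) ∈ WW₀ F p := by
  obtain ⟨x, hxS, hxP⟩ := hP.exists_x
  obtain ⟨u, huC, hum⟩ := exists_isC (F := F) hP.le hxS (hP.normal C hxS)
  obtain ⟨d, hd, n, hn, hnu, e⟩ := frat C hP hxS hxP huC (H := fixOn P (WW₀ F p)) (fun b' hb' y hy => by
    show b' (u (b'⁻¹ y)) = y
    have h1 := hy.2 P hP b'⁻¹ (inv_mem hb') y.2
    rw [u_fix C hP hxS huC h1]
    simp) hb
  obtain ⟨ε, hε, hεn⟩ := lift_norm C hP hxS hxP huC hn hnu
  have h1 : ((n ⟨z, hP.zl hz.1⟩ : P) : Ω) ∈ WW₀ F p := by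
    rw [← hεn]
    exact WW_iso hε hz
  rw [e]
  show ((d (n ⟨z, hP.zl hz.1⟩) : P) : Ω) ∈ WW₀ F p
  rw [hd _ h1]
  exact h1

/-- A subgroup stable under a family of automorphisms, in the form used by the normality criterion. -/
theorem map_eq_of_stable {P W : Subgroup Ω} {α : MulAut P} (h1 : ∀ y : P, (y : Ω) ∈ W → (α y : Ω) ∈ W)
    (h2 : ∀ y : P, (y : Ω) ∈ W → (α⁻¹ y : Ω) ∈ W) : (W.subgroupOf P).map α.toMonoidHom = W.subgroupOf P := by
  apply le_antisymm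
  · rintro _ ⟨y, hy, rfl⟩
    exact Subgroup.mem_subgroupOf.mpr (h1 y (Subgroup.mem_subgroupOf.mp hy))
  · intro y hy
    refine ⟨α⁻¹ y, Subgroup.mem_subgroupOf.mpr (h2 y (Subgroup.mem_subgroupOf.mp hy)), ?_⟩
    show α (α⁻¹ y) = y
    simp

/-- A subgroup stable under automorphisms of `S` and the essential automizers is in the core. -/
theorem le_core_of_stable (hS : IsPGroup p S) (hF : F.IsSaturated p) {W : Subgroup Ω} (hWS : W ≤ S)
    (h1 : ∀ β, Iso F S S β → ∀ z ∈ W, β z ∈ W)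
    (h2 : ∀ E, F.IsEssential p E → W ≤ E ∧ ∀ b ∈ F.autGroup E, ∀ y : E, (y : Ω) ∈ W → (b y : Ω) ∈ W) :
    W ≤ F.core := by
  have hN : F.IsNormal W := by
    refine Cfsg.Agent.H24.isNormal_of_aut hS hF hWS ?_
    rintro P (rfl | hE)
    · refine ⟨hWS, fun α hα => map_eq_of_stable ?_ ?_⟩
      · intro y hy
        have h3 := h1 _ (Iso.of_mem_autGroup le_rfl hα) _ hy
        rwa [toFun_aut] at h3
      · intro y hy
        have h3 := h1 _ (Iso.of_mem_autGroup le_rfl (inv_mem hα)) _ hy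
        rwa [toFun_aut] at h3
    · obtain ⟨h3, h4⟩ := h2 P hE
      exact ⟨h3, fun α hα => map_eq_of_stable (h4 α hα) (h4 α⁻¹ (inv_mem hα))⟩
  exact le_sSup hN

/-- `WW₀` lies in the core. -/
theorem WW_le_core (C : TvC F p K) : WW₀ F p ≤ F.core := by
  refine le_core_of_stable C.hS C.hF (fun z hz => hz.1.1) (fun β hβ z hz => WW_iso hβ hz) ?_
  intro E hE
  have hP := (ess_tvp C hE).1
  refine ⟨fun z hz => hP.zl hz.1, fun b hb y hy => ?_⟩
  exact WW_aut C hP hb hy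

/-- There is an essential subgroup if the core is proper. -/
theorem exists_essential (hS : IsPGroup p S) (hF : F.IsSaturated p) (hcore : F.core ≠ S) : ∃ E, F.IsEssential p E := by
  by_contra hcon
  push Not at hcon
  apply hcore
  apply le_antisymm (sSup_le fun Q hQ => hQ.1)
  refine le_core_of_stable hS hF le_rfl (fun β hβ z hz => hβ.maps z hz) ?_
  intro E hE
  exact absurd hE (hcon E)

end Cfsg.Agent.H25
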