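import Cfsg.Agent.Lib.H25.TvB
set_option autoImplicit false
set_option linter.style.haveILetI false

/-! The Weyl element and the decomposition of `P` attached to a moved `K`. -/

namespace Cfsg.Agent.H25

open Cfsg Cfsg.FusionSystem

section Abs

variable {A : Type*} [CommGroup A]

theorem weyl {u v : MulAut A} {k k₂ : A} (h1 : u k = k) (h2 : u k₂ = k₂ * k) (h3 : v k₂ = k₂) (h4 : v k = k * k₂⁻¹) :
    ((u * v * u) * (u * v * u)) k = k⁻¹ ∧ ((u * v * u) * (u * v * u)) k₂ = k₂⁻¹ := by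
  have hw1 : (u * v * u) k = k₂⁻¹ := by
    show u (v (u k)) = _
    rw [h1, h4, map_mul, map_inv, h1, h2, mul_inv, mul_comm k₂⁻¹ k⁻¹, mul_inv_cancel_left]
  have hw2 : (u * v * u) k₂ = k := by
    show u (v (u k₂)) = _
    rw [h2, map_mul, h3, h4, mul_comm k k₂⁻¹, mul_inv_cancel_left, h1]
  constructor
  · show (u * v * u) ((u * v * u) k) = _
    rw [hw1, map_inv, hw2]
  · show (u * v * u) ((u * v * u) k₂) = _
    rw [hw2, hw1]

theorem stab_pow {B : Type*} [Group B] {α : MulAut B} {t g : B} (hg : t⁻¹ * α t = g) (hαg : α g = g) (n : ℕ) :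
    (α ^ n) t = t * g ^ n := by
  induction n with
  | zero => simp
  | succ n ih =>
    rw [pow_succ', MulAut.mul_apply, ih, map_mul, map_pow, hαg, pow_succ', ← mul_assoc]
    congr 1
    rw [← hg]
    group

end Abs

variable {Ω : Type*} [Group Ω] {S : Subgroup Ω} {F : FusionSystem S} {p : ℕ} [Finite S] [Fact p.Prime]
variable {K P E : Subgroup Ω} {x : Ω} {u : MulAut P}

/-- Generators of subgroups of prime order. -/
theorem exists_zpow_of_card {K₁ : Subgroup Ω} (h1 : Nat.card K₁ = p) {g : Ω} (hg1 : g ∈ K₁) (hg : g ≠ 1) {y : Ω} (hy : y ∈ K₁) :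
    ∃ i : ℤ, g ^ i = y := by
  have hne : (⟨g, hg1⟩ : K₁) ≠ 1 := fun h => hg (congrArg Subtype.val h)
  have h3 : Subgroup.zpowers (⟨g, hg1⟩ : K₁) = ⊤ := zpowers_eq_top_of_prime_card h1 hne
  have h4 : (⟨y, hy⟩ : K₁) ∈ Subgroup.zpowers (⟨g, hg1⟩ : K₁) := by
    rw [h3]
    exact Subgroup.mem_top _
  obtain ⟨n, hn⟩ := h4
  exact ⟨n, congrArg Subtype.val hn⟩

theorem pow_eq_one_of_card {K₁ : Subgroup Ω} (h1 : Nat.card K₁ = p) {y : Ω} (hy : y ∈ K₁) : y ^ p = 1 := by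
  have := pow_card_eq_one' (x := (⟨y, hy⟩ : K₁))
  rw [h1] at this
  exact congrArg Subtype.val this

/-- The data of a moved `K`. -/
structure Mv (K : Subgroup Ω) (u v v' : MulAut P) (b : MulAut P) (k k₂ : P) : Prop where
  hk : (k : Ω) ∈ K
  hk1 : k ≠ 1
  hk2 : (k₂ : Ω) ∈ imO b K
  hk21 : k₂ ≠ 1
  uk : u k = k
  uk2 : u k₂ = k₂ * k
  vk2 : v k₂ = k₂
  vk : v k ≠ k
  v'k2 : v' k₂ = k₂
  v'k : v' k = k * k₂⁻¹
  hv' : v' ∈ Subgroup.zpowers v
  dec : ∀ y : P, ∃ (i l : ℤ) (c : P), y = k₂ ^ i * k ^ l * c ∧ u c = c ∧ v c = c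

section

variable (C : TvC F p K) (hP : TvP S p P) (hxS : x ∈ S) (hxP : x ∉ P) (huC : IsC x u)

include C hP hxS hxP huC

theorem exists_mv {b : MulAut P} (hb : b ∈ F.autGroup P) (hne : imO b K ≠ K) :
    ∃ (v' : MulAut P) (k k₂ : P), Mv K u (b * u * b⁻¹) v' b k k₂ := by
  classical
  letI instC : CommGroup P := { (inferInstance : Group P) with
    mul_comm := fun a c => Subtype.ext (hP.ab _ a.2 _ c.2) }
  have hKP : K ≤ P := C.kz.trans hP.zl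
  have hKp := C.hKp
  have hc : Nat.card (imO b K) = p := by
    rw [card_imO hKP]
    exact hKp
  obtain ⟨v, hvdef⟩ : ∃ v, v = b * u * b⁻¹ := ⟨_, rfl⟩
  rw [← hvdef]
  have hvst : v ∈ stabCh P (imO b K) := hvdef ▸ conj_stab C hP hxS huC b
  have hust := u_stab C hP hxS huC
  -- a generator of `K`
  have hKnt : Nontrivial K := by
    haveI hfinK : Finite K := finite_of_le C.hKS
    apply (Finite.one_lt_card_iff_nontrivial).1
    rw [hKp]
    exact (Fact.out : p.Prime).one_lt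
  obtain ⟨⟨t₀, ht₀⟩, ht₀1⟩ := exists_ne (1 : K)
  have ht₀ne : t₀ ≠ 1 := fun h => ht₀1 (Subtype.ext h)
  obtain ⟨t, htdef⟩ : ∃ t : P, t = ⟨t₀, hKP ht₀⟩ := ⟨_, rfl⟩
  obtain ⟨k₂, hk₂def⟩ : ∃ k₂ : P, k₂ = b t := ⟨_, rfl⟩
  have hk₂ : (k₂ : Ω) ∈ imO b K := by
    rw [mem_imO, hk₂def]
    have : b⁻¹ (b t) = t := by simp
    rw [this, htdef]
    exact ht₀
  have hk₂1 : k₂ ≠ 1 := by
    rw [hk₂def]
    intro h
    have h1 : t = 1 := by
      apply b.injective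
      rw [h, map_one]
    apply ht₀ne
    rw [htdef] at h1
    exact congrArg Subtype.val h1
  have hk₂1' : (k₂ : Ω) ≠ 1 := fun h => hk₂1 (Subtype.ext h)
  have hk₂Z : (k₂ : Ω) ∉ ZS S := by
    intro h
    apply hne
    refine imO_eq_of_le C hP hxS hxP huC hb ?_
    intro y hy
    obtain ⟨i, rfl⟩ := exists_zpow_of_card hc hk₂ hk₂1' hy
    exact (ZS S).zpow_mem h i
  obtain ⟨k, hkdef⟩ : ∃ k : P, k = k₂⁻¹ * u k₂ := ⟨_, rfl⟩
  have hk : (k : Ω) ∈ K := by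
    rw [hkdef]
    exact u_quot C hP hxS huC k₂
  have huk₂ : u k₂ = k₂ * k := by
    rw [hkdef]
    group
  have huk : u k = k := u_fix C hP hxS huC (C.kz hk)
  have hk1 : k ≠ 1 := by
    intro h
    apply hk₂Z
    apply hP.mem_Z hxS hxP k₂.2
    rw [← huC k₂, huk₂, h, mul_one]
  have hk1' : (k : Ω) ≠ 1 := fun h => hk1 (Subtype.ext h)
  have hkb : ((b⁻¹ k : P) : Ω) ∉ ZS S := by
    intro h
    apply hne
    refine imO_eq_of_le' C hP hxS hxP huC hb ?_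
    rintro ⟨y, hyP⟩ hy
    obtain ⟨i, rfl⟩ := exists_zpow_of_card hKp hk hk1' hy
    have e : (⟨(k : Ω) ^ i, hyP⟩ : P) = k ^ i := Subtype.ext (by simp)
    rw [e, map_zpow]
    have := (ZS S).zpow_mem h i
    simpa using this
  have hvk : v k ≠ k := by
    intro h
    apply hkb
    have h1 : b (u (b⁻¹ k)) = k := by
      rw [hvdef] at h
      exact h
    have h2 : u (b⁻¹ k) = b⁻¹ k := by
      apply b.injective
      rw [h1]
      simp
    apply hP.mem_Z hxS hxP (b⁻¹ k).2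
    rw [← huC, h2]
  have hvk₂ : v k₂ = k₂ := hvst.1 k₂ hk₂
  obtain ⟨g, hgdef⟩ : ∃ g : P, g = k⁻¹ * v k := ⟨_, rfl⟩
  have hg : (g : Ω) ∈ imO b K := by
    rw [hgdef]
    exact hvst.2 k
  have hg1 : g ≠ 1 := by
    intro h
    apply hvk
    rw [hgdef, inv_mul_eq_one] at h
    exact h.symm
  have hg1' : (g : Ω) ≠ 1 := fun h => hg1 (Subtype.ext h)
  have hvg : v g = g := hvst.1 g hg
  have hvkg : v k = k * g := by
    rw [hgdef]
    group
  -- powers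
  have hzpK : ∀ y : P, (y : Ω) ∈ K → ∃ i : ℤ, y = k ^ i := by
    rintro y hy
    obtain ⟨i, hi⟩ := exists_zpow_of_card hKp hk hk1' hy
    exact ⟨i, Subtype.ext (by rw [← hi]; simp)⟩
  have hzpb : ∀ y : P, (y : Ω) ∈ imO b K → ∃ i : ℤ, y = g ^ i := by
    rintro y hy
    obtain ⟨i, hi⟩ := exists_zpow_of_card hc hg hg1' hy
    exact ⟨i, Subtype.ext (by rw [← hi]; simp)⟩
  -- the power of `v`
  haveI hfinP : Finite P := finite_of_le hP.le
  obtain ⟨i₀, hi₀⟩ := hzpb k₂⁻¹ (by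
    have := (imO b K).inv_mem hk₂
    simpa using this)
  have hfo : IsOfFinOrder g := isOfFinOrder_of_finite g
  have hpw : k₂⁻¹ ∈ Submonoid.powers g := by
    rw [hfo.mem_powers_iff_mem_zpowers]
    exact ⟨i₀, hi₀.symm⟩
  obtain ⟨n, hn⟩ := hpw
  have hpow : (v ^ n) k = k * k₂⁻¹ := by
    rw [stab_pow (hgdef.symm) hvg n]
    congr 1
  have hpowk₂ : ∀ m : ℕ, (v ^ m) k₂ = k₂ := by
    intro m
    induction m with
    | zero => rfl
    | succ m ih =>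
      rw [pow_succ', MulAut.mul_apply, ih, hvk₂]
  refine ⟨v ^ n, k, k₂, hk, hk1, hk₂, hk₂1, huk, huk₂, hvk₂, hvk, hpowk₂ n, hpow, ⟨n, by simp⟩, ?_⟩
  intro y
  obtain ⟨i, hi⟩ := hzpK (y⁻¹ * u y) (u_quot C hP hxS huC y)
  obtain ⟨y₁, hy₁⟩ : ∃ y₁ : P, y₁ = k₂ ^ (-i) * y := ⟨_, rfl⟩
  have huy : u y = y * k ^ i := by
    rw [← hi]
    group
  have huy₁ : u y₁ = y₁ := by
    rw [hy₁, map_mul, map_zpow, huk₂, huy, mul_zpow, mul_mul_mul_comm, zpow_neg k, inv_mul_cancel, mul_one]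
  obtain ⟨l, hl⟩ := hzpb (y₁⁻¹ * v y₁) (hvst.2 y₁)
  have hvy₁ : v y₁ = y₁ * g ^ l := by
    rw [← hl]
    group
  obtain ⟨c, hc'⟩ : ∃ c : P, c = k ^ (-l) * y₁ := ⟨_, rfl⟩
  refine ⟨i, l, c, ?_, ?_, ?_⟩
  · rw [hc', hy₁]
    simp [zpow_neg, mul_assoc]
  · rw [hc', map_mul, map_zpow, huk, huy₁]
  · rw [hc', map_mul, map_zpow, hvkg, hvy₁, mul_zpow, mul_mul_mul_comm, zpow_neg g, inv_mul_cancel, mul_one]

end

end Cfsg.Agent.H25
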