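import Cfsg.Agent.Lib.H25.TvD
set_option autoImplicit false
set_option linter.style.haveILetI false

/-! The theorem for odd primes. -/

namespace Cfsg.Agent.H25

open Cfsg Cfsg.FusionSystem

/-- Invariant complements by averaging. -/
theorem exists_inv_compl {A : Type*} [CommGroup A] [Finite A] {p : ℕ} [Fact p.Prime] (B : Subgroup (MulAut A)) (hB : ¬ p ∣ Nat.card B)
    (K₀ C₀ : Subgroup A) (hKp : Nat.card K₀ = p) (hKB : ∀ β ∈ B, ∀ k ∈ K₀, β k ∈ K₀) (hint : K₀ ⊓ C₀ = ⊥) (hsup : K₀ ⊔ C₀ = ⊤) :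
    ∃ Z₁ : Subgroup A, K₀ ⊓ Z₁ = ⊥ ∧ K₀ ⊔ Z₁ = ⊤ ∧ ∀ β ∈ B, ∀ z ∈ Z₁, β z ∈ Z₁ := by
  classical
  haveI : Fintype B := Fintype.ofFinite _
  have hcop : (Nat.card K₀).Coprime (Nat.card B) := by
    rw [hKp]
    exact (Nat.Prime.coprime_iff_not_dvd (Fact.out : p.Prime)).2 hB
  -- the retraction
  let f : K₀ →* A ⧸ C₀ := (QuotientGroup.mk' C₀).comp K₀.subtype
  have hfb : Function.Bijective f := by
    constructor
    · intro a c h
      have h1 : (a : A)⁻¹ * c ∈ C₀ := QuotientGroup.eq.1 h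
      have h2 : (a : A)⁻¹ * c ∈ K₀ ⊓ C₀ := ⟨K₀.mul_mem (K₀.inv_mem a.2) c.2, h1⟩
      rw [hint, Subgroup.mem_bot, inv_mul_eq_one] at h2
      exact Subtype.ext h2
    · intro q
      obtain ⟨z, rfl⟩ := QuotientGroup.mk'_surjective C₀ q
      have hz : z ∈ K₀ ⊔ C₀ := by
        rw [hsup]
        exact Subgroup.mem_top _
      obtain ⟨a, ha, c, hc, rfl⟩ := Subgroup.mem_sup.1 hz
      refine ⟨⟨a, ha⟩, ?_⟩
      apply QuotientGroup.eq.2
      show a⁻¹ * (a * c) ∈ C₀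
      simpa using hc
  let E := MulEquiv.ofBijective f hfb
  let lam : A →* K₀ := E.symm.toMonoidHom.comp (QuotientGroup.mk' C₀)
  have hlam : ∀ k : K₀, lam k = k := by
    intro k
    show E.symm (f k) = k
    exact E.symm_apply_apply k
  -- the average
  let Λ : A →* A := ∏ β : B, (((β : MulAut A)⁻¹).toMonoidHom.comp (K₀.subtype.comp (lam.comp (β : MulAut A).toMonoidHom)))
  have hΛ : ∀ z, Λ z = ∏ β : B, (β : MulAut A)⁻¹ ((lam ((β : MulAut A) z) : K₀) : A) := by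
    intro z
    rw [MonoidHom.finset_prod_apply]
    rfl
  have hΛK : ∀ z, Λ z ∈ K₀ := by
    intro z
    rw [hΛ]
    refine Subgroup.prod_mem _ fun β _ => ?_
    exact hKB _ (inv_mem β.2) _ (lam _).2
  have hΛk : ∀ k ∈ K₀, Λ k = k ^ Nat.card B := by
    intro k hk
    rw [hΛ]
    have h1 : ∀ β : B, (β : MulAut A)⁻¹ ((lam ((β : MulAut A) k) : K₀) : A) = k := by
      intro β
      have h2 := hlam ⟨(β : MulAut A) k, hKB _ β.2 k hk⟩
      have h3 : lam ((β : MulAut A) k) = ⟨(β : MulAut A) k, hKB _ β.2 k hk⟩ := h2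
      rw [h3]
      show (β : MulAut A)⁻¹ ((β : MulAut A) k) = k
      simp
    rw [Finset.prod_congr rfl (fun β _ => h1 β), Finset.prod_const, Finset.card_univ, Nat.card_eq_fintype_card]
  have hΛe : ∀ γ ∈ B, ∀ z, Λ ((γ : MulAut A) z) = (γ : MulAut A) (Λ z) := by
    intro γ hγ z
    rw [hΛ, hΛ, map_prod]
    refine (Fintype.prod_equiv (Equiv.mulRight (⟨γ, hγ⟩ : B)) _ _ fun β => ?_)
    show (β : MulAut A)⁻¹ ((lam ((β : MulAut A) (γ z)) : K₀) : A) = γ (((β * ⟨γ, hγ⟩ : B) : MulAut A)⁻¹ ((lam (((β * ⟨γ, hγ⟩ : B) : MulAut A) z) : K₀) : A))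
    have e1 : ((β * ⟨γ, hγ⟩ : B) : MulAut A) = (β : MulAut A) * γ := rfl
    rw [e1]
    have e2 : ((β : MulAut A) * γ) z = (β : MulAut A) (γ z) := rfl
    rw [e2]
    have e3 : ((β : MulAut A) * γ)⁻¹ = γ⁻¹ * (β : MulAut A)⁻¹ := mul_inv_rev _ _
    rw [e3]
    show _ = γ (γ⁻¹ ((β : MulAut A)⁻¹ _))
    simp
  refine ⟨Λ.ker, ?_, ?_, ?_⟩
  · rw [eq_bot_iff]
    rintro k ⟨hk, hk'⟩
    have hk2 : k ∈ K₀ := hk
    have hk3 : Λ k = 1 := hk'
    rw [hΛk k hk2] at hk3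
    replace hk := hk2
    replace hk' := hk3
    have h1 := pow_card_eq_one' (x := (⟨k, hk⟩ : K₀))
    rw [hKp] at h1
    have h1' : k ^ p = 1 := congrArg Subtype.val h1
    have h2 : orderOf k ∣ 1 := by
      have h3 := Nat.dvd_gcd (orderOf_dvd_of_pow_eq_one h1') (orderOf_dvd_of_pow_eq_one hk')
      rw [hKp] at hcop
      rwa [hcop] at h3
    rw [Nat.dvd_one, orderOf_eq_one_iff] at h2
    rw [Subgroup.mem_bot]
    exact h2
  · rw [eq_top_iff]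
    intro z _
    -- a root of `Λ z`
    let e := powCoprime hcop
    obtain ⟨k₁, hk₁⟩ := e.surjective ⟨Λ z, hΛK z⟩
    have h1 : (k₁ : A) ^ Nat.card B = Λ z := congrArg Subtype.val hk₁
    have h2 : Λ (z * (k₁ : A)⁻¹) = 1 := by
      rw [map_mul, map_inv, hΛk _ k₁.2, h1, mul_inv_cancel]
    have h3 : z = (k₁ : A) * (z * (k₁ : A)⁻¹) := by simp
    rw [h3]
    exact Subgroup.mul_mem_sup k₁.2 (MonoidHom.mem_ker.2 h2)
  · intro β hβ z hz
    rw [MonoidHom.mem_ker] at hz ⊢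
    rw [hΛe β hβ, hz, map_one]

variable {Ω : Type*} [Group Ω] {S : Subgroup Ω} {F : FusionSystem S} {p : ℕ} [Finite S] [Fact p.Prime]
variable {K P E : Subgroup Ω} {x : Ω} {u : MulAut P}

theorem zpow_fix {A : Type*} [Group A] {α : MulAut A} {c : A} (h : α c = c) (i : ℤ) : (α ^ i) c = c :=
  Subgroup.zpow_mem (MulAction.stabilizer (MulAut A) c) h i

section

variable (C : TvC F p K) (hP : TvP S p P) (hxS : x ∈ S) (hxP : x ∉ P) (huC : IsC x u)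

include C hP hxS hxP huC

theorem fix_imp_Z {b : MulAut P} {y : P} (h : (b * u * b⁻¹) y = y) : ((b⁻¹ y : P) : Ω) ∈ ZS S := by
  have h1 : b (u (b⁻¹ y)) = y := h
  have h2 : u (b⁻¹ y) = b⁻¹ y := by
    apply b.injective
    rw [h1]
    simp
  apply hP.mem_Z hxS hxP (b⁻¹ y).2
  rw [← huC, h2]

theorem Mv.z_dec {b v' : MulAut P} {k k₂ : P} (hM : Mv K u (b * u * b⁻¹) v' b k k₂) (y : P) (hy : (y : Ω) ∈ ZS S) :
    ∃ (l : ℤ) (c : P), y = k ^ l * c ∧ u c = c ∧ (b * u * b⁻¹) c = c ∧ ((c : Ω) ∈ ZS S) := by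
  letI instC : CommGroup P := { (inferInstance : Group P) with
    mul_comm := fun a c => Subtype.ext (hP.ab _ a.2 _ c.2) }
  have hKP : K ≤ P := C.kz.trans hP.zl
  have hc : Nat.card (imO b K) = p := by
    rw [card_imO hKP]
    exact C.hKp
  obtain ⟨i, l, c, e, huc, hvc⟩ := hM.dec y
  have huy : u y = y := u_fix C hP hxS huC hy
  have hki : k ^ i = 1 := by
    have h1 : u y = y * k ^ i := by
      rw [e, map_mul, map_mul, map_zpow, map_zpow, hM.uk2, hM.uk, huc, mul_zpow]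
      simp only [mul_assoc, mul_comm, mul_left_comm]
    rw [huy] at h1
    exact (mul_eq_left.1 h1.symm)
  have hkp : k ^ p = 1 := Subtype.ext (by
    have := pow_eq_one_of_card C.hKp hM.hk
    simpa using this)
  have hk₂p : k₂ ^ p = 1 := Subtype.ext (by
    have := pow_eq_one_of_card hc hM.hk2
    simpa using this)
  have hord : orderOf k = p := orderOf_eq_prime hkp hM.hk1
  have hdvd : (p : ℤ) ∣ i := by
    rw [← hord]
    exact orderOf_dvd_iff_zpow_eq_one.2 hki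
  obtain ⟨m, rfl⟩ := hdvd
  have hk₂i : k₂ ^ ((p : ℤ) * m) = 1 := by
    rw [zpow_mul, zpow_natCast, hk₂p, one_zpow]
  rw [hk₂i, one_mul] at e
  refine ⟨l, c, e, huc, hvc, ?_⟩
  apply hP.mem_Z hxS hxP c.2
  rw [← huC, huc]

theorem exists_theta {b v' : MulAut P} {k k₂ : P} (hb : b ∈ F.autGroup P) (hM : Mv K u (b * u * b⁻¹) v' b k k₂) :
    ∃ θ ∈ F.autGroup P, θ k = k⁻¹ ∧ θ k₂ = k₂⁻¹ ∧ (∀ c : P, u c = c → (b * u * b⁻¹) c = c → θ c = c) ∧ θ * u = u * θ := by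
  letI instC : CommGroup P := { (inferInstance : Group P) with
    mul_comm := fun a c => Subtype.ext (hP.ab _ a.2 _ c.2) }
  have hu : u ∈ F.autGroup P := conj_mem_autGroup hP.le hxS huC
  have hv : b * u * b⁻¹ ∈ F.autGroup P := mul_mem (mul_mem hb hu) (inv_mem hb)
  have hv' : v' ∈ F.autGroup P := by
    obtain ⟨i, hi⟩ := hM.hv'
    rw [← hi]
    exact zpow_mem hv i
  have hw := weyl hM.uk hM.uk2 hM.v'k2 hM.v'k
  have hfix : ∀ c : P, u c = c → (b * u * b⁻¹) c = c → (u * v' * u * (u * v' * u)) c = c := by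
    intro c huc hvc
    have h1 : v' c = c := by
      obtain ⟨i, hi⟩ := hM.hv'
      rw [← hi]
      exact zpow_fix hvc i
    show u (v' (u (u (v' (u c))))) = c
    rw [huc, h1, huc, huc, h1, huc]
  refine ⟨u * v' * u * (u * v' * u), mul_mem (mul_mem (mul_mem hu hv') hu) (mul_mem (mul_mem hu hv') hu), hw.1, hw.2, hfix, ?_⟩
  ext y
  obtain ⟨i, l, c, e, huc, hvc⟩ := hM.dec y
  have hθc := hfix c huc hvc
  obtain ⟨θ, hθ⟩ : ∃ θ, θ = u * v' * u * (u * v' * u) := ⟨_, rfl⟩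
  rw [← hθ] at hθc hw ⊢
  have e1 : (θ * u) y = θ (u y) := rfl
  have e2 : (u * θ) y = u (θ y) := rfl
  rw [e1, e2, e]
  simp only [map_mul, map_zpow, hM.uk2, hM.uk, huc, hw.1, hw.2, hθc, map_inv, mul_inv]

/-- The key fact for odd primes: an invariant complement stays central. -/
theorem odd_key (hp2 : p ≠ 2) {Z₁ : Subgroup Ω} (hZ₁ : Z₁ ≤ ZS S) (hst : ∀ β, Iso F S S β → ∀ z ∈ Z₁, β z ∈ Z₁)
    (hint : ∀ z ∈ Z₁, z ∈ K → z = 1) {b : MulAut P} (hb : b ∈ F.autGroup P) (y : P) (hy : (y : Ω) ∈ Z₁) :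
    ((b⁻¹ y : P) : Ω) ∈ ZS S := by
  letI instC : CommGroup P := { (inferInstance : Group P) with
    mul_comm := fun a c => Subtype.ext (hP.ab _ a.2 _ c.2) }
  by_cases hne : imO b K = K
  · obtain ⟨i, hi⟩ := conj_mem_stab_same C hP hxS hxP huC hb hne
    apply fix_imp_Z C hP hxS hxP huC
    have hi' : u ^ i = b * u * b⁻¹ := hi
    rw [← hi']
    exact zpow_fix (u_fix C hP hxS huC (hZ₁ hy)) i
  · obtain ⟨v', k, k₂, hM⟩ := exists_mv C hP hxS hxP huC hb hne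
    obtain ⟨θ, hθ, hθk, hθk₂, hθc, hθu⟩ := exists_theta C hP hxS hxP huC hb hM
    obtain ⟨l, c, e, huc, hvc, hcZ⟩ := hM.z_dec C hP hxS hxP huC y (hZ₁ hy)
    obtain ⟨ε, hε, hεθ⟩ := lift_norm C hP hxS hxP huC (n := θ) hθ (by
      rw [hθu]
      simp)
    have h1 : ε y ∈ Z₁ := hst ε hε _ hy
    have hθy : θ y = (k ^ l)⁻¹ * c := by
      rw [e, map_mul, map_zpow, hθk, hθc c huc hvc, inv_zpow]
    have h2 : ((k ^ (-(2 * l)) : P) : Ω) = ε y * (y : Ω)⁻¹ := by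
      rw [hεθ, hθy, e]
      have e3 : ((k ^ l)⁻¹ * c) * (k ^ l * c)⁻¹ = k ^ (-(2 * l)) := by
        rw [mul_inv, mul_mul_mul_comm]
        have : c * c⁻¹ = 1 := mul_inv_cancel c
        rw [this, mul_one, two_mul, neg_add, zpow_add, zpow_neg]
      rw [← e3]
      rfl
    have hkp : k ^ p = 1 := Subtype.ext (by
      have := pow_eq_one_of_card C.hKp hM.hk
      simpa using this)
    have hord : orderOf k = p := orderOf_eq_prime hkp hM.hk1
    have h3 : ((k ^ (-(2 * l)) : P) : Ω) = 1 := by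
      apply hint
      · rw [h2]
        exact Z₁.mul_mem h1 (Z₁.inv_mem hy)
      · have : ((k ^ (-(2 * l)) : P) : Ω) = (k : Ω) ^ (-(2 * l)) := by simp
        rw [this]
        exact K.zpow_mem hM.hk _
    have h4 : k ^ (-(2 * l)) = 1 := Subtype.ext h3
    have h5 : (p : ℤ) ∣ (-(2 * l)) := by
      rw [← hord]
      exact orderOf_dvd_iff_zpow_eq_one.2 h4
    have h6 : (p : ℤ) ∣ l := by
      have h7 : (p : ℤ) ∣ 2 * l := (dvd_neg).1 h5
      have hcop : IsCoprime (p : ℤ) 2 := by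
        have : Nat.Coprime p 2 := by
          rw [Nat.coprime_comm, Nat.coprime_primes Nat.prime_two (Fact.out : p.Prime)]
          exact fun h => hp2 h.symm
        exact_mod_cast Nat.isCoprime_iff_coprime.2 this
      exact hcop.dvd_of_dvd_mul_left h7
    have h8 : k ^ l = 1 := by
      obtain ⟨m, rfl⟩ := h6
      rw [zpow_mul, zpow_natCast, hkp, one_zpow]
    rw [h8, one_mul] at e
    apply fix_imp_Z C hP hxS hxP huC
    rw [e]
    exact hvc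

end

/-- Automorphisms preserve `K`. -/
theorem aut_K (C : TvC F p K) (α : MulAut S) {k : Ω} (hk : k ∈ K) : ((α ⟨k, C.hKS hk⟩ : S) : Ω) ∈ K := by
  obtain ⟨s, hs, t, ht, hst⟩ := C.hna
  have h1 := C.hcm s hs t ht
  have h2 : s * t * s⁻¹ * t⁻¹ ≠ 1 := by
    intro h
    apply hst
    rw [mul_inv_eq_one, mul_inv_eq_iff_eq_mul] at h
    exact h
  obtain ⟨i, rfl⟩ := exists_zpow_of_card C.hKp h1 h2 hk
  have e : (⟨(s * t * s⁻¹ * t⁻¹) ^ i, C.hKS hk⟩ : S) = ((⟨s, hs⟩ : S) * ⟨t, ht⟩ * (⟨s, hs⟩ : S)⁻¹ * (⟨t, ht⟩ : S)⁻¹) ^ i :=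
    Subtype.ext (by simp)
  rw [e, map_zpow, map_mul, map_mul, map_mul, map_inv, map_inv]
  have h3 := C.hcm _ (α ⟨s, hs⟩).2 _ (α ⟨t, ht⟩).2
  have h4 : (((α ⟨s, hs⟩ * α ⟨t, ht⟩ * (α ⟨s, hs⟩)⁻¹ * (α ⟨t, ht⟩)⁻¹) ^ i : S) : Ω) =
      (((α ⟨s, hs⟩ : S) : Ω) * (α ⟨t, ht⟩ : S) * ((α ⟨s, hs⟩ : S) : Ω)⁻¹ * ((α ⟨t, ht⟩ : S) : Ω)⁻¹) ^ i := by
    simp
  rw [h4]
  exact K.zpow_mem h3 i

theorem aut_ZS (α : MulAut S) {z : Ω} (hz : z ∈ ZS S) : ((α ⟨z, hz.1⟩ : S) : Ω) ∈ ZS S := by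
  refine mem_ZS.mpr ⟨(α ⟨z, hz.1⟩).2, fun s hs => ?_⟩
  have e : (⟨s, hs⟩ : S) = α (α⁻¹ ⟨s, hs⟩) := by simp
  have h1 : (α⁻¹ ⟨s, hs⟩ : S) * ⟨z, hz.1⟩ = ⟨z, hz.1⟩ * (α⁻¹ ⟨s, hs⟩ : S) :=
    Subtype.ext ((mem_ZS.mp hz).2 _ (α⁻¹ ⟨s, hs⟩).2)
  have h2 : (⟨s, hs⟩ : S) * α ⟨z, hz.1⟩ = α ⟨z, hz.1⟩ * ⟨s, hs⟩ := by
    conv_lhs => rw [e]
    conv_rhs => rw [e]
    rw [← map_mul, ← map_mul, h1]
  exact congrArg Subtype.val h2

/-- Restriction of automorphisms to the centre. -/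
noncomputable def resZ : MulAut S →* MulAut (ZS S) :=
  MonoidHom.mk' (fun α =>
    { toFun := fun z => ⟨(α ⟨z, z.2.1⟩ : S), aut_ZS α z.2⟩
      invFun := fun z => ⟨(α⁻¹ ⟨z, z.2.1⟩ : S), aut_ZS α⁻¹ z.2⟩
      left_inv := fun z => Subtype.ext (by simp)
      right_inv := fun z => Subtype.ext (by
        show ((α (α⁻¹ ⟨z, z.2.1⟩) : S) : Ω) = z
        simp)
      map_mul' := fun y z => Subtype.ext (by
        have e : (⟨((y * z : ZS S) : Ω), (y * z : ZS S).2.1⟩ : S) = ⟨y, y.2.1⟩ * ⟨z, z.2.1⟩ := rfl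
        show ((α ⟨((y * z : ZS S) : Ω), (y * z : ZS S).2.1⟩ : S) : Ω) = _
        rw [e, map_mul]
        rfl) })
    (fun α β => by
      ext z
      rfl)

theorem resZ_apply (α : MulAut S) (z : ZS S) : ((resZ α z : ZS S) : Ω) = (α ⟨z, z.2.1⟩ : S) := rfl

/-- The image of the automizer of `S` on the centre has order prime to `p`. -/
theorem not_dvd_card_image (hS : IsPGroup p S) (hF : F.IsSaturated p) :
    ¬ p ∣ Nat.card ((F.autGroup S).map resZ) := by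
  have hfar : Far F p S := far_of_fullyNormalized hS hF (fullyNormalized_of_normal le_rfl (fun s hs => mem_normalizer_of_conj
      (fun y hy => S.mul_mem (S.mul_mem hs hy) (S.inv_mem hs)) (fun y hy => S.mul_mem (S.mul_mem (S.inv_mem hs) hy) hs)))
  obtain ⟨-, R₀, hR₀⟩ := hfar.auto
  obtain ⟨ρ, hρ⟩ : ∃ ρ : F.autGroup S →* MulAut (ZS S), ρ = resZ.comp (F.autGroup S).subtype := ⟨_, rfl⟩
  have hrange : ρ.range = (F.autGroup S).map resZ := by
    rw [hρ, MonoidHom.range_comp, Subgroup.range_subtype]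
  rw [← hrange, ← Subgroup.index_ker]
  have hle : (R₀ : Subgroup (F.autGroup S)) ≤ ρ.ker := by
    intro α hα
    rw [hR₀, Subgroup.mem_subgroupOf] at hα
    obtain ⟨s, hs, hsα⟩ := exists_of_mem_autInducedBy hα
    rw [MonoidHom.mem_ker, hρ]
    ext z
    show ((((α : F.autGroup S) : MulAut S) ⟨z, z.2.1⟩ : S) : Ω) = z
    rw [hsα]
    have := (mem_ZS.mp z.2).2 s hs
    show s * (z : Ω) * s⁻¹ = z
    rw [this]
    group
  intro h
  exact R₀.not_dvd_index (h.trans (Subgroup.index_dvd_of_le hle))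

/-- An invariant complement of `K` in the centre. -/
theorem exists_compl (C : TvC F p K) (hP : TvP S p P) (hxS : x ∈ S) (hxP : x ∉ P) (huC : IsC x u)
    {b : MulAut P} (hb : b ∈ F.autGroup P) (hne : imO b K ≠ K) :
    ∃ Z₁ : Subgroup Ω, Z₁ ≤ ZS S ∧ (∀ z ∈ Z₁, z ∈ K → z = 1) ∧ (∀ z ∈ ZS S, ∃ k ∈ K, ∃ w ∈ Z₁, z = k * w) ∧
      ∀ β, Iso F S S β → ∀ z ∈ Z₁, β z ∈ Z₁ := by
  classical
  letI instZ : CommGroup (ZS S) := { (inferInstance : Group (ZS S)) with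
    mul_comm := fun a c => Subtype.ext ((mem_ZS.mp c.2).2 _ a.2.1) }
  letI instC : CommGroup P := { (inferInstance : Group P) with
    mul_comm := fun a c => Subtype.ext (hP.ab _ a.2 _ c.2) }
  haveI hfinZ : Finite (ZS S) := finite_of_le inf_le_left
  have hKZ : K ≤ ZS S := C.kz
  obtain ⟨v', k, k₂, hM⟩ := exists_mv C hP hxS hxP huC hb hne
  obtain ⟨ι, hι⟩ : ∃ ι : ZS S →* P, ι = Subgroup.inclusion hP.zl := ⟨_, rfl⟩
  have hιv : ∀ z : ZS S, ((ι z : P) : Ω) = z := fun z => by rw [hι]; rfl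
  obtain ⟨C₀, hC₀⟩ : ∃ C₀ : Subgroup (ZS S), C₀ = MonoidHom.eqLocus ((b * u * b⁻¹).toMonoidHom.comp ι) ι := ⟨_, rfl⟩
  have hmemC₀ : ∀ z : ZS S, z ∈ C₀ ↔ (b * u * b⁻¹) (ι z) = ι z := by
    intro z
    rw [hC₀]
    rfl
  have hKpc : Nat.card (K.subgroupOf (ZS S)) = p := by
    rw [← C.hKp]
    exact Nat.card_congr (Subgroup.subgroupOfEquivOfLe hKZ).toEquiv
  have hk1' : (k : Ω) ≠ 1 := fun h => hM.hk1 (Subtype.ext h)
  obtain ⟨Z₁, h1, h2, h3⟩ := exists_inv_compl (A := ZS S) (p := p) ((F.autGroup S).map resZ)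
    (not_dvd_card_image C.hS C.hF) (K.subgroupOf (ZS S)) C₀ hKpc
    (by
      rintro _ ⟨α, -, rfl⟩ y hy
      apply Subgroup.mem_subgroupOf.mpr
      rw [resZ_apply]
      exact aut_K C α (Subgroup.mem_subgroupOf.mp hy))
    (by
      rw [eq_bot_iff]
      rintro z ⟨hz1, hz2⟩
      rw [Subgroup.mem_bot]
      by_contra hz
      have hz1' : (z : Ω) ∈ K := Subgroup.mem_subgroupOf.mp hz1
      have hz1n : (z : Ω) ≠ 1 := fun h => hz (Subtype.ext h)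
      obtain ⟨j, hj⟩ := exists_zpow_of_card C.hKp hz1' hz1n hM.hk
      have hz3 : (b * u * b⁻¹) (ι z) = ι z := (hmemC₀ z).1 hz2
      have e : k = (ι z) ^ j := Subtype.ext (by
        rw [← hj]
        simp [hιv])
      apply hM.vk
      rw [e, map_zpow, hz3])
    (by
      rw [eq_top_iff]
      intro z _
      obtain ⟨l, c, e, -, hvc, hcZ⟩ := hM.z_dec C hP hxS hxP huC (ι z) (by rw [hιv]; exact z.2)
      have hzc : z = (⟨(k : Ω) ^ l, hKZ (K.zpow_mem hM.hk l)⟩ : ZS S) * ⟨c, hcZ⟩ := Subtype.ext (by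
        have e1 := congrArg (fun y : P => (y : Ω)) e
        simp only [hιv] at e1
        rw [e1]
        simp)
      rw [hzc]
      refine Subgroup.mul_mem_sup (Subgroup.mem_subgroupOf.mpr (K.zpow_mem hM.hk l)) ?_
      rw [hmemC₀]
      have e2 : ι ⟨c, hcZ⟩ = c := Subtype.ext (hιv _)
      rw [e2]
      exact hvc)
  refine ⟨Z₁.map (ZS S).subtype, Subgroup.map_subtype_le _, ?_, ?_, ?_⟩
  · rintro _ ⟨z, hz, rfl⟩ hzK
    have : z ∈ K.subgroupOf (ZS S) ⊓ Z₁ := ⟨Subgroup.mem_subgroupOf.mpr hzK, hz⟩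
    rw [h1, Subgroup.mem_bot] at this
    rw [this]
    rfl
  · intro z hz
    have h4 : (⟨z, hz⟩ : ZS S) ∈ K.subgroupOf (ZS S) ⊔ Z₁ := by
      rw [h2]
      exact Subgroup.mem_top _
    obtain ⟨a, ha, c, hc, e⟩ := Subgroup.mem_sup.1 h4
    exact ⟨a, Subgroup.mem_subgroupOf.mp ha, c, ⟨c, hc, rfl⟩, (congrArg Subtype.val e).symm⟩
  · rintro β hβ _ ⟨z, hz, rfl⟩
    have h4 := h3 (resZ (autOfIso hβ)) ⟨_, autOfIso_mem hβ, rfl⟩ z hz
    exact ⟨_, h4, rfl⟩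

/-- **The theorem for odd primes**, first part. -/
theorem odd_main (C : TvC F p K) (hp2 : p ≠ 2) (hcore : F.core = ⊥) : ZS S = K := by
  have hKnb : K ≠ ⊥ := by
    intro h
    have h1 := C.hKp
    rw [h] at h1
    have h2 : Nat.card (⊥ : Subgroup Ω) = 1 := Nat.card_unique
    have := (Fact.out : p.Prime).one_lt
    omega
  have hcoreS : F.core ≠ S := by
    intro h
    rw [hcore] at h
    apply hKnb
    rw [eq_bot_iff]
    exact C.hKS.trans h.ge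
  obtain ⟨E, hE⟩ := exists_essential C.hS C.hF hcoreS
  obtain ⟨hP, a, ha, t, htK, hat⟩ := ess_tvp C hE
  obtain ⟨x, hxS, hxP⟩ := hP.exists_x
  obtain ⟨u, huC, -⟩ := exists_isC (F := F) hP.le hxS (hP.normal C hxS)
  obtain ⟨Z₁, hZ₁, hint, hsup, hst⟩ := exists_compl C hP hxS hxP huC ha (by
    intro h
    apply hat
    rw [← h, mem_imO]
    simpa using htK)
  have hZW : Z₁ ≤ WW₀ F p := by
    intro z hz
    refine ⟨hZ₁ hz, fun P hP' b hb h => ?_⟩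
    obtain ⟨x', hxS', hxP'⟩ := hP'.exists_x
    obtain ⟨u', huC', -⟩ := exists_isC (F := F) hP'.le hxS' (hP'.normal C hxS')
    have := odd_key C hP' hxS' hxP' huC' hp2 hZ₁ hst hint (inv_mem hb) ⟨z, h⟩ hz
    simpa using this
  have hbot : Z₁ = ⊥ := by
    rw [eq_bot_iff, ← hcore]
    exact hZW.trans (WW_le_core C)
  apply le_antisymm _ C.kz
  intro z hz
  obtain ⟨k, hk, w, hw, rfl⟩ := hsup z hz
  rw [hbot, Subgroup.mem_bot] at hw
  rw [hw, mul_one]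
  exact hk

end Cfsg.Agent.H25
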