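import Cfsg.Agent.Lib.H25.TvE
set_option autoImplicit false
set_option linter.style.haveILetI false

/-! The prime two: the transvections form a symmetric group of degree three. -/

namespace Cfsg.Agent.H25

open Cfsg Cfsg.FusionSystem

variable {Ω : Type*} [Group Ω] {S : Subgroup Ω} {F : FusionSystem S} [Finite S]
variable {K P E : Subgroup Ω} {x : Ω} {u : MulAut P}

section Two

variable (C : TvC F 2 K) (hP : TvP S 2 P) (hxS : x ∈ S) (hxP : x ∉ P) (huC : IsC x u)
variable {k : P} (hk : (k : Ω) ∈ K) (hk1 : k ≠ 1)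

include C hk hk1

theorem K_two (y : P) (hy : (y : Ω) ∈ K) : y = 1 ∨ y = k := by
  have hk1' : (k : Ω) ≠ 1 := fun h => hk1 (Subtype.ext h)
  obtain ⟨i, hi⟩ := exists_zpow_of_card C.hKp hk hk1' hy
  have hsq : (k : Ω) ^ 2 = 1 := pow_eq_one_of_card C.hKp hk
  rcases Int.even_or_odd' i with ⟨m, rfl | rfl⟩
  · left
    apply Subtype.ext
    rw [← hi, zpow_mul, zpow_ofNat, hsq, one_zpow]
    rfl
  · right
    apply Subtype.ext
    rw [← hi, zpow_add, zpow_mul, zpow_ofNat, hsq, one_zpow, one_mul, zpow_one]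

omit C hk1 in
theorem k_sq (C : TvC F 2 K) : k * k = 1 := by
  apply Subtype.ext
  have hsq : (k : Ω) ^ 2 = 1 := pow_eq_one_of_card C.hKp hk
  rw [pow_two] at hsq
  exact hsq

include hP hxS hxP huC

/-- An element outside the centre is moved by `k`. -/
theorem u_move (y : P) (hy : (y : Ω) ∉ ZS S) : u y = y * k := by
  rcases K_two C hk hk1 (y⁻¹ * u y) (u_quot C hP hxS huC y) with h | h
  · exfalso
    apply hy
    apply hP.mem_Z hxS hxP y.2
    rw [← huC y]
    rw [inv_mul_eq_one] at h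
    rw [← h]
  · rw [← h]
    group

theorem imO_eq_of_fix {b : MulAut P} (h : b k = k) : imO b K = K := by
  have hKP : K ≤ P := C.kz.trans hP.zl
  have hk1' : (k : Ω) ≠ 1 := fun h => hk1 (Subtype.ext h)
  refine eq_of_common (by rw [card_imO hKP]; exact C.hKp) C.hKp (g := k) ?_ hk hk1'
  rw [mem_imO]
  have : b⁻¹ k = k := by
    calc b⁻¹ k = b⁻¹ (b k) := by rw [h]
      _ = k := by simp
  rw [this]
  exact hk

/-- A moved image of `k` is not central. -/
theorem move_notZ {b : MulAut P} (hb : b ∈ F.autGroup P) (h : b k ≠ k) : ((b k : P) : Ω) ∉ ZS S := by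
  intro hZ
  have hle : imO b K ≤ ZS S := by
    intro y hy
    have hyP : y ∈ P := imO_le hy
    have h2 := (mem_imO (⟨y, hyP⟩ : P)).1 hy
    rcases K_two C hk hk1 _ h2 with h3 | h3
    · have h4 : (⟨y, hyP⟩ : P) = 1 := by
        have := congrArg b h3
        simpa using this
      have h5 : y = 1 := congrArg Subtype.val h4
      rw [h5]
      exact (ZS S).one_mem
    · have h4 : (⟨y, hyP⟩ : P) = b k := by
        have := congrArg b h3
        simpa using this
      have h5 : y = ((b k : P) : Ω) := congrArg Subtype.val h4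
      rw [h5]
      exact hZ
  have h1 := imO_eq_of_le C hP hxS hxP huC hb hle
  have h2 : ((b k : P) : Ω) ∈ imO b K := by
    rw [mem_imO]
    simpa using hk
  rw [h1] at h2
  rcases K_two C hk hk1 _ h2 with h3 | h3
  · apply hk1
    apply b.injective
    rw [h3, map_one]
  · exact h h3

/-- The images of `k`. -/
theorem kset {a b : MulAut P} (ha : a ∈ F.autGroup P) (hb : b ∈ F.autGroup P) (hak : a k ≠ k) :
    b k = k ∨ b k = a k ∨ b k = a k * k := by
  have hu : u ∈ F.autGroup P := conj_mem_autGroup hP.le hxS huC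
  by_contra hcon
  push Not at hcon
  obtain ⟨h1, h2, h3⟩ := hcon
  obtain ⟨y, hy⟩ : ∃ y, y = a k := ⟨_, rfl⟩
  obtain ⟨y', hy'⟩ : ∃ y', y' = b k := ⟨_, rfl⟩
  rw [← hy] at h2 h3 hak
  rw [← hy'] at h1 h2 h3
  have hyZ : (y : Ω) ∉ ZS S := by
    rw [hy]
    exact move_notZ C hP hxS hxP huC hk hk1 ha (by rw [← hy]; exact hak)
  have hy'Z : (y' : Ω) ∉ ZS S := by
    rw [hy']
    exact move_notZ C hP hxS hxP huC hk hk1 hb (by rw [← hy']; exact h1)
  have hb1 : (a⁻¹ * b) k ≠ k := by
    intro h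
    apply h2
    have h4 : a⁻¹ (b k) = k := h
    rw [hy', hy]
    calc b k = a (a⁻¹ (b k)) := by simp
      _ = a k := by rw [h4]
  have hb1Z := move_notZ C hP hxS hxP huC hk hk1 (mul_mem (inv_mem ha) hb) hb1
  have h4 := u_move C hP hxS hxP huC hk hk1 _ hb1Z
  have h5 : (a * u * a⁻¹ * b) k = y' * y := by
    show a (u ((a⁻¹ * b) k)) = y' * y
    rw [h4, map_mul, hy, hy']
    congr 1
    show a (a⁻¹ (b k)) = b k
    simp
  have hkcomm : ∀ s t : P, s * t = t * s := fun s t => Subtype.ext (hP.ab _ s.2 _ t.2)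
  have h6 : ((y' * y : P) : Ω) ∈ ZS S := by
    apply hP.mem_Z hxS hxP (y' * y).2
    rw [← huC, map_mul, u_move C hP hxS hxP huC hk hk1 _ hyZ, u_move C hP hxS hxP huC hk hk1 _ hy'Z]
    congr 1
    calc y' * k * (y * k) = y' * (k * y) * k := by group
      _ = y' * (y * k) * k := by rw [hkcomm k y]
      _ = y' * y * (k * k) := by group
      _ = y' * y := by rw [k_sq hk C, mul_one]
  have hb2 : a * u * a⁻¹ * b ∈ F.autGroup P := mul_mem (mul_mem (mul_mem ha hu) (inv_mem ha)) hb
  have h7 : (a * u * a⁻¹ * b) k = k := by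
    by_contra h8
    apply move_notZ C hP hxS hxP huC hk hk1 hb2 h8
    rw [h5]
    exact h6
  rw [h5] at h7
  apply h3
  have hysq : y * y = 1 := by
    rw [hy, ← map_mul, k_sq hk C, map_one]
  calc y' = y' * (y * y) := by rw [hysq, mul_one]
    _ = (y' * y) * y := by group
    _ = k * y := by rw [h7]
    _ = y * k := hkcomm _ _

/-- Elements fixed by two transvections are fixed by all. -/
theorem fix_all {a b : MulAut P} (ha : a ∈ F.autGroup P) (hb : b ∈ F.autGroup P) (hak : a k ≠ k) {c : P} (huc : u c = c)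
    (hvc : (a * u * a⁻¹) c = c) : (b * u * b⁻¹) c = c := by
  have hu : u ∈ F.autGroup P := conj_mem_autGroup hP.le hxS huC
  have key : ∀ b₁ ∈ F.autGroup P, b₁ k = b k → (b₁ * u * b₁⁻¹) c = c → (b * u * b⁻¹) c = c := by
    intro b₁ hb₁ h1 h2
    have h3 : (b₁⁻¹ * b) k = k := by
      show b₁⁻¹ (b k) = k
      rw [← h1]
      simp
    have hb₂ : b₁⁻¹ * b ∈ F.autGroup P := mul_mem (inv_mem hb₁) hb
    obtain ⟨i, hi⟩ := conj_mem_stab_same C hP hxS hxP huC hb₂ (imO_eq_of_fix C hP hxS hxP huC hk hk1 h3)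
    have hi' : u ^ i = (b₁⁻¹ * b) * u * (b₁⁻¹ * b)⁻¹ := hi
    have h4 : b * u * b⁻¹ = (b₁ * u * b₁⁻¹) ^ i := by
      rw [conj_zpow, hi']
      group
    rw [h4]
    exact zpow_fix h2 i
  rcases kset C hP hxS hxP huC hk hk1 ha hb hak with h | h | h
  · refine key 1 (one_mem _) h.symm ?_
    simpa using huc
  · exact key a ha h.symm hvc
  · refine key (u * a) (mul_mem hu ha) ?_ ?_
    · rw [h]
      show u (a k) = _
      exact u_move C hP hxS hxP huC hk hk1 _ (move_notZ C hP hxS hxP huC hk hk1 ha hak)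
    · have e : (u * a) * u * (u * a)⁻¹ = u * (a * u * a⁻¹) * u⁻¹ := by group
      rw [e]
      have h5 : u⁻¹ c = c := by
        calc u⁻¹ c = u⁻¹ (u c) := by rw [huc]
          _ = c := by simp
      show u ((a * u * a⁻¹) (u⁻¹ c)) = c
      rw [h5, hvc, huc]

end Two

end Cfsg.Agent.H25
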