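import Cfsg.Agent.Lib.H25.TvF
import Cfsg.Agent.Lib.H25.FusAlp
import Cfsg.Agent.Lib.H25.FusFoc
set_option autoImplicit false
set_option linter.style.haveILetI false

/-! The prime two: at most two moving subgroups, and the focal subgroup. -/

namespace Cfsg.Agent.H25

open Cfsg Cfsg.FusionSystem

variable {Ω : Type*} [Group Ω] {S : Subgroup Ω} {F : FusionSystem S}
variable {K P E : Subgroup Ω}

/-- The maps moving elements inside a fixed subgroup. -/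
def cosSys (F : FusionSystem S) (Y : Subgroup Ω) (hY : ∀ g ∈ S, ∀ x ∈ S, x⁻¹ * (g * x * g⁻¹) ∈ Y) : FusionSystem S where
  Hom P := {φ | φ ∈ F.Hom P ∧ ∀ x : P, (x : Ω)⁻¹ * φ x ∈ Y}
  le_of_mem h := F.le_of_mem h.1
  injective_of_mem h := F.injective_of_mem h.1
  conj_mem hP hg := ⟨F.conj_mem hP hg, fun x => hY _ hg _ (hP x.2)⟩
  comp_mem {P Q φ ψ} h1 h2 hx := ⟨F.comp_mem h1.1 h2.1 hx, fun x => by
    have h3 := h1.2 x
    have h4 := h2.2 ⟨φ x, hx x⟩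
    have e : (x : Ω)⁻¹ * (ψ.comp (φ.codRestrict Q hx)) x = ((x : Ω)⁻¹ * φ x) * ((φ x)⁻¹ * ψ ⟨φ x, hx x⟩) := by
      show (x : Ω)⁻¹ * ψ ⟨φ x, hx x⟩ = _
      group
    rw [e]
    exact Y.mul_mem h3 h4⟩
  inv_mem := by
    intro P φ h
    obtain ⟨ψ, hψ, h1⟩ := F.inv_mem h.1
    refine ⟨ψ, ⟨hψ, ?_⟩, h1⟩
    rintro ⟨_, x, rfl⟩
    rw [h1 x]
    have := Y.inv_mem (h.2 x)
    simpa using this

/-- A criterion for the focal subgroup via the Alperin–Goldschmidt theorem. -/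
theorem foc_le_of_ess {p : ℕ} [Finite S] [Fact p.Prime] (hS : IsPGroup p S) (hF : F.IsSaturated p) {Y : Subgroup Ω}
    (hY : ∀ g ∈ S, ∀ x ∈ S, x⁻¹ * (g * x * g⁻¹) ∈ Y)
    (htop : ∀ β, Iso F S S β → ∀ x ∈ S, x⁻¹ * β x ∈ Y)
    (hess : ∀ Q, F.IsEssential p Q → ∀ b ∈ F.autGroup Q, ∀ x : Q, (x : Ω)⁻¹ * (b x : Q) ∈ Y) :
    F.focalSubgroup ≤ Y := by
  have hle : F ≤ cosSys F Y hY := by
    refine alperin_ind hS hF ?_ ?_
    · intro α hα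
      have hI := Iso.of_mem_autGroup le_rfl hα
      refine mem_autGroup_of_mp (f := toFun (S.subtype.comp (α : MulAut S).toMonoidHom)) ?_ (fun x => (toFun_aut _ x).symm)
      obtain ⟨φ, hφ, hf⟩ := hI.mp
      refine ⟨φ, ⟨hφ, fun x => ?_⟩, hf⟩
      rw [hf]
      exact htop _ hI _ x.2
    · intro Q hQ _ α hα
      have hQS := hQ.1.1
      have hI := Iso.of_mem_autGroup hQS hα
      refine mem_autGroup_of_mp (f := toFun (Q.subtype.comp (α : MulAut Q).toMonoidHom)) ?_ (fun x => (toFun_aut _ x).symm)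
      obtain ⟨φ, hφ, hf⟩ := hI.mp
      refine ⟨φ, ⟨hφ, fun x => ?_⟩, hf⟩
      rw [hf, toFun_aut]
      exact hess Q hQ α hα x
  refine foc_le_of fun P f hf x hx => ?_
  obtain ⟨φ, hφ, hφf⟩ := hf
  have h1 := (hle P hφ).2 ⟨x, hx⟩
  rwa [hφf] at h1

/-- The automorphisms of `P` moving elements inside `Y`. -/
def movY (P Y : Subgroup Ω) : Subgroup (MulAut P) where
  carrier := {h | ∀ x : P, (x : Ω)⁻¹ * (h x : P) ∈ Y}
  one_mem' := fun x => by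
    show (x : Ω)⁻¹ * (x : Ω) ∈ Y
    rw [inv_mul_cancel]
    exact Y.one_mem
  mul_mem' := by
    intro g h hg hh x
    show (x : Ω)⁻¹ * (g (h x) : P) ∈ Y
    have e : (x : Ω)⁻¹ * (g (h x) : P) = ((x : Ω)⁻¹ * (h x : P)) * (((h x : P) : Ω)⁻¹ * (g (h x) : P)) := by group
    rw [e]
    exact Y.mul_mem (hh x) (hg _)
  inv_mem' := by
    intro h hh x
    have h1 := Y.inv_mem (hh (h⁻¹ x))
    have e : h (h⁻¹ x) = x := by simp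
    rw [e] at h1
    simpa using h1

/-- The elements staying central under the automizer of `P`. -/
def CP (F : FusionSystem S) (P : Subgroup Ω) : Subgroup Ω where
  carrier := {z | ∃ h : z ∈ P, ∀ b ∈ F.autGroup P, ((b ⟨z, h⟩ : P) : Ω) ∈ ZS S}
  one_mem' := by
    refine ⟨P.one_mem, fun b _ => ?_⟩
    have : b ⟨1, P.one_mem⟩ = 1 := map_one b
    rw [this]
    exact (ZS S).one_mem
  mul_mem' := by
    rintro y z ⟨hy, hy'⟩ ⟨hz, hz'⟩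
    refine ⟨P.mul_mem hy hz, fun b hb => ?_⟩
    have h1 : (⟨y * z, P.mul_mem hy hz⟩ : P) = ⟨y, hy⟩ * ⟨z, hz⟩ := rfl
    rw [h1, map_mul]
    exact (ZS S).mul_mem (hy' b hb) (hz' b hb)
  inv_mem' := by
    rintro y ⟨hy, hy'⟩
    refine ⟨P.inv_mem hy, fun b hb => ?_⟩
    have h1 : (⟨y⁻¹, P.inv_mem hy⟩ : P) = (⟨y, hy⟩ : P)⁻¹ := rfl
    rw [h1, map_inv]
    exact (ZS S).inv_mem (hy' b hb)

/-- `P` is moving if some automorphism moves `k₀`. -/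
def Mvg (F : FusionSystem S) (k₀ : Ω) (P : Subgroup Ω) : Prop :=
  ∃ h : k₀ ∈ P, ∃ a ∈ F.autGroup P, a ⟨k₀, h⟩ ≠ ⟨k₀, h⟩

section Two

variable [Finite S] (C : TvC F 2 K) {k₀ : Ω} (hk₀ : k₀ ∈ K) (hk₀1 : k₀ ≠ 1)

include C hk₀ hk₀1

theorem k₀_sq : k₀ * k₀ = 1 := by
  have hsq : k₀ ^ 2 = 1 := pow_eq_one_of_card C.hKp hk₀
  rwa [pow_two] at hsq

theorem K_two' {y : Ω} (hy : y ∈ K) : y = 1 ∨ y = k₀ := by
  obtain ⟨i, hi⟩ := exists_zpow_of_card C.hKp hk₀ hk₀1 hy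
  have hsq : k₀ ^ 2 = 1 := pow_eq_one_of_card C.hKp hk₀
  rcases Int.even_or_odd' i with ⟨m, rfl | rfl⟩
  · left
    rw [← hi, zpow_mul, zpow_ofNat, hsq, one_zpow]
  · right
    rw [← hi, zpow_add, zpow_mul, zpow_ofNat, hsq, one_zpow, one_mul, zpow_one]

/-- Non-central elements of `P` generate `P` modulo the centre. -/
theorem coset2 (hP : TvP S 2 P) {y t : Ω} (hyP : y ∈ P) (hyZ : y ∉ ZS S) (ht : t ∈ P) : t ∈ ZS S ∨ y * t ∈ ZS S := by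
  by_cases htZ : t ∈ ZS S
  · exact Or.inl htZ
  right
  obtain ⟨x, hxS, hxP⟩ := hP.exists_x
  obtain ⟨u, huC, -⟩ := exists_isC (F := F) hP.le hxS (hP.normal C hxS)
  have hk₀P : k₀ ∈ P := hP.zl (C.kz hk₀)
  have hk1 : (⟨k₀, hk₀P⟩ : P) ≠ 1 := fun h => hk₀1 (congrArg Subtype.val h)
  have h1 := u_move C hP hxS hxP huC (k := ⟨k₀, hk₀P⟩) hk₀ hk1 ⟨y, hyP⟩ hyZ
  have h2 := u_move C hP hxS hxP huC (k := ⟨k₀, hk₀P⟩) hk₀ hk1 ⟨t, ht⟩ htZ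
  apply hP.mem_Z hxS hxP (P.mul_mem hyP ht)
  have e1 : x * y * x⁻¹ = y * k₀ := by
    rw [← huC ⟨y, hyP⟩, h1]
    rfl
  have e2 : x * t * x⁻¹ = t * k₀ := by
    rw [← huC ⟨t, ht⟩, h2]
    rfl
  have e3 : x * (y * t) * x⁻¹ = (x * y * x⁻¹) * (x * t * x⁻¹) := by group
  rw [e3, e1, e2]
  have h3 : k₀ * t = t * k₀ := (hP.ab _ hk₀P _ ht)
  calc y * k₀ * (t * k₀) = y * (k₀ * t) * k₀ := by group
    _ = y * (t * k₀) * k₀ := by rw [h3]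
    _ = y * t * (k₀ * k₀) := by group
    _ = y * t := by rw [k₀_sq C hk₀ hk₀1, mul_one]

omit hk₀1 hk₀ C in
theorem tv_eq_of_le {P₁ P₂ : Subgroup Ω} (hP₁ : TvP S 2 P₁) (hP₂ : TvP S 2 P₂) (hle : P₂ ≤ P₁) : P₂ = P₁ := by
  have h1 := Subgroup.card_mul_index (P₁.subgroupOf S)
  have h2 := Subgroup.card_mul_index (P₂.subgroupOf S)
  rw [hP₁.idx] at h1
  rw [hP₂.idx] at h2
  have h3 : Nat.card (P₁.subgroupOf S) = Nat.card P₁ := Nat.card_congr (Subgroup.subgroupOfEquivOfLe hP₁.le).toEquiv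
  have h4 : Nat.card (P₂.subgroupOf S) = Nat.card P₂ := Nat.card_congr (Subgroup.subgroupOfEquivOfLe hP₂.le).toEquiv
  rw [h3] at h1
  rw [h4] at h2
  haveI : Finite P₁ := finite_of_le hP₁.le
  exact Subgroup.eq_of_le_of_card_ge hle (by omega)

/-- A non-central element determines the abelian maximal subgroup. -/
theorem tv_eq_of_mem {P₁ P₂ : Subgroup Ω} (hP₁ : TvP S 2 P₁) (hP₂ : TvP S 2 P₂) {y : Ω} (h1 : y ∈ P₁) (h2 : y ∈ P₂)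
    (hyZ : y ∉ ZS S) : P₁ = P₂ := by
  refine (tv_eq_of_le hP₁ hP₂ fun t ht => ?_).symm
  rcases coset2 C hk₀ hk₀1 hP₂ h2 hyZ ht with h3 | h3
  · exact hP₁.zl h3
  · have h4 := P₁.mul_mem (P₁.inv_mem h1) (hP₁.zl h3)
    simpa using h4

/-- There are at most two moving subgroups. -/
theorem three_false {P₁ P₂ P₃ : Subgroup Ω} (hP₁ : TvP S 2 P₁) (hP₂ : TvP S 2 P₂) (hP₃ : TvP S 2 P₃)
    {y₁ y₂ y₃ : Ω} (h1 : y₁ ∈ P₁) (h2 : y₂ ∈ P₂) (h3 : y₃ ∈ P₃) (hZ1 : y₁ ∉ ZS S) (hZ2 : y₂ ∉ ZS S) (hZ3 : y₃ ∉ ZS S)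
    (hs1 : y₁ * y₁ = 1) (hs2 : y₂ * y₂ = 1) (hs3 : y₃ * y₃ = 1) (hnsq : ∀ z ∈ ZS S, z * z ≠ k₀)
    (h12 : P₁ ≠ P₂) (h13 : P₁ ≠ P₃) (h23 : P₂ ≠ P₃) : False := by
  have hy21 : y₂ ∉ P₁ := fun h => h12 (tv_eq_of_mem C hk₀ hk₀1 hP₁ hP₂ h h2 hZ2)
  have hy31 : y₃ ∉ P₁ := fun h => h13 (tv_eq_of_mem C hk₀ hk₀1 hP₁ hP₃ h h3 hZ3)
  have hy32 : y₃ ∉ P₂ := fun h => h23 (tv_eq_of_mem C hk₀ hk₀1 hP₂ hP₃ h h3 hZ3)
  have hyS2 := hP₂.le h2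
  have hyS3 := hP₃.le h3
  have hw : y₂ * y₃ ∈ P₁ := by
    have h4 := (Subgroup.mul_mem_iff_of_index_two hP₁.idx (a := ⟨y₂, hyS2⟩) (b := ⟨y₃, hyS3⟩)).2 (by
      rw [Subgroup.mem_subgroupOf, Subgroup.mem_subgroupOf]
      exact ⟨fun h => absurd h hy21, fun h => absurd h hy31⟩)
    exact Subgroup.mem_subgroupOf.mp h4
  have hwZ : y₂ * y₃ ∉ ZS S := by
    intro h
    apply hy32
    have := P₂.mul_mem (P₂.inv_mem h2) (hP₂.zl h)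
    simpa using this
  obtain ⟨z, hz⟩ : ∃ z, z = y₁ * (y₂ * y₃) := ⟨_, rfl⟩
  have hzZ : z ∈ ZS S := by
    rw [hz]
    rcases coset2 C hk₀ hk₀1 hP₁ h1 hZ1 hw with h4 | h4
    · exact absurd h4 hwZ
    · exact h4
  have hi1 : y₁⁻¹ = y₁ := by
    rw [inv_eq_iff_mul_eq_one]
    exact hs1
  have hi2 : y₂⁻¹ = y₂ := by
    rw [inv_eq_iff_mul_eq_one]
    exact hs2
  have hy3 : y₃ = y₂ * y₁ * z := by
    rw [hz]
    calc y₃ = y₂⁻¹ * y₁⁻¹ * (y₁ * (y₂ * y₃)) := by group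
      _ = _ := by rw [hi1, hi2]
  -- the commutator
  have hcm := C.hcm y₂ hyS2 y₁ (hP₁.le h1)
  have hcm1 : y₂ * y₁ * y₂⁻¹ * y₁⁻¹ ≠ 1 := by
    intro h
    apply hZ1
    apply hP₁.mem_Z hyS2 hy21 h1
    rw [mul_inv_eq_one] at h
    exact h
  have hcm2 : y₂ * y₁ * y₂⁻¹ * y₁⁻¹ = k₀ := by
    rcases K_two' C hk₀ hk₀1 hcm with h | h
    · exact absurd h hcm1
    · exact h
  rw [hi1, hi2] at hcm2
  have hzc : ∀ s ∈ S, s * z = z * s := (mem_ZS.mp hzZ).2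
  have h5 : y₃ * y₃ = (y₂ * y₁ * y₂ * y₁) * (z * z) := by
    rw [hy3]
    have h6 := hzc (y₂ * y₁) (S.mul_mem hyS2 (hP₁.le h1))
    calc y₂ * y₁ * z * (y₂ * y₁ * z) = y₂ * y₁ * (z * (y₂ * y₁)) * z := by group
      _ = y₂ * y₁ * ((y₂ * y₁) * z) * z := by rw [h6]
      _ = _ := by group
  rw [hs3, hcm2] at h5
  apply hnsq z hzZ
  have h7 : z * z = k₀⁻¹ := eq_inv_of_mul_eq_one_right h5.symm
  have h8 : k₀⁻¹ = k₀ := by
    rw [inv_eq_iff_mul_eq_one]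
    exact k₀_sq C hk₀ hk₀1
  rw [h7, h8]

end Two

end Cfsg.Agent.H25
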