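import Cfsg.Agent.Lib.H25.TvG
import Cfsg.Agent.Lib.H25.FusSmall2
set_option autoImplicit false
set_option linter.style.haveILetI false

/-! The prime two: the centre. -/

namespace Cfsg.Agent.H25

open Cfsg Cfsg.FusionSystem

variable {Ω : Type*} [Group Ω] {S : Subgroup Ω} {F : FusionSystem S}
variable {K P E : Subgroup Ω}

theorem zpow_two_cases {y : Ω} (h : y * y = 1) (j : ℤ) : y ^ j = 1 ∨ y ^ j = y := by
  have hsq : y ^ 2 = 1 := by rwa [pow_two]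
  rcases Int.even_or_odd' j with ⟨m, rfl | rfl⟩
  · left
    rw [zpow_mul, zpow_ofNat, hsq, one_zpow]
  · right
    rw [zpow_add, zpow_mul, zpow_ofNat, hsq, one_zpow, one_mul, zpow_one]

theorem tvp_img {p : ℕ} [Finite S] [Fact p.Prime] {β : Ω → Ω} (hβ : Iso F S S β) (hP : TvP S p P) :
    ∃ (Q : Subgroup Ω) (γ : Ω → Ω), TvP S p Q ∧ Iso F P Q β ∧ Iso F Q P γ ∧ (∀ y ∈ P, γ (β y) = y) ∧ ∀ y ∈ Q, β (γ y) = y := by
  classical
  obtain ⟨γ₀, hγ₀, hγβ, hβγ⟩ := hβ.inv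
  have hβP : Mp F P β := hβ.mp.restrict hP.le
  have hI1 : Iso F P hβP.img β := Iso.of_mp hβP
  obtain ⟨Q, hQ⟩ : ∃ Q, Q = hβP.img := ⟨_, rfl⟩
  rw [← hQ] at hI1
  have hQS : Q ≤ S := by
    intro y hy
    obtain ⟨x, hx, rfl⟩ := hI1.surj y hy
    exact hβ.maps x (hP.le hx)
  obtain ⟨γ, hγ, h1, h2⟩ := hI1.inv
  refine ⟨Q, γ, ⟨hQS, ?_, ?_, ?_⟩, hI1, hγ, h1, h2⟩
  · intro z hz
    have h3 := hI1.maps _ (hP.zl (iso_ZS hγ₀ hz))
    rwa [hβγ z hz.1] at h3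
  · intro y hy w hw
    obtain ⟨y', hy', rfl⟩ := hI1.surj y hy
    obtain ⟨w', hw', rfl⟩ := hI1.surj w hw
    rw [← hI1.mp.map_mul hy' hw', ← hI1.mp.map_mul hw' hy', hP.ab y' hy' w' hw']
  · rw [← hP.idx]
    exact index_of_card hQS hP.le hI1.card_eq.symm

section Two

variable [Finite S] (C : TvC F 2 K) {k₀ : Ω} (hk₀ : k₀ ∈ K) (hk₀1 : k₀ ≠ 1)

include C hk₀ hk₀1

/-- The data attached to a moving subgroup. -/
theorem mvg_data (hP : TvP S 2 P) (hM : Mvg F k₀ P) :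
    ∃ y, y ∈ P ∧ y ∉ ZS S ∧ y * y = 1 ∧ (∃ h : k₀ ∈ P, ∃ a ∈ F.autGroup P, ((a ⟨k₀, h⟩ : P) : Ω) = y) ∧
      (∀ h : k₀ ∈ P, ∀ b ∈ F.autGroup P, ((b ⟨k₀, h⟩ : P) : Ω) = k₀ ∨ ((b ⟨k₀, h⟩ : P) : Ω) = y ∨ ((b ⟨k₀, h⟩ : P) : Ω) = y * k₀) ∧
      k₀ ∉ CP F P ∧ ∀ z ∈ ZS S, z ∈ CP F P ∨ k₀ * z ∈ CP F P := by
  obtain ⟨h, a, ha, hak⟩ := hM
  obtain ⟨x, hxS, hxP⟩ := hP.exists_x
  obtain ⟨u, huC, -⟩ := exists_isC (F := F) hP.le hxS (hP.normal C hxS)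
  have hk1 : (⟨k₀, h⟩ : P) ≠ 1 := fun h' => hk₀1 (congrArg Subtype.val h')
  have hkK : ((⟨k₀, h⟩ : P) : Ω) ∈ K := hk₀
  have hyZ := move_notZ C hP hxS hxP huC hkK hk1 ha hak
  have hk₀sq := k₀_sq C hk₀ hk₀1
  refine ⟨_, (a ⟨k₀, h⟩).2, hyZ, ?_, ⟨h, a, ha, rfl⟩, ?_, ?_, ?_⟩
  · have h1 : a ⟨k₀, h⟩ * a ⟨k₀, h⟩ = 1 := by
      rw [← map_mul]
      have : (⟨k₀, h⟩ : P) * ⟨k₀, h⟩ = 1 := Subtype.ext hk₀sq
      rw [this, map_one]
    exact congrArg Subtype.val h1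
  · intro h' b hb
    rcases kset C hP hxS hxP huC hkK hk1 ha hb hak with h1 | h1 | h1
    · exact Or.inl (congrArg Subtype.val h1)
    · exact Or.inr (Or.inl (congrArg Subtype.val h1))
    · exact Or.inr (Or.inr (congrArg Subtype.val h1))
  · rintro ⟨h', hall⟩
    exact hyZ (hall a ha)
  · intro z hz
    have hne : imO a K ≠ K := by
      intro h1
      have h2 : ((a ⟨k₀, h⟩ : P) : Ω) ∈ imO a K := by
        rw [mem_imO]
        simpa using hk₀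
      rw [h1] at h2
      rcases K_two C hkK hk1 _ h2 with h3 | h3
      · apply hk1
        apply a.injective
        rw [h3, map_one]
      · exact hak h3
    obtain ⟨v', k', k₂, hM'⟩ := exists_mv C hP hxS hxP huC ha hne
    have hk' : k' = ⟨k₀, h⟩ := by
      rcases K_two C hkK hk1 _ hM'.hk with h3 | h3
      · exact absurd h3 hM'.hk1
      · exact h3
    rw [hk'] at hM'
    obtain ⟨l, c, e, huc, hvc, hcZ⟩ := hM'.z_dec C hP hxS hxP huC ⟨z, hP.zl hz⟩ hz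
    have hcCP : (c : Ω) ∈ CP F P := by
      refine ⟨c.2, fun b hb => ?_⟩
      have h3 := fix_all C hP hxS hxP huC hkK hk1 ha (inv_mem hb) hak huc hvc
      have h4 := fix_imp_Z C hP hxS hxP huC h3
      simpa using h4
    have hkk : (⟨k₀, h⟩ : P) * ⟨k₀, h⟩ = 1 := Subtype.ext hk₀sq
    rcases zpow_two_cases hkk l with h5 | h5
    · left
      rw [h5, one_mul] at e
      have : z = c := congrArg Subtype.val e
      rw [this]
      exact hcCP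
    · right
      rw [h5] at e
      have e2 : z = k₀ * c := congrArg Subtype.val e
      rw [e2, ← mul_assoc, hk₀sq, one_mul]
      exact hcCP

/-- Non moving subgroups leave the centre fixed. -/
theorem not_mvg (hP : TvP S 2 P) (hM : ¬ Mvg F k₀ P) {z : Ω} (hz : z ∈ ZS S) : z ∈ CP F P := by
  have h : k₀ ∈ P := hP.zl (C.kz hk₀)
  obtain ⟨x, hxS, hxP⟩ := hP.exists_x
  obtain ⟨u, huC, -⟩ := exists_isC (F := F) hP.le hxS (hP.normal C hxS)
  have hk1 : (⟨k₀, h⟩ : P) ≠ 1 := fun h' => hk₀1 (congrArg Subtype.val h')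
  have hkK : ((⟨k₀, h⟩ : P) : Ω) ∈ K := hk₀
  refine ⟨hP.zl hz, fun b hb => ?_⟩
  have h1 : b⁻¹ ⟨k₀, h⟩ = ⟨k₀, h⟩ := by
    by_contra h2
    exact hM ⟨h, b⁻¹, inv_mem hb, h2⟩
  obtain ⟨i, hi⟩ := conj_mem_stab_same C hP hxS hxP huC (inv_mem hb) (imO_eq_of_fix C hP hxS hxP huC hkK hk1 h1)
  have hi' : u ^ i = b⁻¹ * u * (b⁻¹)⁻¹ := hi
  have h3 : (b⁻¹ * u * (b⁻¹)⁻¹) ⟨z, hP.zl hz⟩ = ⟨z, hP.zl hz⟩ := by
    rw [← hi']
    exact zpow_fix (u_fix C hP hxS huC hz) i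
  have h4 := fix_imp_Z C hP hxS hxP huC h3
  simpa using h4

/-- Automorphisms of `S` fix the generator of `K`. -/
theorem iso_k₀ {β : Ω → Ω} (hβ : Iso F S S β) : β k₀ = k₀ := by
  have h1 := aut_K C (autOfIso hβ) hk₀
  rw [autOfIso_apply] at h1
  rcases K_two' C hk₀ hk₀1 h1 with h2 | h2
  · exfalso
    apply hk₀1
    apply hβ.mp.inj (C.hKS hk₀) S.one_mem
    rw [h2, hβ.mp.map_one]
  · exact h2

end Two

/-- The images of the generator of `K`. -/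
def KK (F : FusionSystem S) (k₀ : Ω) : Set Ω :=
  {w | ∃ P, TvP S 2 P ∧ ∃ h : k₀ ∈ P, ∃ b ∈ F.autGroup P, ((b ⟨k₀, h⟩ : P) : Ω) = w}

section Two

variable [Finite S] (C : TvC F 2 K) {k₀ : Ω} (hk₀ : k₀ ∈ K) (hk₀1 : k₀ ≠ 1)

include C hk₀ hk₀1

theorem KK_iso {β : Ω → Ω} (hβ : Iso F S S β) {w : Ω} (hw : w ∈ KK F k₀) : β w ∈ KK F k₀ := by
  obtain ⟨P, hP, h, b, hb, rfl⟩ := hw
  obtain ⟨Q, γ, hQ, hI, hγ, h1, h2⟩ := tvp_img hβ hP
  have hb' := Iso.of_mem_autGroup hP.le hb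
  have hI3 := (hγ.comp hb').comp hI
  have hβk := iso_k₀ C hk₀ hk₀1 hβ
  have hk₀Q : k₀ ∈ Q := hQ.zl (C.kz hk₀)
  have hγk : γ k₀ = k₀ := by
    have := h1 k₀ h
    rwa [hβk] at this
  refine ⟨Q, hQ, hk₀Q, autOfIso hI3, autOfIso_mem hI3, ?_⟩
  rw [autOfIso_apply]
  show β (toFun (P.subtype.comp b.toMonoidHom) (γ k₀)) = _
  rw [hγk]
  exact congrArg β (toFun_aut b ⟨k₀, h⟩)

/-- **The centre for the prime two.** -/
theorem two_main (hcore : F.core = ⊥) (hhyp : F.hyperfocalSubgroup 2 = S) : ZS S = K := by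
  classical
  have hk₀sq := k₀_sq C hk₀ hk₀1
  have hKZ := C.kz
  have hWbot : ∀ z ∈ WW₀ F 2, z = 1 := by
    intro z hz
    have h1 := WW_le_core C hz
    rw [hcore, Subgroup.mem_bot] at h1
    exact h1
  have hcoreS : F.core ≠ S := by
    intro h
    rw [hcore] at h
    apply hk₀1
    have h1 := C.hKS hk₀
    rw [← h, Subgroup.mem_bot] at h1
    exact h1
  obtain ⟨E, hE⟩ := exists_essential C.hS C.hF hcoreS
  obtain ⟨hP₁, a, ha, t₁, ht₁K, hat₁⟩ := ess_tvp C hE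
  have hk₀E : k₀ ∈ E := hP₁.zl (hKZ hk₀)
  have hM₁ : Mvg F k₀ E := by
    refine ⟨hk₀E, a, ha, fun h => ?_⟩
    have hk1 : (⟨k₀, hk₀E⟩ : E) ≠ 1 := fun h' => hk₀1 (congrArg Subtype.val h')
    have hkK : ((⟨k₀, hk₀E⟩ : E) : Ω) ∈ K := hk₀
    rcases K_two C hkK hk1 t₁ ht₁K with h1 | h1
    · apply hat₁
      rw [h1, map_one]
      exact K.one_mem
    · apply hat₁
      rw [h1, h]
      exact hk₀
  obtain ⟨y₁, hy₁E, hy₁Z, hy₁sq, hy₁a, hy₁k, hk₀C₁, hdec₁⟩ := mvg_data C hk₀ hk₀1 hP₁ hM₁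
  have hZcomm : ∀ y ∈ ZS S, ∀ z ∈ ZS S, y * z = z * y := fun y hy z hz => (mem_ZS.mp hz).2 y hy.1
  have hnsq : ∀ z ∈ ZS S, z * z ≠ k₀ := by
    intro z hz h
    apply hk₀C₁
    rw [← h]
    rcases hdec₁ z hz with h1 | h1
    · exact (CP F E).mul_mem h1 h1
    · have h2 := (CP F E).mul_mem h1 h1
      have e : k₀ * z * (k₀ * z) = z * z := by
        calc k₀ * z * (k₀ * z) = k₀ * (z * k₀) * z := by group
          _ = k₀ * (k₀ * z) * z := by rw [hZcomm z hz k₀ (hKZ hk₀)]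
          _ = (k₀ * k₀) * (z * z) := by group
          _ = z * z := by rw [hk₀sq, one_mul]
      rwa [e] at h2
  have hW_of : ∀ z ∈ ZS S, (∀ P, TvP S 2 P → Mvg F k₀ P → z ∈ CP F P) → z = 1 := by
    intro z hz h
    apply hWbot
    refine ⟨hz, fun P hP b hb hzP => ?_⟩
    by_cases hM : Mvg F k₀ P
    · obtain ⟨_, h2⟩ := h P hP hM
      exact h2 b hb
    · obtain ⟨_, h2⟩ := not_mvg C hk₀ hk₀1 hP hM hz
      exact h2 b hb
  by_contra hne
  obtain ⟨z₀, hz₀, hz₀K⟩ : ∃ z₀ ∈ ZS S, z₀ ∉ K := by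
    by_contra hcon
    push Not at hcon
    exact hne (le_antisymm hcon hKZ)
  -- the element `t`
  obtain ⟨t, htZ, htC₁, htK⟩ : ∃ t ∈ ZS S, t ∈ CP F E ∧ t ∉ K := by
    rcases hdec₁ z₀ hz₀ with h1 | h1
    · exact ⟨z₀, hz₀, h1, hz₀K⟩
    · refine ⟨k₀ * z₀, (ZS S).mul_mem (hKZ hk₀) hz₀, h1, fun h => hz₀K ?_⟩
      have := K.mul_mem (K.inv_mem hk₀) h
      simpa using this
  have ht1 : t ≠ 1 := fun h => htK (h ▸ K.one_mem)
  obtain ⟨P₂, hP₂, hM₂, htC₂⟩ : ∃ P₂, TvP S 2 P₂ ∧ Mvg F k₀ P₂ ∧ t ∉ CP F P₂ := by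
    by_contra hcon
    push Not at hcon
    exact ht1 (hW_of t htZ hcon)
  have hE2 : E ≠ P₂ := by
    rintro rfl
    exact htC₂ htC₁
  obtain ⟨y₂, hy₂P, hy₂Z, hy₂sq, hy₂a, hy₂k, hk₀C₂, hdec₂⟩ := mvg_data C hk₀ hk₀1 hP₂ hM₂
  have hall : ∀ P, TvP S 2 P → Mvg F k₀ P → P = E ∨ P = P₂ := by
    intro P hP hM
    by_contra hcon
    push Not at hcon
    obtain ⟨y₃, hy₃P, hy₃Z, hy₃sq, -⟩ := mvg_data C hk₀ hk₀1 hP hM
    exact three_false C hk₀ hk₀1 hP₁ hP₂ hP hy₁E hy₂P hy₃P hy₁Z hy₂Z hy₃Z hy₁sq hy₂sq hy₃sq hnsq hE2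
      (Ne.symm hcon.1) (Ne.symm hcon.2)
  have hboth : ∀ z ∈ ZS S, z ∈ CP F E → z ∈ CP F P₂ → z = 1 := by
    intro z hz h1 h2
    refine hW_of z hz fun P hP hM => ?_
    rcases hall P hP hM with rfl | rfl
    · exact h1
    · exact h2
  have hk₀t : k₀ * t ∈ CP F P₂ := by
    rcases hdec₂ t htZ with h1 | h1
    · exact absurd h1 htC₂
    · exact h1
  have hsq_Z : ∀ z ∈ ZS S, k₀ * z * (k₀ * z) = z * z := by
    intro z hz
    calc k₀ * z * (k₀ * z) = k₀ * (z * k₀) * z := by group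
      _ = k₀ * (k₀ * z) * z := by rw [hZcomm z hz k₀ (hKZ hk₀)]
      _ = (k₀ * k₀) * (z * z) := by group
      _ = z * z := by rw [hk₀sq, one_mul]
  have htsq : t * t = 1 := by
    refine hboth _ ((ZS S).mul_mem htZ htZ) ((CP F E).mul_mem htC₁ htC₁) ?_
    have h1 := (CP F P₂).mul_mem hk₀t hk₀t
    rwa [hsq_Z t htZ] at h1
  have htinv : t⁻¹ = t := by
    rw [inv_eq_iff_mul_eq_one]
    exact htsq
  have hk₀inv : k₀⁻¹ = k₀ := by
    rw [inv_eq_iff_mul_eq_one]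
    exact hk₀sq
  -- enumeration of the centre
  have hZen : ∀ w ∈ ZS S, w = 1 ∨ w = k₀ ∨ w = t ∨ w = k₀ * t := by
    intro w hw
    have key : ∀ w' ∈ ZS S, w' ∈ CP F E → w' = 1 ∨ w' = t := by
      intro w' hw' hw'1
      by_cases h1 : w' = 1
      · exact Or.inl h1
      right
      have hw'2 : w' ∉ CP F P₂ := fun h => h1 (hboth w' hw' hw'1 h)
      have hk₀w' : k₀ * w' ∈ CP F P₂ := by
        rcases hdec₂ w' hw' with h2 | h2
        · exact absurd h2 hw'2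
        · exact h2
      have h3 := (CP F P₂).mul_mem hk₀w' hk₀t
      have e : k₀ * w' * (k₀ * t) = w' * t := by
        calc k₀ * w' * (k₀ * t) = k₀ * (w' * k₀) * t := by group
          _ = k₀ * (k₀ * w') * t := by rw [hZcomm w' hw' k₀ (hKZ hk₀)]
          _ = (k₀ * k₀) * (w' * t) := by group
          _ = w' * t := by rw [hk₀sq, one_mul]
      rw [e] at h3
      have h4 := hboth _ ((ZS S).mul_mem hw' htZ) ((CP F E).mul_mem hw'1 htC₁) h3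
      have h5 := eq_inv_of_mul_eq_one_left h4
      rw [htinv] at h5
      exact h5
    rcases hdec₁ w hw with h1 | h1
    · rcases key w hw h1 with h2 | h2
      · exact Or.inl h2
      · exact Or.inr (Or.inr (Or.inl h2))
    · rcases key _ ((ZS S).mul_mem (hKZ hk₀) hw) h1 with h2 | h2
      · right
        left
        have h3 := eq_inv_of_mul_eq_one_right h2
        rwa [hk₀inv] at h3
      · right
        right
        right
        calc w = k₀ * (k₀ * w) := by rw [← mul_assoc, hk₀sq, one_mul]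
          _ = k₀ * t := by rw [h2]
  have hy₂E : y₂ ∉ E := fun h => hE2 (tv_eq_of_mem C hk₀ hk₀1 hP₁ hP₂ h hy₂P hy₂Z)
  -- the subgroup
  obtain ⟨V, hV⟩ : ∃ V, V = K ⊔ Subgroup.zpowers y₁ := ⟨_, rfl⟩
  obtain ⟨Y, hY⟩ : ∃ Y, Y = V ⊔ Subgroup.zpowers y₂ := ⟨_, rfl⟩
  have hKV : K ≤ V := by
    rw [hV]
    exact le_sup_left
  have hVY : V ≤ Y := by
    rw [hY]
    exact le_sup_left
  have hKY : K ≤ Y := hKV.trans hVY
  have hy₁V : y₁ ∈ V := by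
    rw [hV]
    exact Subgroup.mem_sup_right (Subgroup.mem_zpowers _)
  have hy₁Y : y₁ ∈ Y := hVY hy₁V
  have hy₂Y : y₂ ∈ Y := by
    rw [hY]
    exact Subgroup.mem_sup_right (Subgroup.mem_zpowers _)
  have hVS : V ≤ S := by
    rw [hV]
    refine sup_le C.hKS ?_
    rw [Subgroup.zpowers_le]
    exact hP₁.le hy₁E
  have hconj : ∀ {L : Subgroup Ω}, K ≤ L → L ≤ S → ∀ s ∈ S, ∀ v ∈ L, s * v * s⁻¹ ∈ L := by
    intro L hKL hLS s hs v hv
    have h1 := C.hcm s hs v (hLS hv)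
    have e : s * v * s⁻¹ = (s * v * s⁻¹ * v⁻¹) * v := by group
    rw [e]
    exact L.mul_mem (hKL h1) hv
  have hYS : Y ≤ S := by
    rw [hY]
    refine sup_le hVS ?_
    rw [Subgroup.zpowers_le]
    exact hP₂.le hy₂P
  have hKKY : ∀ w ∈ KK F k₀, w ∈ Y := by
    rintro w ⟨P, hP, h, b, hb, rfl⟩
    by_cases hM : Mvg F k₀ P
    · rcases hall P hP hM with rfl | rfl
      · rcases hy₁k h b hb with h1 | h1 | h1
        · rw [h1]
          exact hKY hk₀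
        · rw [h1]
          exact hy₁Y
        · rw [h1]
          exact Y.mul_mem hy₁Y (hKY hk₀)
      · rcases hy₂k h b hb with h1 | h1 | h1
        · rw [h1]
          exact hKY hk₀
        · rw [h1]
          exact hy₂Y
        · rw [h1]
          exact Y.mul_mem hy₂Y (hKY hk₀)
    · have h1 : b ⟨k₀, h⟩ = ⟨k₀, h⟩ := by
        by_contra h2
        exact hM ⟨h, b, hb, h2⟩
      rw [h1]
      exact hKY hk₀
  have hy₁KK : y₁ ∈ KK F k₀ := by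
    obtain ⟨h, a', ha', e⟩ := hy₁a
    exact ⟨E, hP₁, h, a', ha', e⟩
  have hy₂KK : y₂ ∈ KK F k₀ := by
    obtain ⟨h, a', ha', e⟩ := hy₂a
    exact ⟨P₂, hP₂, h, a', ha', e⟩
  have hcmY : ∀ g ∈ S, ∀ x ∈ S, x⁻¹ * (g * x * g⁻¹) ∈ Y := by
    intro g hg x hx
    apply hKY
    have h1 := C.hcm _ (S.inv_mem hx) g hg
    have e1 : x⁻¹ * g * x⁻¹⁻¹ * g⁻¹ = x⁻¹ * (g * x * g⁻¹) := by group
    rw [← e1]
    exact h1
  -- automorphisms of `S`
  have htop : ∀ β, Iso F S S β → ∀ x ∈ S, x⁻¹ * β x ∈ Y := by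
    intro β hβ
    have hβk := iso_k₀ C hk₀ hk₀1 hβ
    let L : Subgroup Ω :=
      { carrier := {x | x ∈ S ∧ x⁻¹ * β x ∈ Y}
        one_mem' := ⟨S.one_mem, by
          rw [hβ.mp.map_one, inv_one, one_mul]
          exact Y.one_mem⟩
        mul_mem' := by
          rintro x₁ x₂ ⟨h1, h2⟩ ⟨h3, h4⟩
          refine ⟨S.mul_mem h1 h3, ?_⟩
          rw [hβ.mp.map_mul h1 h3]
          have e : (x₁ * x₂)⁻¹ * (β x₁ * β x₂) = (x₂⁻¹ * (x₁⁻¹ * β x₁) * x₂⁻¹⁻¹) * (x₂⁻¹ * β x₂) := by group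
          rw [e]
          exact Y.mul_mem (hconj hKY hYS _ (S.inv_mem h3) _ h2) h4
        inv_mem' := by
          rintro x ⟨h1, h2⟩
          refine ⟨S.inv_mem h1, ?_⟩
          rw [hβ.mp.map_inv h1]
          have h3 := hconj hKY hYS x h1 _ (Y.inv_mem h2)
          have e : x * (x⁻¹ * β x)⁻¹ * x⁻¹ = x⁻¹⁻¹ * (β x)⁻¹ := by group
          rwa [e] at h3 }
    have hk₀L : k₀ ∈ L := ⟨C.hKS hk₀, by
      rw [hβk, inv_mul_cancel]
      exact Y.one_mem⟩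
    have htL : t ∈ L := by
      refine ⟨htZ.1, ?_⟩
      rcases hZen _ (iso_ZS hβ htZ) with h1 | h1 | h1 | h1
      · exfalso
        apply ht1
        apply hβ.mp.inj htZ.1 S.one_mem
        rw [h1, hβ.mp.map_one]
      · exfalso
        apply htK
        have : t = k₀ := hβ.mp.inj htZ.1 (C.hKS hk₀) (by rw [h1, hβk])
        rw [this]
        exact hk₀
      · rw [h1, inv_mul_cancel]
        exact Y.one_mem
      · rw [h1]
        apply hKY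
        have e : t⁻¹ * (k₀ * t) = k₀ := by
          have h2 := hZcomm k₀ (hKZ hk₀) t htZ
          rw [h2]
          group
        rw [e]
        exact hk₀
    have hy₁L : y₁ ∈ L := ⟨hP₁.le hy₁E, Y.mul_mem (Y.inv_mem hy₁Y) (hKKY _ (KK_iso C hk₀ hk₀1 hβ hy₁KK))⟩
    have hy₂L : y₂ ∈ L := ⟨hP₂.le hy₂P, Y.mul_mem (Y.inv_mem hy₂Y) (hKKY _ (KK_iso C hk₀ hk₀1 hβ hy₂KK))⟩
    have hZL : ZS S ≤ L := by
      intro w hw
      rcases hZen w hw with rfl | rfl | rfl | rfl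
      · exact L.one_mem
      · exact hk₀L
      · exact htL
      · exact L.mul_mem hk₀L htL
    have hEL : E ≤ L := by
      intro s hs
      rcases coset2 C hk₀ hk₀1 hP₁ hy₁E hy₁Z hs with h1 | h1
      · exact hZL h1
      · have h2 := L.mul_mem (L.inv_mem hy₁L) (hZL h1)
        simpa using h2
    have hSL : S ≤ L := hP₁.le_of (hP₂.le hy₂P) hy₂E hEL hy₂L
    intro x hx
    exact (hSL hx).2
  -- automizers
  have hess : ∀ Q, F.IsEssential 2 Q → ∀ b ∈ F.autGroup Q, ∀ x : Q, (x : Ω)⁻¹ * (b x : Q) ∈ Y := by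
    intro Q hQ b hb
    have hQ' := (ess_tvp C hQ).1
    obtain ⟨x, hxS, hxP⟩ := hQ'.exists_x
    obtain ⟨u, huC, -⟩ := exists_isC (F := F) hQ'.le hxS (hQ'.normal C hxS)
    have hk₀Q : k₀ ∈ Q := hQ'.zl (hKZ hk₀)
    have hk1 : (⟨k₀, hk₀Q⟩ : Q) ≠ 1 := fun h' => hk₀1 (congrArg Subtype.val h')
    have hkK : ((⟨k₀, hk₀Q⟩ : Q) : Ω) ∈ K := hk₀
    obtain ⟨d, hd, n, hn, hnu, e⟩ := frat C hQ' hxS hxP huC (H := movY Q Y) (fun b' hb' z => by
      have h1 := (conj_stab C hQ' hxS huC b').2 z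
      have h2 : (⟨_, h1⟩ : imO b' K) ∈ (⊤ : Subgroup (imO b' K)) := Subgroup.mem_top _
      have hzP : (z : Ω)⁻¹ * ((b' * u * b'⁻¹) z : Q) ∈ Q := Q.mul_mem (Q.inv_mem z.2) ((b' * u * b'⁻¹) z).2
      have h3 := (mem_imO (⟨_, hzP⟩ : Q)).1 h1
      rcases K_two C hkK hk1 _ h3 with h4 | h4
      · have h5 : (⟨_, hzP⟩ : Q) = 1 := by
          have := congrArg b' h4
          simpa using this
        have h6 : (z : Ω)⁻¹ * ((b' * u * b'⁻¹) z : Q) = 1 := congrArg Subtype.val h5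
        rw [h6]
        exact Y.one_mem
      · have h5 : (⟨_, hzP⟩ : Q) = b' ⟨k₀, hk₀Q⟩ := by
          have := congrArg b' h4
          simpa using this
        have h6 : (z : Ω)⁻¹ * ((b' * u * b'⁻¹) z : Q) = ((b' ⟨k₀, hk₀Q⟩ : Q) : Ω) := congrArg Subtype.val h5
        rw [h6]
        exact hKKY _ ⟨Q, hQ', hk₀Q, b', hb', rfl⟩) hb
    obtain ⟨ε, hε, hεn⟩ := lift_norm C hQ' hxS hxP huC hn hnu
    have hnY : n ∈ movY Q Y := by
      intro z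
      rw [← hεn]
      exact htop ε hε _ (hQ'.le z.2)
    have hbY : b ∈ movY Q Y := by
      rw [e]
      exact mul_mem hd hnY
    exact hbY
  have hfoc := foc_le_of_ess C.hS C.hF hcmY htop hess
  have hSY : S ≤ Y := by
    rw [← hhyp]
    exact (hyperfocal_le_focal).trans hfoc
  -- `t` is not in `Y`
  have htY : t ∈ V ⊔ Subgroup.zpowers y₂ := by
    rw [← hY]
    exact hSY htZ.1
  have hA₂ : Subgroup.zpowers y₂ ≤ Subgroup.normalizer (V : Set Ω) := by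
    rw [Subgroup.zpowers_le]
    exact mem_normalizer_of_conj (fun v hv => hconj hKV hVS _ (hP₂.le hy₂P) v hv)
      (fun v hv => by
        have := hconj hKV hVS _ (S.inv_mem (hP₂.le hy₂P)) v hv
        simpa using this)
  have hA₁ : Subgroup.zpowers y₁ ≤ Subgroup.normalizer (K : Set Ω) := by
    rw [Subgroup.zpowers_le]
    have hcK : ∀ s ∈ S, ∀ k ∈ K, s * k * s⁻¹ = k := by
      intro s hs k hk
      rw [Subgroup.mem_centralizer_iff.1 (C.hKc hk) s hs]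
      group
    exact mem_normalizer_of_conj (fun v hv => by rw [hcK _ (hP₁.le hy₁E) v hv]; exact hv)
      (fun v hv => by
        have := hcK _ (S.inv_mem (hP₁.le hy₁E)) v hv
        rw [inv_inv] at this
        rw [this]
        exact hv)
  obtain ⟨v, hv, _, ⟨j, rfl⟩, e₁⟩ := Cfsg.Agent.H01.exists_mul_of_mem_sup hA₂ htY
  have hvm : v ∈ K ⊔ Subgroup.zpowers y₁ := by
    rw [← hV]
    exact hv
  obtain ⟨k, hk, _, ⟨i, rfl⟩, e₂⟩ := Cfsg.Agent.H01.exists_mul_of_mem_sup hA₁ hvm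
  have e₁' : t = k * y₁ ^ i * y₂ ^ j := by
    rw [e₁, e₂]
  have hkZ : k ∈ ZS S := hKZ hk
  rcases zpow_two_cases hy₁sq i with h1 | h1 <;> rcases zpow_two_cases hy₂sq j with h2 | h2 <;> rw [h1, h2] at e₁'
  · apply htK
    rw [e₁']
    simpa using hk
  · apply hy₂Z
    have h3 : y₂ = k⁻¹ * t := by
      rw [e₁']
      group
    rw [h3]
    exact (ZS S).mul_mem ((ZS S).inv_mem hkZ) htZ
  · apply hy₁Z
    have h3 : y₁ = k⁻¹ * t := by
      rw [e₁']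
      group
    rw [h3]
    exact (ZS S).mul_mem ((ZS S).inv_mem hkZ) htZ
  · apply hy₂E
    have h3 : y₂ = y₁⁻¹ * (k⁻¹ * t) := by
      rw [e₁']
      group
    rw [h3]
    exact E.mul_mem (E.inv_mem hy₁E) (hP₁.zl ((ZS S).mul_mem ((ZS S).inv_mem hkZ) htZ))

end Two

end Cfsg.Agent.H25
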