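import Cfsg.Agent.Lib.H25.TvH
import Cfsg.Agent.Lib.H15.Cyc2
import Cfsg.Agent.Lib.H01.Basic
set_option autoImplicit false
set_option linter.style.haveILetI false

/-! Final assembly: groups with centre of index `p²`, and the extraspecial conclusion. -/

namespace Cfsg.Agent.H25

open Cfsg Cfsg.FusionSystem

section Grp

variable {G : Type*} [Group G] [Finite G] {p : ℕ} [Fact p.Prime]

theorem isCoatom_of_index_prime {H : Subgroup G} (hp : H.index = p) : IsCoatom H := by
  refine ⟨?_, fun L hL => ?_⟩
  · rintro rfl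
    rw [Subgroup.index_top] at hp
    exact (Fact.out : p.Prime).one_lt.ne hp
  · obtain ⟨x, hxL, hxH⟩ := SetLike.exists_of_lt hL
    exact eq_top_of_index_prime hp hL.le hxL hxH

/-- A nonabelian group with central quotient of order at most `p²` has commutators in a central subgroup of order `p`. -/
theorem exists_K (hG : IsPGroup p G) (hna : ∃ a b : G, a * b ≠ b * a) (hZ : (Subgroup.center G).index ≤ p ^ 2) :
    ∃ K : Subgroup G, K ≤ Subgroup.center G ∧ Nat.card K = p ∧ ∀ s t : G, s * t * s⁻¹ * t⁻¹ ∈ K := by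
  classical
  have hp := (Fact.out : p.Prime)
  obtain ⟨a, b, hab⟩ := hna
  obtain ⟨n, hn⟩ := IsPGroup.iff_card.1 hG
  -- commutators are central
  have hcm : ∀ g h : G, g * h * g⁻¹ * h⁻¹ ∈ Subgroup.center G := by
    intro g h
    have hQ : ∀ q r : G ⧸ Subgroup.center G, q * r = r * q := by
      have hcard : Nat.card (G ⧸ Subgroup.center G) = (Subgroup.center G).index := rfl
      have hdvd : (Subgroup.center G).index ∣ p ^ n := by
        rw [← hn]
        exact Subgroup.index_dvd_card _
      obtain ⟨e, he, heq⟩ := (Nat.dvd_prime_pow hp).1 hdvd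
      rw [heq] at hZ hcard
      have he2 : e ≤ 2 := (Nat.pow_le_pow_iff_right hp.one_lt).1 hZ
      interval_cases e
      · haveI : Subsingleton (G ⧸ Subgroup.center G) := by
          apply (Nat.card_eq_one_iff_unique.1 (by simpa using hcard)).1
        intro q r
        exact Subsingleton.elim _ _
      · haveI : Fact (Nat.card (G ⧸ Subgroup.center G)).Prime := ⟨by rw [hcard, pow_one]; exact hp⟩
        haveI := isCyclic_of_prime_card (α := G ⧸ Subgroup.center G) rfl
        intro q r
        exact mul_comm' q r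
      · exact (IsPGroup.isMulCommutative_of_card_eq_prime_sq (p := p) hcard).is_comm.comm
    have h1 := hQ (g : G ⧸ Subgroup.center G) (h : G ⧸ Subgroup.center G)
    have h2 : ((g * h * g⁻¹ * h⁻¹ : G) : G ⧸ Subgroup.center G) = 1 := by
      rw [QuotientGroup.mk_mul, QuotientGroup.mk_mul, QuotientGroup.mk_mul, QuotientGroup.mk_inv, QuotientGroup.mk_inv, h1]
      group
    exact (QuotientGroup.eq_one_iff _).1 h2
  have hcmc : ∀ g h c : G, (g * h * g⁻¹ * h⁻¹) * c = c * (g * h * g⁻¹ * h⁻¹) := by
    intro g h c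
    exact (Subgroup.mem_center_iff.1 (hcm g h) c).symm
  obtain ⟨M, hM⟩ : ∃ M : Subgroup G, M = Subgroup.centralizer ({a} : Set G) := ⟨_, rfl⟩
  have hZM : Subgroup.center G ≤ M := by
    rw [hM]
    intro z hz
    rw [Subgroup.mem_centralizer_singleton_iff]
    exact (Subgroup.mem_center_iff.1 hz a).symm
  have haM : a ∈ M := by
    rw [hM, Subgroup.mem_centralizer_singleton_iff]
  have haZ : a ∉ Subgroup.center G := by
    intro h
    exact hab (Subgroup.mem_center_iff.1 h b).symm
  have hbM : b ∉ M := by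
    rw [hM, Subgroup.mem_centralizer_singleton_iff]
    exact fun h => hab h.symm
  have hidx := Subgroup.relIndex_mul_index hZM
  have hr1 : (Subgroup.center G).relIndex M ≠ 1 := by
    intro h
    rw [Subgroup.relIndex_eq_one] at h
    exact haZ (h haM)
  have hq1 : M.index ≠ 1 := by
    intro h
    rw [Subgroup.index_eq_one] at h
    exact hbM (h ▸ Subgroup.mem_top b)
  have hdvd : (Subgroup.center G).index ∣ p ^ n := by
    rw [← hn]
    exact Subgroup.index_dvd_card _
  obtain ⟨i, -, hi⟩ := (Nat.dvd_prime_pow hp).1 (Dvd.intro _ hidx |>.trans hdvd)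
  obtain ⟨j, -, hj⟩ := (Nat.dvd_prime_pow hp).1 (Dvd.intro_left _ hidx |>.trans hdvd)
  rw [hi] at hr1
  rw [hj] at hq1
  have hi0 : i ≠ 0 := by
    rintro rfl
    exact hr1 (pow_zero p)
  have hj0 : j ≠ 0 := by
    rintro rfl
    exact hq1 (pow_zero p)
  have hsum : i + j ≤ 2 := by
    have h1 : p ^ (i + j) ≤ p ^ 2 := by
      rw [pow_add, ← hi, ← hj, hidx]
      exact hZ
    exact (Nat.pow_le_pow_iff_right hp.one_lt).1 h1
  have hi1 : i = 1 := by omega
  have hj1 : j = 1 := by omega
  rw [hi1, pow_one] at hi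
  rw [hj1, pow_one] at hj
  -- `M` is abelian
  have hMab : ∀ y ∈ M, ∀ w ∈ M, y * w = w * y := by
    intro y hy w hw
    have hL := eq_top_of_index_prime (H := (Subgroup.center G).subgroupOf M)
      (L := (Subgroup.centralizer ({y} : Set G)).subgroupOf M) hi
      (fun z hz => by
        rw [Subgroup.mem_subgroupOf, Subgroup.mem_centralizer_singleton_iff]
        exact (Subgroup.mem_center_iff.1 (Subgroup.mem_subgroupOf.mp hz) y).symm)
      (x := ⟨a, haM⟩) (by
        rw [Subgroup.mem_subgroupOf, Subgroup.mem_centralizer_singleton_iff]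
        rw [hM, Subgroup.mem_centralizer_singleton_iff] at hy
        exact hy.symm)
      (fun h => haZ (Subgroup.mem_subgroupOf.mp h))
    have h1 : (⟨w, hw⟩ : M) ∈ (Subgroup.centralizer ({y} : Set G)).subgroupOf M := by
      rw [hL]
      exact Subgroup.mem_top _
    have h2 := Subgroup.mem_subgroupOf.mp h1
    rw [Subgroup.mem_centralizer_singleton_iff] at h2
    exact h2.symm
  -- the homomorphism
  let φ : M →* G := MonoidHom.mk' (fun m => (m : G) * b * (m : G)⁻¹ * b⁻¹) (by
    intro m₁ m₂
    show ((m₁ : G) * m₂) * b * ((m₁ : G) * m₂)⁻¹ * b⁻¹ = ((m₁ : G) * b * (m₁ : G)⁻¹ * b⁻¹) * ((m₂ : G) * b * (m₂ : G)⁻¹ * b⁻¹)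
    calc ((m₁ : G) * m₂) * b * ((m₁ : G) * m₂)⁻¹ * b⁻¹
        = ((m₁ : G) * ((m₂ : G) * b * (m₂ : G)⁻¹ * b⁻¹)) * b * (m₁ : G)⁻¹ * b⁻¹ := by group
      _ = (((m₂ : G) * b * (m₂ : G)⁻¹ * b⁻¹) * (m₁ : G)) * b * (m₁ : G)⁻¹ * b⁻¹ := by rw [hcmc m₂ b (m₁ : G)]
      _ = ((m₂ : G) * b * (m₂ : G)⁻¹ * b⁻¹) * ((m₁ : G) * b * (m₁ : G)⁻¹ * b⁻¹) := by group
      _ = ((m₁ : G) * b * (m₁ : G)⁻¹ * b⁻¹) * ((m₂ : G) * b * (m₂ : G)⁻¹ * b⁻¹) := hcmc m₂ b _)
  have hφ : ∀ m : M, φ m = (m : G) * b * (m : G)⁻¹ * b⁻¹ := fun m => rfl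
  have hker : φ.ker = (Subgroup.center G).subgroupOf M := by
    ext m
    rw [MonoidHom.mem_ker, hφ, Subgroup.mem_subgroupOf]
    constructor
    · intro h
      have h1 : (m : G) * b = b * m := by
        rw [mul_inv_eq_one, mul_inv_eq_iff_eq_mul] at h
        exact h
      have hL := eq_top_of_index_prime (H := M) (L := Subgroup.centralizer ({(m : G)} : Set G)) hj
        (fun w hw => by
          rw [Subgroup.mem_centralizer_singleton_iff]
          exact hMab w hw m m.2)
        (x := b) (by
          rw [Subgroup.mem_centralizer_singleton_iff]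
          exact h1.symm) hbM
      apply Subgroup.mem_center_iff.2
      intro g
      have h2 : g ∈ Subgroup.centralizer ({(m : G)} : Set G) := by
        rw [hL]
        exact Subgroup.mem_top _
      rw [Subgroup.mem_centralizer_singleton_iff] at h2
      exact h2
    · intro h
      have h1 := Subgroup.mem_center_iff.1 h b
      rw [← h1]
      group
  refine ⟨φ.range, ?_, ?_, ?_⟩
  · rintro _ ⟨m, rfl⟩
    exact hcm _ _
  · rw [← Subgroup.index_ker, hker]
    exact hi
  · intro s t
    haveI hKn : φ.range.Normal := by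
      refine ⟨fun k hk g => ?_⟩
      have h1 : k ∈ Subgroup.center G := by
        obtain ⟨m, rfl⟩ := hk
        exact hcm _ _
      have h2 := Subgroup.mem_center_iff.1 h1 g
      rw [h2]
      simpa using hk
    let π : G →* G ⧸ φ.range := QuotientGroup.mk' φ.range
    let Lg : G → Subgroup G := fun g => (Subgroup.centralizer ({π g} : Set (G ⧸ φ.range))).comap π
    have hLg : ∀ g h : G, h ∈ Lg g ↔ π h * π g = π g * π h := by
      intro g h
      show π h ∈ Subgroup.centralizer ({π g} : Set (G ⧸ φ.range)) ↔ _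
      rw [Subgroup.mem_centralizer_singleton_iff]
    have h1 : ∀ m ∈ M, m ∈ Lg b := by
      intro m hm
      rw [hLg]
      have h2 : m * b * m⁻¹ * b⁻¹ ∈ φ.range := ⟨⟨m, hm⟩, rfl⟩
      have h3 : π (m * b * m⁻¹ * b⁻¹) = 1 := (QuotientGroup.eq_one_iff _).2 h2
      rw [map_mul, map_mul, map_mul, map_inv, map_inv] at h3
      rw [mul_inv_eq_one, mul_inv_eq_iff_eq_mul] at h3
      exact h3
    have hb : ∀ g, g ∈ Lg b := by
      have hL := eq_top_of_index_prime (H := M) (L := Lg b) hj h1 (x := b) (by rw [hLg]) hbM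
      intro g
      rw [hL]
      exact Subgroup.mem_top _
    have hm : ∀ y ∈ M, ∀ g, g ∈ Lg y := by
      intro y hy
      have hL := eq_top_of_index_prime (H := M) (L := Lg y) hj (fun w hw => by
        rw [hLg, ← map_mul, ← map_mul, hMab w hw y hy]) (x := b) (by
        have h2 := (hLg b y).1 (hb y)
        rw [hLg]
        exact h2.symm) hbM
      intro g
      rw [hL]
      exact Subgroup.mem_top _
    have hall : ∀ g h : G, π h * π g = π g * π h := by
      intro g h
      have hL := eq_top_of_index_prime (H := M) (L := Lg g) hj (fun w hw => by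
        have h2 := (hLg w g).1 (hm w hw g)
        rw [hLg]
        exact h2.symm) (x := b) (by
        have h2 := (hLg b g).1 (hb g)
        rw [hLg]
        exact h2.symm) hbM
      have h3 : h ∈ Lg g := by
        rw [hL]
        exact Subgroup.mem_top _
      exact (hLg g h).1 h3
    have h4 : π (s * t * s⁻¹ * t⁻¹) = 1 := by
      rw [map_mul, map_mul, map_mul, map_inv, map_inv, hall t s]
      group
    exact (QuotientGroup.eq_one_iff _).1 h4

omit [Finite G] in
/-- Powers in groups of class two. -/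
theorem class2_pow {a b c : G} (hca : Commute c a) (hcb : Commute c b) (h : b * a = a * b * c) (n : ℕ) :
    (a * b) ^ n = a ^ n * b ^ n * c ^ (n.choose 2) := by
  have hbn : ∀ m : ℕ, b ^ m * a = a * b ^ m * c ^ m := by
    intro m
    induction m with
    | zero => simp
    | succ m ih =>
      calc b ^ (m + 1) * a = b ^ m * (b * a) := by rw [pow_succ, mul_assoc]
        _ = b ^ m * (a * b * c) := by rw [h]
        _ = (b ^ m * a) * b * c := by simp only [mul_assoc]
        _ = (a * b ^ m * c ^ m) * b * c := by rw [ih]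
        _ = a * b ^ m * (c ^ m * b) * c := by simp only [mul_assoc]
        _ = a * b ^ m * (b * c ^ m) * c := by rw [(Commute.pow_left hcb m).eq]
        _ = a * b ^ (m + 1) * c ^ (m + 1) := by
          rw [pow_succ b, pow_succ c]
          simp only [mul_assoc]
  induction n with
  | zero => simp
  | succ n ih =>
    have hch : (n + 1).choose 2 = n + n.choose 2 := by
      have := Nat.choose_succ_succ' n 1
      rw [Nat.choose_one_right] at this
      exact this
    calc (a * b) ^ (n + 1) = (a * b) ^ n * (a * b) := pow_succ _ _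
      _ = a ^ n * b ^ n * c ^ (n.choose 2) * (a * b) := by rw [ih]
      _ = a ^ n * b ^ n * (c ^ (n.choose 2) * (a * b)) := by simp only [mul_assoc]
      _ = a ^ n * b ^ n * ((a * b) * c ^ (n.choose 2)) := by rw [(Commute.pow_left (hca.mul_right hcb) _).eq]
      _ = a ^ n * (b ^ n * a) * b * c ^ (n.choose 2) := by simp only [mul_assoc]
      _ = a ^ n * (a * b ^ n * c ^ n) * b * c ^ (n.choose 2) := by rw [hbn]
      _ = a ^ n * a * b ^ n * (c ^ n * b) * c ^ (n.choose 2) := by simp only [mul_assoc]
      _ = a ^ n * a * b ^ n * (b * c ^ n) * c ^ (n.choose 2) := by rw [(Commute.pow_left hcb n).eq]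
      _ = a ^ (n + 1) * b ^ (n + 1) * c ^ (n + n.choose 2) := by
        rw [pow_succ a, pow_succ b, pow_add c]
        simp only [mul_assoc]
      _ = a ^ (n + 1) * b ^ (n + 1) * c ^ ((n + 1).choose 2) := by rw [hch]

end Grp

end Cfsg.Agent.H25
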