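import Cfsg.Agent.Lib.H25.TvI
set_option autoImplicit false
set_option linter.style.haveILetI false

/-! The conclusion: extraspecial of order `p³`, exponent `p` for odd `p`, dihedral for `p = 2`. -/

namespace Cfsg.Agent.H25

open Cfsg Cfsg.FusionSystem

variable {Ω : Type*} [Group Ω] {S : Subgroup Ω} {F : FusionSystem S} {p : ℕ} [Finite S] [Fact p.Prime]
variable {K P : Subgroup Ω} {x : Ω} {u : MulAut P}

theorem mem_center_S {z : S} : z ∈ Subgroup.center ↥S ↔ (z : Ω) ∈ ZS S := by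
  constructor
  · intro h
    refine mem_ZS.mpr ⟨z.2, fun s hs => ?_⟩
    have h1 := Subgroup.mem_center_iff.1 h ⟨s, hs⟩
    exact congrArg Subtype.val h1
  · intro h
    apply Subgroup.mem_center_iff.2
    rintro ⟨s, hs⟩
    exact Subtype.ext ((mem_ZS.mp h).2 s hs)

/-- The extraspecial conclusion. -/
theorem extra_final (C : TvC F p K) (hZK : ZS S = K) (hP : TvP S p P) :
    IsExtraspecial p ↥S ∧ Nat.card S = p ^ 3 := by
  classical
  have hp := (Fact.out : p.Prime)
  obtain ⟨x, hxS, hxP⟩ := hP.exists_x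
  haveI hfinP : Finite P := finite_of_le hP.le
  have hcardZ : Nat.card (Subgroup.center ↥S) = p := by
    rw [← C.hKp]
    refine Nat.card_congr ?_
    refine ⟨fun z => ⟨z.1.1, by
        rw [← hZK]
        exact mem_center_S.1 z.2⟩,
      fun k => ⟨⟨k.1, C.hKS k.2⟩, mem_center_S.2 (by
        rw [hZK]
        exact k.2)⟩, fun z => ?_, fun k => ?_⟩
    · rfl
    · rfl
  -- the index of the centre in `P`
  have hC1 : (Subgroup.centralizer ({x} : Set Ω)).relIndex P ∣ p :=
    index_cent_dvd C.hKp (fun k hk v hv => Subgroup.mem_centralizer_iff.1 (C.hKc hk) v (hP.le hv))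
      (fun v hv => C.hcm v (hP.le hv) x hxS)
  have hsub : (Subgroup.centralizer ({x} : Set Ω)).subgroupOf P = (ZS S).subgroupOf P := by
    ext y
    rw [Subgroup.mem_subgroupOf, Subgroup.mem_subgroupOf, Subgroup.mem_centralizer_singleton_iff]
    constructor
    · intro h
      apply hP.mem_Z hxS hxP y.2
      rw [← h]
      group
    · intro h
      exact ((mem_ZS.mp h).2 x hxS).symm
  have hidxZ : ((ZS S).subgroupOf P).index = p := by
    have h1 : ((ZS S).subgroupOf P).index ∣ p := by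
      rw [← hsub]
      exact hC1
    rcases (Nat.dvd_prime hp).1 h1 with h2 | h2
    · exfalso
      rw [Subgroup.index_eq_one] at h2
      obtain ⟨y, hy⟩ := hP.exists_not_Z C
      apply hy
      have h3 : y ∈ (ZS S).subgroupOf P := by
        rw [h2]
        exact Subgroup.mem_top _
      exact Subgroup.mem_subgroupOf.mp h3
    · exact h2
  have hcardP : Nat.card P = p * p := by
    have h1 := Subgroup.card_mul_index ((ZS S).subgroupOf P)
    have h2 : Nat.card ((ZS S).subgroupOf P) = Nat.card (ZS S) :=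
      Nat.card_congr (Subgroup.subgroupOfEquivOfLe hP.zl).toEquiv
    rw [hidxZ, h2, hZK, C.hKp] at h1
    exact h1.symm
  have hcardS : Nat.card S = p ^ 3 := by
    have h1 := Subgroup.card_mul_index (P.subgroupOf S)
    have h2 : Nat.card (P.subgroupOf S) = Nat.card P := Nat.card_congr (Subgroup.subgroupOfEquivOfLe hP.le).toEquiv
    rw [h2, hP.idx, hcardP] at h1
    rw [← h1]
    ring
  refine ⟨⟨⟨C.hS, ?_, ?_⟩, hcardZ⟩, hcardS⟩
  all_goals
    have hcomm : commutator ↥S = Subgroup.center ↥S := by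
      apply le_antisymm
      · rw [commutator_def, Subgroup.commutator_le]
        intro g _ h _
        apply mem_center_S.2
        rw [hZK]
        exact C.hcm _ g.2 _ h.2
      · obtain ⟨s, hs, t, ht, hst⟩ := C.hna
        have hc1 : (⟨s, hs⟩ : S) * ⟨t, ht⟩ * (⟨s, hs⟩ : S)⁻¹ * (⟨t, ht⟩ : S)⁻¹ ≠ 1 := by
          intro h
          apply hst
          have h1 : s * t * s⁻¹ * t⁻¹ = 1 := congrArg Subtype.val h
          rw [mul_inv_eq_one, mul_inv_eq_iff_eq_mul] at h1
          exact h1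
        have hc2 : (⟨s, hs⟩ : S) * ⟨t, ht⟩ * (⟨s, hs⟩ : S)⁻¹ * (⟨t, ht⟩ : S)⁻¹ ∈ commutator ↥S :=
          Subgroup.commutator_mem_commutator (Subgroup.mem_top _) (Subgroup.mem_top _)
        have hc3 : (⟨s, hs⟩ : S) * ⟨t, ht⟩ * (⟨s, hs⟩ : S)⁻¹ * (⟨t, ht⟩ : S)⁻¹ ∈ Subgroup.center ↥S := by
          apply mem_center_S.2
          rw [hZK]
          exact C.hcm s hs t ht
        intro y hy
        obtain ⟨i, rfl⟩ := exists_zpow_of_card hcardZ hc3 hc1 hy
        exact Subgroup.zpow_mem _ hc2 i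
  · apply le_antisymm
    · -- the Frattini subgroup is central
      have hco1 : IsCoatom (P.subgroupOf S) := isCoatom_of_index_prime hP.idx
      have hco2 : IsCoatom ((Subgroup.centralizer ({x} : Set Ω)).subgroupOf S) := by
        refine isCoatom_of_index_prime (p := p) ?_
        have h1 : (Subgroup.centralizer ({x} : Set Ω)).relIndex S ∣ p :=
          index_cent_dvd C.hKp (fun k hk v hv => Subgroup.mem_centralizer_iff.1 (C.hKc hk) v hv)
            (fun v hv => C.hcm v hv x hxS)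
        rcases (Nat.dvd_prime hp).1 h1 with h2 | h2
        · exfalso
          have h3 : (Subgroup.centralizer ({x} : Set Ω)).subgroupOf S = ⊤ := Subgroup.index_eq_one.1 h2
          apply hxP
          apply hP.zl
          refine mem_ZS.mpr ⟨hxS, fun s hs => ?_⟩
          have h4 : (⟨s, hs⟩ : S) ∈ (Subgroup.centralizer ({x} : Set Ω)).subgroupOf S := by
            rw [h3]
            exact Subgroup.mem_top _
          have h5 := Subgroup.mem_subgroupOf.mp h4
          rw [Subgroup.mem_centralizer_singleton_iff] at h5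
          exact h5
        · exact h2
      intro y hy
      apply mem_center_S.2
      have h1 := Subgroup.mem_subgroupOf.mp (frattini_le_coatom hco1 hy)
      have h2 := Subgroup.mem_subgroupOf.mp (frattini_le_coatom hco2 hy)
      rw [Subgroup.mem_centralizer_singleton_iff] at h2
      apply hP.mem_Z hxS hxP h1
      rw [← h2]
      group
    · rw [← hcomm]
      exact Cfsg.Agent.H01.commutator_le_frattini_of_isPGroup C.hS
  · exact hcomm

/-- Odd primes: the exponent. -/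
theorem odd_exp (C : TvC F p K) (hp2 : p ≠ 2) (hZK : ZS S = K) (hP : TvP S p P) (hxS : x ∈ S) (hxP : x ∉ P) (huC : IsC x u)
    {b : MulAut P} (hb : b ∈ F.autGroup P) (hne : imO b K ≠ K) : ∀ s ∈ S, s ^ p = 1 := by
  classical
  letI instC : CommGroup P := { (inferInstance : Group P) with
    mul_comm := fun a c => Subtype.ext (hP.ab _ a.2 _ c.2) }
  have hp := (Fact.out : p.Prime)
  have hodd : 3 ≤ p := by
    have := hp.two_le
    omega
  obtain ⟨v', k, k₂, hM⟩ := exists_mv C hP hxS hxP huC hb hne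
  obtain ⟨θ, hθ, hθk, hθk₂, hθc, hθu⟩ := exists_theta C hP hxS hxP huC hb hM
  obtain ⟨ε, hε, hεθ⟩ := lift_norm C hP hxS hxP huC (n := θ) hθ (by
    rw [hθu]
    simp)
  have hKP : K ≤ P := C.kz.trans hP.zl
  have hc : Nat.card (imO b K) = p := by
    rw [card_imO hKP]
    exact C.hKp
  have hk1' : (k : Ω) ≠ 1 := fun h => hM.hk1 (Subtype.ext h)
  have hKinv : ∀ w ∈ K, ε w = w⁻¹ := by
    intro w hw
    obtain ⟨i, rfl⟩ := exists_zpow_of_card C.hKp hM.hk hk1' hw
    have e : (k : Ω) ^ i = ((k ^ i : P) : Ω) := by simp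
    rw [e, hεθ, map_zpow, hθk, inv_zpow]
    rfl
  have hkp : k ^ p = 1 := Subtype.ext (by
    have := pow_eq_one_of_card C.hKp hM.hk
    simpa using this)
  have hk₂p : k₂ ^ p = 1 := Subtype.ext (by
    have := pow_eq_one_of_card hc hM.hk2
    simpa using this)
  have hPexp : ∀ y : P, y ^ p = 1 := by
    intro y
    obtain ⟨i, l, c, e, huc, -⟩ := hM.dec y
    have hcZ : (c : Ω) ∈ ZS S := by
      apply hP.mem_Z hxS hxP c.2
      rw [← huC, huc]
    rw [hZK] at hcZ
    have hcp : c ^ p = 1 := Subtype.ext (by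
      have := pow_eq_one_of_card C.hKp hcZ
      simpa using this)
    rw [e, mul_pow, mul_pow, ← zpow_natCast, ← zpow_natCast, ← zpow_natCast, ← zpow_mul, ← zpow_mul, mul_comm i, mul_comm l,
      zpow_mul, zpow_mul, zpow_natCast, zpow_natCast, zpow_natCast, hkp, hk₂p, hcp]
    simp
  intro s hs
  by_cases hsP : s ∈ P
  · have := hPexp ⟨s, hsP⟩
    exact congrArg Subtype.val this
  -- `s` outside `P`
  obtain ⟨α, hαC, -⟩ := exists_isC (F := F) hP.le hs (hP.normal C hs)
  obtain ⟨i, hi⟩ := hP.isC_decomp C hxS hs hxP huC hαC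
  have hθα : θ * α = α * θ := by
    rw [hi]
    exact (Commute.zpow_right (show Commute θ u from hθu) i).eq
  have hεs := hε.maps s hs
  have hySS : s⁻¹ * ε s ∈ S := S.mul_mem (S.inv_mem hs) hεs
  have hcent : ∀ t : P, (s⁻¹ * ε s) * (t : Ω) * (s⁻¹ * ε s)⁻¹ = t := by
    intro t
    obtain ⟨t', rfl⟩ : ∃ t' : P, t = θ t' := ⟨θ⁻¹ t, by simp⟩
    have h1 : ε (s * (t' : Ω) * s⁻¹) = ε s * (θ t' : P) * (ε s)⁻¹ := by
      rw [hε.mp.map_mul (S.mul_mem hs (hP.le t'.2)) (S.inv_mem hs), hε.mp.map_mul hs (hP.le t'.2), hε.mp.map_inv hs, hεθ]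
    have h2 : ε (s * (t' : Ω) * s⁻¹) = s * (θ t' : P) * s⁻¹ := by
      rw [← hαC t', hεθ, ← hαC (θ t')]
      have : θ (α t') = α (θ t') := DFunLike.congr_fun hθα t'
      rw [this]
    rw [h1] at h2
    calc (s⁻¹ * ε s) * ((θ t' : P) : Ω) * (s⁻¹ * ε s)⁻¹ = s⁻¹ * (ε s * (θ t' : P) * (ε s)⁻¹) * s := by group
      _ = s⁻¹ * (s * (θ t' : P) * s⁻¹) * s := by rw [h2]
      _ = _ := by group
  have hyP : s⁻¹ * ε s ∈ P := by
    by_contra hy
    obtain ⟨t, ht⟩ := hP.exists_not_Z C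
    exact ht (hP.mem_Z hySS hy t.2 (hcent t))
  obtain ⟨y, hy⟩ : ∃ y, y = s⁻¹ * ε s := ⟨_, rfl⟩
  rw [← hy] at hyP hySS
  have hεs' : ε s = s * y := by
    rw [hy]
    group
  -- the commutator
  obtain ⟨c, hcdef⟩ : ∃ c, c = y⁻¹ * s⁻¹ * y * s := ⟨_, rfl⟩
  have hcK : c ∈ K := by
    have h1 := C.hcm y⁻¹ (S.inv_mem hySS) s⁻¹ (S.inv_mem hs)
    rw [inv_inv, inv_inv] at h1
    rw [hcdef]
    exact h1
  have hcZ := mem_ZS.mp (C.kz hcK)
  have hcomm1 : Commute c s := ((hcZ.2 s hs).symm)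
  have hcomm2 : Commute c y := ((hcZ.2 y hySS).symm)
  have hrel : y * s = s * y * c := by
    rw [hcdef]
    group
  have hpow := class2_pow hcomm1 hcomm2 hrel p
  have hyp : y ^ p = 1 := congrArg Subtype.val (hPexp ⟨y, hyP⟩)
  have hcp : c ^ p = 1 := pow_eq_one_of_card C.hKp hcK
  have hch : p ∣ p.choose 2 := hp.dvd_choose_self (by omega) (by omega)
  have hcpow : c ^ (p.choose 2) = 1 := by
    obtain ⟨m, hm⟩ := hch
    rw [hm, pow_mul, hcp, one_pow]
  rw [hyp, mul_one, hcpow, mul_one] at hpow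
  have hεp : ε (s ^ p) = s ^ p := by
    rw [hε.mp.map_pow hs, hεs', hpow]
  -- `s ^ p` is in `K`
  haveI hnorm : (P.subgroupOf S).Normal :=
    ⟨fun n hn g => Subgroup.mem_subgroupOf.mpr (hP.conj_mem C g.2 (Subgroup.mem_subgroupOf.mp hn))⟩
  have hspP : s ^ p ∈ P := by
    have h1 := (P.subgroupOf S).pow_index_mem ⟨s, hs⟩
    rw [hP.idx] at h1
    exact Subgroup.mem_subgroupOf.mp h1
  have hspK : s ^ p ∈ K := by
    rw [← hZK]
    apply hP.mem_Z hs hsP hspP
    rw [(Commute.pow_right (Commute.refl s) p).eq]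
    group
  rw [hKinv _ hspK] at hεp
  have h1 : (s ^ p) ^ 2 = 1 := by
    rw [pow_two]
    nth_rewrite 1 [← hεp]
    group
  have h2 : (s ^ p) ^ p = 1 := pow_eq_one_of_card C.hKp hspK
  have h3 : orderOf (s ^ p) ∣ Nat.gcd 2 p := Nat.dvd_gcd (orderOf_dvd_of_pow_eq_one h1) (orderOf_dvd_of_pow_eq_one h2)
  have hg : Nat.gcd 2 p = 1 := by
    rw [Nat.coprime_primes Nat.prime_two hp |>.2 (fun h => hp2 h.symm)]
  rw [hg, Nat.dvd_one, orderOf_eq_one_iff] at h3
  exact h3

/-- The dihedral conclusion. -/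
theorem dih_final (C : TvC F 2 K) (hZK : ZS S = K) {k₀ : Ω} (hk₀ : k₀ ∈ K) (hk₀1 : k₀ ≠ 1) (hP : TvP S 2 P) {y : Ω} (hyP : y ∈ P)
    (hyZ : y ∉ ZS S) (hysq : y * y = 1) (hcard : Nat.card S = 8) : Nonempty (↥S ≃* DihedralGroup 4) := by
  classical
  obtain ⟨x, hxS, hxP⟩ := hP.exists_x
  have hk₀sq := k₀_sq C hk₀ hk₀1
  have hyS := hP.le hyP
  have hyinv : y⁻¹ = y := by
    rw [inv_eq_iff_mul_eq_one]
    exact hysq
  haveI hnorm : (P.subgroupOf S).Normal :=
    ⟨fun n hn g => Subgroup.mem_subgroupOf.mpr (hP.conj_mem C g.2 (Subgroup.mem_subgroupOf.mp hn))⟩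
  have hsqK : ∀ s ∈ S, s ∉ P → s * s ∈ K := by
    intro s hs hsP
    have h1 := (P.subgroupOf S).pow_index_mem ⟨s, hs⟩
    rw [hP.idx] at h1
    have h2 : s ^ 2 ∈ P := Subgroup.mem_subgroupOf.mp h1
    rw [pow_two] at h2
    rw [← hZK]
    apply hP.mem_Z hs hsP h2
    group
  -- the element of order four
  obtain ⟨r, hrS, hrP, hrsq⟩ : ∃ r ∈ S, r ∉ P ∧ r * r = k₀ := by
    rcases K_two' C hk₀ hk₀1 (hsqK x hxS hxP) with h | h
    · refine ⟨x * y, S.mul_mem hxS hyS, fun h1 => hxP ?_, ?_⟩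
      · have := P.mul_mem h1 (P.inv_mem hyP)
        simpa using this
      · have hxinv : x⁻¹ = x := by
          rw [inv_eq_iff_mul_eq_one]
          exact h
        have h1 := C.hcm x hxS y hyS
        rw [hxinv, hyinv] at h1
        rcases K_two' C hk₀ hk₀1 h1 with h2 | h2
        · exfalso
          apply hyZ
          apply hP.mem_Z hxS hxP hyP
          rw [hxinv]
          calc x * y * x = (x * y * x * y) * y⁻¹ := by group
            _ = y := by rw [h2, hyinv, one_mul]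
        · calc x * y * (x * y) = x * y * x * y := by group
            _ = k₀ := h2
    · exact ⟨x, hxS, hxP, h⟩
  have hcomm : y * r * y⁻¹ * r⁻¹ = k₀ := by
    rcases K_two' C hk₀ hk₀1 (C.hcm y hyS r hrS) with h | h
    · exfalso
      apply hyZ
      apply hP.mem_Z hrS hrP hyP
      have h1 : y * r = r * y := by
        rw [mul_inv_eq_one, mul_inv_eq_iff_eq_mul] at h
        exact h
      rw [← h1]
      group
    · exact h
  have hrinv : r⁻¹ = k₀ * r := by
    rw [inv_eq_iff_mul_eq_one, ← hrsq]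
    calc r * (r * r * r) = (r * r) * (r * r) := by group
      _ = 1 := by rw [hrsq, hk₀sq]
  have hconj : y * r * y⁻¹ = r⁻¹ := by
    rw [hrinv, ← hcomm]
    group
  have hr4 : (⟨r, hrS⟩ : S) ^ 2 ^ 2 = 1 := by
    apply Subtype.ext
    show r ^ 2 ^ 2 = 1
    rw [show (2 : ℕ) ^ 2 = 2 + 2 from rfl, pow_add, pow_two, hrsq, hk₀sq]
  have hr2 : ¬ (⟨r, hrS⟩ : S) ^ 2 ^ 1 = 1 := by
    intro h
    apply hk₀1
    have h1 : r ^ 2 ^ 1 = 1 := congrArg Subtype.val h
    rw [← hrsq]
    simpa [pow_two] using h1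
  have hord : orderOf (⟨r, hrS⟩ : S) = 2 ^ (1 + 1) := orderOf_eq_prime_pow hr2 hr4
  refine Cfsg.Agent.H15.dihedral_of (⟨r, hrS⟩ : S) ⟨y, hyS⟩ 4 (by norm_num) (by rw [hord]; norm_num) (Subtype.ext hysq)
    (Subtype.ext hconj) (by rw [hcard]) ?_
  rintro ⟨i, hi⟩
  have hi' : r ^ i = y := congrArg Subtype.val hi
  apply hyZ
  apply hP.mem_Z hrS hrP hyP
  rw [← hi', (Commute.zpow_right (Commute.refl r) i).eq]
  group

end Cfsg.Agent.H25
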