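import Cfsg.Agent.Lib.H25.EssTI
import Cfsg.Agent.Lib.H25.FusSmall2

set_option autoImplicit false
set_option linter.style.haveILetI false

/-! Extraspecial and small-commutator subgroups. -/

namespace Cfsg.Agent.H25

open Cfsg Cfsg.FusionSystem
open scoped commutatorElement

section Basic

variable {Ω : Type*} [Group Ω] {p : ℕ} [Fact p.Prime]

/-- A counting bound through a subgroup of index dividing `p`. -/
theorem card_le_mul_of_relIndex {V H L : Subgroup Ω} [Finite V] [Finite L] (hV : H.relIndex V ∣ p)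
    (hle : ∀ v ∈ V, v ∈ H → v ∈ L) : Nat.card V ≤ p * Nat.card L := by
  have h1 := Subgroup.card_mul_index (H.subgroupOf V)
  have h2 : Nat.card (H.subgroupOf V) ≤ Nat.card L := by
    apply Nat.card_le_card_of_injective (fun x : H.subgroupOf V => (⟨((x : V) : Ω), hle _ x.1.2 (Subgroup.mem_subgroupOf.mp x.2)⟩ : L))
    intro x y h
    apply Subtype.ext
    apply Subtype.ext
    exact congrArg (fun z : L => (z : Ω)) h
  have h3 : (H.subgroupOf V).index ≤ p := Nat.le_of_dvd (Fact.out : p.Prime).pos hV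
  calc Nat.card V = Nat.card (H.subgroupOf V) * (H.subgroupOf V).index := h1.symm
    _ ≤ Nat.card L * p := Nat.mul_le_mul h2 h3
    _ = p * Nat.card L := mul_comm _ _

/-- An element of a group of order `p` normalized by a `p`-element is centralized. -/
theorem central_of_card_p {K : Subgroup Ω} (hK : Nat.card K = p) {s : Ω} {m : ℕ} (hs : s ^ p ^ m = 1)
    (hsK : ∀ k ∈ K, s * k * s⁻¹ ∈ K) {k : Ω} (hk : k ∈ K) : s * k * s⁻¹ = k := by
  classical
  by_cases hk1 : k = 1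
  · subst hk1
    simp
  have hne : (⟨k, hk⟩ : K) ≠ 1 := fun h => hk1 (congrArg Subtype.val h)
  have h1 : Subgroup.zpowers (⟨k, hk⟩ : K) = ⊤ := zpowers_eq_top_of_prime_card hK hne
  have hzp : ∀ y ∈ K, y ∈ Subgroup.zpowers k := by
    intro y hy
    have h2 : (⟨y, hy⟩ : K) ∈ Subgroup.zpowers (⟨k, hk⟩ : K) := by
      rw [h1]
      exact Subgroup.mem_top _
    obtain ⟨n, hn⟩ := h2
    exact ⟨n, congrArg Subtype.val hn⟩
  have hkp : k ^ p = 1 := by
    have := pow_card_eq_one' (x := (⟨k, hk⟩ : K))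
    rw [hK] at this
    exact congrArg Subtype.val this
  exact conj_eq_of_zpowers hkp hs (hzp _ (hsK k hk))

/-- The centre of a normal subgroup, when of order `p`, is central in the `p`-group. -/
theorem center_central {S Q : Subgroup Ω} (hS : IsPGroup p S) (hSN : S ≤ Subgroup.normalizer (Q : Set Ω))
    (hKp : Nat.card ((Subgroup.center ↥Q).map Q.subtype) = p) :
    (Subgroup.center ↥Q).map Q.subtype ≤ Subgroup.centralizer (S : Set Ω) := by
  have hnorm : ∀ s ∈ S, ∀ k ∈ (Subgroup.center ↥Q).map Q.subtype, s * k * s⁻¹ ∈ (Subgroup.center ↥Q).map Q.subtype := by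
    rintro s hs _ ⟨z, hz, rfl⟩
    have hsN := hSN hs
    have hzQ : s * (z : Ω) * s⁻¹ ∈ Q := conj_mem_of_normalizer hsN z.2
    refine ⟨⟨s * (z : Ω) * s⁻¹, hzQ⟩, ?_, rfl⟩
    apply Subgroup.mem_center_iff.mpr
    rintro ⟨y, hy⟩
    apply Subtype.ext
    show y * (s * (z : Ω) * s⁻¹) = s * (z : Ω) * s⁻¹ * y
    have hy' : s⁻¹ * y * s ∈ Q := by
      have := conj_mem_of_normalizer (Subgroup.inv_mem _ hsN) hy
      simpa using this
    have h1 := Subgroup.mem_center_iff.1 hz ⟨s⁻¹ * y * s, hy'⟩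
    have h2 : (s⁻¹ * y * s) * (z : Ω) = (z : Ω) * (s⁻¹ * y * s) := congrArg Subtype.val h1
    calc y * (s * (z : Ω) * s⁻¹) = s * ((s⁻¹ * y * s) * (z : Ω)) * s⁻¹ := by group
      _ = s * ((z : Ω) * (s⁻¹ * y * s)) * s⁻¹ := by rw [h2]
      _ = _ := by group
  intro k hk
  rw [Subgroup.mem_centralizer_iff]
  intro s hs
  obtain ⟨m, hm⟩ := hS ⟨s, hs⟩
  have hm' : s ^ p ^ m = 1 := congrArg Subtype.val hm
  have h := central_of_card_p hKp hm' (hnorm s hs) hk
  calc s * k = (s * k * s⁻¹) * s := by group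
    _ = k * s := by rw [h]

end Basic

variable {Ω : Type*} [Group Ω] {S : Subgroup Ω} {F : FusionSystem S}
variable {p : ℕ} [Finite S] [Fact p.Prime]

/-- Extraspecial groups of index `p`: essential subgroups inside `Q`. -/
theorem xs_essential {Q E : Subgroup Ω} (hS : IsPGroup p S) (hF : F.IsSaturated p) (hQS : Q ≤ S) (hQ : IsExtraspecial p ↥Q)
    (hSN : S ≤ Subgroup.normalizer (Q : Set Ω)) (hEQ : E ≤ Q) (hne : E ≠ Q) (hE : F.IsEssential p E) : Nat.card Q ≤ p ^ 3 := by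
  classical
  haveI hfinQ : Finite Q := finite_of_le hQS
  haveI hfinE : Finite E := finite_of_le (hEQ.trans hQS)
  have hQp : IsPGroup p Q := hS.to_le hQS
  obtain ⟨K, hKdef⟩ : ∃ K, K = (Subgroup.center ↥Q).map Q.subtype := ⟨_, rfl⟩
  have hKQ : K ≤ Q := by
    rw [hKdef]
    exact Subgroup.map_subtype_le _
  haveI hfinK : Finite K := finite_of_le (hKQ.trans hQS)
  have hKp : Nat.card K = p := by
    rw [hKdef, Subgroup.card_map_of_injective Q.subtype_injective]
    exact hQ.2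
  have hKc : K ≤ Subgroup.centralizer (S : Set Ω) := by
    rw [hKdef]
    exact center_central hS hSN (by rw [← hKdef]; exact hKp)
  have hcm : ∀ x ∈ Q, ∀ y ∈ Q, x * y * x⁻¹ * y⁻¹ ∈ K := by
    intro x hx y hy
    have h1 : ⁅(⟨x, hx⟩ : Q), (⟨y, hy⟩ : Q)⁆ ∈ commutator ↥Q :=
      Subgroup.commutator_mem_commutator (Subgroup.mem_top _) (Subgroup.mem_top _)
    rw [hQ.1.2.2] at h1
    rw [hKdef]
    exact ⟨_, h1, rfl⟩
  have hcen : ∀ z ∈ Q, (∀ y ∈ Q, y * z = z * y) → z ∈ K := by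
    intro z hz h
    rw [hKdef]
    refine ⟨⟨z, hz⟩, ?_, rfl⟩
    apply Subgroup.mem_center_iff.mpr
    rintro ⟨y, hy⟩
    exact Subtype.ext (h y hy)
  have hKQc : ∀ k ∈ K, ∀ v ∈ Q, v * k = k * v := fun k hk v hv =>
    (Subgroup.mem_centralizer_iff.1 (hKc hk) v (hQS hv))
  obtain ⟨s₀, hs₀, hs₀E⟩ := exists_normalizer_not_mem hQp hEQ hne
  have hUS : normalizerIn Q E ≤ S := inf_le_left.trans hQS
  obtain ⟨hKE, a, ha, ⟨x, hxK, haxK⟩, e, hae, he1, hee⟩ := ess_transv hS hF hE (hKQ.trans hQS) hKc hKp hUS inf_le_right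
    (fun s hs x hx => by
      have h1 := hcm _ (Q.inv_mem (hEQ hx)) s hs.1
      have e1 : x⁻¹ * s * x⁻¹⁻¹ * s⁻¹ = x⁻¹ * (s * x * s⁻¹) := by group
      rw [← e1]
      exact h1) hs₀ hs₀E
  have hKp1 : K ≠ ⊥ := by
    intro h
    rw [h] at hKp
    have h1 : Nat.card (⊥ : Subgroup Ω) = 1 := Nat.card_unique
    have := (Fact.out : p.Prime).one_lt
    omega
  -- `E` is abelian
  have hEab : ∀ y ∈ E, ∀ z ∈ E, y * z = z * y := by
    intro y hy z hz
    by_contra hyz
    have hw : y * z * y⁻¹ * z⁻¹ ∈ K := hcm y (hEQ hy) z (hEQ hz)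
    have hw1 : y * z * y⁻¹ * z⁻¹ ≠ 1 := by
      intro h
      apply hyz
      rw [mul_inv_eq_one, mul_inv_eq_iff_eq_mul] at h
      exact h
    have hne1 : (⟨_, hw⟩ : K) ≠ 1 := fun h => hw1 (congrArg Subtype.val h)
    have h1 : Subgroup.zpowers (⟨_, hw⟩ : K) = ⊤ := zpowers_eq_top_of_prime_card hKp hne1
    have h2 : (⟨(x : Ω), hxK⟩ : K) ∈ Subgroup.zpowers (⟨_, hw⟩ : K) := by
      rw [h1]
      exact Subgroup.mem_top _
    obtain ⟨n, hn⟩ := h2
    have hn' : (y * z * y⁻¹ * z⁻¹) ^ n = (x : Ω) := congrArg Subtype.val hn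
    have hy' : (⟨y, hy⟩ : E) * ⟨z, hz⟩ * (⟨y, hy⟩ : E)⁻¹ * (⟨z, hz⟩ : E)⁻¹ = ⟨y * z * y⁻¹ * z⁻¹, E.mul_mem (E.mul_mem (E.mul_mem hy hz) (E.inv_mem hy)) (E.inv_mem hz)⟩ := rfl
    have hx' : x = (⟨y * z * y⁻¹ * z⁻¹, E.mul_mem (E.mul_mem (E.mul_mem hy hz) (E.inv_mem hy)) (E.inv_mem hz)⟩ : E) ^ n := by
      apply Subtype.ext
      rw [← hn']
      rfl
    apply haxK
    rw [hx', ← hy', map_zpow, map_mul, map_mul, map_mul, map_inv, map_inv]
    have h3 := hcm _ (hEQ (a ⟨y, hy⟩).2) _ (hEQ (a ⟨z, hz⟩).2)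
    have h4 : (((a ⟨y, hy⟩ * a ⟨z, hz⟩ * (a ⟨y, hy⟩)⁻¹ * (a ⟨z, hz⟩)⁻¹) ^ n : E) : Ω) =
        (((a ⟨y, hy⟩ : E) : Ω) * (a ⟨z, hz⟩ : E) * ((a ⟨y, hy⟩ : E) : Ω)⁻¹ * ((a ⟨z, hz⟩ : E) : Ω)⁻¹) ^ n := by
      simp
    rw [h4]
    exact K.zpow_mem h3 n
  -- the counting
  have hC1 : (Subgroup.centralizer ({(e : Ω)} : Set Ω)).relIndex Q ∣ p :=
    index_cent_dvd hKp hKQc (fun v hv => hcm v hv _ (hEQ e.2))
  have hENQ : Q ≤ normalizerIn Q E := by
    intro s hs
    refine ⟨hs, ?_⟩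
    have key : ∀ s ∈ Q, ∀ x ∈ E, s * x * s⁻¹ ∈ E := by
      intro s hs x hx
      have h1 := hcm s hs x (hEQ hx)
      have e1 : s * x * s⁻¹ = (s * x * s⁻¹ * x⁻¹) * x := by group
      rw [e1]
      exact E.mul_mem (hKE h1) hx
    exact mem_normalizer_of_conj (key s hs) (fun x hx => by
      have := key s⁻¹ (Q.inv_mem hs) x hx
      simpa using this)
  have hQE : Nat.card Q ≤ p * Nat.card E := by
    refine card_le_mul_of_relIndex hC1 (fun v hv hvc => ?_)
    by_contra hvE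
    refine hee v (hENQ hv) hvE ?_
    rw [Subgroup.mem_centralizer_singleton_iff] at hvc
    rw [hvc]
    group
  -- the index of `E`
  have hidx : (E.subgroupOf Q).index = p := by
    have h1 := Subgroup.card_mul_index (E.subgroupOf Q)
    have h2 : Nat.card (E.subgroupOf Q) = Nat.card E := by
      rw [(Subgroup.subgroupOfEquivOfLe hEQ).toEquiv |> Nat.card_congr]
    rw [h2] at h1
    have hpos : 0 < Nat.card E := Nat.card_pos
    have h3 : (E.subgroupOf Q).index ≤ p := by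
      by_contra hc
      push Not at hc
      have : Nat.card E * p < Nat.card E * (E.subgroupOf Q).index := Nat.mul_lt_mul_of_pos_left hc hpos
      rw [h1] at this
      nlinarith
    have h4 : (E.subgroupOf Q).index ≠ 1 := by
      intro h
      rw [Subgroup.index_eq_one] at h
      apply hne
      apply le_antisymm hEQ
      intro y hy
      have h5 : (⟨y, hy⟩ : Q) ∈ E.subgroupOf Q := by
        rw [h]
        exact Subgroup.mem_top _
      exact Subgroup.mem_subgroupOf.mp h5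
    obtain ⟨n, hn⟩ := IsPGroup.iff_card.1 hQp
    have h5 : (E.subgroupOf Q).index ∣ p ^ n := by
      rw [← hn, ← h1]
      exact Dvd.intro_left _ rfl
    obtain ⟨k, hk, hke⟩ := (Nat.dvd_prime_pow (Fact.out : p.Prime)).1 h5
    rw [hke] at h3 h4 ⊢
    rcases k with _ | k
    · simp at h4
    · rcases k with _ | k
      · simp
      · exfalso
        have : p ^ 2 ≤ p ^ (k + 1 + 1) := Nat.pow_le_pow_right (Fact.out : p.Prime).pos (by omega)
        have h6 := (Fact.out : p.Prime).two_le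
        nlinarith
  have hC2 : (Subgroup.centralizer ({s₀} : Set Ω)).relIndex E ∣ p :=
    index_cent_dvd hKp (fun k hk v hv => hKQc k hk v (hEQ hv)) (fun v hv => hcm v (hEQ hv) _ hs₀.1)
  have hEK : Nat.card E ≤ p * Nat.card K := by
    refine card_le_mul_of_relIndex hC2 (fun v hv hvc => ?_)
    refine hcen v (hEQ hv) (fun y hy => ?_)
    -- the centralizer of `v` in `Q`
    have hL := eq_top_of_index_prime (L := (Subgroup.centralizer ({v} : Set Ω)).subgroupOf Q) hidx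
      (fun z hz => ?_) (x := ⟨s₀, hs₀.1⟩) (?_) (fun h => hs₀E (Subgroup.mem_subgroupOf.mp h))
    · have h1 : (⟨y, hy⟩ : Q) ∈ (Subgroup.centralizer ({v} : Set Ω)).subgroupOf Q := by
        rw [hL]
        exact Subgroup.mem_top _
      have h2 := Subgroup.mem_subgroupOf.mp h1
      rw [Subgroup.mem_centralizer_singleton_iff] at h2
      exact h2
    · rw [Subgroup.mem_subgroupOf, Subgroup.mem_centralizer_singleton_iff]
      exact hEab _ (Subgroup.mem_subgroupOf.mp hz) _ hv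
    · rw [Subgroup.mem_subgroupOf, Subgroup.mem_centralizer_singleton_iff]
      rw [Subgroup.mem_centralizer_singleton_iff] at hvc
      exact hvc.symm
  rw [hKp] at hEK
  calc Nat.card Q ≤ p * Nat.card E := hQE
    _ ≤ p * (p * p) := Nat.mul_le_mul_left _ hEK
    _ = p ^ 3 := by ring

end Cfsg.Agent.H25
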